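import Cfsg.Agent.Cam.Spor.Lem_m3
import Cfsg.Agent.BpExc.Pair
import Cfsg.Agent.BpExc.TowChev
import Cfsg.Agent.BpExc.LangFr
import Cfsg.Agent.BpExc.FixRel
import Cfsg.Agent.BpExc.AsmN_m3
import Cfsg.Agent.FastGrp
import Cfsg.Agent.Prune
set_option linter.all false

section
prune_inst 0x7f00000000000000000000000000000000000000000000000000000000000000000000000000000000000000000000000000000000000000000000000000000000000000000000000000000000000000003fffffffffffffffffffffffffffbeffbdffffffff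

-- part: Cam/Ex/Iface
section
set_option linter.all false
open scoped Cfsg.Agent.FastGrp

/-!
# S3689, S3690, exceptional rows: interface of the toral triangle (helper69)

The mathematics is in `notes/Cam/exc69.md`.  `YY D p` is the Chevalley group over the algebraic closure of `ZMod p`,
`Frame` is an embedding of the finite simple group `L` as a normal subgroup of the fixed points of a Frobenius frame
automorphism.  A torus element `t` of order dividing `m` is described by a homomorphism `φ` from the root lattice to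
`ZMod m` (`Chi`); `Psi φ` is the set of the roots killed by `φ`.
-/

set_option autoImplicit false
set_option linter.unusedVariables false

namespace Cfsg.Agent.Cam.Ex

open CoxeterSystem Cfsg Cfsg.Lie Subgroup
open Cfsg.Agent.ChevalleyStructure.CoxeterGeom Cfsg.Agent.ChevalleyStructure.CoxeterGeomTypes
open Cfsg.Agent.Tits.Roots Cfsg.Agent.Nodes.BNOf Cfsg.Agent.Nodes.RGDChev Cfsg.Agent.Nodes.Coroot
open Cfsg.Agent.KFacts.RgdChevCoord Cfsg.Agent.BpExc.TorCent Cfsg.Agent.BpExc.LangFr Cfsg.Agent.BpExc.SubBN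
open Cfsg.Agent.Cam.Spor
open scoped commutatorElement

/-- the algebraic closure -/
abbrev kb (p : ℕ) [Fact p.Prime] : Type := AlgebraicClosure (ZMod p)

/-- the ambient group -/
abbrev YY (D : ChevalleyDatum) (p : ℕ) [Fact p.Prime] : Type := ↥(D.group (kb p))

/-- the root lattice -/
abbrev Lat (l : ℕ) : Type := Fin l → ℤ

section comb

variable {D : ChevalleyDatum} {l : ℕ} {M : CoxeterMatrix (Fin l)} (hp : IsType D l M)

/-- roots -/
abbrev Rt (a : Lat l) : Prop := IsRoot M.toCoxeterSystem hp.isCartan a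

/-- the action of the Weyl group -/
noncomputable abbrev wa (w : M.Group) (a : Lat l) : Lat l := rep M.toCoxeterSystem hp.isCartan w a

/-- `⟨a, b^∨⟩` -/
noncomputable abbrev cp (a b : Lat l) : ℤ := cpr M.toCoxeterSystem hp.isCartan a b

/-- the reflection group of a set of roots -/
abbrev WW (S : Set (Lat l)) : Subgroup M.Group := WS M.toCoxeterSystem hp.isCartan S

/-- the roots killed by `φ` -/
def Psi {K : Type} [AddCommGroup K] (φ : Lat l →+ K) : Set (Lat l) := {a | Rt hp a ∧ φ a = 0}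

/-- `w φ = -φ` -/
def Neg {K : Type} [AddCommGroup K] (w : M.Group) (φ : Lat l →+ K) : Prop := ∀ a, φ (wa hp w a) = -φ a

/-- `w φ = φ` -/
def Fixs {K : Type} [AddCommGroup K] (w : M.Group) (φ : Lat l →+ K) : Prop := ∀ a, φ (wa hp w a) = φ a

/-- the root groups of `± a` commute with the root groups of `± c` in characteristic `p` -/
def Far (p : ℕ) (a c : Lat l) : Prop := cp hp a c = 0 ∧ (p = 2 ∨ ¬ Rt hp (a + c))

/-- no root is far from all of `S` -/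
def K1 (p : ℕ) (S : Set (Lat l)) : Prop := ∀ c, Rt hp c → ¬ ∀ a ∈ S, Far hp p a c

/-- `{c, -c}` is a component of `S` -/
def A1c (S : Set (Lat l)) (c : Lat l) : Prop := c ∈ S ∧ ∀ a ∈ S, a = c ∨ a = -c ∨ cp hp a c = 0

/-- the six roots of the `A₂` spanned by `c` and `c'` -/
def A2s (c c' : Lat l) : Set (Lat l) := {c, c', c + c', -c, -c', -(c + c')}

/-- The combinatorial data of a toral triangle: `A`, `B`, `A + B` are the characters of `a`, `b`, `x = a b`. -/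
structure Cmb (p q r : ℕ) (g0 g : Lat l ≃+ Lat l) (A B : Lat l →+ ZMod r) : Prop where
  prime : r.Prime
  five : 5 ≤ r
  two : 2 ≤ q
  qne : (q : ZMod r) ≠ 0
  gr : ∃ w, ∀ a, g a = wa hp w (g0 a)
  root : ∀ a, Rt hp (g a) ↔ Rt hp a
  gcp : ∀ a c, Rt hp c → cp hp (g a) (g c) = cp hp a c
  a0 : A ≠ 0
  b0 : B ≠ 0
  x0 : A + B ≠ 0
  frA : ∀ a, A (g a) = (q : ZMod r) * A a
  frB : ∀ a, B (g a) = (q : ZMod r) * B a
  k2a : ∃ w ∈ WW hp (Psi hp A), Neg hp w B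
  k2b : ∃ w ∈ WW hp (Psi hp B), Neg hp w A
  k1x : K1 hp p (Psi hp (A + B))
  k1a : K1 hp p (Psi hp A)
  k3 : ∀ c, A1c hp (Psi hp (A + B)) c → (∀ w, Neg hp w (A + B) → wa hp w c = c ∨ wa hp w c = -c) →
    (4 ≤ q ∨ (g c ≠ c ∧ g c ≠ -c)) → A c = 0
  max : (Psi hp A).ncard ≤ (Psi hp (A + B)).ncard
  k5 : ∀ Z : Lat l →+ ZMod r, Z ≠ 0 → Psi hp (A + B) ⊆ Psi hp Z → (∀ a, Z (g a) = (q : ZMod r) * Z a) →
    (∃ w, Neg hp w (A + B) ∧ Neg hp w Z) → (Psi hp Z).ncard ≤ (Psi hp (A + B)).ncard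

end comb

section frame

variable {D : ChevalleyDatum} {l : ℕ} {M : CoxeterMatrix (Fin l)}

/-- `ι L` is a normal subgroup of `Y^F` with abelian quotient of exponent dividing `d`; `F` is a Frobenius frame
automorphism, `q = p ^ e`, acting on the roots as `g ∈ W g0`. -/
structure Frame (hp : IsType D l M) (p : ℕ) [Fact p.Prime] (d : ℕ) (g0 : Lat l ≃+ Lat l) (L : Type) [Group L] where
  /-- `q = p ^ e` -/
  e : ℕ
  /-- the embedding -/
  ι : L →* YY D p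
  /-- the Frobenius map -/
  F : MulAut (YY D p)
  /-- the action on the root lattice -/
  g : Lat l ≃+ Lat l
  he : 0 < e
  frob : IsFrob p e F
  fr : BpExc.Fr.Fr M.toCoxeterSystem hp.isCartan (TT D (kb p)) (XX D l (kb p)) F g
  pw : ∀ a, Rt hp a → ∃ c : kb p, c ≠ 0 ∧ ∀ s : kb p, F (xc hp a s) = xc hp (g a) (c * s ^ p ^ e)
  gr : ∃ w, ∀ a, g a = wa hp w (g0 a)
  gcp : ∀ a c, Rt hp c → cp hp (g a) (g c) = cp hp a c
  inj : Function.Injective ι
  fix : ∀ x, F (ι x) = ι x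
  der : ∀ y z, F y = y → F z = z → ⁅y, z⁆ ∈ ι.range
  idx : ∀ y, F y = y → y ^ d ∈ ι.range
  cop : d.Coprime p
  dle : d = 1 ∨ d = 2 ∨ d = 3
  simple : IsSimpleGroup L
  noncomm : ¬ IsMulCommutative L

variable (hp : IsType D l M) {p : ℕ} [Fact p.Prime]

/-- the root groups -/
noncomputable abbrev XR (D : ChevalleyDatum) (l p : ℕ) [Fact p.Prime] (a : Lat l) : Subgroup (YY D p) :=
  XX D l (kb p) a

/-- the subgroup generated by the root groups of `S` -/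
noncomputable abbrev MS (D : ChevalleyDatum) (l p : ℕ) [Fact p.Prime] (S : Set (Lat l)) : Subgroup (YY D p) :=
  RGD.Sup (XX D l (kb p)) S

/-- `t` is the torus element with the characters `ζ ^ φ a` -/
def Chi {m : ℕ} (ζ : kb p) (t : YY D p) (φ : Lat l →+ ZMod m) : Prop :=
  t ∈ TT D (kb p) ∧ ∀ a, Rt hp a → ch hp a t = ζ ^ (φ a).val

/-- the roots killed by all elements of a set of torus elements -/
def PsiS (Q : Set (YY D p)) : Set (Lat l) := {a | Rt hp a ∧ ∀ t ∈ Q, ch hp a t = 1}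

variable {hp} {d : ℕ} {g0 : Lat l ≃+ Lat l} {L : Type} [Group L]

/-- the order of the field -/
def Frame.q (E : Frame hp p d g0 L) : ℕ := p ^ E.e

/-- `E'` is `E` conjugated by an element of the ambient group -/
def Frame.Cj (E E' : Frame hp p d g0 L) : Prop := E'.e = E.e ∧ ∃ z : YY D p, ∀ x, E'.ι x = z⁻¹ * E.ι x * z

variable {U : Type} [Group U]

/-- `n` bounds the number of roots killed by a toral conjugate of `θ (τ u)`, `u` real of order `r` -/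
def Ext (E : Frame hp p d g0 L) (τ : U →* L) (r n : ℕ) : Prop :=
  ∀ (θ : MulAut L) (u v : U), orderOf u = r → v * u * v⁻¹ = u⁻¹ → ∀ z : YY D p,
    z⁻¹ * E.ι (θ (τ u)) * z ∈ TT D (kb p) → (PsiS hp {z⁻¹ * E.ι (θ (τ u)) * z}).ncard ≤ n

/-- a toral triangle -/
structure Dat (E : Frame hp p d g0 L) (τ α β : U →* L) (R R' : Subgroup L) (r : ℕ) (ζ : kb p) (u v : U)
    (A B : Lat l →+ ZMod r) : Prop where
  core : Core τ α β R R'
  prime : r.Prime
  five : 5 ≤ r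
  ne : r ≠ p
  prim : IsPrimitiveRoot ζ r
  ord : orderOf u = r
  inv : v * u * v⁻¹ = u⁻¹
  chiA : Chi hp ζ (E.ι (α u)) A
  chiB : Chi hp ζ (E.ι (β u)) B
  chiX : Chi hp ζ (E.ι (τ u)) (A + B)
  ext : Ext E τ r (Psi hp (A + B)).ncard

/-- `R` centralizes the root groups of `S` -/
def Cen (E : Frame hp p d g0 L) (R : Subgroup L) (S : Set (Lat l)) : Prop :=
  ∀ a ∈ S, ∀ y ∈ XR D l p a, ∀ x ∈ R, E.ι x * y = y * E.ι x

end frame

/-! ### The types -/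

theorem tG2 : IsType chevG2 2 CoxeterMatrix.G₂ := by simp [IsType, typeList]
theorem tD4 : IsType chevD4 4 coxeterD4 := by simp [IsType, typeList]
theorem tF4 : IsType chevF4 4 CoxeterMatrix.F₄ := by simp [IsType, typeList]
theorem tE6 : IsType chevE6 6 CoxeterMatrix.E₆ := by simp [IsType, typeList]
theorem tE7 : IsType chevE7 7 CoxeterMatrix.E₇ := by simp [IsType, typeList]
theorem tE8 : IsType chevE8 8 CoxeterMatrix.E₈ := by simp [IsType, typeList]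

/-- `a ↦ ε a` for a sign `ε` -/
def sg (l : ℕ) (ε : ℤˣ) : Lat l ≃+ Lat l where
  toFun a := (ε : ℤ) • a
  invFun a := (ε : ℤ) • a
  left_inv a := by
    show (ε : ℤ) • (ε : ℤ) • a = a
    rw [smul_smul, Int.units_coe_mul_self, one_smul]
  right_inv a := by
    show (ε : ℤ) • (ε : ℤ) • a = a
    rw [smul_smul, Int.units_coe_mul_self, one_smul]
  map_add' a b := smul_add _ a b

theorem sg_apply {l : ℕ} (ε : ℤˣ) (a : Lat l) : sg l ε a = (ε : ℤ) • a := rfl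

/-- `g0` is a triality of `D₄`: it permutes the simple roots as a permutation of order three -/
def IsTri (g0 : Lat 4 ≃+ Lat 4) : Prop :=
  ∃ σ : Equiv.Perm (Fin 4), orderOf σ = 3 ∧ (∀ i j, cartanOf chevD4 4 (σ i) (σ j) = cartanOf chevD4 4 i j) ∧
    ∀ i, g0 (sr i) = sr (σ i)

/-! ### The boxes -/

/-- [helper70] the frames -/
structure BoxFrame : Prop where
  g2 : ∀ (L : Type) [Group L] [Finite L], IsoChevG2 L → ∃ (p : ℕ) (_ : Fact p.Prime),
    Nonempty (Frame tG2 p 1 (sg 2 1) L)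
  f4 : ∀ (L : Type) [Group L] [Finite L], IsoF4 L → ∃ (p : ℕ) (_ : Fact p.Prime),
    Nonempty (Frame tF4 p 1 (sg 4 1) L)
  e6 : ∀ (L : Type) [Group L] [Finite L], IsoChevE6 L → ∃ (p : ℕ) (_ : Fact p.Prime) (d : ℕ), d ∣ 3 ∧
    Nonempty (Frame tE6 p d (sg 6 1) L)
  te6 : ∀ (L : Type) [Group L] [Finite L], Iso2E6 L → ∃ (p : ℕ) (_ : Fact p.Prime) (d : ℕ), d ∣ 3 ∧
    Nonempty (Frame tE6 p d (sg 6 (-1)) L)
  e7 : ∀ (L : Type) [Group L] [Finite L], IsoE7 L → ∃ (p : ℕ) (_ : Fact p.Prime) (d : ℕ), d ∣ 2 ∧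
    Nonempty (Frame tE7 p d (sg 7 1) L)
  e8 : ∀ (L : Type) [Group L] [Finite L], IsoE8 L → ∃ (p : ℕ) (_ : Fact p.Prime),
    Nonempty (Frame tE8 p 1 (sg 8 1) L)
  td4 : ∀ (L : Type) [Group L] [Finite L], Iso3D4 L → ∃ (p : ℕ) (_ : Fact p.Prime) (g0 : Lat 4 ≃+ Lat 4),
    IsTri g0 ∧ Nonempty (Frame tD4 p 1 g0 L)

/-- [helper70] stabilizers of elements of prime order `r ≥ 5` are reflection groups (families of characters) -/
def BoxConn : Prop := ∀ (D : ChevalleyDatum) (l : ℕ) (M : CoxeterMatrix (Fin l)) (hp : IsType D l M), l ≤ 7 →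
  ∀ (r : ℕ), r.Prime → 5 ≤ r → ∀ (Φ : Set (Lat l →+ ZMod r)) (w : M.Group), (∀ φ ∈ Φ, Fixs hp w φ) →
    w ∈ WW hp {a | Rt hp a ∧ ∀ φ ∈ Φ, φ a = 0}

/-- [helper70] elementary abelian `r`-subgroups are toral in a conjugate frame -/
def BoxTor : Prop := ∀ (D : ChevalleyDatum) (l : ℕ) (M : CoxeterMatrix (Fin l)) (hp : IsType D l M), l ≤ 7 →
  ∀ (p : ℕ) [Fact p.Prime] (d : ℕ) (g0 : Lat l ≃+ Lat l) (L : Type) [Group L] [Finite L] (E : Frame hp p d g0 L)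
    (r : ℕ), r.Prime → 5 ≤ r → r ≠ p → ∀ Q : Subgroup L, (∀ x ∈ Q, x ^ r = 1) → (∀ x ∈ Q, ∀ y ∈ Q, x * y = y * x) →
    ∃ E' : Frame hp p d g0 L, E.Cj E' ∧ ∀ x ∈ Q, E'.ι x ∈ TT D (kb p)

/-- [helper70] basic facts on the torus -/
structure BoxChi : Prop where
  /-- torus elements of finite order have a character -/
  ex : ∀ (D : ChevalleyDatum) (l : ℕ) (M : CoxeterMatrix (Fin l)) (hp : IsType D l M) (p : ℕ) [Fact p.Prime]
    (m : ℕ) (ζ : kb p), IsPrimitiveRoot ζ m → 0 < m → ∀ t ∈ TT D (kb p), t ^ m = 1 →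
    ∃ φ : Lat l →+ ZMod m, Chi hp ζ t φ
  /-- every character occurs -/
  sur : ∀ (D : ChevalleyDatum) (l : ℕ) (M : CoxeterMatrix (Fin l)) (hp : IsType D l M) (p : ℕ) [Fact p.Prime]
    (c : Fin l → kb p), (∀ i, c i ≠ 0) → ∃ t ∈ TT D (kb p), ∀ a, Rt hp a → ch hp a t = ∏ i, c i ^ a i
  /-- the characters separate -/
  sep : ∀ (D : ChevalleyDatum) (l : ℕ) (M : CoxeterMatrix (Fin l)) (hp : IsType D l M) (p : ℕ) [Fact p.Prime],
    ∀ s ∈ TT D (kb p), ∀ t ∈ TT D (kb p), (∀ a, Rt hp a → ch hp a s = ch hp a t) → s = t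
  /-- the action of the Frobenius map -/
  frob : ∀ (D : ChevalleyDatum) (l : ℕ) (M : CoxeterMatrix (Fin l)) (hp : IsType D l M) (p : ℕ) [Fact p.Prime]
    (d : ℕ) (g0 : Lat l ≃+ Lat l) (L : Type) [Group L] (E : Frame hp p d g0 L), ∀ t ∈ TT D (kb p), ∀ a, Rt hp a →
    ch hp (E.g a) (E.F t) = ch hp a t ^ E.q
  /-- perfect subgroups of the centralizer of a toral elementary abelian group -/
  perf : ∀ (D : ChevalleyDatum) (l : ℕ) (M : CoxeterMatrix (Fin l)) (hp : IsType D l M) (p : ℕ) [Fact p.Prime]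
    (r : ℕ), r.Prime → ∀ Q : Set (YY D p), (∀ t ∈ Q, t ∈ TT D (kb p) ∧ t ^ r = 1) →
    ∀ (J : Subgroup (YY D p)) [Finite J], ⁅J, J⁆ = J → J ≤ centralizer Q → J ≤ MS D l p (PsiS hp Q)
  /-- an element of `M_S T` conjugating torus elements simultaneously may be replaced by an element of `W(S)` -/
  conj : ∀ (D : ChevalleyDatum) (l : ℕ) (M : CoxeterMatrix (Fin l)) (hp : IsType D l M) (p : ℕ) [Fact p.Prime]
    (Q : Set (YY D p)), (∀ t ∈ Q, t ∈ TT D (kb p)) → ∀ y ∈ MS D l p (PsiS hp Q) ⊔ TT D (kb p),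
    ∃ w ∈ WW hp (PsiS hp Q), ∀ s ∈ TT D (kb p), y * s * y⁻¹ ∈ TT D (kb p) →
      ∀ a, Rt hp a → ch hp (wa hp w a) (y * s * y⁻¹) = ch hp a s

/-- [helper65] `P8` and `K1` -/
structure BoxP : Prop where
  k1 : ∀ (D : ChevalleyDatum) (l : ℕ) (M : CoxeterMatrix (Fin l)) (hp : IsType D l M), l ≤ 7 → D ≠ chevB2 →
    ∀ (p : ℕ) [Fact p.Prime] (d : ℕ) (g0 : Lat l ≃+ Lat l) (L : Type) [Group L] [Finite L] (E : Frame hp p d g0 L)
    (U : Type) [Group U] [Finite U] (τ α β : U →* L) (R R' : Subgroup L), Core τ α β R R' →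
    ∀ (r : ℕ), r.Prime → 5 ≤ r → r ≠ p → ∀ Q : Set U, (∀ u ∈ Q, u ^ r = 1 ∧ E.ι (τ u) ∈ TT D (kb p)) →
    K1 hp p (PsiS hp ((fun u => E.ι (τ u)) '' Q))
  a1 : ∀ (D : ChevalleyDatum) (l : ℕ) (M : CoxeterMatrix (Fin l)) (hp : IsType D l M), l ≤ 7 → D ≠ chevB2 →
    ∀ (p : ℕ) [Fact p.Prime] (d : ℕ) (g0 : Lat l ≃+ Lat l) (L : Type) [Group L] [Finite L] (E : Frame hp p d g0 L)
    (U : Type) [Group U] [Finite U] (τ α β : U →* L) (R R' : Subgroup L), Core τ α β R R' →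
    ∀ (r : ℕ), r.Prime → 5 ≤ r → r ≠ p → ∀ u : U, orderOf u = r → E.ι (τ u) ∈ TT D (kb p) →
    ∀ c, A1c hp (PsiS hp {E.ι (τ u)}) c → (4 ≤ E.q ∨ (E.g c ≠ c ∧ E.g c ≠ -c)) → ¬ Cen E R {c, -c}
  a2 : ∀ (D : ChevalleyDatum) (l : ℕ) (M : CoxeterMatrix (Fin l)) (hp : IsType D l M), l ≤ 7 → 4 ≤ l →
    ∀ (p : ℕ) [Fact p.Prime] (d : ℕ) (g0 : Lat l ≃+ Lat l) (L : Type) [Group L] [Finite L] (E : Frame hp p d g0 L)
    (U : Type) [Group U] [Finite U] (τ α β : U →* L) (R R' : Subgroup L), Core τ α β R R' →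
    ∀ c c', Rt hp c → Rt hp c' → cp hp c c' = -1 → cp hp c' c = -1 → (∀ a ∈ A2s c c', E.g a ∈ A2s c c') →
    (3 ≤ E.q ∨ ∃ w ∈ WW hp (A2s c c'), ∀ a ∈ A2s c c', E.g a = wa hp w a) → ¬ Cen E R (A2s c c')
  two : ∀ (D : ChevalleyDatum) (l : ℕ) (M : CoxeterMatrix (Fin l)) (hp : IsType D l M), l ≤ 7 → 4 ≤ l →
    ∀ (d : ℕ) (g0 : Lat l ≃+ Lat l) (L : Type) [Group L] [Finite L] (E : Frame hp 2 d g0 L)
    (U : Type) [Group U] [Finite U] (τ α β : U →* L) (R R' : Subgroup L), Core τ α β R R' →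
    ∀ c, Rt hp c → (E.g c = c ∨ E.g c = -c) → 4 ≤ E.q → ¬ (MS D l 2 {c, -c}).comap E.ι ≤ τ.range

/-- [helper53] `K3` and `K5` -/
structure BoxK : Prop where
  k3 : ∀ (D : ChevalleyDatum) (l : ℕ) (M : CoxeterMatrix (Fin l)) (hp : IsType D l M), l ≤ 7 → D ≠ chevB2 →
    ∀ (p : ℕ) [Fact p.Prime] (d : ℕ) (g0 : Lat l ≃+ Lat l) (L : Type) [Group L] [Finite L] (E : Frame hp p d g0 L)
    (U : Type) [Group U] [Finite U] (τ α β : U →* L) (R R' : Subgroup L) (r : ℕ) (ζ : kb p) (u v : U)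
    (A B : Lat l →+ ZMod r), Dat E τ α β R R' r ζ u v A B →
    ∀ c, A1c hp (Psi hp (A + B)) c → (∀ w, Neg hp w (A + B) → wa hp w c = c ∨ wa hp w c = -c) →
    (4 ≤ E.q ∨ (E.g c ≠ c ∧ E.g c ≠ -c)) → A c = 0
  k5 : ∀ (D : ChevalleyDatum) (l : ℕ) (M : CoxeterMatrix (Fin l)) (hp : IsType D l M), l ≤ 7 → D ≠ chevB2 →
    ∀ (p : ℕ) [Fact p.Prime] (d : ℕ) (g0 : Lat l ≃+ Lat l) (L : Type) [Group L] [Finite L] (E : Frame hp p d g0 L)
    (U : Type) [Group U] [Finite U] (τ α β : U →* L) (R R' : Subgroup L) (r : ℕ) (ζ : kb p) (u v : U)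
    (A B : Lat l →+ ZMod r), Dat E τ α β R R' r ζ u v A B →
    ∀ Z : Lat l →+ ZMod r, Z ≠ 0 → Psi hp (A + B) ⊆ Psi hp Z → (∀ a, Z (E.g a) = (E.q : ZMod r) * Z a) →
    (∃ w, Neg hp w (A + B) ∧ Neg hp w Z) → (Psi hp Z).ncard ≤ (Psi hp (A + B)).ncard

/-- the end of the finite check, `F₄`: an involution of type `B₄` -/
def EndF4 (p : ℕ) {r : ℕ} (g : Lat 4 ≃+ Lat 4) (A B : Lat 4 →+ ZMod r) : Prop :=
  p ≠ 2 ∧ ∃ θ : Lat 4 →+ ZMod 2, θ ≠ 0 ∧ (∀ a, θ (g a) = θ a) ∧ Psi tF4 A ∪ Psi tF4 B ⊆ Psi tF4 θ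

/-- the end of the finite check, `E₆`: a Levi subsystem `D₅` -/
def EndE6 (q : ℕ) {r : ℕ} (ε : ℤˣ) (g : Lat 6 ≃+ Lat 6) (A B : Lat 6 →+ ZMod r) : Prop :=
  ((q : ZMod r) = 1 ∨ (q : ZMod r) = -1) ∧ ∃ θ : Lat 6 →+ ℤ, (∃ a, Rt tE6 a ∧ θ a = 1) ∧
    (∀ a, Rt tE6 a → θ a = 0 ∨ θ a = 1 ∨ θ a = -1) ∧ (∀ a, θ (g a) = (ε : ℤ) * θ a) ∧
    (Psi tE6 θ).ncard = 40 ∧ Psi tE6 A ∪ Psi tE6 B ⊆ Psi tE6 θ

/-- the end of the finite check, `E₇`: a subsystem `D₆ A₁` -/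
def EndE7 (q : ℕ) {r : ℕ} (g : Lat 7 ≃+ Lat 7) (A B : Lat 7 →+ ZMod r) : Prop :=
  ((q : ZMod r) = 1 ∨ (q : ZMod r) = -1) ∧ ∃ c, Rt tE7 c ∧ (g c = c ∨ g c = -c) ∧
    ∀ a ∈ Psi tE7 A ∪ Psi tE7 B, a = c ∨ a = -c ∨ cp tE7 a c = 0

/-- [helper12] the finite check -/
structure BoxFin : Prop where
  g2 : ∀ p q r g0 g A B, ¬ Cmb tG2 p q r g0 g A B
  d4 : ∀ p q r g0 g A B, IsTri g0 → ¬ Cmb tD4 p q r g0 g A B
  f4 : ∀ p q r g0 g A B, Cmb tF4 p q r g0 g A B → EndF4 p g A B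
  e6 : ∀ p q r ε g A B, 7 ≤ r → Cmb tE6 p q r (sg 6 ε) g A B → EndE6 q ε g A B
  e7 : ∀ p q r g0 g A B, 7 ≤ r → Cmb tE7 p q r g0 g A B → EndE7 q g A B

/-- [helper53] `K4` -/
structure BoxEnd : Prop where
  f4 : ∀ (p : ℕ) [Fact p.Prime] (L : Type) [Group L] [Finite L] (E : Frame tF4 p 1 (sg 4 1) L)
    (U : Type) [Group U] [Finite U] (τ α β : U →* L) (R R' : Subgroup L) (r : ℕ) (ζ : kb p) (u v : U)
    (A B : Lat 4 →+ ZMod r), Dat E τ α β R R' r ζ u v A B → ¬ EndF4 p E.g A B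
  e6 : ∀ (p : ℕ) [Fact p.Prime] (d : ℕ), d ∣ 3 → ∀ (ε : ℤˣ) (L : Type) [Group L] [Finite L]
    (E : Frame tE6 p d (sg 6 ε) L)
    (U : Type) [Group U] [Finite U] (τ α β : U →* L) (R R' : Subgroup L) (r : ℕ) (ζ : kb p) (u v : U)
    (A B : Lat 6 →+ ZMod r), Dat E τ α β R R' r ζ u v A B → ¬ (E.q = 4 ∧ ε = 1) → ¬ EndE6 E.q ε E.g A B
  e7 : ∀ (p : ℕ) [Fact p.Prime] (d : ℕ), d ∣ 2 → ∀ (L : Type) [Group L] [Finite L] (E : Frame tE7 p d (sg 7 1) L)
    (U : Type) [Group U] [Finite U] (τ α β : U →* L) (R R' : Subgroup L) (r : ℕ) (ζ : kb p) (u v : U)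
    (A B : Lat 7 →+ ZMod r), Dat E τ α β R R' r ζ u v A B → ¬ EndE7 E.q E.g A B

/-- [helper8] real elements (sections 0 and 4), and the rank -/
structure BoxU : Prop where
  real : ∀ (D : ChevalleyDatum) (l : ℕ) (M : CoxeterMatrix (Fin l)) (hp : IsType D l M), l ≤ 7 → D ≠ chevB2 →
    ∀ (p : ℕ) [Fact p.Prime] (d : ℕ) (g0 : Lat l ≃+ Lat l) (L : Type) [Group L] [Finite L] (E : Frame hp p d g0 L)
    (U : Type) [Group U] [Finite U] (τ α β : U →* L) (R R' : Subgroup L), Core τ α β R R' →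
    ∀ (r : ℕ), r.Prime → 5 ≤ r → r ≠ p → r ∣ Nat.card U → ∃ u v : U, orderOf u = r ∧ v * u * v⁻¹ = u⁻¹
  rank : ∀ (D : ChevalleyDatum) (l : ℕ) (M : CoxeterMatrix (Fin l)) (hp : IsType D l M), l ≤ 7 →
    ∀ (p : ℕ) [Fact p.Prime] (d : ℕ) (g0 : Lat l ≃+ Lat l) (L : Type) [Group L] [Finite L] (E : Frame hp p d g0 L),
    Rank7 L

/-- no core with `p` the only prime divisor `≥ 5` of `|U|` -/
def NoK3 {D : ChevalleyDatum} {l : ℕ} {M : CoxeterMatrix (Fin l)} (hp : IsType D l M) (d : ℕ)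
    (g0 : Lat l ≃+ Lat l) : Prop :=
  ∀ (p : ℕ) [Fact p.Prime] (L : Type) [Group L] [Finite L] (E : Frame hp p d g0 L)
    (U : Type) [Group U] [Finite U] (τ α β : U →* L) (R R' : Subgroup L), Core τ α β R R' →
    ¬ ∀ r : ℕ, r.Prime → 5 ≤ r → r ∣ Nat.card U → r = p

/-- no toral triangle for `r = 5` when `5` and `p` are the only prime divisors `≥ 5` of `|U|` -/
def NoFive {D : ChevalleyDatum} {l : ℕ} {M : CoxeterMatrix (Fin l)} (hp : IsType D l M) (d : ℕ)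
    (g0 : Lat l ≃+ Lat l) : Prop :=
  ∀ (p : ℕ) [Fact p.Prime] (L : Type) [Group L] [Finite L] (E : Frame hp p d g0 L)
    (U : Type) [Group U] [Finite U] (τ α β : U →* L) (R R' : Subgroup L) (ζ : kb p) (u v : U)
    (A B : Lat l →+ ZMod 5), Dat E τ α β R R' 5 ζ u v A B → Cmb hp p E.q 5 g0 E.g A B →
    ¬ ∀ r : ℕ, r.Prime → 7 ≤ r → r ∣ Nat.card U → r = p

/-- [helper69] the small cases -/
structure BoxSmall : Prop where
  g2 : NoK3 tG2 1 (sg 2 1)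
  d4 : ∀ g0, IsTri g0 → NoK3 tD4 1 g0
  f4 : NoK3 tF4 1 (sg 4 1)
  e6 : ∀ d ε, d ∣ 3 → NoK3 tE6 d (sg 6 ε)
  e7 : ∀ d, d ∣ 2 → NoK3 tE7 d (sg 7 1)
  e6five : ∀ d ε, d ∣ 3 → NoFive tE6 d (sg 6 ε)
  e7five : ∀ d, d ∣ 2 → NoFive tE7 d (sg 7 1)

end Cfsg.Agent.Cam.Ex
end

-- part: Cam/Ex/Basic
section
set_option linter.all false
open scoped Cfsg.Agent.FastGrp

/-!
# Exceptional rows: elementary facts on `Chi`, `Psi`, `PsiS` (helper69)
-/

set_option autoImplicit false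
set_option linter.unusedVariables false
set_option linter.unusedSectionVars false

namespace Cfsg.Agent.Cam.Ex

open CoxeterSystem Cfsg Cfsg.Lie Subgroup
open Cfsg.Agent.ChevalleyStructure.CoxeterGeom Cfsg.Agent.ChevalleyStructure.CoxeterGeomTypes
open Cfsg.Agent.Tits.Roots Cfsg.Agent.Nodes.BNOf Cfsg.Agent.Nodes.RGDChev Cfsg.Agent.Nodes.Coroot
open Cfsg.Agent.KFacts.RgdChevCoord Cfsg.Agent.BpExc.TorCent Cfsg.Agent.BpExc.LangFr Cfsg.Agent.BpExc.SubBN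
open Cfsg.Agent.Cam.Spor
open scoped commutatorElement

variable {D : ChevalleyDatum} {l : ℕ} {M : CoxeterMatrix (Fin l)} {hp : IsType D l M} {p : ℕ} [Fact p.Prime]

theorem finite_WW (hp : IsType D l M) : Finite M.Group := finite_W hp M.toCoxeterSystem

theorem finite_Rt (hp : IsType D l M) : {a | Rt hp a}.Finite := by
  have := finite_WW hp
  exact RGD.finite_roots (cs := M.toCoxeterSystem) (h := hp.isCartan)

theorem rt_sr (hp : IsType D l M) (i : Fin l) : Rt hp (sr i) := isRoot_sr _ _ i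

theorem Rt.wa' {a : Lat l} (ha : Rt hp a) (w : M.Group) : Rt hp (wa hp w a) := IsRoot.act ha w

theorem wa_mul (w w' : M.Group) (a : Lat l) : wa hp (w * w') a = wa hp w (wa hp w' a) := by
  unfold wa
  rw [map_mul]
  rfl

theorem wa_one (a : Lat l) : wa hp 1 a = a := by
  unfold wa
  rw [map_one]
  rfl

theorem wa_inv_wa (w : M.Group) (a : Lat l) : wa hp w⁻¹ (wa hp w a) = a := by
  rw [← wa_mul, inv_mul_cancel, wa_one]

theorem wa_wa_inv (w : M.Group) (a : Lat l) : wa hp w (wa hp w⁻¹ a) = a := by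
  rw [← wa_mul, mul_inv_cancel, wa_one]

/-- additive maps that agree on the roots agree -/
theorem ext_rt {K : Type} [AddCommGroup K] {f g : Lat l →+ K} (h : ∀ a, Rt hp a → f a = g a) : f = g := by
  refine AddMonoidHom.ext fun x => ?_
  have e : x = ∑ k, x k • (sr k : Lat l) := by
    funext j
    simp [Finset.sum_apply, sr, Pi.single_apply]
  rw [e, map_sum, map_sum]
  exact Finset.sum_congr rfl fun k _ => by rw [map_zsmul, map_zsmul, h _ (rt_sr hp k)]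

theorem ch_ne_zero {a : Lat l} (ha : Rt hp a) {t : YY D p} (ht : t ∈ TT D (kb p)) : ch hp a t ≠ 0 := by
  obtain ⟨r, hr, rfl⟩ := (isRoot_iff hp M.toCoxeterSystem a).1 ha
  exact (act hp hr ht).1

theorem ch_act {a : Lat l} (ha : Rt hp a) {t : YY D p} (ht : t ∈ TT D (kb p)) (s : kb p) :
    t * xc hp a s * t⁻¹ = xc hp a (ch hp a t * s) := by
  obtain ⟨r, hr, rfl⟩ := (isRoot_iff hp M.toCoxeterSystem a).1 ha
  exact (act hp hr ht).2 s

theorem xc_injective {a : Lat l} (ha : Rt hp a) : Function.Injective (xc (K := kb p) hp a) := by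
  obtain ⟨r, hr, rfl⟩ := (isRoot_iff hp M.toCoxeterSystem a).1 ha
  exact xc_inj hp hr

theorem ch_mul {a : Lat l} (ha : Rt hp a) {s t : YY D p} (hs : s ∈ TT D (kb p)) (ht : t ∈ TT D (kb p)) :
    ch hp a (s * t) = ch hp a s * ch hp a t := by
  have h1 := ch_act ha (mul_mem hs ht) 1
  have h2 : s * t * xc hp a 1 * (s * t)⁻¹ = s * (t * xc hp a 1 * t⁻¹) * s⁻¹ := by group
  rw [h2, ch_act ha ht, ch_act ha hs] at h1
  have h3 := xc_injective ha h1
  rw [mul_one, mul_one] at h3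
  exact h3.symm

theorem ch_one {a : Lat l} (ha : Rt hp a) : ch hp a (1 : YY D p) = 1 := by
  have h1 := ch_mul (hp := hp) ha (one_mem (TT D (kb p))) (one_mem _)
  rw [mul_one] at h1
  exact (mul_eq_left₀ (ch_ne_zero ha (one_mem _))).1 h1.symm

theorem ch_inv {a : Lat l} (ha : Rt hp a) {t : YY D p} (ht : t ∈ TT D (kb p)) : ch hp a t⁻¹ = (ch hp a t)⁻¹ := by
  have h1 := ch_mul (hp := hp) ha ht (inv_mem ht)
  rw [mul_inv_cancel, ch_one ha] at h1
  exact eq_inv_of_mul_eq_one_right h1.symm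

theorem ch_pow {a : Lat l} (ha : Rt hp a) {t : YY D p} (ht : t ∈ TT D (kb p)) (n : ℕ) :
    ch hp a (t ^ n) = ch hp a t ^ n := by
  induction n with
  | zero => rw [pow_zero, pow_zero, ch_one ha]
  | succ n ih => rw [pow_succ, ch_mul ha (pow_mem ht n) ht, ih, pow_succ]

section zeta

variable {k : Type*} [Field k] {ζ : k} {m : ℕ}

theorem zeta_add (hζ : IsPrimitiveRoot ζ m) [NeZero m] (x y : ZMod m) :
    ζ ^ (x + y).val = ζ ^ x.val * ζ ^ y.val := by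
  rw [← pow_add, ZMod.val_add]
  conv_rhs => rw [← Nat.mod_add_div (x.val + y.val) m, pow_add, pow_mul, hζ.pow_eq_one, one_pow, mul_one]

theorem zeta_inj (hζ : IsPrimitiveRoot ζ m) [NeZero m] {x y : ZMod m} (h : ζ ^ x.val = ζ ^ y.val) : x = y :=
  ZMod.val_injective m (hζ.pow_inj (ZMod.val_lt x) (ZMod.val_lt y) h)

theorem zeta_eq_one (hζ : IsPrimitiveRoot ζ m) [NeZero m] {x : ZMod m} : ζ ^ x.val = 1 ↔ x = 0 := by
  constructor
  · intro h
    apply zeta_inj hζ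
    rw [h, ZMod.val_zero, pow_zero]
  · rintro rfl
    rw [ZMod.val_zero, pow_zero]

theorem zeta_neg (hζ : IsPrimitiveRoot ζ m) [NeZero m] (x : ZMod m) : ζ ^ (-x).val = (ζ ^ x.val)⁻¹ := by
  have h1 := zeta_add hζ x (-x)
  rw [add_neg_cancel, ZMod.val_zero, pow_zero] at h1
  exact eq_inv_of_mul_eq_one_right h1.symm

theorem zeta_nsmul (hζ : IsPrimitiveRoot ζ m) [NeZero m] (n : ℕ) (x : ZMod m) :
    ζ ^ ((n : ZMod m) * x).val = (ζ ^ x.val) ^ n := by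
  induction n with
  | zero => rw [Nat.cast_zero, zero_mul, ZMod.val_zero, pow_zero, pow_zero]
  | succ n ih => rw [Nat.cast_succ, add_mul, one_mul, zeta_add hζ, ih, pow_succ]

end zeta

section chi

variable {m : ℕ} [NeZero m] {ζ : kb p} (hζ : IsPrimitiveRoot ζ m) {s t : YY D p} {φ ψ : Lat l →+ ZMod m}

include hζ

theorem Chi.mul (h : Chi hp ζ s φ) (h' : Chi hp ζ t ψ) : Chi hp ζ (s * t) (φ + ψ) :=
  ⟨mul_mem h.1 h'.1, fun a ha => by
    rw [ch_mul ha h.1 h'.1, h.2 a ha, h'.2 a ha, AddMonoidHom.add_apply, zeta_add hζ]⟩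

theorem Chi.inv (h : Chi hp ζ s φ) : Chi hp ζ s⁻¹ (-φ) :=
  ⟨inv_mem h.1, fun a ha => by rw [ch_inv ha h.1, h.2 a ha, AddMonoidHom.neg_apply, zeta_neg hζ]⟩

theorem Chi.unique (h : Chi hp ζ s φ) (h' : Chi hp ζ s ψ) : φ = ψ :=
  ext_rt (hp := hp) fun a ha => zeta_inj hζ (by rw [← h.2 a ha, ← h'.2 a ha])

theorem Chi.psiS (h : Chi hp ζ s φ) : PsiS hp {s} = Psi hp φ := by
  ext a
  constructor
  · rintro ⟨ha, h1⟩
    refine ⟨ha, (zeta_eq_one hζ).1 ?_⟩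
    rw [← h.2 a ha]
    exact h1 s rfl
  · rintro ⟨ha, h1⟩
    refine ⟨ha, fun t ht => ?_⟩
    rw [Set.mem_singleton_iff.1 ht, h.2 a ha, h1, ZMod.val_zero, pow_zero]

theorem Chi.eq_of (chi : BoxChi) (h : Chi hp ζ s φ) (h' : Chi hp ζ t φ) : s = t :=
  chi.sep D l M hp p s h.1 t h'.1 fun a ha => by rw [h.2 a ha, h'.2 a ha]

theorem chi_one : Chi hp ζ (1 : YY D p) (0 : Lat l →+ ZMod m) :=
  ⟨one_mem _, fun a ha => by rw [ch_one ha, AddMonoidHom.zero_apply, ZMod.val_zero, pow_zero]⟩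

theorem Chi.ne_zero (chi : BoxChi) (h : Chi hp ζ s φ) (hs : s ≠ 1) : φ ≠ 0 := by
  rintro rfl
  exact hs (h.eq_of hζ chi (chi_one hζ))

/-- the Frobenius condition for a fixed torus element -/
theorem Chi.frob (chi : BoxChi) {d : ℕ} {g0 : Lat l ≃+ Lat l} {L : Type} [Group L] (E : Frame hp p d g0 L)
    (h : Chi hp ζ s φ) (hs : E.F s = s) (a : Lat l) : φ (E.g a) = (E.q : ZMod m) * φ a := by
  have key : φ.comp E.g.toAddMonoidHom = (AddMonoidHom.mulLeft (E.q : ZMod m)).comp φ := by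
    refine ext_rt (hp := hp) fun a ha => ?_
    have h1 := chi.frob D l M hp p d g0 L E s h.1 a ha
    rw [hs, h.2 _ ((E.fr.root a).2 ha), h.2 a ha, ← zeta_nsmul hζ] at h1
    exact zeta_inj hζ h1
  exact DFunLike.congr_fun key a

/-- transport of characters along a Weyl group element -/
theorem Chi.of_conj (h : Chi hp ζ s φ) (h' : Chi hp ζ t ψ) {w : M.Group}
    (hw : ∀ a, Rt hp a → ch hp (wa hp w a) t = ch hp a s) (a : Lat l) : ψ (wa hp w a) = φ a := by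
  have key : ψ.comp (rep M.toCoxeterSystem hp.isCartan w).toAddMonoidHom = φ := by
    refine ext_rt (hp := hp) fun a ha => ?_
    have h1 := hw a ha
    rw [h'.2 _ (ha.wa' w), h.2 a ha] at h1
    exact zeta_inj hζ h1
  exact DFunLike.congr_fun key a

end chi

theorem MS_top (hp : IsType D l M) : MS D l p (PsiS hp (∅ : Set (YY D p))) = ⊤ := by
  have h1 : PsiS hp (∅ : Set (YY D p)) = {a | IsRoot M.toCoxeterSystem hp.isCartan a} := by
    ext a
    exact ⟨fun h => h.1, fun h => ⟨h, fun t ht => absurd ht (Set.notMem_empty t)⟩⟩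
  rw [h1]
  exact G1_eq_top (K := kb p) hp M.toCoxeterSystem

/-- conjugate torus elements are conjugate under the Weyl group -/
theorem exists_weyl (chi : BoxChi) (y : YY D p) : ∃ w : M.Group, ∀ s ∈ TT D (kb p), y * s * y⁻¹ ∈ TT D (kb p) →
    ∀ a, Rt hp a → ch hp (wa hp w a) (y * s * y⁻¹) = ch hp a s := by
  obtain ⟨w, -, hw⟩ := chi.conj D l M hp p ∅ (fun t ht => absurd ht (Set.notMem_empty t)) y
    (by rw [MS_top hp, top_sup_eq]; exact mem_top y)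
  exact ⟨w, hw⟩

theorem ncard_psiS_conj (chi : BoxChi) {s y : YY D p} (hs : s ∈ TT D (kb p)) (hy : y * s * y⁻¹ ∈ TT D (kb p)) :
    (PsiS hp {y * s * y⁻¹}).ncard = (PsiS hp {s}).ncard := by
  obtain ⟨w, hw⟩ := exists_weyl (hp := hp) chi y
  have h1 : PsiS hp {y * s * y⁻¹} = (wa hp w) '' PsiS hp {s} := by
    ext a
    constructor
    · rintro ⟨ha, h1⟩
      refine ⟨wa hp w⁻¹ a, ⟨ha.wa' _, fun t ht => ?_⟩, wa_wa_inv w a⟩
      rw [Set.mem_singleton_iff.1 ht, ← hw s hs hy _ (ha.wa' _), wa_wa_inv]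
      exact h1 _ rfl
    · rintro ⟨b, ⟨hb, h1⟩, rfl⟩
      refine ⟨hb.wa' _, fun t ht => ?_⟩
      rw [Set.mem_singleton_iff.1 ht, hw s hs hy b hb]
      exact h1 _ rfl
  rw [h1]
  exact Set.ncard_image_of_injective _ fun a b hab => by rw [← wa_inv_wa (hp := hp) w a, hab, wa_inv_wa]

theorem exists_zeta (p : ℕ) [Fact p.Prime] {m : ℕ} (hm : m.Coprime p) : ∃ ζ : kb p, IsPrimitiveRoot ζ m := by
  have hp : p.Prime := Fact.out
  have h0 : (m : kb p) ≠ 0 := by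
    intro h
    rw [CharP.cast_eq_zero_iff (kb p) p] at h
    exact hp.one_lt.ne' (Nat.eq_one_of_dvd_coprimes hm h dvd_rfl)
  have : NeZero (m : kb p) := ⟨h0⟩
  exact HasEnoughRootsOfUnity.exists_primitiveRoot (kb p) m

end Cfsg.Agent.Cam.Ex
end
end
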