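import Cfsg.Agent.Cam.Ex.Basic
import Cfsg.Agent.H316.U6Norm_m3
import Cfsg.Agent.H900.Fra.Wey
import Cfsg.Agent.H994.KE.Base_m3
import Cfsg.Agent.S1054
import Cfsg.Agent.S1055
import Cfsg.Agent.S1070
import Cfsg.Agent.S1071
import Cfsg.Agent.Cam.Ex.Root
import Cfsg.Agent.Cam.Red.Count_m3
import Cfsg.Agent.Nodes.SimplyLaced
import Cfsg.Agent.Nodes.OppDec
import Cfsg.Agent.ChevFast.E7
import Cfsg.Agent.ChevFast.Lin
import Cfsg.Agent.Cam.Ex.Chi_m3
import Cfsg.Agent.DS.Ex.ExtU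
import Cfsg.Agent.H402.PSL2Cls
import Cfsg.Agent.H19.RP.Dick
import Cfsg.Agent.H212.BR.Gen_m3
import Cfsg.Agent.StandardComponent.StdCtx
import Cfsg.Agent.S0205
import Cfsg.Agent.S0226
import Cfsg.Agent.S0809
import Cfsg.Agent.H460.OT.BruConc
import Cfsg.Agent.Lib.FinFast
import Cfsg.Agent.FastGrp
import Cfsg.Agent.Prune
set_option linter.all false

section
prune_inst 0x7ffcbdf8afb8bfffdfff7e7ffed9dffc19d09fffe6dff9437fe8e1ef0bdf030029e5a9a90de042fe1ec2601410387853f97ecabfea6bdc7ffffd5ff41ffbee5ff5f7b50951dc88b40fb80ff603f07f8e7f3fffffffffffffffffffffffffffbeffffffffffff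

-- part: Cam/Ex/Frame
section
prune_inst 0x24207404000002000018000262003e4296000092004b8000114102400686dc6025216e2151401a13c03a80440030006813540110423000000a00080001180080002842021340a104660098802806000000000000000000000000000000041000000000000
set_option linter.all false
open scoped Cfsg.Agent.FastGrp

/-!
# Exceptional rows: the frames (helper94)

`boxFrame : BoxFrame`, from the models `H316.U6.MData`.
-/

set_option autoImplicit false
set_option linter.unusedSectionVars false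

namespace Cfsg.Agent.Cam.Ex.Frm

open CoxeterSystem Cfsg Cfsg.Lie Cfsg.Lie.ChevalleyDatum
open Cfsg.Agent.ChevalleyStructure Cfsg.Agent.ChevalleyStructure.Elts Cfsg.Agent.ChevalleyStructure.CoxeterGeom
  Cfsg.Agent.ChevalleyStructure.CoxeterGeomTypes
open Cfsg.Agent.Tits.Roots Cfsg.Agent.Nodes Cfsg.Agent.Nodes.BNOf Cfsg.Agent.Nodes.RGDChev Cfsg.Agent.Nodes.Coroot
open Cfsg.Agent.KFacts.RgdChevCoord
open Cfsg.Agent.BpExc Cfsg.Agent.BpExc.FamField Cfsg.Agent.BpExc.TorChev Cfsg.Agent.BpExc.LangFr Cfsg.Agent.GpExc.Field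
  Cfsg.Agent.BpExc.FamUntw Cfsg.Agent.BpExc.FamInst
open Cfsg.Agent.H469.Exc Cfsg.Agent.H469.Exc.SigFr
open Cfsg.Agent.ChevalleyStructure.SignedSymm Cfsg.Agent.ChevalleyStructure.GraphSymm
open Cfsg.Agent.H316.U6
open scoped commutatorElement

variable {D : ChevalleyDatum} {l : ℕ} {M : CoxeterMatrix (Fin l)} {hp : IsType D l M} {r q : ℕ} [hr : Fact r.Prime]

/-- the fixed points are products of elements of the finite group and of the torus -/
def Spl {K : Type} [Group K] (m : MData hp r q K) : Prop :=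
  ∀ y, m.σ y = y → ∃ a t, t ∈ TT D (KK r) ∧ y = m.ι a * t

theorem cp_g {g : Lat l ≃+ Lat l} (hg : ∀ a, Rt hp (g a) ↔ Rt hp a) (a c : Lat l) (hc : Rt hp c) :
    cp hp (g a) (g c) = cp hp a c := by
  have := finite_W hp M.toCoxeterSystem
  have hgc := (hg c).2 hc
  have e : a = ∑ k, a k • (sr k : Lat l) := by
    funext j
    simp [Finset.sum_apply, sr, Pi.single_apply]
  have h0 : ∀ {y : Lat l}, Rt hp y → cp hp 0 y = 0 := fun {y} hy => by
    have h1 := cpr_smul M.toCoxeterSystem hp.isCartan 0 0 hy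
    rwa [zero_smul, zero_mul] at h1
  rw [e]
  refine Finset.sum_induction _ (fun x => cp hp (g x) (g c) = cp hp x c) (fun x y h1 h2 => ?_) ?_ fun k _ => ?_
  · unfold cp at h1 h2 ⊢
    rw [map_add, cpr_add _ _ _ _ hgc, cpr_add _ _ _ _ hc, h1, h2]
  · rw [map_zero, h0 hgc, h0 hc]
  · unfold cp
    rw [map_zsmul, cpr_smul _ _ _ _ hgc, cpr_smul _ _ _ _ hc,
      H123.ExcComb.cpr_g (cs := M.toCoxeterSystem) (h := hp.isCartan) hg (isRoot_sr _ _ k) hc]

theorem xc_vec {k : Type} [Field k] {s : ℕ} (hs : s < D.nroots) (t : k) : xc hp (vec D l s) t = xs hp.inList s t :=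
  Subtype.ext (coe_xc hp hs t)

theorem der_of_spl {K : Type} [Group K] {m : MData hp r q K} (h : Spl m) {y z : YY D r} (hy : m.σ y = y) (hz : m.σ z = z) :
    ⁅y, z⁆ ∈ m.ι.range := by
  obtain ⟨a, s, hs, rfl⟩ := h y hy
  obtain ⟨b, t, ht, rfl⟩ := h z hz
  have h1 : m.σ s = s := by
    rw [map_mul, m.fix] at hy
    exact mul_left_cancel hy
  have h2 : m.σ t = t := by
    rw [map_mul, m.fix] at hz
    exact mul_left_cancel hz
  obtain ⟨b', hb'⟩ := m.norm s h1 b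
  obtain ⟨a', ha'⟩ := m.norm t h2 a⁻¹
  refine ⟨a * b' * a' * b⁻¹, ?_⟩
  rw [map_mul, map_mul, map_mul, hb', ha', map_inv, map_inv, commutatorElement_def]
  have h3 : s⁻¹ * t = t * s⁻¹ := TT_comm hp _ (inv_mem hs) _ ht
  calc m.ι a * (s * m.ι b * s⁻¹) * (t * (m.ι a)⁻¹ * t⁻¹) * (m.ι b)⁻¹
      = m.ι a * s * m.ι b * (s⁻¹ * t) * (m.ι a)⁻¹ * t⁻¹ * (m.ι b)⁻¹ := by group
    _ = _ := by rw [h3]; group

/-- **The frame of a model.** -/
theorem frame_of {K L : Type} [Group K] [Group L] (m : MData hp r q K) (e : L ≃* K)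
    (hK : IsSimpleGroup K ∧ ¬ IsMulCommutative K) {g0 : Lat l ≃+ Lat l} (hg : ∃ w, ∀ a, m.g a = wa hp w (g0 a))
    (hd : m.dd = 1 ∨ Spl m) (hc : m.dd.Coprime r) (hl : m.dd = 1 ∨ m.dd = 2 ∨ m.dd = 3) :
    Nonempty (Frame hp r m.dd g0 L) := by
  have hrange : ∀ y : YY D r, y ∈ m.ι.range → y ∈ (m.ι.comp e.toMonoidHom).range := by
    rintro _ ⟨a, rfl⟩
    exact ⟨e.symm a, congrArg m.ι (e.apply_symm_apply a)⟩
  have := hK.1
  refine ⟨{
    e := m.e
    ι := m.ι.comp e.toMonoidHom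
    F := m.σ
    g := m.g
    he := m.he
    frob := m.frob
    fr := m.fr
    pw := ?_
    gr := hg
    gcp := cp_g m.fr.root
    inj := m.inj.comp e.injective
    fix := fun _ => m.fix _
    der := fun y z hy hz => hrange _ ?_
    idx := fun y hy => hrange _ (m.pow_dd y hy)
    cop := hc
    dle := hl
    simple := e.isSimpleGroup
    noncomm := fun h => hK.2 ⟨⟨fun a b => e.symm.injective (by rw [map_mul, map_mul]; exact h.is_comm.comm _ _)⟩⟩ }⟩
  · intro a ha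
    obtain ⟨s, hs, rfl⟩ := (isRoot_iff hp M.toCoxeterSystem a).1 ha
    obtain ⟨s', h1, h2, c, hc0, h3, -⟩ := m.act s hs
    refine ⟨c, hc0, fun t => ?_⟩
    rw [← h1, xc_vec hs, xc_vec h2, h3, m.hq]
  · rcases hd with h | h
    · have h1 := m.pow_dd ⁅y, z⁆ (by rw [map_commutatorElement, hy, hz])
      rwa [h, pow_one] at h1
    · exact der_of_spl h hy hz

theorem gr_refl {g : Lat l ≃+ Lat l} (h : g = AddEquiv.refl _) : ∃ w, ∀ a, g a = wa hp w (sg l 1 a) :=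
  ⟨1, fun a => by
    unfold wa
    rw [h, map_one, sg_apply, Units.val_one, one_smul]
    rfl⟩

theorem cop_sub {n d : ℕ} (hn : 0 < n) : (Nat.gcd d (r ^ n - 1)).Coprime r := by
  refine Nat.Coprime.coprime_dvd_left (Nat.gcd_dvd_right _ _) ?_
  have h1 : 1 ≤ r ^ n := Nat.one_le_pow _ _ hr.out.pos
  refine Nat.Coprime.coprime_dvd_right (dvd_pow_self r hn.ne') ?_
  exact (Nat.coprime_self_sub_left h1).2 (Nat.coprime_one_left _)

theorem cop_add {n d : ℕ} (hn : 0 < n) : (Nat.gcd d (r ^ n + 1)).Coprime r := by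
  refine Nat.Coprime.coprime_dvd_left (Nat.gcd_dvd_right _ _) ?_
  refine Nat.Coprime.coprime_dvd_right (dvd_pow_self r hn.ne') ?_
  exact (Nat.coprime_self_add_left).2 (Nat.coprime_one_left _)

/-- **Untwisted groups.** -/
theorem untw (hp : IsType D l M) {d : ℕ} {B : Fin l → Fin l → ℤ} (hB : H129.TorusChar.InvC D l d B)
    (hd : d = 1 ∨ d = 2 ∨ d = 3) {F : Type} [Field F] [Fintype F]
    (hK : IsSimpleGroup ↥(D.group F) ∧ ¬ IsMulCommutative ↥(D.group F)) {L : Type} [Group L] (e : L ≃* ↥(D.group F)) :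
    ∃ (p : ℕ) (_ : Fact p.Prime) (d' : ℕ), d' ∣ d ∧ Nonempty (Frame hp p d' (sg l 1) L) := by
  obtain ⟨r, hr, _⟩ := RowsUntw.exists_char F
  have : Fact r.Prime := ⟨hr⟩
  obtain ⟨f⟩ := RowsUntw.exists_emb r F
  obtain ⟨n, hn0, hn⟩ := exists_card (F := F) r
  have hq : Fintype.card F = r ^ n := by rw [← hn, Nat.card_eq_fintype_card]
  have hd1 : d = 1 ∨ d.Prime := by
    rcases hd with rfl | rfl | rfl
    · exact Or.inl rfl
    · exact Or.inr Nat.prime_two
    · exact Or.inr Nat.prime_three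
  obtain ⟨m, h1, h2, h3, h4⟩ := H28.GenF.mdata_std' (r := r) hp F hB (by omega) hd1 f hn0 hn
  have h5 : m.dd ∣ d := h4 ▸ Nat.gcd_dvd_left _ _
  refine ⟨r, inferInstance, m.dd, h5, frame_of m e hK (gr_refl h3) (Or.inr fun y hy => ?_) ?_ ?_⟩
  · rw [h1]
    refine H129.TorusUntw.fix_split hp f hq ?_
    apply Subtype.ext
    rw [H129.TorusUntw.coe_phi]
    rw [h2] at hy
    refine Eq.trans ?_ (congrArg Subtype.val hy)
    apply Units.ext
    ext i j
    exact (iterateFrobenius_def r n _).trans (frb_apply _ r n _).symm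
  · rw [h4, hq]
    exact cop_sub hn0
  · rcases hd1 with h6 | h6
    · exact Or.inl (Nat.dvd_one.1 (h6 ▸ h5))
    · rcases (Nat.dvd_prime h6).1 h5 with h7 | h7
      · exact Or.inl h7
      · rw [h7]
        exact hd

theorem untw1 (hp : IsType D l M) {B : Fin l → Fin l → ℤ} (hB : H129.TorusChar.InvC D l 1 B) {F : Type} [Field F] [Fintype F]
    (hK : IsSimpleGroup ↥(D.group F) ∧ ¬ IsMulCommutative ↥(D.group F)) {L : Type} [Group L] (e : L ≃* ↥(D.group F)) :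
    ∃ (p : ℕ) (_ : Fact p.Prime), Nonempty (Frame hp p 1 (sg l 1) L) := by
  obtain ⟨p, _, d, hd, h⟩ := untw hp hB (Or.inl rfl) hK e
  obtain rfl := Nat.dvd_one.1 hd
  exact ⟨p, inferInstance, h⟩

open Cfsg.Agent.ChevalleyStructure.TwE6Basic (hE6)
open Cfsg.Agent.CpAut.RgdUntw (fld)
open Cfsg.Agent.BpExc.FamTw.Gr Cfsg.Agent.BpExc.FamTw.Six

/-- the model of `²E₆(q)` (as `H316.U6.mdata_twE6'`) with the splitting -/
theorem mdata_six {K : Type} [Field K] [Fintype K] [CharP K r] {q : ℕ} (hq : IsPrimePow q)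
    (hK : Fintype.card K = q ^ 2) :
    ∃ m : MData Nodes.RGDTwE6.hp r q ↥(twistedE6 K q), m.dd = Nat.gcd 3 (q + 1) ∧
      m.g = H720.TwFr.permE H720.TwFr.rho6 ∧ Spl m := by
  obtain ⟨f⟩ := RowsUntw.exists_emb r K
  obtain ⟨m, hm0, hm⟩ := exists_eq_pow (r := r) hq hK
  have hk := locFin r
  obtain ⟨Φ, hΦe⟩ : ∃ Φ : KK r ≃+* KK r, Φ = frb (KK r) r m := ⟨_, rfl⟩
  have hΦ : ∀ a, Φ a = a ^ r ^ m := by
    intro a
    rw [hΦe]
    exact frb_apply _ r m a
  have hφ : ∀ a, (Φ : KK r →+* KK r) a = a ^ q := by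
    intro a
    rw [hm]
    exact hΦ a
  have hγ := coe_gr (L := KK r) hE6 symmE6
  have hσ := SigFr.isFrob_symm_fld (p := r) symmE6 hγ hΦ
  have Fσ := (SigFr.fr_E6 hγ CoxeterMatrix.E₆.toCoxeterSystem).mul
    (SigFr.fr_fld Nodes.RGDTwE6.hp CoxeterMatrix.E₆.toCoxeterSystem Φ)
  have hfin := Sig.finite_fixed hk hm0 hσ
  have hsg : ∀ y : ↥(chevE6.group (KK r)),
      (((gr hE6 symmE6 * fld chevE6 Φ : MulAut ↥(chevE6.group (KK r))) y :
        ↥(chevE6.group (KK r))) : GL chevE6.Idx (KK r)) =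
      TwE6Basic.sg (Φ : KK r →+* KK r) (y : GL chevE6.Idx (KK r)) := by
    intro y
    rfl
  have hfix : ∀ a, (gr hE6 symmE6 * fld chevE6 Φ : MulAut ↥(chevE6.group (KK r))) (em q f a) = em q f a := by
    intro a
    apply Subtype.ext
    rw [hsg, coe_em]
    exact (EmbInst.twE6_fix (f := f) hq hK hφ a.2).2
  have hnorm : ∀ y, (gr hE6 symmE6 * fld chevE6 Φ : MulAut ↥(chevE6.group (KK r))) y = y → ∀ x, ∃ x',
      em q f x' = y * em q f x * y⁻¹ := by
    intro y hy x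
    have h1 : TwE6Basic.sg (Φ : KK r →+* KK r) (y : GL chevE6.Idx (KK r)) = y := by rw [← hsg, hy]
    have hn := EmbInst.twE6_normalizer (f := f) hq hK hφ y.2 h1
    obtain ⟨b, hb, hb'⟩ := (Subgroup.mem_normalizer_iff.1 hn (glMap chevE6 f x)).1 ⟨x, x.2, rfl⟩
    exact ⟨⟨b, hb⟩, Subtype.ext hb'⟩
  have hpow : ∀ y, (gr hE6 symmE6 * fld chevE6 Φ : MulAut ↥(chevE6.group (KK r))) y = y →
      y ^ Nat.gcd 3 (q + 1) ∈ (em q f).range := by
    intro y hy
    have h1 : TwE6Basic.sg (Φ : KK r →+* KK r) (y : GL chevE6.Idx (KK r)) = y := by rw [← hsg, hy]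
    have h2 : iterateFrobenius (KK r) r m = (Φ : KK r →+* KK r) := by
      ext t
      rw [iterateFrobenius_def, ← hm, hφ]
    have h3 := H720.TwFr.coe_sig6 (k := KK r) r m y
    rw [h2, h1] at h3
    exact H720.TwFr.desc6 f r hk hm0 hm hK (Subtype.ext h3)
  have hspl : ∀ y, (gr hE6 symmE6 * fld chevE6 Φ : MulAut ↥(chevE6.group (KK r))) y = y →
      ∃ a t, t ∈ TT chevE6 (KK r) ∧ y = em q f a * t := by
    intro y hy
    have h1 : TwE6Basic.sg (Φ : KK r →+* KK r) (y : GL chevE6.Idx (KK r)) = y := by rw [← hsg, hy]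
    obtain ⟨g, hg, t, ht, e⟩ := EmbInst.twE6_split (f := f) hq hK hφ y.2 h1
    exact ⟨⟨g, hg⟩, ⟨t, diagonal_le_group hE6 _ ht⟩, ht, Subtype.ext e⟩
  refine ⟨{
    σ := _
    π := symmE6.σ₀.symm
    dd := Nat.gcd 3 (q + 1)
    norm := hnorm
    pow_dd := hpow
    g := _
    e := m
    ι := em q f
    he := hm0
    hq := hm.symm
    frob := hσ
    fr := Fσ
    fin := hfin
    inj := em_injective f
    fix := hfix
    idx := ?_
    act := ?_
    perm := fun v i => rfl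
    top := topE6
    gen := gen_of_words Nodes.RGDTwE6.hp f (fun _ => rfl) (wordsE6 q) }, rfl, g_eq_six, hspl⟩
  · intro y hy
    refine ⟨_, ?_, hpow y hy⟩
    rw [hm]
    exact cop_add hm0
  · intro s hs
    refine ⟨symmE6.σ ⟨s, hs⟩, ?_, actF_symm_fld symmE6 _ hγ (fun a => (hφ a)) ⟨s, hs⟩⟩
    funext i
    exact piE6 ⟨s, hs⟩ i

theorem isTri : IsTri (H720.TwFr.permE H720.TwFr.rho4) := by
  refine ⟨H720.TwFr.rho4, orderOf_eq_prime (by decide) (by decide), by decide +kernel, fun i => ?_⟩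
  funext j
  show sr i (H720.TwFr.rho4.symm j) = sr (H720.TwFr.rho4 i) j
  simp only [sr, Pi.single_apply, Equiv.symm_apply_eq]

/-- **The frames.** -/
theorem boxFrame : BoxFrame where
  g2 := by
    rintro L _ _ ⟨F, _, _, h3, ⟨e⟩⟩
    exact untw1 tG2 H129.TorusChar.invC_G2 (S1055.result (RowsUntw.exists_ne h3)) e
  f4 := by
    rintro L _ _ ⟨F, _, _, ⟨e⟩⟩
    exact untw1 tF4 H129.TorusChar.invC_F4 (S1054.result _ (by simp)) e
  e6 := by
    rintro L _ _ ⟨F, _, _, ⟨e⟩⟩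
    exact untw tE6 H129.TorusChar.invC_E6 (Or.inr (Or.inr rfl)) (S1054.result _ (by simp)) e
  te6 := by
    rintro L _ _ ⟨K, _, _, q, hq, hK, ⟨e⟩⟩
    obtain ⟨r, hr, _⟩ := RowsUntw.exists_char K
    have : Fact r.Prime := ⟨hr⟩
    obtain ⟨m, h1, h2, h3⟩ := mdata_six (r := r) hq hK
    have h5 : m.dd ∣ 3 := h1 ▸ Nat.gcd_dvd_left _ _
    refine ⟨r, inferInstance, m.dd, h5, frame_of m e (S1070.result hq hK) ?_ (Or.inr h3) ?_ ?_⟩
    · obtain ⟨w, hw⟩ := H900.Fra.negRho_E6 tE6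
      refine ⟨w, fun a => ?_⟩
      unfold wa
      rw [hw, h2, sg_apply, Units.val_neg, Units.val_one, neg_one_smul, map_neg, neg_neg]
    · rw [h1, ← m.hq]
      exact cop_add m.he
    · rcases (Nat.dvd_prime Nat.prime_three).1 h5 with h | h
      · exact Or.inl h
      · exact Or.inr (Or.inr h)
  e7 := by
    rintro L _ _ ⟨F, _, _, ⟨e⟩⟩
    exact untw tE7 H129.TorusChar.invC_E7 (Or.inr (Or.inl rfl)) (S1054.result _ (by simp)) e
  e8 := by
    rintro L _ _ ⟨F, _, _, ⟨e⟩⟩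
    exact untw1 tE8 H129.TorusChar.invC_E8 (S1054.result _ (by simp)) e
  td4 := by
    rintro L _ _ ⟨K, _, _, q, hq, hK, ⟨e⟩⟩
    obtain ⟨r, hr, _⟩ := RowsUntw.exists_char K
    have : Fact r.Prime := ⟨hr⟩
    obtain ⟨m, h1, h2⟩ := mdata_twD4' (r := r) hq hK
    refine ⟨r, inferInstance, _, isTri, ?_⟩
    have h3 := frame_of (g0 := H720.TwFr.permE H720.TwFr.rho4) m e (S1071.result hq hK) ⟨1, fun a => by
      unfold wa
      rw [h2, map_one]
      rfl⟩ (Or.inl h1) (by rw [h1]; exact Nat.coprime_one_left r) (Or.inl h1)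
    rwa [h1] at h3

end Cfsg.Agent.Cam.Ex.Frm
end

-- part: Cam/Ex/K
section
prune_inst 0x14201500440002000018000260003e42b60001900068880050610340068ebd6005256921d9801813482a8a4c0038006813540050422800000a000400011800a0808842023340a10466009f808004000000000000000000000000000000041000000000000
set_option linter.all false
open scoped Cfsg.Agent.FastGrp

/-!
# S3689, S3690, exceptional rows: `K3` and `K5` (helper53)
-/

set_option autoImplicit false
set_option linter.unusedVariables false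
set_option linter.unusedSectionVars false

namespace Cfsg.Agent.Cam.Ex

open CoxeterSystem Cfsg Cfsg.Lie Subgroup
open Cfsg.Agent.ChevalleyStructure.CoxeterGeom Cfsg.Agent.ChevalleyStructure.CoxeterGeomTypes
open Cfsg.Agent.Tits.Roots Cfsg.Agent.Nodes.BNOf Cfsg.Agent.Nodes.RGDChev Cfsg.Agent.Nodes.Coroot
open Cfsg.Agent.KFacts.RgdChevCoord Cfsg.Agent.BpExc.TorCent Cfsg.Agent.BpExc.LangFr Cfsg.Agent.BpExc.SubBN
open Cfsg.Agent.Cam.Spor Cfsg.Agent.Cam.Ex.S2
open Cfsg.Agent.DS.Nt (RP)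
open scoped commutatorElement

variable {D : ChevalleyDatum} {l : ℕ} {M : CoxeterMatrix (Fin l)} {hp : IsType D l M} {p : ℕ} [Fact p.Prime]

theorem map_perf {G H : Type*} [Group G] [Group H] (f : G →* H) {R : Subgroup G} (h : ⁅R, R⁆ = R) :
    ⁅R.map f, R.map f⁆ = R.map f := by
  rw [← map_commutator, h]

theorem psi_neg {K : Type} [AddCommGroup K] (φ : Lat l →+ K) : Psi hp (-φ) = Psi hp φ := by
  ext a
  exact and_congr_right fun _ => by rw [AddMonoidHom.neg_apply, neg_eq_zero]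

/-- the root groups of `PsiS Q` centralize `Q` -/
theorem MS_comm {Q : Set (YY D p)} (hQ : ∀ t ∈ Q, t ∈ TT D (kb p)) {m : YY D p} (hm : m ∈ MS D l p (PsiS hp Q))
    {t : YY D p} (ht : t ∈ Q) : m * t = t * m := DS.Nt.Mz_comm (hp := hp) hQ hm ht

/-- an element conjugating a torus element to a torus element -/
theorem form_one {s t n : YY D p} (hs : s ∈ TT D (kb p)) (ht : t ∈ TT D (kb p)) (h : n * s * n⁻¹ = t) :
    ∃ m ∈ MS D l p (PsiS hp {t}), ∃ w k, RP hp p w k ∧ k * s * k⁻¹ = t ∧ n = m * k := by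
  obtain ⟨m, hm, w, k, hk, e, rfl⟩ := DS.Nt.form₂ hp (ι := Unit) (s := fun _ => s) (t := fun _ => t) (c := n)
    (fun _ => hs) (fun _ => ht) (fun _ => by rw [← h]; group)
  rw [Set.range_const] at hm
  exact ⟨m, hm, w, k, hk, by rw [e ()]; group, rfl⟩

theorem ch_sq_of_cz {c : Lat l} (hc : Rt hp c) {n t : YY D p} (hn : Cz (sl p hc) n) (ht : t ∈ TT D (kb p))
    (h : n * t * n⁻¹ = t⁻¹) : ch hp c t⁻¹ = ch hp c t := by
  have h0 : ∀ s, n * xc hp c s = xc hp c s * n := fun s => by rw [← sl_up hc]; exact hn _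
  have h1 := ch_act hc ht 1
  have h2 := ch_act hc (inv_mem ht) 1
  rw [mul_one] at h1 h2
  refine xc_injective hc ?_
  rw [← h2, ← h]
  calc n * t * n⁻¹ * xc hp c 1 * (n * t * n⁻¹)⁻¹ = n * t * (n⁻¹ * (xc hp c 1 * n)) * t⁻¹ * n⁻¹ := by group
    _ = n * (t * xc hp c 1 * t⁻¹) * n⁻¹ := by rw [← h0]; group
    _ = _ := by rw [h1, h0, mul_inv_cancel_right]

variable {d : ℕ} {g0 : Lat l ≃+ Lat l} {L : Type} [Group L]

theorem cen_iff (E : Frame hp p d g0 L) {c : Lat l} (hc : Rt hp c) {R : Subgroup L} :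
    Cen E R {c, -c} ↔ ∀ r ∈ R.map E.ι, Cz (sl p hc) r := by
  constructor
  · rintro h _ ⟨x, hx, rfl⟩
    exact (cz_iff hc).2 fun a ha y hy => h a ha y hy x hx
  · intro h a ha y hy x hx
    exact (cz_iff hc).1 (h _ (mem_map_of_mem _ hx)) a ha y hy

/-- a perfect subgroup centralizing a toral element of prime order -/
theorem Frame.perf_le (E : Frame hp p d g0 L) {r : ℕ} (hr : r.Prime) {Q : Set (YY D p)}
    (hQ : ∀ t ∈ Q, t ∈ TT D (kb p) ∧ t ^ r = 1) {R : Subgroup L} (hR : ⁅R, R⁆ = R)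
    (hc : ∀ t ∈ Q, ∀ y ∈ R, t * E.ι y = E.ι y * t) : R.map E.ι ≤ MS D l p (PsiS hp Q) := by
  refine chi_perf hp hr (fun t ht => ⟨(hQ t ht).1, 1, by rw [pow_one, (hQ t ht).2]⟩) (map_perf _ hR) ?_
  rintro _ ⟨y, hy, rfl⟩
  exact mem_centralizer_iff.2 fun t ht => hc t ht y hy

/-- fixed points of order prime to `d` lie in `L` -/
theorem Frame.mem_range (E : Frame hp p d g0 L) {y : YY D p} (hy : E.F y = y) {m : ℕ} (hm : d.Coprime m)
    (h : y ^ m = 1) : y ∈ E.ι.range :=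
  DS.Nt.mem_of_pow_coprime (E.idx y hy) (by rw [h]; exact one_mem _) hm

theorem Frame.cop_of_five (E : Frame hp p d g0 L) {r : ℕ} (hr : r.Prime) (h5 : 5 ≤ r) : d.Coprime r := by
  rcases E.dle with h | h | h <;> rw [h]
  · exact Nat.coprime_one_left r
  · exact (Nat.coprime_primes Nat.prime_two hr).2 (by omega)
  · exact (Nat.coprime_primes Nat.prime_three hr).2 (by omega)

/-- a torus element whose character is an eigenvector is fixed -/
theorem Frame.fix_of_ch (E : Frame hp p d g0 L) {t : YY D p} (ht : t ∈ TT D (kb p))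
    (h : ∀ a, Rt hp a → ch hp (E.g a) t = ch hp a t ^ E.q) : E.F t = t := by
  refine chi_sep (hp := hp) ((E.fr.tor t).2 ht) ht fun a ha => ?_
  have h1 : Rt hp (E.g.symm a) := (E.fr.root _).1 (by rwa [AddEquiv.apply_symm_apply])
  have h2 := boxChi.frob D l M hp p d g0 L E t ht _ h1
  rw [← h _ h1, AddEquiv.apply_symm_apply] at h2
  exact h2

theorem Frame.fix_of_chi (E : Frame hp p d g0 L) {m : ℕ} [NeZero m] {ζ : kb p} (hζ : IsPrimitiveRoot ζ m)
    {t : YY D p} {φ : Lat l →+ ZMod m} (h : Chi hp ζ t φ) (hφ : ∀ a, φ (E.g a) = (E.q : ZMod m) * φ a) :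
    E.F t = t :=
  E.fix_of_ch h.1 fun a ha => by rw [h.2 _ ((E.fr.root a).2 ha), h.2 a ha, hφ, zeta_nsmul hζ]

theorem conj_of_neg {m : ℕ} [NeZero m] {ζ : kb p} (hζ : IsPrimitiveRoot ζ m) {t k : YY D p} {φ : Lat l →+ ZMod m}
    (h : Chi hp ζ t φ) {w : M.Group} (hk : RP hp p w k) (hw : Neg hp w φ) : k * t * k⁻¹ = t⁻¹ := by
  refine chi_sep (hp := hp) (hk.conj_mem h.1) (inv_mem h.1) fun a ha => ?_
  have h1 := ch_rp hk h.1 (ha.wa' w⁻¹)
  rw [wa_wa_inv] at h1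
  have h2 := hw (wa hp w⁻¹ a)
  rw [wa_wa_inv] at h2
  rw [h1, h.2 _ (ha.wa' w⁻¹), (h.inv hζ).2 a ha, AddMonoidHom.neg_apply, h2, neg_neg]

theorem neg_of_conj {m : ℕ} [NeZero m] {ζ : kb p} (hζ : IsPrimitiveRoot ζ m) {t k : YY D p} {φ : Lat l →+ ZMod m}
    (h : Chi hp ζ t φ) {w : M.Group} (hk : RP hp p w k) (e : k * t * k⁻¹ = t⁻¹) : Neg hp w φ := fun a => by
  have := Chi.of_conj hζ h (h.inv hζ) (w := w) (fun a ha => by rw [← e]; exact ch_rp hk h.1 ha) a
  rw [AddMonoidHom.neg_apply] at this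
  rw [← this, neg_neg]

theorem eq_zero_of_neg {r : ℕ} (hr : r.Prime) (h5 : 5 ≤ r) {x : ZMod r} (h : -x = x) : x = 0 := by
  have := Fact.mk hr
  have h2 : (2 : ZMod r) ≠ 0 := by
    intro h0
    have := (ZMod.natCast_eq_zero_iff 2 r).1 (by exact_mod_cast h0)
    have := Nat.le_of_dvd two_pos this
    omega
  have h3 : (2 : ZMod r) * x = 0 := by linear_combination -h
  exact (mul_eq_zero.1 h3).resolve_left h2

/-- `K3` for any toral element `x` of prime order: an element `n` that inverts `x` and centralizes a perfect group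
`R ≤ C(x)` acting non-trivially on the `A₁`-component `c` centralizes that component -/
theorem Frame.cz_of_inv (E : Frame hp p d g0 L) {r : ℕ} (hr : r.Prime) {ζ : kb p} (hζ : IsPrimitiveRoot ζ r)
    {x n : L} {X : Lat l →+ ZMod r} (hx : Chi hp ζ (E.ι x) X) {R : Subgroup L} (hR : ⁅R, R⁆ = R)
    (hxR : ∀ y ∈ R, x * y = y * x) (hnR : ∀ y ∈ R, n * y = y * n) (hn : n * x * n⁻¹ = x⁻¹) {c : Lat l}
    (hc : A1c hp (Psi hp X) c) (hw : ∀ w, Neg hp w X → wa hp w c = c ∨ wa hp w c = -c) (hcen : ¬ Cen E R {c, -c}) :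
    Cz (sl p hc.1.1) (E.ι n) := by
  have : NeZero r := ⟨hr.ne_zero⟩
  have hS := spl_psi (p := p) hc.1.1 hc
  have h1 : R.map E.ι ≤ MS D l p (Psi hp X) := by
    rw [← hx.psiS hζ]
    refine E.perf_le hr ?_ hR ?_
    · rintro _ rfl
      exact ⟨hx.1, hx.pow_eq_one hζ⟩
    · rintro _ rfl y hy
      rw [← map_mul, hxR y hy, map_mul]
  obtain ⟨m, hm, w, k, hk, e, e'⟩ := form_one (hp := hp) (n := E.ι n) hx.1 (inv_mem hx.1)
    (by rw [← map_inv, ← map_mul, ← map_mul, hn, map_inv])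
  rw [(hx.inv hζ).psiS hζ, psi_neg] at hm
  obtain ⟨j, hj⟩ := hS.inn _ hm
  obtain ⟨j', hj'⟩ := inn_rp hc.1.1 hk (hw w (neg_of_conj hζ hx hk e))
  refine (sl_ck hc.1.1).cz_of_perfect (map_perf _ hR) (fun y hy => hS.inn _ (h1 hy))
    (fun h => hcen ((cen_iff E hc.1.1).2 h)) (e' ▸ hj.mul hj') ?_
  rintro _ ⟨y, hy, rfl⟩
  rw [← map_mul, hnR y hy, map_mul]

variable [Finite L] {U : Type} [Group U] [Finite U] {τ α β : U →* L} {R R' : Subgroup L} {E : Frame hp p d g0 L}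
  {r : ℕ} {ζ : kb p} {u v : U} {A B : Lat l →+ ZMod r}

theorem Dat.k3 (bp : BoxP) (hl : l ≤ 7) (hB2 : D ≠ chevB2) (h : Dat E τ α β R R' r ζ u v A B) {c : Lat l}
    (hc : A1c hp (Psi hp (A + B)) c) (hw : ∀ w, Neg hp w (A + B) → wa hp w c = c ∨ wa hp w c = -c)
    (hq : 4 ≤ E.q ∨ (E.g c ≠ c ∧ E.g c ≠ -c)) : A c = 0 := by
  have : NeZero r := ⟨h.prime.ne_zero⟩
  have hcen := bp.a1 D l M hp hl hB2 p d g0 L E U τ α β R R' h.core r h.prime h.five h.ne u h.ord h.chiX.1 c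
    (by rwa [h.chiX.psiS h.prim]) hq
  have h1 := E.cz_of_inv h.prime h.prim h.chiX h.core.pair.perfect (h.core.pair.comm u) (h.core.pair.comm v)
    (by rw [← map_inv, ← map_mul, ← map_mul, h.inv, map_inv]) hc hw hcen
  have h2 := ch_sq_of_cz hc.1.1 h1 h.chiA.1
    (by rw [← map_inv, ← map_mul, ← map_mul, h.core.conj_alpha, h.inv, map_inv, map_inv])
  rw [(h.chiA.inv h.prim).2 c hc.1.1, h.chiA.2 c hc.1.1] at h2
  exact eq_zero_of_neg h.prime h.five (zeta_inj h.prim h2)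

/-- **`K5`**: the element with the character `2 Z` lies in `T` and is inverted by `v` -/
theorem k5_elt (hl : l ≤ 7) (pr : Pair τ R) (hr : r.Prime) (h5 : 5 ≤ r) (hζ : IsPrimitiveRoot ζ r)
    (hv : v * u * v⁻¹ = u⁻¹) {X : Lat l →+ ZMod r} (hx : Chi hp ζ (E.ι (τ u)) X) {Z : Lat l →+ ZMod r}
    (hZ : Psi hp X ⊆ Psi hp Z) (hg : ∀ a, Z (E.g a) = (E.q : ZMod r) * Z a) (hw : ∃ w, Neg hp w X ∧ Neg hp w Z) :
    ∃ u' : U, Chi hp ζ (E.ι (τ u')) (Z + Z) ∧ v * u' * v⁻¹ = u'⁻¹ := by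
  have : NeZero r := ⟨hr.ne_zero⟩
  obtain ⟨s, hs⟩ := chi_sur hp hζ Z
  obtain ⟨s₀, rfl⟩ := E.mem_range (E.fix_of_chi hζ hs hg) (E.cop_of_five hr h5) (hs.pow_eq_one hζ)
  have hxQ : ∀ t ∈ ({E.ι (τ u)} : Set (YY D p)), t ∈ TT D (kb p) ∧ t ^ r = 1 := by
    rintro _ rfl
    exact ⟨hx.1, hx.pow_eq_one hζ⟩
  have hM : ∀ m ∈ MS D l p (PsiS hp {E.ι (τ u)}), m * E.ι s₀ = E.ι s₀ * m := fun m hm => by
    refine MS_comm (hp := hp) (Q := {E.ι s₀}) (by rintro _ rfl; exact hs.1) ?_ rfl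
    rw [hx.psiS hζ] at hm
    rw [hs.psiS hζ]
    exact RGD.Sup_mono hZ hm
  have h1 : s₀ ∈ centralizer (R : Set L) := by
    refine mem_centralizer_iff.2 fun y hy => E.inj ?_
    rw [map_mul, map_mul]
    refine hM _ (E.perf_le hr hxQ pr.perfect ?_ (mem_map_of_mem _ hy))
    rintro _ rfl y hy
    rw [← map_mul, pr.comm u y hy, map_mul]
  obtain ⟨w, hw1, hw2⟩ := hw
  obtain ⟨k, hk⟩ := DS.Nt.exists_RP hp p w
  have e1 := conj_of_neg hζ hx hk hw1
  have e2 := conj_of_neg hζ hs hk hw2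
  have e3 : E.ι (τ v) * E.ι (τ u) * (E.ι (τ v))⁻¹ = (E.ι (τ u))⁻¹ := by
    rw [← map_inv, ← map_inv, ← map_mul, ← map_mul, ← map_mul, ← map_mul, hv, map_inv, map_inv]
  obtain ⟨m, hm, t, ht, e4⟩ := mem_MT_of_comm hp hl hr h5 (Set.finite_singleton (E.ι (τ u)))
    (fun t ht => ⟨(hxQ t ht).1, 1, by rw [pow_one, (hxQ t ht).2]⟩) (c := (E.ι (τ v))⁻¹ * k) (by
      rintro _ rfl
      calc (E.ι (τ v))⁻¹ * k * E.ι (τ u) = (E.ι (τ v))⁻¹ * (k * E.ι (τ u) * k⁻¹) * k := by group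
        _ = _ := by rw [e1, ← e3]; group)
  have e5 : E.ι (τ v) * E.ι s₀ * (E.ι (τ v))⁻¹ = (E.ι s₀)⁻¹ := by
    have e6 : k = E.ι (τ v) * (m * t) := by rw [← e4]; group
    rw [← e2, e6]
    calc E.ι (τ v) * E.ι s₀ * (E.ι (τ v))⁻¹ = E.ι (τ v) * (E.ι s₀ * m * t * (m * t)⁻¹) * (E.ι (τ v))⁻¹ := by group
      _ = _ := by rw [← hM m hm, mul_assoc m, T_comm hp hs.1 ht]; group
  have e7 : τ v * s₀ * (τ v)⁻¹ = s₀⁻¹ := E.inj (by rw [map_mul, map_mul, map_inv, map_inv, e5])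
  obtain ⟨u₁, hu₁⟩ := conj_mem_of_norm (pr.cnorm h1) (⟨v, rfl⟩ : τ v ∈ τ.range)
  have e8 : τ (u₁ * v⁻¹) = s₀ * s₀ := by
    rw [map_mul, map_inv, hu₁]
    calc s₀ * τ v * s₀⁻¹ * (τ v)⁻¹ = s₀ * (τ v * s₀ * (τ v)⁻¹)⁻¹ := by group
      _ = _ := by rw [e7, inv_inv]
  refine ⟨u₁ * v⁻¹, by rw [e8, map_mul]; exact hs.mul hζ hs, pr.inj ?_⟩
  rw [map_mul, map_mul, map_inv, map_inv, e8]
  calc τ v * (s₀ * s₀) * (τ v)⁻¹ = (τ v * s₀ * (τ v)⁻¹) * (τ v * s₀ * (τ v)⁻¹) := by group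
    _ = _ := by rw [e7]; group

theorem psi_two (hr : r.Prime) (h5 : 5 ≤ r) (Z : Lat l →+ ZMod r) : Psi hp (Z + Z) = Psi hp Z := by
  ext a
  refine and_congr_right fun _ => ⟨fun h => ?_, fun h => by rw [AddMonoidHom.add_apply, h, add_zero]⟩
  exact eq_zero_of_neg hr h5 (neg_eq_of_add_eq_zero_left h)

theorem Dat.k5 (hl : l ≤ 7) (h : Dat E τ α β R R' r ζ u v A B) {Z : Lat l →+ ZMod r} (hZ0 : Z ≠ 0)
    (hZ : Psi hp (A + B) ⊆ Psi hp Z) (hg : ∀ a, Z (E.g a) = (E.q : ZMod r) * Z a)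
    (hw : ∃ w, Neg hp w (A + B) ∧ Neg hp w Z) : (Psi hp Z).ncard ≤ (Psi hp (A + B)).ncard := by
  have : NeZero r := ⟨h.prime.ne_zero⟩
  have := Fact.mk h.prime
  obtain ⟨u', h1, h2⟩ := k5_elt hl h.core.pair h.prime h.five h.prim h.inv h.chiX hZ hg hw
  have h3 : orderOf u' = r := by
    refine orderOf_eq_prime (h.core.pair.inj (E.inj ?_)) ?_
    · rw [map_pow, map_pow, h1.pow_eq_one h.prim, map_one, map_one]
    · rintro rfl
      rw [map_one, map_one] at h1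
      have h4 := h1.unique h.prim (chi_one h.prim)
      refine hZ0 (AddMonoidHom.ext fun a => ?_)
      exact eq_zero_of_neg h.prime h.five (neg_eq_of_add_eq_zero_left (DFunLike.congr_fun h4 a))
  have h5 := h.ext 1 u' v h3 h2 1
  rw [inv_one, one_mul, mul_one, MulAut.one_apply] at h5
  have h6 := h5 h1.1
  rwa [h1.psiS h.prim, psi_two h.prime h.five] at h6

/-- **`BoxK`.** -/
theorem boxK (bp : BoxP) : BoxK where
  k3 D l M hp hl hB2 p _ d g0 L _ _ E U _ _ τ α β R R' r ζ u v A B h c hc hw hq := h.k3 bp hl hB2 hc hw hq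
  k5 D l M hp hl hB2 p _ d g0 L _ _ E U _ _ τ α β R R' r ζ u v A B h Z hZ0 hZ hg hw := h.k5 hl hZ0 hZ hg hw

end Cfsg.Agent.Cam.Ex
end

-- part: Cam/Ex/RE
section
prune_inst 0x24207000400002000018000260001a2284000092004b800170610b40024afc60a5216e2109001813483a88082000002002100010003800000000040000000020808a42023340a10466009f803006000000000000000000000000000000041000000000000
set_option linter.all false
open scoped Cfsg.Agent.FastGrp

/-!
# Exceptional rows: pairs of root groups in a simply laced group (helper33)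

`boxRE : BoxRE`.  A dominant root `θ` is centralized by the positive unipotent group; the Bruhat decomposition moves
a pair of conjugate root groups to a pair of root groups.
-/

set_option autoImplicit false
set_option linter.unusedVariables false
set_option linter.unusedSectionVars false

namespace Cfsg.Agent.Cam.Ex.RE

open CoxeterSystem Cfsg Cfsg.Lie Subgroup
open Cfsg.Agent.ChevalleyStructure.CoxeterGeom Cfsg.Agent.ChevalleyStructure.CoxeterGeomTypes
open Cfsg.Agent.Tits.Roots Cfsg.Agent.Nodes.BNOf Cfsg.Agent.Nodes.RGDChev Cfsg.Agent.Nodes.Coroot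
open Cfsg.Agent.KFacts.RgdChevCoord Cfsg.Agent.BpExc.TorCent Cfsg.Agent.BpExc.LangFr Cfsg.Agent.BpExc.SubBN
open Cfsg.Agent.Nodes.SimplyLaced
open Cfsg.Agent.DS.Nt (RP)
open scoped commutatorElement

variable {D : ChevalleyDatum} {l : ℕ} {M : CoxeterMatrix (Fin l)} {hp : IsType D l M} {p : ℕ} [Fact p.Prime]

section comb

/-- every vector is conjugate to a dominant one -/
theorem exists_dom (hp : IsType D l M) (v : Lat l) : ∃ w, ∀ b, Rt hp b → 0 ≤ b → 0 ≤ cp hp (wa hp w v) b := by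
  have := finite_WW hp
  obtain ⟨w, hw⟩ := Finite.exists_max fun w : M.Group => ht (wa hp w v)
  refine ⟨w, fun b hb h0 => ?_⟩
  have h1 := RGD.ht_pos hb h0
  obtain ⟨u, j, rfl⟩ := hb
  have h2 := hw (Nodes.SubComb.rfl' M.toCoxeterSystem u j * w)
  rw [wa_mul] at h2
  unfold wa at h2
  rw [rep_rfl'_eq, sub_eq_add_neg, ← neg_smul, RGD.ht_add, RGD.ht_smul] at h2
  exact nonneg_of_mul_nonneg_left (by linarith) h1

variable (h4 : ∀ i j, M i j ≠ 4) (h6 : ∀ i j, M i j ≠ 6)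
include h4 h6

theorem cp_cases {x y : Lat l} (hx : Rt hp x) (hy : Rt hp y) :
    x = y ∨ x = -y ∨ cp hp x y = -1 ∨ cp hp x y = 0 ∨ cp hp x y = 1 := by
  have := finite_WW hp
  by_cases h1 : x = y
  · exact Or.inl h1
  by_cases h2 : x = -y
  · exact Or.inr (Or.inl h2)
  have h3 : |cp hp x y| ≤ 1 := abs_cpr_le_one _ _ h4 h6 hx hy h1 h2
  rw [abs_le] at h3
  omega

theorem cp_symm {x y : Lat l} (hx : Rt hp x) (hy : Rt hp y) : cp hp x y = cp hp y x := by
  have := finite_WW hp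
  exact cpr_symm _ _ h4 h6 hx hy

theorem not_btwn {x y z : Lat l} (hx : Rt hp x) (hy : Rt hp y) (h1 : x ≠ y) (h2 : x ≠ -y) (h0 : 0 ≤ cp hp x y) :
    ¬ Nodes.Reps.Btwn M.toCoxeterSystem hp.isCartan x y z := by
  rintro ⟨hz, m, a, b, hm, ha, hb, e⟩
  have key : ∀ {c}, Rt hp c → m * cp hp z c = a * cp hp x c + b * cp hp y c := fun {c} hc => by
    rw [← cp_smul m z hc, e, cp_add _ _ hc, cp_smul _ _ hc, cp_smul _ _ hc]
  have e1 := key hz
  have e2 := key hx
  have e3 := key hy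
  rw [cp_self hz, cp_symm h4 h6 hx hz, cp_symm h4 h6 hy hz] at e1
  rw [cp_self hx, cp_symm h4 h6 hy hx] at e2
  rw [cp_self hy] at e3
  have hn : cp hp x y = 0 ∨ cp hp x y = 1 := by
    rcases cp_cases h4 h6 hx hy with h | h | h
    exacts [absurd h h1, absurd h h2, by omega]
  rcases cp_cases h4 h6 hz hx with rfl | rfl | hs
  · rw [cp_self hz] at e2
    rcases hn with h | h <;> rw [h] at e2 e3 <;> omega
  · rw [cp_neg _ hx, cp_self hx] at e2
    rcases hn with h | h <;> rw [h] at e2 <;> omega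
  rcases cp_cases h4 h6 hz hy with rfl | rfl | ht
  · rw [cp_self hz] at e3
    rw [cp_symm h4 h6 hz hx] at e2
    rcases hn with h | h <;> rw [h] at e2 e3 <;> omega
  · rw [cp_neg _ hy, cp_self hy] at e3
    rcases hn with h | h <;> rw [h] at e3 <;> omega
  rcases hn with h | h <;> rcases hs with h' | h' | h' <;> rcases ht with h'' | h'' | h'' <;>
    rw [h', h''] at e1 <;> rw [h, h'] at e2 <;> rw [h, h''] at e3 <;> omega

/-- two roots which are not opposite can be made positive -/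
theorem exists_pos {x y : Lat l} (hx : Rt hp x) (hy : Rt hp y) (h : x ≠ -y) :
    ∃ w, 0 ≤ wa hp w x ∧ 0 ≤ wa hp w y := by
  obtain ⟨w, hw⟩ := exists_dom hp (x + y)
  have key : ∀ {a b}, Rt hp a → Rt hp b → a ≠ -b → x + y = a + b → 0 ≤ wa hp w a := by
    intro a b ha hb h1 h2
    refine (ha.wa' w).pos_or_neg.resolve_right fun h3 => ?_
    have h5 := hw _ (ha.wa' w).neg (neg_nonneg.2 h3)
    rw [cp_neg_right _ (ha.wa' w), cp_wa w _ ha, h2, cp_add _ _ ha, cp_self ha] at h5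
    rcases cp_cases h4 h6 hb ha with rfl | rfl | h7
    · rw [cp_self ha] at h5
      omega
    · exact h1 (neg_neg a).symm
    · omega
  exact ⟨w, key hx hy h rfl, key hy hx (fun e => h (by rw [e, neg_neg])) (add_comm x y)⟩

end comb

section grp

/-- the positive unipotent group -/
noncomputable abbrev UU (hp : IsType D l M) (p : ℕ) [Fact p.Prime] : Subgroup (YY D p) :=
  MS D l p (RGD.Pos M.toCoxeterSystem hp.isCartan)

theorem exists_lev2 (hp : IsType D l M) {a b : Lat l} {x y : YY D p} (hx : x ∈ XR D l p a) (hy : y ∈ XR D l p b) :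
    ∃ j, x ∈ BpExc.TowChev.Xj hp j a ∧ y ∈ BpExc.TowChev.Xj hp j b := by
  have H := DS.Nt.tw hp p
  unfold XR at hx hy
  rw [← DS.Nt.XLe hp p] at hx hy
  obtain ⟨i, hi⟩ := H.mem_XL.1 hx
  obtain ⟨j, hj⟩ := H.mem_XL.1 hy
  obtain ⟨k, h1, h2⟩ := H.dir i j
  exact ⟨k, H.monoX a h1 hi, H.monoX b h2 hj⟩

theorem eq_one_of_mem {a b : Lat l} (ha : Rt hp a) (hb : Rt hp b) (h : a ≠ b) {x : YY D p} (hx : x ∈ XR D l p a)
    (hx' : x ∈ XR D l p b) : x = 1 := by
  have := finite_WW hp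
  obtain ⟨j, h1, h2⟩ := exists_lev2 hp hx hx'
  rw [← mem_bot, ← Nodes.OppDec.X_inf_X ((DS.Nt.tw hp p).rgd j) ha hb h]
  exact ⟨h1, h2⟩

theorem pgrp_UU (hp : IsType D l M) : IsPGroup p (UU hp p) := by
  have := finite_WW hp
  have H := DS.Nt.tw hp p
  rintro ⟨g, hg⟩
  have h1 := hg
  unfold UU MS at h1
  rw [← DS.Nt.XLe hp p] at h1
  obtain ⟨j, hj⟩ := H.mem_Sup.1 h1
  obtain ⟨k, hk⟩ := (H.rgd j).isPGroup_Upos ⟨g, hj⟩
  have h2 : g ^ p ^ k = 1 := congrArg Subtype.val hk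
  exact ⟨k, Subtype.ext h2⟩

theorem bruhat (hp : IsType D l M) (y : YY D p) :
    ∃ w, ∃ u ∈ UU hp p, ∃ k, RP hp p w k ∧ ∃ v ∈ UU hp p, y = u * k * v := by
  have := finite_WW hp
  obtain ⟨w, u, hu, k, hk, v, hv, e⟩ := (DS.Nt.tw hp p).exists_normal_form (g := y)
    (by rw [DS.Nt.GGW hp p]; exact mem_top y)
  rw [DS.Nt.XLe hp p] at hu hv
  exact ⟨w, u, hu, k, hk, v, RGD.Sup_mono (S' := RGD.Pos _ _) (fun x hx => ⟨hx.1, hx.2.1⟩) hv, e⟩

theorem rp_mem {w : M.Group} {k : YY D p} (h : RP hp p w k) {a : Lat l} (ha : Rt hp a) {x : YY D p}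
    (hx : x ∈ XR D l p a) : k * x * k⁻¹ ∈ XR D l p (wa hp w a) := by
  obtain ⟨s, rfl⟩ := (mem_XR ha).1 hx
  obtain ⟨μ, -, e⟩ := rp_xc h ha
  rw [e]
  exact xc_mem_XR (ha.wa' w) _

variable (h4 : ∀ i j, M i j ≠ 4) (h6 : ∀ i j, M i j ≠ 6)
include h4 h6

theorem comm_X {a b : Lat l} (ha : Rt hp a) (hb : Rt hp b) (h0 : 0 ≤ cp hp a b) {x y : YY D p}
    (hx : x ∈ XR D l p a) (hy : y ∈ XR D l p b) : x * y = y * x := by
  by_cases h1 : a = b
  · subst h1
    obtain ⟨s, rfl⟩ := (mem_XR ha).1 hx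
    obtain ⟨t, rfl⟩ := (mem_XR ha).1 hy
    rw [← xc_add ha, ← xc_add ha, add_comm]
  have h2 : a ≠ -b := by
    rintro rfl
    rw [cp_neg _ hb, cp_self hb] at h0
    omega
  obtain ⟨j, h3, h5⟩ := exists_lev2 hp hx hy
  have h7 := ((DS.Nt.tw hp p).rgd j).comm a b ha hb h1 h2 x h3 y h5
  have h8 : Nodes.Reps.btw M.toCoxeterSystem hp.isCartan (BpExc.TowChev.Xj hp j) a b ≤ ⊥ :=
    iSup_le fun z => absurd z.2 (not_btwn h4 h6 ha hb h1 h2 h0)
  exact commutatorElement_eq_one_iff_mul_comm.1 (mem_bot.1 (h8 h7))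

/-- the root group of a dominant root is centralized by `U` -/
theorem comm_UU {θ : Lat l} (hθ : Rt hp θ) (hd : ∀ b, Rt hp b → 0 ≤ b → 0 ≤ cp hp θ b) {x u : YY D p}
    (hx : x ∈ XR D l p θ) (hu : u ∈ UU hp p) : u * x = x * u := by
  have h1 : UU hp p ≤ centralizer {x} := RGD.Sup_le fun b hb y hy =>
    mem_centralizer_singleton_iff.2 (comm_X h4 h6 hθ hb.1 (hd b hb.1 hb.2) hx hy).symm
  exact mem_centralizer_singleton_iff.1 (h1 hu)

/-- a pair of conjugate root groups is conjugate to a pair of root groups -/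
theorem exists_pair {a : Lat l} (ha : Rt hp a) (y : YY D p) : ∃ (w0 w : M.Group) (k0 k z : YY D p),
    RP hp p w0 k0 ∧ RP hp p w k ∧ ∀ x ∈ XR D l p a, z * x * z⁻¹ = k0 * x * k0⁻¹ ∧
      z * (y * x * y⁻¹) * z⁻¹ = k * (k0 * x * k0⁻¹) * k⁻¹ := by
  obtain ⟨w0, hd⟩ := exists_dom hp a
  obtain ⟨k0, hk0⟩ := DS.Nt.exists_RP hp p w0
  obtain ⟨w, u, hu, k, hk, v, hv, e⟩ := bruhat hp (k0 * y * k0⁻¹)
  refine ⟨w0, w, k0, k, u⁻¹ * k0, hk0, hk, fun x hx => ?_⟩
  have h1 := comm_UU h4 h6 (ha.wa' w0) hd (rp_mem hk0 ha hx) hu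
  have h2 := comm_UU h4 h6 (ha.wa' w0) hd (rp_mem hk0 ha hx) hv
  constructor
  · calc u⁻¹ * k0 * x * (u⁻¹ * k0)⁻¹ = u⁻¹ * (k0 * x * k0⁻¹ * u) := by group
      _ = _ := by rw [← h1, inv_mul_cancel_left]
  · calc u⁻¹ * k0 * (y * x * y⁻¹) * (u⁻¹ * k0)⁻¹
        = u⁻¹ * (k0 * y * k0⁻¹) * (k0 * x * k0⁻¹) * (k0 * y * k0⁻¹)⁻¹ * u := by group
      _ = k * (v * (k0 * x * k0⁻¹)) * v⁻¹ * k⁻¹ := by rw [e]; group
      _ = _ := by rw [h2]; group

theorem pair {a : Lat l} (ha : Rt hp a) (y : YY D p) :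
    IsPGroup p ↥(XR D l p a ⊔ (XR D l p a).map (MulAut.conj y).toMonoidHom) ∨
    ∃ (z : YY D p) (b : Lat l), Rt hp b ∧ (∀ x ∈ XR D l p a, z * x * z⁻¹ ∈ XR D l p b) ∧
      ∀ x ∈ XR D l p a, z * (y * x * y⁻¹) * z⁻¹ ∈ XR D l p (-b) := by
  obtain ⟨w0, w, k0, k, z, hk0, hk, h⟩ := exists_pair h4 h6 ha y
  have hθ := ha.wa' w0
  have h1 : ∀ x ∈ XR D l p a, z * x * z⁻¹ ∈ XR D l p (wa hp w0 a) := fun x hx => by
    rw [(h x hx).1]
    exact rp_mem hk0 ha hx
  have h2 : ∀ x ∈ XR D l p a, z * (y * x * y⁻¹) * z⁻¹ ∈ XR D l p (wa hp w (wa hp w0 a)) := fun x hx => by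
    rw [(h x hx).2]
    exact rp_mem hk hθ (rp_mem hk0 ha hx)
  by_cases hw : wa hp w (wa hp w0 a) = -wa hp w0 a
  · exact Or.inr ⟨z, _, hθ, h1, hw ▸ h2⟩
  left
  obtain ⟨w1, h3, h5⟩ := exists_pos h4 h6 (hθ.wa' w) hθ hw
  obtain ⟨k1, hk1⟩ := DS.Nt.exists_RP hp p w1
  refine ((pgrp_UU hp).comap_of_injective (MulAut.conj (k1 * z)).toMonoidHom (MulAut.conj (k1 * z)).injective).to_le
    (sup_le (fun x hx => ?_) ?_)
  · show k1 * z * x * (k1 * z)⁻¹ ∈ UU hp p
    rw [show k1 * z * x * (k1 * z)⁻¹ = k1 * (z * x * z⁻¹) * k1⁻¹ by group]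
    exact RGD.le_Sup (S := RGD.Pos _ _) ⟨hθ.wa' w1, h5⟩ (rp_mem hk1 hθ (h1 x hx))
  · rintro _ ⟨x, hx, rfl⟩
    show k1 * z * (y * x * y⁻¹) * (k1 * z)⁻¹ ∈ UU hp p
    rw [show k1 * z * (y * x * y⁻¹) * (k1 * z)⁻¹ = k1 * (z * (y * x * y⁻¹) * z⁻¹) * k1⁻¹ by group]
    exact RGD.le_Sup (S := RGD.Pos _ _) ⟨(hθ.wa' w).wa' w1, h3⟩ (rp_mem hk1 (hθ.wa' w) (h2 x hx))

theorem cent {a : Lat l} (ha : Rt hp a) {u : YY D p} (hu : u ∈ XR D l p a) (hu1 : u ≠ 1) {y : YY D p}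
    (hy : y * u = u * y) {x : YY D p} (hx : x ∈ XR D l p a) : y * x = x * y := by
  obtain ⟨w0, w, k0, k, z, hk0, hk, h⟩ := exists_pair h4 h6 ha y
  have hθ := ha.wa' w0
  have h1 : k * (k0 * u * k0⁻¹) * k⁻¹ = k0 * u * k0⁻¹ := by
    rw [← (h u hu).2, hy, mul_inv_cancel_right, (h u hu).1]
  have h2 : k0 * u * k0⁻¹ ≠ 1 := fun e => hu1 (by
    calc u = k0⁻¹ * (k0 * u * k0⁻¹) * k0 := by group
      _ = 1 := by rw [e]; group)
  have h3 : wa hp w (wa hp w0 a) = wa hp w0 a := by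
    by_contra h3
    exact h2 (eq_one_of_mem (hθ.wa' w) hθ h3 (h1 ▸ rp_mem hk hθ (rp_mem hk0 ha hu)) (rp_mem hk0 ha hu))
  obtain ⟨μ, -, e⟩ := rp_xc hk hθ
  obtain ⟨s, hs⟩ := (mem_XR hθ).1 (rp_mem hk0 ha hu)
  obtain ⟨t, ht⟩ := (mem_XR hθ).1 (rp_mem hk0 ha hx)
  have hs0 : s ≠ 0 := by
    rintro rfl
    exact h2 (by rw [← hs, xc_zero hθ])
  rw [← hs, e, h3] at h1
  have h5 : μ = 1 := mul_right_cancel₀ hs0 ((xc_injective hθ h1).trans (one_mul s).symm)
  have h7 : z * (y * x * y⁻¹) * z⁻¹ = z * x * z⁻¹ := by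
    rw [(h x hx).2, (h x hx).1, ← ht, e, h3, h5, one_mul]
  exact mul_inv_eq_iff_eq_mul.1 (mul_left_cancel (mul_right_cancel h7))

end grp

set_option backward.isDefEq.respectTransparency false in
theorem e7_ne4 : ∀ i j, CoxeterMatrix.E₇ i j ≠ 4 := by decide +kernel

set_option backward.isDefEq.respectTransparency false in
theorem e7_ne6 : ∀ i j, CoxeterMatrix.E₇ i j ≠ 6 := by decide +kernel

theorem perp_tab : ∀ i : Fin 7, ∀ r < chevE7.nroots, vec chevE7 7 r = sr i ∨ vec chevE7 7 r = -sr i ∨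
    ∃ s < chevE7.nroots, pairing (cartanOf chevE7 7) i (vec chevE7 7 s) = 0 ∧
      ∑ k, vec chevE7 7 s k * pairing (cartanOf chevE7 7) k (vec chevE7 7 r) ≠ 0 := by (delta Cfsg.Agent.ChevalleyStructure.CoxeterGeomTypes.cartanOf; rewrite [Cfsg.Agent.ChevFast.E7.cartan]; open scoped Cfsg.Agent.ChevFast.Lin in decide +kernel)

theorem perp {c : Lat 7} (hc : Rt tE7 c) {b : Lat 7} (hb : Rt tE7 b)
    (h : ∀ a, Rt tE7 a → cp tE7 a c = 0 → cp tE7 a b = 0) : b = c ∨ b = -c := by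
  have := finite_WW tE7
  obtain ⟨w, i, rfl⟩ := hc
  obtain ⟨r, hr, e⟩ := (isRoot_iff tE7 _ _).1 (hb.wa' w⁻¹)
  have e' : b = wa tE7 w (vec chevE7 7 r) := by rw [e, wa_wa_inv]
  rcases perp_tab i r hr with h1 | h1 | ⟨s, hs, h1, h2⟩
  · exact Or.inl (by rw [e', h1])
  · exact Or.inr (by rw [e', h1, wa_neg])
  · have hs' : Rt tE7 (vec chevE7 7 s) := (isRoot_iff tE7 _ _).2 ⟨s, hs, rfl⟩
    have hr' : Rt tE7 (vec chevE7 7 r) := (isRoot_iff tE7 _ _).2 ⟨r, hr, rfl⟩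
    have h3 := h _ (hs'.wa' w) ((cp_wa w _ (rt_sr tE7 i)).trans ((cpr_sr _ _ _ i).trans h1))
    rw [e', cp_wa w _ hr'] at h3
    exact absurd ((cpr_eq_sum _ _ e7_ne4 e7_ne6 _ hr').symm.trans h3) h2

/-- **`BoxRE`.** -/
theorem boxRE : BoxRE where
  pair a ha y := pair e7_ne4 e7_ne6 ha y
  cent a ha u hu hu1 y hy x hx := cent e7_ne4 e7_ne6 ha hu hu1 hy hx
  perp c hc b hb h := perp hc hb h

end Cfsg.Agent.Cam.Ex.RE
end

-- part: Cam/Odd/Iface
section
set_option linter.all false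
open scoped Cfsg.Agent.FastGrp

/-!
# S3689, exceptional rows, the small cases in odd characteristic: interface (helper81)

The mathematics is in `notes/Cam/exc81.md`.  `dd p y` is the dimension of the fixed space of `y` on the adjoint module
(`DS.Nt`), `ev ρ g 1` the same for an abstract representation `ρ` of `U × U` (`(u, 1)`, `(1, u)`, `(u, u)` stand for
`α u`, `β u`, `τ u`).
-/

set_option autoImplicit false
set_option linter.unusedVariables false

namespace Cfsg.Agent.Cam.Odd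

open CoxeterSystem Cfsg Cfsg.Lie Subgroup Module
open Cfsg.Agent.Tits.Roots Cfsg.Agent.Nodes.BNOf Cfsg.Agent.Nodes.RGDChev Cfsg.Agent.KFacts.RgdChevCoord
open Cfsg.Agent.ChevalleyStructure.CoxeterGeom Cfsg.Agent.ChevalleyStructure.CoxeterGeomTypes
open Cfsg.Agent.Cam.Spor Cfsg.Agent.Cam.Ex Cfsg.Agent.Cam.Ex.S2
open Cfsg.Agent.DS.NT (ev)
open Cfsg.Agent.DS.Nt (dd ad Fx Tp)

/-- a four-group with an element of order three permuting its involutions -/
structure Tet {U : Type} [Group U] (x₁ x₂ t : U) : Prop where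
  o1 : orderOf x₁ = 2
  ne : x₁ ≠ x₂
  comm : x₁ * x₂ = x₂ * x₁
  c1 : t * x₁ * t⁻¹ = x₂
  c2 : t * x₂ * t⁻¹ = x₁ * x₂
  o3 : orderOf t = 3

/-- the fixed space of a set -/
def fx {K V G : Type} [Field K] [AddCommGroup V] [Module K V] [Group G] (ρ : G →* Module.End K V) (S : Set G) :
    Submodule K V where
  carrier := {v | ∀ g ∈ S, ρ g v = v}
  zero_mem' := fun g _ => map_zero _
  add_mem' := fun {v w} hv hw g hg => by rw [map_add, hv g hg, hw g hg]
  smul_mem' := fun c v hv g hg => by rw [map_smul, hv g hg]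

theorem mem_fx {K V G : Type} [Field K] [AddCommGroup V] [Module K V] [Group G] {ρ : G →* Module.End K V} {S : Set G}
    {v : V} : v ∈ fx ρ S ↔ ∀ g ∈ S, ρ g v = v := Iff.rfl

/-- the rank of `(f - 1) ^ 2` -/
noncomputable def rk2 {K V : Type} [Field K] [AddCommGroup V] [Module K V] (f : Module.End K V) : ℕ :=
  finrank K (LinearMap.range ((f - 1) ^ 2))

/-- [helper65] the core of `P8` -/
def BoxOne : Prop := ∀ (D : ChevalleyDatum) (l : ℕ) (M : CoxeterMatrix (Fin l)) (hp : IsType D l M), l ≤ 7 → D ≠ chevB2 →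
  ∀ (p : ℕ) [Fact p.Prime] (d : ℕ) (g0 : Lat l ≃+ Lat l) (L : Type) [Group L] [Finite L] (E : Frame hp p d g0 L)
    (U : Type) [Group U] [Finite U] (τ α β : U →* L) (R R' : Subgroup L), Core τ α β R R' → p ≠ 2 → 5 ≤ E.q →
    ∀ c, Rt hp c → (E.g c = c ∨ E.g c = -c) → ¬ Cen E R {c, -c}

/-- [Grp] finite simple groups -/
structure BoxGrp : Prop where
  /-- an involution -/
  two : ∀ (U : Type) [Group U] [Finite U], IsSimpleGroup U → ¬ IsMulCommutative U → ∃ u : U, orderOf u = 2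
  /-- `Z*` -/
  zs : ∀ (U : Type) [Group U] [Finite U], IsSimpleGroup U → ¬ IsMulCommutative U → ∀ u : U, orderOf u = 2 →
    ∃ g : U, g * u * g⁻¹ ≠ u ∧ u * (g * u * g⁻¹) = (g * u * g⁻¹) * u
  /-- the number of involutions is odd -/
  par : ∀ (U : Type) [Group U] [Finite U] (ψ : U →* U), Function.Injective ψ → (∃ u : U, orderOf u = 2) →
    ∀ (f : U → ℕ) (a b : ℕ), (∀ u, orderOf u = 2 → f u = a ∨ f u = b) → ∃ u, orderOf u = 2 ∧ f (ψ u) = f u
  /-- simple subgroups of `PGL₂(k)` -/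
  pgl : ∀ (p : ℕ) [Fact p.Prime], p ≠ 2 → ∀ (U : Type) [Group U] [Finite U], IsSimpleGroup U → ¬ IsMulCommutative U →
    ∀ (Y : Type) [Group Y] (ψ : SL (kb p) →* Y) (a : U →* Y), CK ψ → (∀ u, ∃ j, IA ψ (a u) j) → (∃ u, ¬ Cz ψ (a u)) →
    (∀ u v : U, orderOf u = 2 → orderOf v = 2 → IsConj u v) ∧
    (5 ≤ p → p ∣ Nat.card U → ∃ (u v : U) (k : ℕ), orderOf u = p ∧ v * u * v⁻¹ = u ^ k ∧ (k : ZMod p) ≠ 1) ∧
    ∃ x₁ x₂ t : U, Tet x₁ x₂ t ∧
      (p ≠ 3 → (∃ y : U, orderOf y = 2 ∧ y * t * y⁻¹ = t⁻¹) ∧ ∀ s : U, orderOf s = 3 → IsConj s t)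

/-- [Lin] linear algebra -/
structure BoxLin : Prop where
  /-- a group of order `16` -/
  sixteen : ∀ (K V U : Type) [Field K] [IsAlgClosed K] [AddCommGroup V] [Module K V] [FiniteDimensional K V] [Group U]
    (ρ : U × U →* Module.End K V), (2 : K) ≠ 0 → finrank K V = 133 → ∀ x₁ x₂ : U, orderOf x₁ = 2 → orderOf x₂ = 2 →
    x₁ ≠ x₂ → x₁ * x₂ = x₂ * x₁ →
    (∀ a ∈ ({x₁, x₂, x₁ * x₂} : Set U), (ev ρ (a, 1) 1 = 63 ∨ ev ρ (a, 1) 1 = 79) ∧
      (ev ρ (1, a) 1 = 63 ∨ ev ρ (1, a) 1 = 79) ∧ ∀ b ∈ ({x₁, x₂, x₁ * x₂} : Set U), ev ρ (a, b) 1 = 69) → False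
  /-- the groups `A₄ × A₄`, `A₄ × S₃`, `S₃ × S₃` -/
  num : ∀ (K V U : Type) [Field K] [IsAlgClosed K] [AddCommGroup V] [Module K V] [FiniteDimensional K V] [Group U]
    (ρ : U × U →* Module.End K V), (2 : K) ≠ 0 → (3 : K) ≠ 0 → finrank K V = 133 → ∀ x₁ x₂ t y : U, Tet x₁ x₂ t →
    orderOf y = 2 → y * t * y⁻¹ = t⁻¹ → IsConj y x₁ → ∀ f s σ : ℕ, ev ρ (x₁, 1) 1 = f → ev ρ (x₁, x₁) 1 = f →
    ev ρ (1, x₁) 1 = 69 → ev ρ (t, 1) 1 = s → ev ρ (t, t) 1 = s → ev ρ (1, t) 1 = σ → (f = 63 ∨ f = 79) →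
    (s = 43 ∨ s = 49 ∨ s = 67 ∨ s = 79) → (σ = 43 ∨ σ = 49 ∨ σ = 67 ∨ σ = 79) →
    (f = 63 → σ = 67 → ev ρ (x₁, t) 1 ≠ 29) → finrank K (fx ρ {g | g.1 = g.2}) ≤ 2
  /-- a non-trivial module has dimension at least three -/
  three : ∀ (K V U : Type) [Field K] [IsAlgClosed K] [AddCommGroup V] [Module K V] [FiniteDimensional K V] [Group U]
    (ρ : U × U →* Module.End K V), (2 : K) ≠ 0 → IsSimpleGroup U → ∀ x₁ x₂ t : U, Tet x₁ x₂ t →
    (∃ v ∈ fx ρ {g | g.2 = 1}, ∃ u, ρ (1, u) v ≠ v) → 3 ≤ finrank K (fx ρ {g | g.2 = 1})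
  /-- characteristic three -/
  jor : ∀ (K V U : Type) [Field K] [IsAlgClosed K] [AddCommGroup V] [Module K V] [FiniteDimensional K V] [Group U]
    (ρ : U × U →* Module.End K V), (3 : K) = 0 → finrank K V = 133 → ∀ x₁ x₂ t : U, Tet x₁ x₂ t →
    ev ρ (x₁, 1) 1 = 63 → ev ρ (x₁, x₁) 1 = 63 → ev ρ (1, x₁) 1 = 69 → 43 ≤ rk2 (ρ (t, t)) ∧ rk2 (ρ (t, 1)) ≤ 42

/-- [NT] vectors of the adjoint module of `E₇` fixed by the centralizer of `b` and moved by `n` -/
structure BoxNT : Prop where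
  np : ∀ (p : ℕ) [Fact p.Prime], 5 ≤ p → ∀ (b n : YY chevE7 p) (k : ℕ), orderOf b = p → n * b * n⁻¹ = b ^ k →
    (k : ZMod p) ≠ 1 → ∃ m, (∀ c, c * b = b * c → ad chevE7 p c m = m) ∧ ad chevE7 p n m ≠ m
  n5 : ∀ (p : ℕ) [Fact p.Prime], 7 ≤ p → ∀ b n : YY chevE7 p, orderOf b = 5 → n * b * n⁻¹ = b⁻¹ →
    ∃ m, (∀ c, c * b = b * c → ad chevE7 p c m = m) ∧ ad chevE7 p n m ≠ m

/-- [Ext] the automorphisms of `E₇(q)` are induced by semilinear maps of the adjoint module -/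
def BoxExt : Prop := ∀ (p : ℕ) [Fact p.Prime] (d : ℕ), d ∣ 2 → ∀ (L : Type) [Group L] [Finite L]
  (E : Frame tE7 p d (sg 7 1) L) (θ : MulAut L),
  (∀ x : L, dd p (E.ι (θ x)) = dd p (E.ι x)) ∧
  (∀ x : L, rk2 (ad chevE7 p (E.ι (θ x))) = rk2 (ad chevE7 p (E.ι x))) ∧
  ∀ S : Set L, finrank (kb p) (Fx p (E.ι '' (θ '' S))) = finrank (kb p) (Fx p (E.ι '' S))

/-- the number of roots killed by `φ` -/
noncomputable abbrev nk {D : ChevalleyDatum} {l : ℕ} {M : CoxeterMatrix (Fin l)} (hp : IsType D l M) {K : Type}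
    [AddCommGroup K] (φ : Lat l →+ K) : ℕ := (Psi hp φ).ncard

/-- `0` for the involutions of `E₇` that lift to involutions of the simply connected group -/
def eps (φ : Lat 7 →+ ZMod 2) : ZMod 2 := φ ![0, 1, 0, 0, 1, 0, 1]

/-- `ψ` kills the `A₁` component of `Psi φ` -/
def Ort (φ ψ : Lat 7 →+ ZMod 2) : Prop := ∀ c, A1c tE7 (Psi tE7 φ) c → ψ c = 0

/-- [L7] the root lattice of `E₇` modulo `2` and `3` -/
structure BoxL7 : Prop where
  l1 : ∀ φ : Lat 7 →+ ZMod 2, φ ≠ 0 → nk tE7 φ = 56 ∨ nk tE7 φ = 62 ∨ nk tE7 φ = 72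
  l2 : ∀ φ : Lat 7 →+ ZMod 2, φ ≠ 0 → (eps φ = 0 ↔ nk tE7 φ = 62)
  l3 : ∀ φ : Lat 7 →+ ZMod 2, nk tE7 φ = 62 → ∃ c, A1c tE7 (Psi tE7 φ) c ∧
    (∀ c', A1c tE7 (Psi tE7 φ) c' → c' = c ∨ c' = -c) ∧ (∀ a, φ a = (cp tE7 a c : ZMod 2)) ∧
    ∀ ψ : Lat 7 →+ ZMod 2, eps ψ = 1 → (ψ c = 0 ↔ nk tE7 (ψ + φ) ≠ nk tE7 ψ)
  l4 : ∀ φ₁ φ₂ φ₃ : Lat 7 →+ ZMod 2, nk tE7 φ₁ = 62 → nk tE7 φ₂ = 62 → nk tE7 φ₃ = 62 → φ₁ ≠ φ₂ → φ₃ ≠ φ₁ → φ₃ ≠ φ₂ →
    φ₃ ≠ φ₁ + φ₂ → Ort φ₁ φ₂ → Ort φ₁ φ₃ → Ort φ₂ φ₃ →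
    (∀ w, Fixs tE7 w φ₁ → Fixs tE7 w φ₂ → Fixs tE7 w φ₃ → w ∈ WW tE7 (Psi tE7 φ₁ ∩ Psi tE7 φ₂ ∩ Psi tE7 φ₃)) ∧
    ∀ φ₄ : Lat 7 →+ ZMod 2, eps φ₄ = 0 → Ort φ₁ φ₄ → Ort φ₂ φ₄ → Ort (φ₁ + φ₃) (φ₂ + φ₄) →
      ∃ i j k : ℕ, φ₄ = i • φ₁ + j • φ₂ + k • φ₃
  l6 : ∀ χ : Lat 7 →+ ZMod 3, χ ≠ 0 → nk tE7 χ = 36 ∨ nk tE7 χ = 42 ∨ nk tE7 χ = 60 ∨ nk tE7 χ = 72
  l7 : ∀ (φ : Lat 7 →+ ZMod 2) (χ : Lat 7 →+ ZMod 3), nk tE7 φ = 56 → nk tE7 χ = 60 →
    (Psi tE7 φ ∩ Psi tE7 χ).ncard ≠ 22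

/-- [St] an involution of `T` of type `E₆T₁` does not lie in a non-toral four-group of `T` -/
def BoxSt : Prop := ∀ (p : ℕ) [Fact p.Prime] (d : ℕ), d ∣ 2 → ∀ (L : Type) [Group L] [Finite L]
  (E : Frame tE7 p d (sg 7 1) L) (U : Type) [Group U] [Finite U] (τ α β : U →* L) (R R' : Subgroup L),
  Core τ α β R R' → p ≠ 2 → 7 ≤ E.q → ∀ u u' : U, orderOf u = 2 → orderOf u' = 2 → u * u' = u' * u →
  dd p (E.ι (τ u)) = 79 → Tp p (E.ι (τ u)) (E.ι (τ u'))

/-- no core for `p` odd, `q ≥ 5` -/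
def NoOdd {D : ChevalleyDatum} {l : ℕ} {M : CoxeterMatrix (Fin l)} (hp : IsType D l M) (d : ℕ)
    (g0 : Lat l ≃+ Lat l) : Prop :=
  ∀ (p : ℕ) [Fact p.Prime] (L : Type) [Group L] [Finite L] (E : Frame hp p d g0 L)
    (U : Type) [Group U] [Finite U] (τ α β : U →* L) (R R' : Subgroup L), Core τ α β R R' → p ≠ 2 → 5 ≤ E.q → False

/-- [Low] the types of rank at most six -/
structure BoxLow : Prop where
  g2 : NoOdd tG2 1 (sg 2 1)
  d4 : ∀ g0, IsTri g0 → NoOdd tD4 1 g0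
  f4 : NoOdd tF4 1 (sg 4 1)
  e6 : ∀ d ε, d ∣ 3 → NoOdd tE6 d (sg 6 ε)

end Cfsg.Agent.Cam.Odd
end

-- part: Cam/Ex/End1_mg
section
prune_inst 0x14202104040000000000000040000202b4000090004000000061004000800c600520680009000013482a000800300040005400100000000000000400000000000088000031400000000096800004000000000000000000000000000000000000000000000
set_option linter.all false
open scoped Cfsg.Agent.FastGrp

-- part: Cam/Ex/End1
section
/-!
# S3689, S3690, exceptional rows: `K4` for `F₄`, `E₆`, and `E₇` in odd characteristic (helper53)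
-/

set_option autoImplicit false
set_option linter.unusedVariables false
set_option linter.unusedSectionVars false

namespace Cfsg.Agent.Cam.Ex.En

open CoxeterSystem Cfsg Cfsg.Lie Subgroup
open Cfsg.Agent.ChevalleyStructure.CoxeterGeom Cfsg.Agent.ChevalleyStructure.CoxeterGeomTypes
open Cfsg.Agent.Tits.Roots Cfsg.Agent.Nodes.BNOf Cfsg.Agent.Nodes.RGDChev Cfsg.Agent.Nodes.Coroot
open Cfsg.Agent.KFacts.RgdChevCoord Cfsg.Agent.BpExc.TorCent Cfsg.Agent.BpExc.LangFr Cfsg.Agent.BpExc.SubBN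
open Cfsg.Agent.Cam.Spor Cfsg.Agent.Cam.Ex.S2
open Cfsg.Agent.ChevalleyStructure.SL2Hom (up lo)
open Cfsg.Agent.Nodes.RGDFoldSL (hS wS)
open Cfsg.Agent.DS.Nt (RP)
open Cfsg.Agent.H129.TorusChar (cX isMC_cX cX_root)
open scoped commutatorElement

variable {D : ChevalleyDatum} {l : ℕ} {M : CoxeterMatrix (Fin l)} {hp : IsType D l M} {p : ℕ} [Fact p.Prime]

/-- the reflection in a root -/
theorem exists_refl {c : Lat l} (hc : Rt hp c) {S : Set (Lat l)} (hS : c ∈ S) :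
    ∃ v ∈ WW hp S, ∀ x, wa hp v x = x - cp hp x c • c := by
  have := finite_WW hp
  obtain ⟨w, i, rfl⟩ := hc
  exact ⟨_, subset_closure ⟨w, i, hS, rfl⟩, rep_rfl'_eq _ _ w i⟩

/-- a torus element killed by the roots of `S` centralizes `M_S` -/
theorem comm_MS {S : Set (Lat l)} (hS : ∀ a ∈ S, Rt hp a) {t : YY D p} (ht : t ∈ TT D (kb p))
    (h : ∀ a ∈ S, ch hp a t = 1) {m : YY D p} (hm : m ∈ MS D l p S) : m * t = t * m := by
  refine MS_comm (hp := hp) (Q := {t}) (by rintro _ rfl; exact ht) (RGD.Sup_mono ?_ hm) rfl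
  exact fun a ha => ⟨hS a ha, by rintro _ rfl; exact h a ha⟩

theorem exists_fix_pow {μ : kb p} (hμ : μ ≠ 0) {q : ℕ} (hq : 2 ≤ q) : ∃ s : kb p, s ≠ 0 ∧ μ * s ^ q = s := by
  obtain ⟨s, hs⟩ := IsAlgClosed.exists_pow_nat_eq μ⁻¹ (n := q - 1) (by omega)
  refine ⟨s, ?_, ?_⟩
  · rintro rfl
    rw [zero_pow (by omega)] at hs
    exact inv_ne_zero hμ hs.symm
  · rw [show q = q - 1 + 1 by omega, pow_succ, hs, ← mul_assoc, mul_inv_cancel₀ hμ, one_mul]

variable {d : ℕ} {g0 : Lat l ≃+ Lat l} {L : Type} [Group L]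

theorem two_le_q (E : Frame hp p d g0 L) : 2 ≤ E.q :=
  le_trans (Fact.out : p.Prime).two_le (Nat.le_self_pow E.he.ne' p)

theorem neg_one_pow_q (E : Frame hp p d g0 L) : (-1 : kb p) ^ E.q = -1 := neg_one_pow_char_pow (kb p) p E.e

/-- the Frobenius map on the root `SL₂` of a fixed root -/
theorem sl_frob (E : Frame hp p d g0 L) {c : Lat l} (hc : Rt hp c) (hg : E.g c = c) : ∃ μ : kb p, μ ≠ 0 ∧
    (∀ s, E.F (xc hp c s) = xc hp c (μ * s ^ E.q)) ∧ ∀ s, E.F (xc hp (-c) s) = xc hp (-c) (μ⁻¹ * s ^ E.q) := by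
  obtain ⟨μ, hμ, h1⟩ := E.pw c hc
  obtain ⟨ν, hν, h2⟩ := E.pw (-c) hc.neg'
  rw [hg] at h1
  rw [map_neg, hg] at h2
  have h3 : μ * ν = 1 := by
    refine (sl_ck hc).braid hμ ?_
    have e1 := h1 1
    have e2 := h2 (-1)
    rw [one_pow, mul_one] at e1
    rw [show (-1 : kb p) ^ p ^ E.e = -1 from neg_one_pow_q E, mul_neg, mul_one] at e2
    have e3 := congrArg (fun x => E.F (sl p hc x)) (braid0 (k := kb p))
    simp only [map_mul, sl_up, sl_lo, e1, e2] at e3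
    simpa only [sl_up, sl_lo] using e3
  exact ⟨μ, hμ, h1, by rw [inv_eq_of_mul_eq_one_right h3]; exact h2⟩

theorem xc_mem_range (E : Frame hp p d g0 L) {c : Lat l} (hc : Rt hp c) {s : kb p} (h : E.F (xc hp c s) = xc hp c s) :
    xc hp c s ∈ E.ι.range := E.mem_range h E.cop (xc_pow_p hc s)

/-- moving the frame inside `M_S` -/
theorem exists_move_MS (E : Frame hp p d g0 L) {S : Set (Lat l)} (hS : ∀ a ∈ S, Rt hp a) (hn : ∀ a ∈ S, -a ∈ S)
    (hg : ∀ a ∈ S, E.g a ∈ S) {v : M.Group} (hv : v ∈ WW hp S) :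
    ∃ z ∈ MS D l p S, RP hp p v (z⁻¹ * E.F z) := by
  obtain ⟨m, hm, hr⟩ := DS.Ex.Tor.exists_rp_MS (p := p) hS hn hv
  obtain ⟨z, hz, e⟩ := lang_fr hp M.toCoxeterSystem E.he E.frob E.fr hS hg hm
  exact ⟨z, hz, e ▸ hr⟩

theorem exists_move_fix (E : Frame hp p d g0 L) {c : Lat l} (hc : Rt hp c) (hg : E.g c = c ∨ E.g c = -c) :
    ∃ E' : Frame hp p d g0 L, E'.e = E.e ∧ E'.g c = c ∧ ∃ z ∈ MS D l p {c, -c}, ∀ x, E'.ι x = z⁻¹ * E.ι x * z := by
  rcases hg with hg | hg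
  · exact ⟨E, rfl, hg, 1, one_mem _, fun x => by rw [inv_one, one_mul, mul_one]⟩
  obtain ⟨v, hv, e⟩ := exists_refl hc (S := {c, -c}) (Or.inl rfl)
  obtain ⟨z, hz, h⟩ := exists_move_MS E (S := {c, -c}) (by rintro _ (rfl | rfl); exacts [hc, hc.neg'])
    (by rintro _ (rfl | rfl); exacts [Or.inr rfl, Or.inl (neg_neg _)])
    (by rintro _ (rfl | rfl); exacts [Or.inr hg, Or.inl (by rw [map_neg, hg, neg_neg])]) hv
  refine ⟨E.move z v h, rfl, ?_, z, hz, E.move_ι z v h⟩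
  rw [E.move_g, hg, e, cp_neg c hc, cp_self hc, neg_smul, two_smul]
  abel

variable [Finite L] {U : Type} [Group U] [Finite U] {τ α β : U →* L} {R R' : Subgroup L} {E : Frame hp p d g0 L}
  {r : ℕ} {ζ : kb p} {u v : U} {A B : Lat l →+ ZMod r}

theorem sup_le_MS (h : Dat E τ α β R R' r ζ u v A B) :
    (α.range ⊔ R').map E.ι ≤ MS D l p (Psi hp A ∪ Psi hp B) := by
  have : NeZero r := ⟨h.prime.ne_zero⟩
  rw [Subgroup.map_sup, sup_le_iff]
  constructor
  · refine le_trans (E.perf_le (Q := {E.ι (β u)}) h.prime ?_ (range_perfect h.core.simple h.core.noncomm α) ?_) ?_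
    · rintro _ rfl
      exact ⟨h.chiB.1, h.chiB.pow_eq_one h.prim⟩
    · rintro _ rfl _ ⟨y, rfl⟩
      rw [← map_mul, ← h.core.ab, map_mul]
    · rw [h.chiB.psiS h.prim]
      exact RGD.Sup_mono Set.subset_union_right
  · refine le_trans (E.perf_le (Q := {E.ι (α u)}) h.prime ?_ h.core.pair'.perfect ?_) ?_
    · rintro _ rfl
      exact ⟨h.chiA.1, h.chiA.pow_eq_one h.prim⟩
    · rintro _ rfl y hy
      rw [← map_mul, h.core.pair'.comm u y hy, map_mul]
    · rw [h.chiA.psiS h.prim]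
      exact RGD.Sup_mono Set.subset_union_left

theorem eq_one_of_cent (pr : Pair α R') {x : L} (h : ∀ y ∈ α.range ⊔ R', x * y = y * x) : x = 1 :=
  pr.cfaith x (mem_centralizer_iff.2 fun y hy => (h y (mem_sup_right hy)).symm)
    fun u => h _ (mem_sup_left ⟨u, rfl⟩)

/-- no non-trivial toral element of `L` is killed by the roots of `S` when `α U R' ≤ M_S` -/
theorem eq_one_of_tor (pr : Pair α R') {S : Set (Lat l)} (hS : ∀ a ∈ S, Rt hp a)
    (hle : (α.range ⊔ R').map E.ι ≤ MS D l p S) {t : YY D p} (ht : t ∈ TT D (kb p)) (hL : t ∈ E.ι.range)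
    (h : ∀ a ∈ S, ch hp a t = 1) : t = 1 := by
  obtain ⟨x, rfl⟩ := hL
  rw [eq_one_of_cent pr (x := x) fun y hy => E.inj ?_, map_one]
  rw [map_mul, map_mul]
  exact (comm_MS hS ht h (hle (mem_map_of_mem _ hy))).symm

theorem rt_union {a : Lat l} (ha : a ∈ Psi hp A ∪ Psi hp B) : Rt hp a := ha.elim (fun h => h.1) fun h => h.1

/-- `F₄` -/
theorem end_f4 {E : Frame tF4 p 1 (sg 4 1) L} {A B : Lat 4 →+ ZMod r} (h : Dat E τ α β R R' r ζ u v A B) :
    ¬ EndF4 p E.g A B := by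
  rintro ⟨hp2, θ, hθ, hg, hsub⟩
  have hpp : p.Prime := Fact.out
  obtain ⟨η, hη⟩ := exists_zeta p (m := 2) ((Nat.coprime_primes Nat.prime_two hpp).2 hp2.symm)
  obtain ⟨t, ht⟩ := chi_sur tF4 hη θ
  have hq : (E.q : ZMod 2) = 1 := by
    rw [Frame.q, Nat.cast_pow, (ZMod.natCast_eq_one_iff_odd).2 (hpp.odd_of_ne_two hp2), one_pow]
  have hF := E.fix_of_chi hη ht fun a => by rw [hq, one_mul, hg]
  have h1 := eq_one_of_tor h.core.pair' (fun a ha => rt_union ha) (sup_le_MS h) ht.1 (by simpa using E.idx t hF)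
    fun a ha => by rw [ht.2 a (rt_union ha), (hsub ha).2, ZMod.val_zero, pow_zero]
  rw [h1] at ht
  exact hθ (ht.unique hη (chi_one hη))

theorem q_ne_two {q : ℕ} (hr : r.Prime) (h5 : 5 ≤ r) (h : (q : ZMod r) = 1 ∨ (q : ZMod r) = -1) : q ≠ 2 ∧ q ≠ 3 := by
  have key : ∀ n : ℕ, 0 < n → n < 5 → (n : ZMod r) ≠ 0 := fun n h0 h1 h2 => by
    have := Nat.le_of_dvd h0 ((ZMod.natCast_eq_zero_iff n r).1 h2)
    omega
  constructor <;> rintro rfl <;> rcases h with h | h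
  · exact key 1 (by omega) (by omega) (by push_cast at h ⊢; linear_combination h)
  · exact key 3 (by omega) (by omega) (by push_cast at h ⊢; linear_combination h)
  · exact key 2 (by omega) (by omega) (by push_cast at h ⊢; linear_combination h)
  · exact key 4 (by omega) (by omega) (by push_cast at h ⊢; linear_combination h)

/-- `E₆` -/
theorem end_e6 (hd : d ∣ 3) {ε : ℤˣ} {E : Frame tE6 p d (sg 6 ε) L} {A B : Lat 6 →+ ZMod r}
    (h : Dat E τ α β R R' r ζ u v A B) (h4 : ¬ (E.q = 4 ∧ ε = 1)) : ¬ EndE6 E.q ε E.g A B := by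
  rintro ⟨hq, θ, ⟨a₀, ha₀, hθ₀⟩, -, hg, -, hsub⟩
  have hpp : p.Prime := Fact.out
  have h2 := two_le_q E
  have h3 := (q_ne_two h.prime h.five hq).1
  have hpq : p ∣ E.q := dvd_pow_self p E.he.ne'
  obtain ⟨m, hm, hm3, hmp⟩ : ∃ m : ℕ, (m : ℤ) = E.q - ε ∧ ¬ m ∣ 3 ∧ m.Coprime p := by
    rcases Int.units_eq_one_or ε with rfl | rfl
    · refine ⟨E.q - 1, by rw [Nat.cast_sub (by omega)]; rfl, fun h5 => ?_, ?_⟩
      · rcases (Nat.dvd_prime Nat.prime_three).1 h5 with h6 | h6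
        · omega
        · exact h4 ⟨by omega, rfl⟩
      · refine ((Nat.Prime.coprime_iff_not_dvd hpp).2 fun h5 => ?_).symm
        have h6 := Nat.dvd_sub hpq h5
        rw [show E.q - (E.q - 1) = 1 by omega] at h6
        exact hpp.one_lt.ne' (Nat.dvd_one.1 h6)
    · refine ⟨E.q + 1, by push_cast; ring, fun h5 => ?_, ?_⟩
      · have := Nat.le_of_dvd (by omega) h5
        omega
      · refine ((Nat.Prime.coprime_iff_not_dvd hpp).2 fun h5 => ?_).symm
        exact hpp.one_lt.ne' (Nat.dvd_one.1 ((Nat.dvd_add_right hpq).1 h5))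
  obtain ⟨η, hη⟩ := exists_zeta p hmp
  have hm0 : m ≠ 0 := by
    rintro rfl
    exact hpp.one_lt.ne' (Nat.coprime_zero_left p |>.1 hmp)
  have hη0 : η ≠ 0 := hη.ne_zero hm0
  obtain ⟨t, ht, hc⟩ := exists_tor_all tE6 (DS.Nt.isMC_zpow hη0 θ)
  have hch : ∀ a, Rt tE6 a → ch tE6 a t = η ^ θ a := fun a ha => by rw [ch_eq_cX ha ht, hc]
  have hF : E.F t = t := by
    refine E.fix_of_ch ht fun a ha => ?_
    rw [hch _ ((E.fr.root a).2 ha), hch a ha, hg, ← zpow_natCast, ← zpow_mul,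
      show θ a * (E.q : ℤ) = (ε : ℤ) * θ a + m * θ a by rw [hm]; ring, zpow_add₀ hη0, zpow_mul η m, zpow_natCast,
      hη.pow_eq_one, one_zpow, mul_one]
  have h1 := eq_one_of_tor h.core.pair' (fun a ha => rt_union ha) (sup_le_MS h) (pow_mem ht d) (E.idx t hF)
    fun a ha => by rw [ch_pow (rt_union ha) ht, hch a (rt_union ha), (hsub ha).2, zpow_zero, one_pow]
  have h5 := ch_pow ha₀ ht d
  rw [h1, ch_one ha₀, hch a₀ ha₀, hθ₀, zpow_one] at h5
  exact hm3 (((hη.pow_eq_one_iff_dvd d).1 h5.symm).trans hd)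

/-! ### `E₇` -/

theorem n7 : ∀ i j : Fin 7, CoxeterMatrix.E₇ i j ≠ 4 ∧ CoxeterMatrix.E₇ i j ≠ 6 := fun i j => by
  fin_cases i <;> fin_cases j <;> decide

theorem abs_cp {a b : Lat 7} (ha : Rt tE7 a) (hb : Rt tE7 b) (h1 : a ≠ b) (h2 : a ≠ -b) : |cp tE7 a b| ≤ 1 := by
  have := finite_WW tE7
  exact Nodes.SimplyLaced.abs_cpr_le_one _ _ (fun i j => (n7 i j).1) (fun i j => (n7 i j).2) ha hb h1 h2

theorem cp_symm {a b : Lat 7} (ha : Rt tE7 a) (hb : Rt tE7 b) : cp tE7 a b = cp tE7 b a := by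
  have := finite_WW tE7
  exact Nodes.SimplyLaced.cpr_symm _ _ (fun i j => (n7 i j).1) (fun i j => (n7 i j).2) ha hb

theorem cart7 : ∀ i : Fin 7, ∃ j : Fin 7, cartanOf chevE7 7 i j = -1 := by decide +kernel

theorem exists_cp_neg_one {c : Lat 7} (hc : Rt tE7 c) : ∃ a, Rt tE7 a ∧ cp tE7 a c = -1 := by
  have := finite_WW tE7
  obtain ⟨w, i, rfl⟩ := hc
  obtain ⟨j, hj⟩ := cart7 i
  refine ⟨wa tE7 w (sr j), (rt_sr tE7 j).wa' w, (cp_wa w _ (rt_sr tE7 i)).trans ?_⟩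
  refine (cpr_sr _ _ _ i).trans ?_
  rw [sr, pairing_single, hj, mul_one]

/-- the roots orthogonal to `c` -/
def Ort (c : Lat 7) : Set (Lat 7) := {a | Rt tE7 a ∧ cp tE7 a c = 0}

/-- the subsystem `D₆ A₁` -/
def Lam (c : Lat 7) : Set (Lat 7) := {a | Rt tE7 a ∧ (a = c ∨ a = -c ∨ cp tE7 a c = 0)}

theorem cz_ort {c : Lat 7} (hc : Rt tE7 c) {a : Lat 7} (ha : a ∈ Ort c) {x : YY chevE7 p} (hx : x ∈ XR chevE7 7 p a) :
    Cz (sl p hc) x := by
  refine cz_X hc ha.1 ha.2 (fun i j hi hj hr => ?_) hx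
  have h0 := (cp_zero_comm ha.1 hc).1 ha.2
  have h2 : cp tE7 (i • a + j • c) c = 2 * j := by
    rw [cp_add _ _ hc, cp_smul _ _ hc, cp_smul _ _ hc, ha.2, cp_self hc]; ring
  have h3 : cp tE7 (i • a + j • c) a = 2 * i := by
    rw [cp_add _ _ ha.1, cp_smul _ _ ha.1, cp_smul _ _ ha.1, h0, cp_self ha.1]; ring
  by_cases e1 : i • a + j • c = c
  · rw [e1, h0] at h3; omega
  by_cases e2 : i • a + j • c = -c
  · rw [e2, cp_neg _ ha.1, h0] at h3; omega
  have := abs_cp hr hc e1 e2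
  rw [h2, abs_le] at this
  omega

theorem off_lam {c : Lat 7} (hc : Rt tE7 c) : off (Lam c) c = Ort c := by
  ext a
  constructor
  · rintro ⟨⟨h1, h2⟩, h3, h4⟩
    exact ⟨h1, (h2.resolve_left h3).resolve_left h4⟩
  · rintro ⟨h1, h2⟩
    refine ⟨⟨h1, Or.inr (Or.inr h2)⟩, ?_, ?_⟩
    · rintro rfl
      rw [cp_self hc] at h2
      omega
    · rintro rfl
      rw [cp_neg _ hc, cp_self hc] at h2
      omega

theorem spl_lam {c : Lat 7} (hc : Rt tE7 c) : Spl p hc (Lam c) := fun a ha x hx =>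
  cz_ort hc (off_lam hc ▸ ha) hx

theorem cz_MS_ort {c : Lat 7} (hc : Rt tE7 c) {m : YY chevE7 p} (hm : m ∈ MS chevE7 7 p (Ort c)) : Cz (sl p hc) m :=
  (spl_lam hc).cz hc (by rwa [off_lam hc])

theorem wS_sq {k : Type*} [Field k] {s : k} (hs : s ≠ 0) : (_root_.Cfsg.Agent.Nodes.RGDFoldSL.wS s * _root_.Cfsg.Agent.Nodes.RGDFoldSL.wS s : SL k) = hS (-1) := by
  have h1 : (-1 : k) ≠ 0 := neg_ne_zero.2 one_ne_zero
  apply ext4 <;> simp only [mul_e, wS00 hs, wS01 hs, wS10 hs, wS11 hs, hS00 h1, hS01 h1, hS10 h1, hS11 h1] <;>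
    field_simp <;> ring

/-- the central involution of the root `SL₂` lies in `L` -/
theorem neg_one_mem (E : Frame hp p d g0 L) {c : Lat l} (hc : Rt hp c) (hg : E.g c = c) :
    sl p hc (hS (-1)) ∈ E.ι.range := by
  obtain ⟨μ, hμ, h1, h2⟩ := sl_frob E hc hg
  obtain ⟨s, hs, e⟩ := exists_fix_pow hμ (two_le_q E)
  have m1 : xc hp c s ∈ E.ι.range := xc_mem_range E hc (by rw [h1, e])
  have m2 : xc hp (-c) (-s⁻¹) ∈ E.ι.range := xc_mem_range E hc.neg' (by
    rw [h2, neg_pow, neg_one_pow_q, inv_pow, neg_one_mul, mul_neg, ← mul_inv, e])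
  have m3 : sl p hc (_root_.Cfsg.Agent.Nodes.RGDFoldSL.wS s) ∈ E.ι.range := by
    rw [Nodes.RGDFoldSL.wS, map_mul, map_mul, sl_up, sl_lo]
    exact mul_mem m1 (mul_mem m2 m1)
  rw [← wS_sq hs, map_mul]
  exact mul_mem m3 m3

/-- `E₇`, odd characteristic -/
theorem e7_odd (hp2 : p ≠ 2) {g0 : Lat 7 ≃+ Lat 7} (E : Frame tE7 p d g0 L) (pr : Pair α R') {c : Lat 7}
    (hc : Rt tE7 c) (hg : E.g c = c) (hle : (α.range ⊔ R').map E.ι ≤ MS chevE7 7 p (Lam c)) : False := by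
  have h1 : (-1 : kb p) ≠ 0 := neg_ne_zero.2 one_ne_zero
  have h2 := eq_one_of_tor pr (fun a ha => ha.1) hle (sl_hS_mem hc h1) (neg_one_mem E hc hg) fun a ha => by
    rw [ch_sl_hS hc h1 ha.1]
    rcases ha.2 with rfl | rfl | e
    · rw [cp_self hc]; norm_num
    · rw [cp_neg _ hc, cp_self hc]; norm_num only []
    · rw [e, zpow_zero]
  obtain ⟨a, ha, e⟩ := exists_cp_neg_one hc
  have h3 := ch_sl_hS hc h1 ha
  rw [h2, ch_one ha, e] at h3
  have h4 : (2 : kb p) = 0 := by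
    have : (1 : kb p) = -1 := by simpa using h3
    linear_combination this
  have h5 := (CharP.cast_eq_zero_iff (kb p) p 2).1 (by exact_mod_cast h4)
  exact hp2 ((Nat.prime_dvd_prime_iff_eq Fact.out Nat.prime_two).1 h5)

/-- the statement for `E₇` in characteristic two -/
def E7Two : Prop := ∀ (L : Type) [Group L] [Finite L] (E : Frame tE7 2 1 (sg 7 1) L)
  (U : Type) [Group U] [Finite U] (τ α β : U →* L) (R R' : Subgroup L), Core τ α β R R' →
  ∀ c, Rt tE7 c → E.g c = c → 4 ≤ E.q → ¬ (α.range ⊔ R').map E.ι ≤ MS chevE7 7 2 (Lam c)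

theorem end_e7 (two : E7Two) (hd : d ∣ 2) {E : Frame tE7 p d (sg 7 1) L} {A B : Lat 7 →+ ZMod r}
    (h : Dat E τ α β R R' r ζ u v A B) : ¬ EndE7 E.q E.g A B := by
  rintro ⟨hq, c, hc, hg, hsub⟩
  have h1 : (α.range ⊔ R').map E.ι ≤ MS chevE7 7 p (Lam c) :=
    (sup_le_MS h).trans (RGD.Sup_mono fun a ha => ⟨rt_union ha, hsub a ha⟩)
  obtain ⟨E', he, hg', z, hz, hι⟩ := exists_move_fix E hc hg
  have hz' : z ∈ MS chevE7 7 p (Lam c) :=
    RGD.Sup_mono (S := {c, -c}) (by rintro _ (rfl | rfl); exacts [⟨hc, Or.inl rfl⟩, ⟨hc.neg', Or.inr (Or.inl rfl)⟩]) hz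
  have h2 : (α.range ⊔ R').map E'.ι ≤ MS chevE7 7 p (Lam c) := by
    rintro _ ⟨x, hx, rfl⟩
    rw [hι]
    exact mul_mem (mul_mem (inv_mem hz') (h1 (mem_map_of_mem _ hx))) hz'
  by_cases hp2 : p = 2
  · subst hp2
    have hd1 : d = 1 := by
      rcases (Nat.dvd_prime Nat.prime_two).1 hd with h3 | h3
      · exact h3
      · have := E.cop
        rw [h3] at this
        exact absurd this (by norm_num)
    subst hd1
    refine two L E' U τ α β R R' h.core c hc hg' ?_ h2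
    have h3 := q_ne_two h.prime h.five hq
    have h4 := two_le_q E
    have h5 : E'.q = E.q := by rw [Frame.q, Frame.q, he]
    omega
  · exact e7_odd hp2 E' h.core.pair' hc hg' h2

/-- **`BoxEnd`** from the case of `E₇` in characteristic two -/
theorem boxEnd_of (two : E7Two) : BoxEnd where
  f4 p _ L _ _ E U _ _ τ α β R R' r ζ u v A B h := end_f4 h
  e6 p _ d hd ε L _ _ E U _ _ τ α β R R' r ζ u v A B h h4 := end_e6 hd h h4
  e7 p _ d hd L _ _ E U _ _ τ α β R R' r ζ u v A B h := end_e7 two hd h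

end Cfsg.Agent.Cam.Ex.En
end

-- part: Cam/Ex/Five2A
section
/-!
# Exceptional rows, `r = 5`, characteristic two: tools and the case `E₇` (helper33)

* `fix_of_chi`, `mem_range`, `comm_of_psi`, `conj_of_rp` : torus elements;
* `mem_zpowers_of` : an element of order five centralizing `R` and inverted by an element of `T`;
* `e7` : no toral triangle in `E₇`.
-/

set_option autoImplicit false
set_option linter.unusedVariables false
set_option linter.unusedSectionVars false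

namespace Cfsg.Agent.Cam.Ex.Five2

open CoxeterSystem Cfsg Cfsg.Lie Subgroup
open Cfsg.Agent.ChevalleyStructure.CoxeterGeom Cfsg.Agent.ChevalleyStructure.CoxeterGeomTypes
open Cfsg.Agent.Tits.Roots Cfsg.Agent.Nodes.BNOf Cfsg.Agent.Nodes.RGDChev Cfsg.Agent.Nodes.Coroot
open Cfsg.Agent.KFacts.RgdChevCoord Cfsg.Agent.BpExc.TorCent Cfsg.Agent.BpExc.LangFr Cfsg.Agent.BpExc.SubBN
open Cfsg.Agent.Cam.Spor Cfsg.Agent.TwoFusion.PerfCore
open Cfsg.Agent.DS.Nt (RP)
open scoped commutatorElement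

variable {D : ChevalleyDatum} {l : ℕ} {M : CoxeterMatrix (Fin l)} {hp : IsType D l M} {p : ℕ} [Fact p.Prime]
  {d : ℕ} {g0 : Lat l ≃+ Lat l} {L : Type} [Group L] [Finite L] {U : Type} [Group U] [Finite U]
  {τ α β : U →* L} {R R' : Subgroup L}

section torus

theorem tcomm (hp : IsType D l M) {s t : YY D p} (hs : s ∈ TT D (kb p)) (ht : t ∈ TT D (kb p)) : s * t = t * s :=
  BpExc.TorChev.TT_comm hp s hs t ht

/-- a torus element with `ch (g a) t = ch a t ^ q` is fixed -/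
theorem fix_of_ch (E : Frame hp p d g0 L) {t : YY D p} (ht : t ∈ TT D (kb p))
    (h : ∀ a, Rt hp a → ch hp (E.g a) t = ch hp a t ^ E.q) : E.F t = t := by
  refine chi_sep (hp := hp) ((E.fr.tor t).2 ht) ht fun b hb => ?_
  obtain ⟨a, rfl⟩ := E.g.surjective b
  have ha : Rt hp a := (E.fr.root a).1 hb
  rw [boxChi.frob D l M hp p d g0 L E t ht a ha, h a ha]

theorem fix_of_chi (E : Frame hp p d g0 L) {m : ℕ} [NeZero m] {ζ : kb p} (hζ : IsPrimitiveRoot ζ m) {t : YY D p}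
    {φ : Lat l →+ ZMod m} (h : Chi hp ζ t φ) (hφ : ∀ a, φ (E.g a) = (E.q : ZMod m) * φ a) : E.F t = t :=
  fix_of_ch E h.1 fun a ha => by rw [h.2 _ ((E.fr.root a).2 ha), h.2 a ha, hφ, zeta_nsmul hζ]

/-- fixed elements of order five lie in `ι L` -/
theorem mem_range (E : Frame hp p d g0 L) {y : YY D p} (hy : E.F y = y) (h5 : y ^ 5 = 1) : y ∈ E.ι.range := by
  refine DS.Nt.mem_of_pow_coprime (a := d) (b := 5) (E.idx y hy) (by rw [h5]; exact one_mem _) ?_
  rcases E.dle with h | h | h <;> rw [h] <;> norm_num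

/-- a torus element killed by the roots killing `t` commutes with `M_t` -/
theorem comm_of_psi {Q : Set (YY D p)} {y : YY D p} (hy : y ∈ TT D (kb p)) (h : ∀ a ∈ PsiS hp Q, ch hp a y = 1)
    {m : YY D p} (hm : m ∈ MS D l p (PsiS hp Q)) : y * m = m * y :=
  DS.Nt.comm_Mz (hp := hp) hy (fun a ha => (cX_rt hy ha.1).trans (h a ha)) hm

/-- the conjugate of a torus element by a representative -/
theorem conj_of_rp {w : M.Group} {k : YY D p} (hk : RP hp p w k) {s t : YY D p} (hs : s ∈ TT D (kb p))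
    (ht : t ∈ TT D (kb p)) (h : ∀ a, Rt hp a → ch hp (wa hp w a) t = ch hp a s) : k * s * k⁻¹ = t := by
  refine chi_sep (hp := hp) (hk.conj_mem hs) ht fun b hb => ?_
  have h1 := ch_rp hk hs (hb.wa' w⁻¹)
  have h2 := h _ (hb.wa' w⁻¹)
  rw [wa_wa_inv] at h1 h2
  rw [h1, h2]

/-- an element inverting `x` acts on the centre of `M_x T` as any representative inverting `x` -/
theorem conj_eq_of_inv (hl : l ≤ 7) {x n k y : YY D p} (hx : x ∈ TT D (kb p)) (h5 : x ^ 5 = 1)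
    (hn : n * x * n⁻¹ = x⁻¹) (hk : k * x * k⁻¹ = x⁻¹) (hy : k * y * k⁻¹ ∈ TT D (kb p))
    (h : ∀ a ∈ PsiS hp {x}, ch hp a (k * y * k⁻¹) = 1) : n * y * n⁻¹ = k * y * k⁻¹ := by
  have h1 : n * k⁻¹ * x = x * (n * k⁻¹) := by
    have h2 : k⁻¹ * x * k = x⁻¹ := by
      have h3 := congrArg (·⁻¹) hk
      simp only [mul_inv_rev, inv_inv] at h3
      calc k⁻¹ * x * k = k⁻¹ * (k * (x⁻¹ * k⁻¹)) * k := by rw [h3]
        _ = x⁻¹ := by group
    have h4 : n * x⁻¹ * n⁻¹ = x := by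
      have h3 := congrArg (·⁻¹) hn
      simp only [mul_inv_rev, inv_inv] at h3
      rw [mul_assoc, h3]
    calc n * k⁻¹ * x = n * (k⁻¹ * x * k) * n⁻¹ * (n * k⁻¹) := by group
      _ = _ := by rw [h2, h4]
  obtain ⟨m, hm, t, ht, e⟩ := mem_MT_of_comm hp hl (r := 5) (by norm_num) le_rfl (Set.finite_singleton x)
    (fun s hs => by rw [Set.mem_singleton_iff.1 hs]; exact ⟨hx, 1, by rw [pow_one, h5]⟩) (c := n * k⁻¹)
    (fun s hs => by rw [Set.mem_singleton_iff.1 hs]; exact h1)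
  have h2 := comm_of_psi hy h hm
  have h3 := tcomm hp hy ht
  calc n * y * n⁻¹ = (n * k⁻¹) * (k * y * k⁻¹) * (n * k⁻¹)⁻¹ := by group
    _ = m * (t * (k * y * k⁻¹)) * (m * t)⁻¹ := by rw [e, mul_assoc m t]
    _ = (k * y * k⁻¹) * m * t * (m * t)⁻¹ := by rw [← h3, h2, mul_assoc m _ t]
    _ = _ := by group

/-- a perfect subgroup of `L` commuting with a toral element of order five -/
theorem le_MS (E : Frame hp p d g0 L) {x : L} (hx : E.ι x ∈ TT D (kb p)) (h5 : x ^ 5 = 1) {J : Subgroup L}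
    (hJ : ⁅J, J⁆ = J) (hc : ∀ j ∈ J, x * j = j * x) {j : L} (hj : j ∈ J) : E.ι j ∈ MS D l p (PsiS hp {E.ι x}) := by
  refine chi_perf hp (r := 5) (by norm_num) (Q := {E.ι x}) (fun t ht => ?_) (map_perfect hJ E.ι) ?_ ⟨j, hj, rfl⟩
  · rw [Set.mem_singleton_iff.1 ht]
    exact ⟨hx, 1, by rw [pow_one, ← map_pow, h5, map_one]⟩
  · rintro _ ⟨i, hi, rfl⟩
    rw [mem_centralizer_iff]
    intro t ht
    rw [Set.mem_singleton_iff.1 ht, ← map_mul, ← map_mul, hc i hi]

theorem chi_pow {m : ℕ} [NeZero m] {ζ : kb p} (hζ : IsPrimitiveRoot ζ m) {t : YY D p} {φ : Lat l →+ ZMod m}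
    (h : Chi hp ζ t φ) (n : ℕ) : Chi hp ζ (t ^ n) (n • φ) := by
  induction n with
  | zero => rw [pow_zero, zero_smul]; exact chi_one hζ
  | succ n ih => rw [pow_succ, succ_nsmul]; exact ih.mul hζ h

theorem four_le {q : ℕ} (h2 : 2 ≤ q) (h : (q : ZMod 5) = 1 ∨ (q : ZMod 5) = -1) : 4 ≤ q := by
  by_contra h4
  have h5 : q = 2 ∨ q = 3 := by omega
  rcases h5 with rfl | rfl
  · revert h
    decide
  · revert h
    decide

end torus

section grp

/-- an element of order five centralizing `R` and `τ u` and inverted by an element of `T` is a power of `τ u` -/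
theorem mem_zpowers_of (P : Pair τ R) (h5 : ∀ u t : U, orderOf u = 5 → t * u = u * t → t ∈ zpowers u) {u v : U}
    (hu : orderOf u = 5) {y : L} (hy : y ^ 5 = 1) (hR : ∀ r ∈ R, r * y = y * r) (hn : τ v * y * (τ v)⁻¹ = y⁻¹)
    (hc : y * τ u = τ u * y) : ∃ k : ℕ, y = τ u ^ k := by
  have h1 : y ∈ normalizer (τ.range : Set L) := P.cnorm (mem_centralizer_iff.2 hR)
  have h2 : y ^ 2 ∈ τ.range := by
    have h3 : y ^ 2 = y * τ v * y⁻¹ * (τ v)⁻¹ := by
      have h4 := congrArg (·⁻¹) hn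
      simp only [mul_inv_rev, inv_inv] at h4
      calc y ^ 2 = y * (τ v * (y⁻¹ * (τ v)⁻¹)) := by rw [h4, pow_two]
        _ = _ := by group
    rw [h3]
    exact mul_mem (conj_mem_of_norm h1 ⟨v, rfl⟩) (inv_mem ⟨v, rfl⟩)
  obtain ⟨t, ht⟩ : y ∈ τ.range :=
    DS.Nt.mem_of_pow_coprime (a := 2) (b := 5) h2 (by rw [hy]; exact one_mem _) (by norm_num)
  have h3 := h5 u t hu (P.inj (by rw [map_mul, map_mul, ht, hc]))
  obtain ⟨k, hk⟩ := (mem_powers_iff_mem_zpowers.2 h3 : t ∈ Submonoid.powers u)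
  exact ⟨k, by rw [← ht, ← hk, map_pow]⟩

/-- the pair of `α` conjugate to the pair of `τ` -/
theorem exists_pair (c : Core τ α β R R') : ∃ (τ' α' β' : U →* L) (Q Q' : Subgroup L) (ψ : U →* U),
    Core τ' α' β' Q Q' ∧ Function.Injective ψ ∧ (∀ u, τ' (ψ u) = α u) ∧ ∀ u, ∀ r ∈ Q, α u * r = r * α u := by
  obtain ⟨θ, ψ, hψ, hθ⟩ := exists_cmp c
  refine ⟨_, _, _, _, _, ψ, c.map θ, hψ, hθ, fun u r hr => ?_⟩
  rw [← hθ]
  exact (c.map θ).pair.comm (ψ u) r hr

theorem primes_le {N : ℕ} (h : ∀ r : ℕ, r.Prime → 7 ≤ r → r ∣ N → r = 2) : ∀ r : ℕ, r.Prime → r ∣ N → r ≤ 5 := by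
  intro r h1 h2
  by_contra h3
  by_cases h4 : r = 6
  · subst h4
    exact absurd h1 (by decide)
  · have := h r h1 (by omega) h2
    omega

end grp

section a2

theorem rt_A2s {c c' : Lat l} (hc : Rt hp c) (hc' : Rt hp c') (h : cp hp c' c = -1) : ∀ a ∈ A2s c c', Rt hp a := by
  have := finite_WW hp
  have h1 : Rt hp (c + c') := by
    have h2 := isRoot_refl M.toCoxeterSystem hp.isCartan hc' hc
    rwa [show cpr M.toCoxeterSystem hp.isCartan c' c = -1 from h, neg_smul, one_smul, sub_neg_eq_add, add_comm] at h2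
  rintro a (rfl | rfl | rfl | rfl | rfl | rfl)
  exacts [hc, hc', h1, hc.neg, hc'.neg, h1.neg]

theorem psi_A2s {K : Type} [AddCommGroup K] {φ : Lat l →+ K} {c c' : Lat l} (h : A2c hp (Psi hp φ) c c') :
    A2s c c' ⊆ Psi hp φ := by
  intro a ha
  refine ⟨rt_A2s h.1.1 h.2.1.1 h.2.2.2.1 a ha, ?_⟩
  have h1 := h.1.2
  have h2 := h.2.1.2
  rcases ha with rfl | rfl | rfl | rfl | rfl | rfl <;> simp only [map_add, map_neg, h1, h2, add_zero, neg_zero]

theorem neg_A2s {c c' a : Lat l} (ha : a ∈ A2s c c') : -a ∈ A2s c c' := by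
  rcases ha with rfl | rfl | rfl | rfl | rfl | rfl <;> simp only [A2s, _root_.neg_add_rev, _root_.Set.mem_insert_iff, _root_.neg_inj, _root_.Set.mem_singleton_iff, _root_.right_eq_add, _root_.neg_eq_zero, _root_.true_or, _root_.or_true, _root_.left_eq_add, _root_.add_eq_right, _root_.add_eq_left, _root_.neg_neg]

theorem refl_A2s {c c' : Lat l} (hc : Rt hp c) (hc' : Rt hp c') (h : cp hp c c' = -1) (h' : cp hp c' c = -1) :
    ∀ b ∈ A2s c c', ∀ a ∈ A2s c c', a - cp hp a b • b ∈ A2s c c' := by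
  have := finite_WW hp
  have hs : Rt hp (c + c') := rt_A2s hc hc' h' _ (by simp only [A2s, _root_.neg_add_rev, _root_.Set.mem_insert_iff, _root_.add_eq_left, _root_.add_eq_right, _root_.Set.mem_singleton_iff, _root_.true_or, _root_.or_true])
  have e1 : cp hp c c = 2 := cpr_self _ _ hc
  have e2 : cp hp c' c' = 2 := cpr_self _ _ hc'
  have e3 : cp hp (c + c') (c + c') = 2 := cpr_self _ _ hs
  have add : ∀ {b}, Rt hp b → ∀ x y, cp hp (x + y) b = cp hp x b + cp hp y b := fun hb x y => cpr_add _ _ x y hb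
  have neg : ∀ {b}, Rt hp b → ∀ x, cp hp (-x) b = -cp hp x b := fun hb x => cpr_neg _ _ x hb
  have e4 : cp hp c (c + c') = 1 := by
    obtain ⟨w, i, hw⟩ := hc
    have h1 := cp_wa (hp := hp) (Nodes.SubComb.rfl' M.toCoxeterSystem w i) c hs
    unfold wa at h1
    rw [rep_rfl'_eq, rep_rfl'_eq, ← hw, show cpr M.toCoxeterSystem hp.isCartan c c = 2 from e1,
      show cpr M.toCoxeterSystem hp.isCartan (c + c') c = 1 from by
        have h2 := add ⟨w, i, hw⟩ c c'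
        rw [e1, h'] at h2
        exact h2, show c - (2 : ℤ) • c = -c by module, show c + c' - (1 : ℤ) • c = c' by module, neg hc', h] at h1
    omega
  have e5 : cp hp c' (c + c') = 1 := by
    have h1 := add hs c c'
    omega
  have key : ∀ b, Rt hp b → (∀ a ∈ ({c, c', c + c'} : Set (Lat l)), a - cp hp a b • b ∈ A2s c c') →
      (∀ a ∈ A2s c c', a - cp hp a b • b ∈ A2s c c') ∧ ∀ a ∈ A2s c c', a - cp hp a (-b) • (-b) ∈ A2s c c' := by
    intro b hb h1
    have h2 : ∀ a ∈ A2s c c', a - cp hp a b • b ∈ A2s c c' := by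
      have h3 : ∀ a, a - cp hp a b • b ∈ A2s c c' → -a - cp hp (-a) b • b ∈ A2s c c' := fun a h4 => by
        rw [neg hb, show -a - (-cp hp a b) • b = -(a - cp hp a b • b) by module]
        exact neg_A2s h4
      rintro a (rfl | rfl | rfl | rfl | rfl | rfl)
      · exact h1 _ (by simp)
      · exact h1 _ (by simp)
      · exact h1 _ (by simp)
      · exact h3 _ (h1 _ (by simp))
      · exact h3 _ (h1 _ (by simp))
      · exact h3 _ (h1 _ (by simp))
    refine ⟨h2, fun a ha => ?_⟩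
    rw [show cp hp a (-b) = -cp hp a b from cpr_neg_right _ _ a hb, neg_smul_neg]
    exact h2 a ha
  have k1 := key c hc (by
    rintro a (rfl | rfl | rfl)
    · rw [e1, show a - (2 : ℤ) • a = -a by module]; simp only [A2s, _root_.neg_add_rev, _root_.Set.mem_insert_iff, _root_.neg_inj, _root_.Set.mem_singleton_iff, _root_.right_eq_add, _root_.neg_eq_zero, _root_.true_or, _root_.or_true]
    · rw [h', show a - (-1 : ℤ) • c = c + a by module]; simp only [A2s, _root_.neg_add_rev, _root_.Set.mem_insert_iff, _root_.add_eq_left, _root_.add_eq_right, _root_.Set.mem_singleton_iff, _root_.true_or, _root_.or_true]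
    · rw [add hc, e1, h', show c + c' - (2 + -1 : ℤ) • c = c' by module]; simp only [A2s, _root_.neg_add_rev, _root_.Set.mem_insert_iff, _root_.right_eq_add, _root_.Set.mem_singleton_iff, _root_.true_or, _root_.or_true])
  have k2 := key c' hc' (by
    rintro a (rfl | rfl | rfl)
    · rw [h, show a - (-1 : ℤ) • c' = a + c' by module]; simp only [A2s, _root_.neg_add_rev, _root_.Set.mem_insert_iff, _root_.add_eq_left, _root_.add_eq_right, _root_.Set.mem_singleton_iff, _root_.true_or, _root_.or_true]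
    · rw [e2, show a - (2 : ℤ) • a = -a by module]; simp only [A2s, _root_.neg_add_rev, _root_.Set.mem_insert_iff, _root_.neg_inj, _root_.Set.mem_singleton_iff, _root_.left_eq_add, _root_.neg_eq_zero, _root_.true_or, _root_.or_true]
    · rw [add hc', e2, h, show c + c' - (-1 + 2 : ℤ) • c' = c by module]; simp only [A2s, _root_.neg_add_rev, _root_.Set.mem_insert_iff, _root_.left_eq_add, _root_.Set.mem_singleton_iff, _root_.true_or])
  have k3 := key (c + c') hs (by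
    rintro a (rfl | rfl | rfl)
    · rw [e4, show a - (1 : ℤ) • (a + c') = -c' by module]; simp only [A2s, _root_.neg_add_rev, _root_.Set.mem_insert_iff, _root_.neg_inj, _root_.Set.mem_singleton_iff, _root_.left_eq_add, _root_.neg_eq_zero, _root_.true_or, _root_.or_true]
    · rw [e5, show a - (1 : ℤ) • (c + a) = -c by module]; simp only [A2s, _root_.neg_add_rev, _root_.Set.mem_insert_iff, _root_.neg_inj, _root_.Set.mem_singleton_iff, _root_.right_eq_add, _root_.neg_eq_zero, _root_.true_or, _root_.or_true]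
    · rw [e3, show c + c' - (2 : ℤ) • (c + c') = -(c + c') by module]; simp only [A2s, _root_.neg_add_rev, _root_.Set.mem_insert_iff, _root_.add_eq_right, _root_.neg_eq_zero, _root_.add_eq_left, _root_.Set.mem_singleton_iff, _root_.or_true])
  rintro b (rfl | rfl | rfl | rfl | rfl | rfl)
  exacts [k1.1, k2.1, k3.1, k1.2, k2.2, k3.2]

theorem ww_A2s {c c' : Lat l} (hc : Rt hp c) (hc' : Rt hp c') (h : cp hp c c' = -1) (h' : cp hp c' c = -1)
    {w : M.Group} (hw : w ∈ WW hp (A2s c c')) : ∀ a ∈ A2s c c', wa hp w a ∈ A2s c c' := by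
  have := finite_WW hp
  have key : (∀ a ∈ A2s c c', wa hp w a ∈ A2s c c') ∧ ∀ a ∈ A2s c c', wa hp w⁻¹ a ∈ A2s c c' := by
    unfold WW WS at hw
    induction hw using Subgroup.closure_induction with
    | mem x hx =>
      obtain ⟨v, j, h1, rfl⟩ := hx
      have h2 : ∀ a ∈ A2s c c', wa hp (Nodes.SubComb.rfl' M.toCoxeterSystem v j) a ∈ A2s c c' := fun a ha => by
        unfold wa
        rw [rep_rfl'_eq]
        exact refl_A2s hc hc' h h' _ h1 a ha
      refine ⟨h2, ?_⟩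
      rw [inv_eq_of_mul_eq_one_left (rfl_mul_self v j)]
      exact h2
    | one => exact ⟨fun a ha => by rwa [wa_one], fun a ha => by rwa [inv_one, wa_one]⟩
    | mul x y _ _ h1 h2 =>
      exact ⟨fun a ha => by rw [wa_mul]; exact h1.1 _ (h2.1 a ha),
        fun a ha => by rw [mul_inv_rev, wa_mul]; exact h2.2 _ (h1.2 a ha)⟩
    | inv x _ h1 => exact ⟨h1.2, by rw [inv_inv]; exact h1.1⟩
  exact key.1

theorem act_A2s {c c' : Lat l} (hc : Rt hp c) (hc' : Rt hp c') (h : cp hp c c' = -1) (h' : cp hp c' c = -1)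
    {f : Lat l → Lat l} {ε : ℤˣ} (hf : ActA2 hp f ε c c') : ∀ a ∈ A2s c c', f a ∈ A2s c c' := by
  obtain ⟨w, hw, h1⟩ := hf
  intro a ha
  rw [h1 a ha]
  have h2 := ww_A2s hc hc' h h' hw a ha
  rcases Int.units_eq_one_or ε with rfl | rfl
  · rwa [Units.val_one, one_smul]
  · rw [Units.val_neg, Units.val_one, neg_smul, one_smul]
    exact neg_A2s h2

end a2

section five

variable {ζ : kb p} {u v : U} {A B : Lat l →+ ZMod 5}

/-- **`K5s` for `A`.** -/
theorem k5s (hl : l ≤ 7) {E : Frame hp p d g0 L} (h : Dat E τ α β R R' 5 ζ u v A B)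
    (h5 : ∀ u t : U, orderOf u = 5 → t * u = u * t → t ∈ zpowers u) : K5s hp E.q E.g A := by
  intro Z hZ hF ⟨w, hA, hw⟩
  have hζ := h.prim
  obtain ⟨τ', α', β', Q, Q', ψ, c', hψ, hτ, hc⟩ := exists_pair h.core
  obtain ⟨y, hy⟩ := chi_sur hp hζ Z
  have hy5 := hy.pow_eq_one hζ
  obtain ⟨y0, rfl⟩ := mem_range E (fix_of_chi E hζ hy hF) hy5
  have hu5 : α u ^ 5 = 1 := by rw [← map_pow, ← h.ord, pow_orderOf_eq_one, map_one]
  have hk : ∀ a ∈ PsiS hp {E.ι (α u)}, Z a = 0 := fun a ha => by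
    rw [h.chiA.psiS hζ] at ha
    exact (hZ ha).2
  obtain ⟨k, hk'⟩ := DS.Nt.exists_RP hp p w
  have inv : ∀ {t : YY D p} {φ : Lat l →+ ZMod 5}, Chi hp ζ t φ → Neg hp w φ → k * t * k⁻¹ = t⁻¹ := by
    intro t φ h1 h2
    refine conj_of_rp hk' h1.1 (inv_mem h1.1) fun a ha => ?_
    rw [(h1.inv hζ).2 _ (ha.wa' w), h1.2 a ha, AddMonoidHom.neg_apply, h2, neg_neg]
  have hn := conj_eq_of_inv (hp := hp) hl h.chiA.1 (by rw [← map_pow, hu5, map_one]) (n := E.ι (α v))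
    (by rw [← map_inv, ← map_mul, ← map_mul, ← map_inv, ← map_mul, ← map_mul, h.inv, map_inv, map_inv])
    (inv h.chiA hA) (y := E.ι y0) (by rw [inv hy hw]; exact inv_mem hy.1) (fun a ha => by
      rw [inv hy hw, (hy.inv hζ).2 a ha.1, AddMonoidHom.neg_apply, hk a ha, neg_zero, ZMod.val_zero, pow_zero])
  rw [inv hy hw] at hn
  obtain ⟨n, hn'⟩ := mem_zpowers_of c'.pair h5 (u := ψ u) (v := ψ v) (by rw [orderOf_injective ψ hψ, h.ord])
    (y := y0) (E.inj (by rw [map_pow, hy5, map_one])) (fun r hr => E.inj (by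
      rw [map_mul, map_mul]
      exact (comm_of_psi hy.1 (fun a ha => by rw [hy.2 a ha.1, hk a ha, ZMod.val_zero, pow_zero])
        (le_MS E h.chiA.1 hu5 c'.pair.perfect (hc u) hr)).symm))
    (E.inj (by rw [hτ, map_mul, map_mul, map_inv, hn, map_inv])) (E.inj (by
      rw [hτ, map_mul, map_mul]
      exact tcomm hp hy.1 h.chiA.1))
  rw [hn', hτ, map_pow] at hy
  refine ⟨n, fun a => ?_⟩
  rw [hy.unique hζ (chi_pow hζ h.chiA n), AddMonoidHom.nsmul_apply, nsmul_eq_mul]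

end five

/-- **`E₇`, characteristic two, `r = 5`.** -/
theorem e7 (bp : BoxP) (be : BoxEnd) (f5 : BoxFin5) (g5 : BoxGrp5) (s3 : BoxSL3) {d : ℕ} (hd : d ∣ 2)
    (E : Frame tE7 2 d (sg 7 1) L) {ζ : kb 2} {u v : U} {A B : Lat 7 →+ ZMod 5} (h : Dat E τ α β R R' 5 ζ u v A B)
    (hc : Cmb tE7 2 E.q 5 (sg 7 1) E.g A B) : ¬ ∀ r : ℕ, r.Prime → 7 ≤ r → r ∣ Nat.card U → r = 2 := by
  intro h7
  have h5 := (g5 U h.core.simple h.core.noncomm (primes_le h7)).1
  have hζ := h.prim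
  rcases f5.e7 _ _ _ _ _ _ hc (k5s (by norm_num) h h5) with h1 | ⟨c, c', h1, h2, ε, h3, h4⟩
  · exact be.e7 2 d hd L E U τ α β R R' 5 ζ u v A B h h1
  obtain ⟨τ', α', β', Q, Q', ψ, c1, hψ, hτ, hcm⟩ := exists_pair h.core
  have hu5 : α u ^ 5 = 1 := by rw [← map_pow, ← h.ord, pow_orderOf_eq_one, map_one]
  have hq : 4 ≤ E.q := four_le E.two_le (by
    rcases Int.units_eq_one_or ε with rfl | rfl
    · exact Or.inl (by rw [h3]; rfl)
    · exact Or.inr (by rw [h3]; rfl))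
  have hsub := psi_A2s h1
  obtain ⟨y, hy, hF, hy5, hR, hn, hne⟩ := s3 d L E (α u) (α v) Q c c' ε h.chiA.1 hu5
    (by rw [← map_inv, ← map_mul, ← map_mul, h.inv, map_inv]) c1.pair.perfect (hcm u) (hcm v)
    (by rw [h.chiA.psiS hζ]; exact h1) (fun w hw => h2 w fun a => by
      have h6 := h.chiA.of_conj hζ (h.chiA.inv hζ) hw a
      rw [AddMonoidHom.neg_apply] at h6
      exact neg_eq_iff_eq_neg.1 h6) h3 h4
    (bp.a2 _ _ _ tE7 (by norm_num) (by norm_num) 2 d _ L E U τ' α' β' Q Q' c1 c c' h1.1.1 h1.2.1.1 h1.2.2.1 h1.2.2.2.1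
      (act_A2s h1.1.1 h1.2.1.1 h1.2.2.1 h1.2.2.2.1 h4) (Or.inl (by omega)))
  obtain ⟨y0, rfl⟩ := mem_range E hF hy5
  have hcx : ∀ m ∈ MS chevE7 7 2 (A2s c c'), E.ι (α u) * m = m * E.ι (α u) := fun m hm =>
    comm_of_psi (hp := tE7) (Q := {E.ι (α u)}) h.chiA.1 (fun a ha => ha.2 _ rfl)
      (RGD.Sup_mono (by rw [h.chiA.psiS hζ]; exact hsub) hm)
  obtain ⟨n, hn'⟩ := mem_zpowers_of c1.pair h5 (u := ψ u) (v := ψ v) (by rw [orderOf_injective ψ hψ, h.ord])
    (y := y0) (E.inj (by rw [map_pow, hy5, map_one])) (fun r hr => E.inj (by rw [map_mul, map_mul, hR r hr]))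
    (E.inj (by rw [hτ, map_mul, map_mul, map_inv, hn, map_inv])) (E.inj (by
      rw [hτ, map_mul, map_mul]
      exact (hcx _ hy).symm))
  refine hne fun a ha z hz => ?_
  rw [hn', hτ, map_pow]
  exact (Commute.pow_left (hcx z (RGD.le_Sup ha hz)) n).eq

end Cfsg.Agent.Cam.Ex.Five2
end

private theorem dce_4bc7055c48e5 : _root_.True := by
  try have : _root_.True := by simp only [_root_.Cfsg.Agent.Cam.Ex.A2s.eq_1]
  try have : _root_.True := by simp only [_root_.Cfsg.Agent.Cam.Ex.cp.congr_simp]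
  try have : _root_.True := by simp only [_root_.Cfsg.Agent.Cam.Ex.Frame.q.eq_1]
  try have : _root_.True := by simp only [_root_.Cfsg.Agent.Cam.Ex.sl.congr_simp]
  exact _root_.True.intro
end

-- part: Cam/Ex/FExt
section
prune_inst 0x34207504040002000018000060003e42b6000192006b880151200a4006c29d4125014f2038c01a12092a227c0038006813540050423800000a000e004118008000a800022040010060000e80a806000000000000000000000000000000041000000000000
set_option linter.all false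
open scoped Cfsg.Agent.FastGrp

-- part: Cam/Ex/Out3A
section
/-!
# Exceptional rows: an untwisted frame determines the group (helper37)

`rigid` : an automorphism of `YY D p` acting linearly on all root groups and trivially on the simple ones is trivial;
`exists_std` : every untwisted frame is conjugate to one with the standard Frobenius map;
`frame_iso` : the group of an untwisted frame is the Chevalley group over the field with `q` elements.
-/

set_option autoImplicit false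
set_option linter.unusedVariables false
set_option linter.unusedSectionVars false

namespace Cfsg.Agent.Cam.Ex.Out3

open CoxeterSystem Cfsg Cfsg.Lie Subgroup
open Cfsg.Agent.ChevalleyStructure.CoxeterGeom Cfsg.Agent.ChevalleyStructure.CoxeterGeomTypes
open Cfsg.Agent.Tits.Roots Cfsg.Agent.Nodes.BNOf Cfsg.Agent.Nodes.RGDChev Cfsg.Agent.Nodes.Coroot
open Cfsg.Agent.KFacts.RgdChevCoord Cfsg.Agent.BpExc.TorCent Cfsg.Agent.BpExc.LangFr Cfsg.Agent.BpExc.SubBN
open Cfsg.Agent.BpExc Cfsg.Agent.BpExc.TowChev Cfsg.Agent.KFacts.RgdDiag Cfsg.Agent.KFacts.RgdRigid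
open Cfsg.Agent.GpExc.Field (emb emb_injective)
open scoped commutatorElement

variable {D : ChevalleyDatum} {l : ℕ} {M : CoxeterMatrix (Fin l)} {hp : IsType D l M} {p : ℕ} [Fact p.Prime]
  {d : ℕ} {L : Type} [Group L]

theorem mem_Xj {E : Lev (kb p)} {a : Lat l} (ha : Rt hp a) {y : YY D p} :
    y ∈ Xj hp E a ↔ ∃ s ∈ E.1, xc hp a s = y := by
  have := charP_lev p E.1
  have C := coords (K := ↥E.1) hp M.toCoxeterSystem p
  constructor
  · rintro ⟨u, hu, rfl⟩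
    obtain ⟨s, rfl⟩ := ((C.coord a ha).mem u).1 hu
    exact ⟨s, s.2, (emb_xc hp E.1.subtype a s).symm⟩
  · rintro ⟨s, hs, rfl⟩
    exact ⟨xc hp a (⟨s, hs⟩ : ↥E.1), ((C.coord a ha).mem _).2 ⟨_, rfl⟩, emb_xc hp _ a _⟩

/-- **Rigidity.** -/
theorem rigid {β : MulAut (YY D p)} (hT : ∀ t ∈ TT D (kb p), β t ∈ TT D (kb p))
    (hx : ∀ a, Rt hp a → ∃ c : kb p, c ≠ 0 ∧ ∀ s, β (xc hp a s) = xc hp a (c * s))
    (h1 : ∀ i s, β (xc hp (sr i) s) = xc hp (sr i) s) : β = 1 := by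
  have := finite_WW hp
  have hfix : ∀ t ∈ TT D (kb p), β t = t := by
    intro t ht
    refine chi_sep (hp := hp) (hT t ht) ht fun a ha => ?_
    obtain ⟨c, hc, e⟩ := hx a ha
    have h2 := congrArg β (ch_act ha ht 1)
    rw [map_mul, map_mul, map_inv, e, e, ch_act ha (hT t ht)] at h2
    have h3 := xc_injective ha h2
    rw [mul_one, mul_one, mul_comm c] at h3
    exact mul_right_cancel₀ hc h3
  choose c hc0 hc using fun i : Fin l => hx (-sr i) (rt_sr hp i).neg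
  have key : ∀ a, Rt hp a → ∀ s : kb p, β (xc hp a s) = xc hp a s := by
    intro a ha s
    obtain ⟨E, hE⟩ := exists_lev (H469.Exc.locFin p) (insert s (Set.range c)) ((Set.finite_range c).insert s)
    have R := (DS.Nt.tw hp p).rgd E
    have hcE : ∀ i, c i ∈ E.1 := fun i => hE (Set.mem_insert_of_mem _ ⟨i, rfl⟩)
    have hpos : ∀ i, ∀ x ∈ Xj hp E (sr i), β x = x := by
      intro i x hx
      obtain ⟨u, -, rfl⟩ := (mem_Xj (rt_sr hp i)).1 hx
      exact h1 i u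
    have hTj : ∀ t ∈ Tj hp E, β t = t := fun t ht => hfix t (by
      rw [← DS.Nt.TLe hp p]
      exact Tow.le_TL E ht)
    have Dβ : KFacts.RgdDiag.Diag (Tj hp E) (Xj hp E) β 1 := by
      refine ⟨fun t => ⟨fun h => ?_, fun h => ?_⟩, fun i x => ⟨fun h => ?_, fun h => ?_⟩,
        fun i x => ⟨fun h => ?_, fun h => ?_⟩⟩
      · rwa [β.injective (hTj _ h)] at h
      · rwa [hTj _ h]
      · rwa [β.injective (hpos i _ h)] at h
      · rw [hpos i _ h]
        exact h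
      · obtain ⟨u, hu, e⟩ := (mem_Xj (rt_sr hp i).neg).1 h
        refine (mem_Xj (rt_sr hp i).neg).2 ⟨(c i)⁻¹ * u, mul_mem (inv_mem (hcE i)) hu, β.injective ?_⟩
        rw [hc, mul_inv_cancel_left₀ (hc0 i), e]
      · obtain ⟨u, hu, rfl⟩ := (mem_Xj (rt_sr hp i).neg).1 h
        exact (mem_Xj (rt_sr hp i).neg).2 ⟨c i * u, mul_mem (hcE i) hu, (hc i u).symm⟩
    have h2 : RGD.Sup (Xj hp E) {x | IsRoot M.toCoxeterSystem hp.isCartan x} ≤
        β.toMonoidHom.eqLocus (MonoidHom.id (YY D p)) :=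
      Sup_le_of_simple R (fun i x hx => hpos i x hx) (fun i x hx => KFacts.RgdRigid.Diag.apply_neg R Dβ (hpos i) hx)
    exact h2 (RGD.le_Sup (X := Xj hp E) (S := {x | IsRoot M.toCoxeterSystem hp.isCartan x}) ha
      ((mem_Xj ha).2 ⟨s, hE (Set.mem_insert _ _), rfl⟩))
  ext1 y
  induction y using FamExt.group_induction hp with
  | h1 => rw [map_one, map_one]
  | hm a b ha hb => rw [map_mul, map_mul, ha, hb]
  | hi a ha => rw [map_inv, map_inv, ha]
  | hx r hr t => exact key _ ((isRoot_iff hp M.toCoxeterSystem _).2 ⟨r, hr, rfl⟩) t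

theorem phi_xc (e : ℕ) {a : Lat l} (ha : Rt hp a) (s : kb p) :
    FamUntw.phi D (kb p) p e (xc hp a s) = xc hp a (s ^ p ^ e) := by
  obtain ⟨r, hr, rfl⟩ := (isRoot_iff hp M.toCoxeterSystem a).1 ha
  unfold FamUntw.phi
  rw [CpAut.RgdUntw.fld_xc hp _ hr, FamField.frb_apply]

/-- a frame acting trivially on the roots: the Frobenius map is standard up to a torus element -/
theorem exists_tor_phi {g0 : Lat l ≃+ Lat l} (E : Frame hp p d g0 L) (hg : ∀ a, E.g a = a) :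
    ∃ t ∈ TT D (kb p), E.F = MulAut.conj t * FamUntw.phi D (kb p) p E.e := by
  choose c hc0 hc using fun i : Fin l => E.pw (sr i) (rt_sr hp i)
  obtain ⟨t, ht, hch⟩ := boxChi.sur D l M hp p c hc0
  have hsr : ∀ i, ch hp (sr i) t = c i := by
    intro i
    rw [hch _ (rt_sr hp i), Finset.prod_eq_single i]
    · rw [sr_self, zpow_one]
    · intro j _ hj
      rw [sr_ne hj, zpow_zero]
    · intro h
      exact absurd (Finset.mem_univ i) h
  obtain ⟨ψ, hψ⟩ : ∃ ψ, ψ = MulAut.conj t * FamUntw.phi D (kb p) p E.e := ⟨_, rfl⟩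
  have hψx : ∀ a, Rt hp a → ∀ s, ψ (xc hp a s) = xc hp a (ch hp a t * s ^ p ^ E.e) := by
    intro a ha s
    rw [hψ, MulAut.mul_apply, phi_xc E.e ha, MulAut.conj_apply, ch_act ha ht]
  have hinv : ∀ a, Rt hp a → ∀ u, ∃ s, ψ⁻¹ (xc hp a u) = xc hp a s ∧ s ^ p ^ E.e = (ch hp a t)⁻¹ * u := by
    intro a ha u
    obtain ⟨s, hs⟩ := (FamField.frb (kb p) p E.e).surjective ((ch hp a t)⁻¹ * u)
    rw [FamField.frb_apply] at hs
    refine ⟨s, ψ.injective ?_, hs⟩
    rw [MulAut.apply_inv_self, hψx a ha, hs, mul_inv_cancel_left₀ (ch_ne_zero ha ht)]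
  have hfr := E.fr.mul (((DS.Nt.RP.of_mem (hp := hp) ht).fr.mul
    (FamInst.phi_fr hp M.toCoxeterSystem p (H469.Exc.locFin p) E.e)).inv)
  rw [← hψ] at hfr
  have h1 : E.F * ψ⁻¹ = 1 := by
    refine rigid (hp := hp) (fun s hs => (hfr.tor s).2 hs) (fun a ha => ?_) fun i u => ?_
    · obtain ⟨b, hb0, hb⟩ := E.pw a ha
      refine ⟨b * (ch hp a t)⁻¹, mul_ne_zero hb0 (inv_ne_zero (ch_ne_zero ha ht)), fun u => ?_⟩
      obtain ⟨s, h2, h3⟩ := hinv a ha u
      rw [MulAut.mul_apply, h2, hb, hg, h3, mul_assoc]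
    · obtain ⟨s, h2, h3⟩ := hinv _ (rt_sr hp i) u
      rw [MulAut.mul_apply, h2, hc, hg, h3, hsr, mul_inv_cancel_left₀ (hc0 i)]
  exact ⟨t, ht, by rw [← hψ]; exact mul_inv_eq_one.1 h1⟩

/-- **Every untwisted frame is conjugate to a standard one.** -/
theorem exists_std (E : Frame hp p d (sg l 1) L) :
    ∃ E' : Frame hp p d (sg l 1) L, E'.e = E.e ∧ E'.F = FamUntw.phi D (kb p) p E.e := by
  obtain ⟨w, hw⟩ := E.gr
  obtain ⟨n, hn⟩ := DS.Nt.exists_RP hp p w⁻¹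
  obtain ⟨z, hz⟩ := E.exists_move n
  rw [← hz] at hn
  obtain ⟨t, ht, hF⟩ := exists_tor_phi (E.move z w⁻¹ hn) fun a => by
    rw [Frame.move_g, hw, wa_inv_wa, sg_apply, Units.val_one, one_smul]
  obtain ⟨z', hz'⟩ := (E.move z w⁻¹ hn).exists_move t⁻¹
  have hn' : DS.Nt.RP hp p 1 (z'⁻¹ * (E.move z w⁻¹ hn).F z') := by
    rw [hz']
    exact DS.Nt.RP.of_mem (inv_mem ht)
  refine ⟨(E.move z w⁻¹ hn).move z' 1 hn', rfl, ?_⟩
  rw [Frame.move_F, hz', hF, ← mul_assoc, ← map_mul, inv_mul_cancel, map_one, one_mul]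
  rfl

theorem range_le {K K' Y : Type*} [Group K] [Group K'] [Group Y] (hK : IsSimpleGroup K) (hn : ¬ IsMulCommutative K)
    {ι : K →* Y} {ι' : K' →* Y} (h : ∀ x y, ⁅ι x, ι y⁆ ∈ ι'.range) : ι.range ≤ ι'.range := by
  have h1 : commutator K = ⊤ := by
    rcases hK.eq_bot_or_eq_top_of_normal (commutator K) inferInstance with h1 | h1
    · refine absurd ⟨⟨fun x y => commutatorElement_eq_one_iff_mul_comm.1 ?_⟩⟩ hn
      rw [← mem_bot, ← h1]
      exact commutator_mem_commutator (mem_top x) (mem_top y)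
    · exact h1
  have h2 : commutator K ≤ ι'.range.comap ι := by
    rw [_root_.commutator_def, commutator_le]
    intro x _ y _
    rw [mem_comap, map_commutatorElement]
    exact h x y
  rintro _ ⟨x, rfl⟩
  exact h2 (h1 ▸ mem_top x)

/-- **The group of an untwisted frame.** -/
theorem frame_iso (E : Frame hp p d (sg l 1) L) {d' : ℕ} {B : Fin l → Fin l → ℤ} (hB : H129.TorusChar.InvC D l d' B)
    (hd : d' ≠ 0) (hd1 : d' = 1 ∨ d'.Prime) (F : Type) [Field F] [Fintype F] [CharP F p]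
    (hF : Nat.card F = p ^ E.e) (hK : IsSimpleGroup ↥(D.group F) ∧ ¬ IsMulCommutative ↥(D.group F)) :
    Nonempty (L ≃* ↥(D.group F)) := by
  obtain ⟨E', -, hE'⟩ := exists_std E
  obtain ⟨f⟩ := RowsUntw.exists_emb p F
  have hq : Fintype.card F = p ^ E.e := by rw [← hF, Nat.card_eq_fintype_card]
  obtain ⟨m, h1, h2, -, -⟩ := H28.GenF.mdata_std' (r := p) hp F hB hd hd1 f E.he hF
  have hspl : Frm.Spl m := by
    intro y hy
    rw [h1]
    refine H129.TorusUntw.fix_split hp f hq ?_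
    apply Subtype.ext
    rw [H129.TorusUntw.coe_phi]
    rw [h2] at hy
    refine Eq.trans ?_ (congrArg Subtype.val hy)
    apply Units.ext
    ext i j
    exact (iterateFrobenius_def p E.e _).trans (FamField.frb_apply _ p E.e _).symm
  have hσ : m.σ = E'.F := h2.trans hE'.symm
  have h3 : E'.ι.range = m.ι.range := by
    apply le_antisymm
    · exact range_le E'.simple E'.noncomm fun x y =>
        Frm.der_of_spl hspl (by rw [hσ, E'.fix]) (by rw [hσ, E'.fix])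
    · exact range_le hK.1 hK.2 fun x y => E'.der _ _ (by rw [← hσ, m.fix]) (by rw [← hσ, m.fix])
  exact ⟨(MonoidHom.ofInjective E'.inj).trans ((MulEquiv.subgroupCongr h3).trans (MonoidHom.ofInjective m.inj).symm)⟩

end Cfsg.Agent.Cam.Ex.Out3
end

-- part: Cam/Ex/FExt
section
/-!
# Exceptional rows: automorphisms of `L` extend to the ambient group (helper33)

`boxFExt : BoxFExt`, from the factorisation inner · diagonal · graph · field.
-/

set_option autoImplicit false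
set_option linter.unusedVariables false
set_option linter.unusedSectionVars false

namespace Cfsg.Agent.Cam.Ex.FExt

open CoxeterSystem Cfsg Cfsg.Lie Subgroup
open Cfsg.Agent.ChevalleyStructure.CoxeterGeom Cfsg.Agent.ChevalleyStructure.CoxeterGeomTypes
open Cfsg.Agent.Tits.Roots Cfsg.Agent.Nodes.BNOf Cfsg.Agent.Nodes.RGDChev Cfsg.Agent.Nodes.Coroot
open Cfsg.Agent.KFacts.RgdChevCoord Cfsg.Agent.BpExc.TorCent Cfsg.Agent.BpExc.LangFr Cfsg.Agent.BpExc.SubBN
open Cfsg.Agent.BpExc Cfsg.Agent.Cam.Ex.Out3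
open Cfsg.Agent.GpExc.Field (emb emb_injective)

variable {D : ChevalleyDatum} {l : ℕ} {M : CoxeterMatrix (Fin l)} {hp : IsType D l M} {p : ℕ} [Fact p.Prime]
  {d : ℕ} {L : Type} [Group L]

/-- every untwisted frame is conjugate to a standard one -/
theorem exists_std' (E : Frame hp p d (sg l 1) L) :
    ∃ E' : Frame hp p d (sg l 1) L, E.Cj E' ∧ E'.F = FamUntw.phi D (kb p) p E.e := by
  obtain ⟨w, hw⟩ := E.gr
  obtain ⟨n, hn⟩ := DS.Nt.exists_RP hp p w⁻¹
  obtain ⟨z, hz⟩ := E.exists_move n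
  rw [← hz] at hn
  obtain ⟨t, ht, hF⟩ := exists_tor_phi (E.move z w⁻¹ hn) fun a => by
    rw [Frame.move_g, hw, wa_inv_wa, sg_apply, Units.val_one, one_smul]
  obtain ⟨z', hz'⟩ := (E.move z w⁻¹ hn).exists_move t⁻¹
  have hn' : DS.Nt.RP hp p 1 (z'⁻¹ * (E.move z w⁻¹ hn).F z') := by
    rw [hz']
    exact DS.Nt.RP.of_mem (inv_mem ht)
  refine ⟨(E.move z w⁻¹ hn).move z' 1 hn', ⟨rfl, z * z', fun x => ?_⟩, ?_⟩
  · rw [Frame.move_ι, Frame.move_ι]
    group
  · rw [Frame.move_F, hz', hF, ← mul_assoc, ← map_mul, inv_mul_cancel, map_one, one_mul]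
    rfl

/-- the group of an untwisted frame, with its embedding -/
theorem exists_iso (E : Frame hp p d (sg l 1) L) {d' : ℕ} {B : Fin l → Fin l → ℤ}
    (hB : H129.TorusChar.InvC D l d' B) (hd : d' ≠ 0) (hd1 : d' = 1 ∨ d'.Prime) (F : Type) [Field F] [Fintype F]
    [CharP F p] (hF : Nat.card F = p ^ E.e) (hK : IsSimpleGroup ↥(D.group F) ∧ ¬ IsMulCommutative ↥(D.group F))
    (f : F →+* kb p) : ∃ (e : L ≃* ↥(D.group F)) (z : YY D p), ∀ x, emb hp.inList f (e x) = z⁻¹ * E.ι x * z := by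
  obtain ⟨E', ⟨-, z, hz⟩, hE'⟩ := exists_std' E
  have hq : Fintype.card F = p ^ E.e := by rw [← hF, Nat.card_eq_fintype_card]
  obtain ⟨m, h1, h2, -, -⟩ := H28.GenF.mdata_std' (r := p) hp F hB hd hd1 f E.he hF
  have hspl : Frm.Spl m := by
    intro y hy
    rw [h1]
    refine H129.TorusUntw.fix_split hp f hq ?_
    apply Subtype.ext
    rw [H129.TorusUntw.coe_phi]
    rw [h2] at hy
    refine Eq.trans ?_ (congrArg Subtype.val hy)
    apply Units.ext
    ext i j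
    exact (iterateFrobenius_def p E.e _).trans (FamField.frb_apply _ p E.e _).symm
  have hσ : m.σ = E'.F := h2.trans hE'.symm
  have h3 : E'.ι.range = m.ι.range := by
    apply le_antisymm
    · exact range_le E'.simple E'.noncomm fun x y =>
        Frm.der_of_spl hspl (by rw [hσ, E'.fix]) (by rw [hσ, E'.fix])
    · exact range_le hK.1 hK.2 fun x y => E'.der _ _ (by rw [← hσ, m.fix]) (by rw [← hσ, m.fix])
  refine ⟨(MonoidHom.ofInjective E'.inj).trans ((MulEquiv.subgroupCongr h3).trans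
    (MonoidHom.ofInjective m.inj).symm), z, fun x => ?_⟩
  rw [← hz, ← h1]
  exact MonoidHom.apply_ofInjective_symm m.inj _

/-- **The extension**, for the types without graph automorphisms. -/
theorem exists_ext (E : Frame hp p d (sg l 1) L) {d' : ℕ} {B : Fin l → Fin l → ℤ}
    (hB : H129.TorusChar.InvC D l d' B) (hB' : FamExt.InvC D l d' B) (hd : d' ≠ 0) (hd1 : d' = 1 ∨ d'.Prime)
    (hK : ∀ (F : Type) [Field F], IsSimpleGroup ↥(D.group F) ∧ ¬ IsMulCommutative ↥(D.group F))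
    (hs : ∀ π : Equiv.Perm (Fin D.rank), D.IsDiagramSymmetry π → π = 1) (θ : MulAut L) :
    ∃ (y : YY D p) (j : ℕ), ∀ x, E.ι (θ x) = y * FamUntw.phi D (kb p) p j (E.ι x) * y⁻¹ := by
  have := Fintype.ofFinite (GaloisField p E.e)
  obtain ⟨f⟩ := RowsUntw.exists_emb p (GaloisField p E.e)
  obtain ⟨e, z, he⟩ := exists_iso E hB hd hd1 (GaloisField p E.e) (GaloisField.card p E.e E.he.ne') (hK _) f
  obtain ⟨x0, δ, g, φ, h1, h2, h3, h4⟩ := H79.Steinberg.exists_fac hp.inList ((e.symm.trans θ).trans e)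
  obtain ⟨τ, rfl⟩ := H296.ESixGF.eq_fld hp h3
  obtain ⟨j, hj⟩ := FamField.exists_pow_eq p τ
  obtain ⟨t, -, ht⟩ := H296.Core.diag_ext hp f hB' hd
    (fun c _ => IsAlgClosed.exists_pow_nat_eq (f c) (Nat.pos_of_ne_zero hd)) h1
  have h5 : ∀ a, emb hp.inList f (CpAut.RgdUntw.fld D τ a) = FamUntw.phi D (kb p) p j (emb hp.inList f a) := fun a =>
    (FamExt.fld_emb hp f (fun a => by rw [FamField.frb_apply, hj, map_pow]) a).symm
  refine ⟨z * (emb hp.inList f x0 * t) * (FamUntw.phi D (kb p) p j z)⁻¹, j, fun x => ?_⟩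
  have h6 := congrArg (emb hp.inList f) (h4 (e x))
  simp only [MulEquiv.trans_apply, MulEquiv.trans_apply, MulEquiv.symm_apply_apply, he, map_mul, map_mul, map_inv, ht,
    DS.Ex.Untw.eq_one_of_symm hp.inList hs h2, MulAut.one_apply, h5, he, map_mul, map_mul, map_inv] at h6
  calc E.ι (θ x) = z * (z⁻¹ * E.ι (θ x) * z) * z⁻¹ := by group
    _ = _ := by rw [h6]; group

/-- **`BoxFExt`.** -/
theorem boxFExt : BoxFExt := by
  intro L _ _ E θ
  obtain ⟨y, j, h⟩ := exists_ext E H129.TorusChar.invC_E7 FamInst.inv_E7 (by norm_num) (Or.inr Nat.prime_two)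
    (fun F _ => S1054.result _ (by simp)) (fun _ => H79.DiagSymm.eq_one_E7) θ
  exact ⟨y, _, _, FamInst.phi_fr tE7 _ 2 (H469.Exc.locFin 2) j, h⟩

end Cfsg.Agent.Cam.Ex.FExt
end
end

-- part: Cam/Odd/Grp_mg
section
set_option linter.all false
open scoped Cfsg.Agent.FastGrp

-- part: Cam/Odd/Grp
section
/-!
# S3689, the small cases in odd characteristic: `BoxGrp` (helper86)

The simple subgroups of `PGL₂(k)` are `PSL₂(K)`, `K` finite of the same characteristic, or `A₅ = PSL₂(5)` (Dickson); the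
tetrahedral subgroup is written with the quaternion units.
-/

set_option autoImplicit false
set_option linter.unusedVariables false
set_option linter.unusedSimpArgs false

namespace Cfsg.Agent.Cam.Odd.Grp

open Matrix Subgroup
open Cfsg.Agent.H402.PSL2Cls
open Cfsg.Agent.Cam.Ex (kb IA)

/-- the facts about `PSL₂(K)`, `r` the characteristic of `K` -/
def Con (r : ℕ) (U : Type) [Group U] : Prop :=
  (∀ u v : U, orderOf u = 2 → orderOf v = 2 → IsConj u v) ∧
    (5 ≤ r → ∃ (u v : U) (k : ℕ), orderOf u = r ∧ v * u * v⁻¹ = u ^ k ∧ (k : ZMod r) ≠ 1) ∧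
    ∃ x₁ x₂ t : U, Tet x₁ x₂ t ∧
      (r ≠ 3 → (∃ y : U, orderOf y = 2 ∧ y * t * y⁻¹ = t⁻¹) ∧ ∀ s : U, orderOf s = 3 → IsConj s t)

theorem isConj_of_map {U V : Type} [Group U] [Group V] (e : U ≃* V) {a : U} {b : V} (h : IsConj (e a) b) :
    IsConj a (e.symm b) := by
  have h1 := e.symm.toMonoidHom.map_isConj h
  simpa using h1

theorem Con.congr {r : ℕ} {U V : Type} [Group U] [Group V] (e : U ≃* V) (h : Con r V) : Con r U := by
  obtain ⟨h1, h2, x₁, x₂, t, h3, h4⟩ := h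
  have ho : ∀ v : V, orderOf (e.symm v) = orderOf v := fun v => e.symm.orderOf_eq v
  refine ⟨fun u v hu hv => ?_, fun h5 => ?_, e.symm x₁, e.symm x₂, e.symm t, ⟨?_, ?_, ?_, ?_, ?_, ?_⟩, fun h5 => ?_⟩
  · have h6 := isConj_of_map e (h1 (e u) (e v) (by rw [e.orderOf_eq, hu]) (by rw [e.orderOf_eq, hv]))
    rwa [e.symm_apply_apply] at h6
  · obtain ⟨u, v, k, a1, a2, a3⟩ := h2 h5
    refine ⟨e.symm u, e.symm v, k, by rw [ho, a1], ?_, a3⟩
    rw [← map_inv, ← map_mul, ← map_mul, a2, map_pow]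
  · rw [ho, h3.o1]
  · exact fun h => h3.ne (e.symm.injective h)
  · rw [← map_mul, ← map_mul, h3.comm]
  · rw [← map_inv, ← map_mul, ← map_mul, h3.c1]
  · rw [← map_inv, ← map_mul, ← map_mul, h3.c2, map_mul]
  · rw [ho, h3.o3]
  · obtain ⟨⟨y, a1, a2⟩, a3⟩ := h4 h5
    refine ⟨⟨e.symm y, by rw [ho, a1], ?_⟩, fun s hs => isConj_of_map e (a3 _ (by rw [e.orderOf_eq, hs]))⟩
    rw [← map_inv, ← map_mul, ← map_mul, a2, map_inv]

section mat

variable {K : Type} [Field K]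

theorem mk00 (a b c e : K) (h : a * e - b * c = 1) : (mkSL a b c e h).1 0 0 = a := rfl
theorem mk01 (a b c e : K) (h : a * e - b * c = 1) : (mkSL a b c e h).1 0 1 = b := rfl
theorem mk10 (a b c e : K) (h : a * e - b * c = 1) : (mkSL a b c e h).1 1 0 = c := rfl
theorem mk11 (a b c e : K) (h : a * e - b * c = 1) : (mkSL a b c e h).1 1 1 = e := rfl
theorem o00 : (1 : SpecialLinearGroup (Fin 2) K).1 0 0 = 1 := rfl
theorem o01 : (1 : SpecialLinearGroup (Fin 2) K).1 0 1 = 0 := rfl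
theorem o10 : (1 : SpecialLinearGroup (Fin 2) K).1 1 0 = 0 := rfl
theorem o11 : (1 : SpecialLinearGroup (Fin 2) K).1 1 1 = 1 := rfl

/-- trace zero -/
theorem sq_of_tr {g : SpecialLinearGroup (Fin 2) K} (h : tr g = 0) : g * g = -1 := by
  have hd := det_eq g
  rw [tr] at h
  refine ext4 ?_ ?_ ?_ ?_
  · rw [mul00, neg_apply', o00]; linear_combination g.1 0 0 * h - hd
  · rw [mul01, neg_apply', o01]; linear_combination g.1 0 1 * h
  · rw [mul10, neg_apply', o10]; linear_combination g.1 1 0 * h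
  · rw [mul11, neg_apply', o11]; linear_combination g.1 1 1 * h - hd

theorem orderOf_of_tr (h2 : (2 : K) ≠ 0) {g : SpecialLinearGroup (Fin 2) K} (h : tr g = 0) : orderOf (pj g) = 2 := by
  have : Fact (Nat.Prime 2) := ⟨Nat.prime_two⟩
  refine orderOf_eq_prime ?_ fun h1 => ?_
  · rw [pow_two, ← pj_mul, sq_of_tr h, pj_neg, pj_one]
  · rw [← pj_one, eq_comm, pj_eq] at h1
    rcases h1 with h1 | h1
    · rw [h1, tr, o00, o11] at h
      exact h2 (by linear_combination h)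
    · rw [h1, tr_neg, tr, o00, o11] at h
      exact h2 (by linear_combination -h)

/-- trace `-1` -/
theorem cube_of_tr {g : SpecialLinearGroup (Fin 2) K} (h : tr g = -1) : g * g * g = 1 := by
  have hd := det_eq g
  rw [tr] at h
  have h1 : g.1 1 1 = -1 - g.1 0 0 := by linear_combination h
  rw [h1] at hd
  refine ext4 ?_ ?_ ?_ ?_
  · rw [mul00, mul00, mul01, o00, h1]; linear_combination (1 - g.1 0 0) * hd
  · rw [mul01, mul00, mul01, o01, h1]; linear_combination (-g.1 0 1) * hd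
  · rw [mul10, mul10, mul11, o10, h1]; linear_combination (-g.1 1 0) * hd
  · rw [mul11, mul10, mul11, o11, h1]; linear_combination (2 + g.1 0 0) * hd

/-- an element of order three of `PSL₂` -/
theorem tr_of_three {g : SpecialLinearGroup (Fin 2) K} (h : orderOf (pj g) = 3) : tr g = -1 ∨ tr (-g) = -1 := by
  have hd := det_eq g
  have h3 : pj (g * g * g) = pj 1 := by
    rw [pj_mul, pj_mul, pj_one, ← pow_three', ← h, pow_orderOf_eq_one]
  rw [eq_comm, pj_eq] at h3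
  have e01 : (g * g * g).1 0 1 = 0 := by
    rcases h3 with h3 | h3 <;> rw [h3]
    · rfl
    · rw [neg_apply', o01, neg_zero]
  have e10 : (g * g * g).1 1 0 = 0 := by
    rcases h3 with h3 | h3 <;> rw [h3]
    · rfl
    · rw [neg_apply', o10, neg_zero]
  have e00 : (g * g * g).1 0 0 = (g * g * g).1 1 1 := by
    rcases h3 with h3 | h3 <;> rw [h3]
    · rfl
    · rw [neg_apply', neg_apply', o00, o11]
  rw [mul01, mul00, mul01] at e01
  rw [mul10, mul10, mul11] at e10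
  rw [mul00, mul00, mul01, mul11, mul10, mul11] at e00
  by_contra hn
  rw [not_or, tr_neg, tr] at hn
  have ht : (g.1 0 0 + g.1 1 1) ^ 2 - 1 ≠ 0 := by
    intro h0
    have h1 : (g.1 0 0 + g.1 1 1 + 1) * (g.1 0 0 + g.1 1 1 - 1) = 0 := by linear_combination h0
    rcases mul_eq_zero.1 h1 with h1 | h1
    · exact hn.1 (by linear_combination h1)
    · exact hn.2 (by linear_combination -h1)
  have f01 : g.1 0 1 = 0 := by
    refine (mul_eq_zero.1 (?_ : ((g.1 0 0 + g.1 1 1) ^ 2 - 1) * g.1 0 1 = 0)).resolve_left ht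
    linear_combination e01 + g.1 0 1 * hd
  have f10 : g.1 1 0 = 0 := by
    refine (mul_eq_zero.1 (?_ : ((g.1 0 0 + g.1 1 1) ^ 2 - 1) * g.1 1 0 = 0)).resolve_left ht
    linear_combination e10 + g.1 1 0 * hd
  have f00 : g.1 0 0 - g.1 1 1 = 0 := by
    refine (mul_eq_zero.1 (?_ : ((g.1 0 0 + g.1 1 1) ^ 2 - 1) * (g.1 0 0 - g.1 1 1) = 0)).resolve_left ht
    linear_combination e00 + (g.1 0 0 - g.1 1 1) * hd
  have h1 : (g.1 0 0 - 1) * (g.1 0 0 + 1) = 0 := by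
    linear_combination hd + g.1 0 0 * f00 + g.1 0 1 * f10
  have h2 : pj g = 1 := by
    rw [← pj_one, eq_comm, pj_eq]
    rcases mul_eq_zero.1 h1 with h1 | h1
    · refine Or.inl (ext4 ?_ f01 f10 ?_)
      · rw [o00]; linear_combination h1
      · rw [o11]; linear_combination h1 - f00
    · refine Or.inr (ext4 ?_ ?_ ?_ ?_)
      · rw [neg_apply', o00]; linear_combination h1
      · rw [neg_apply', o01, neg_zero]; exact f01
      · rw [neg_apply', o10, neg_zero]; exact f10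
      · rw [neg_apply', o11]; linear_combination h1 - f00
  rw [h2, orderOf_one] at h
  exact absurd h (by norm_num)

/-- an element which inverts an element of trace `-1` has trace zero -/
theorem tr_of_inv (h3 : (3 : K) ≠ 0) {g t : SpecialLinearGroup (Fin 2) K} (ht : tr t = -1) (h : t * t * g = g * t) :
    tr g = 0 := by
  have hd := det_eq t
  rw [tr] at ht ⊢
  have h1 : t.1 1 1 = -1 - t.1 0 0 := by linear_combination ht
  rw [h1] at hd
  have e00 : (t * t * g).1 0 0 = (g * t).1 0 0 := by rw [h]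
  have e01 : (t * t * g).1 0 1 = (g * t).1 0 1 := by rw [h]
  have e10 : (t * t * g).1 1 0 = (g * t).1 1 0 := by rw [h]
  have e11 : (t * t * g).1 1 1 = (g * t).1 1 1 := by rw [h]
  rw [mul00, mul00, mul01, mul00, h1] at e00
  rw [mul01, mul00, mul01, mul01, h1] at e01
  rw [mul10, mul10, mul11, mul10, h1] at e10
  rw [mul11, mul10, mul11, mul11, h1] at e11
  have a1 : t.1 0 1 * (g.1 0 0 + g.1 1 1) = 0 := by linear_combination -e01 - g.1 0 1 * hd
  have a2 : (2 * t.1 0 0 + 1) * (g.1 0 0 + g.1 1 1) = 0 := by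
    linear_combination -e00 + e11 + (g.1 1 1 - g.1 0 0) * hd
  refine (mul_eq_zero.1 (?_ : 3 * (g.1 0 0 + g.1 1 1) = 0)).resolve_left h3
  linear_combination -(2 * t.1 0 0 + 1) * a2 - 4 * t.1 1 0 * a1 - 4 * (g.1 0 0 + g.1 1 1) * hd

/-- the tetrahedral subgroup -/
theorem exists_tet (h2 : (2 : K) ≠ 0) {a b : K} (hab : a ^ 2 + b ^ 2 = -1) :
    ∃ (x₁ x₂ : PSL K) (t : SpecialLinearGroup (Fin 2) K), tr t = -1 ∧ Tet x₁ x₂ (pj t) := by
  have : Fact (Nat.Prime 3) := ⟨Nat.prime_three⟩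
  obtain ⟨h, hh⟩ : ∃ h : K, 2 * h = 1 := ⟨2⁻¹, mul_inv_cancel₀ h2⟩
  let i : SpecialLinearGroup (Fin 2) K := mkSL 0 1 (-1) 0 (by ring)
  let j : SpecialLinearGroup (Fin 2) K := mkSL a b b (-a) (by linear_combination -hab)
  let t : SpecialLinearGroup (Fin 2) K := mkSL (-h * (1 + a + b)) (-h * (1 + b - a)) (-h * (-1 + b - a))
    (-h * (1 - a - b)) (by linear_combination (-2 * h ^ 2) * hab + (2 * h + 1) * hh)
  have ht : tr t = -1 := by
    rw [tr, mk00, mk11]; linear_combination -hh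
  have c1 : t * i = j * t := by
    refine ext4 ?_ ?_ ?_ ?_
    · simp only [t, i, j, mul00, mk00, mk01, mk10, mk11]; linear_combination h * hab
    · simp only [t, i, j, mul01, mk00, mk01, mk10, mk11]; linear_combination -h * hab
    · simp only [t, i, j, mul10, mk00, mk01, mk10, mk11]; linear_combination h * hab
    · simp only [t, i, j, mul11, mk00, mk01, mk10, mk11]; linear_combination h * hab
  have c2 : t * j = i * j * t := by
    refine ext4 ?_ ?_ ?_ ?_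
    · simp only [t, i, j, mul00, mul01, mul10, mul11, mk00, mk01, mk10, mk11]; ring
    · simp only [t, i, j, mul00, mul01, mul10, mul11, mk00, mk01, mk10, mk11]; ring
    · simp only [t, i, j, mul00, mul01, mul10, mul11, mk00, mk01, mk10, mk11]; ring
    · simp only [t, i, j, mul00, mul01, mul10, mul11, mk00, mk01, mk10, mk11]; ring
  have c3 : j * i = -(i * j) := by
    refine ext4 ?_ ?_ ?_ ?_ <;>
      simp only [i, j, neg_apply', mul00, mul01, mul10, mul11, mk00, mk01, mk10, mk11] <;> ring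
  have hne : pj i ≠ pj j := by
    intro h1
    have a1 : b = 1 ∧ b = -1 := by
      rcases pj_eq.1 h1 with h1 | h1
      · have e1 : j.1 0 1 = i.1 0 1 := by rw [h1]
        have e2 : j.1 1 0 = i.1 1 0 := by rw [h1]
        exact ⟨e1, e2⟩
      · have e1 : j.1 0 1 = -i.1 0 1 := by rw [h1, neg_apply']
        have e2 : j.1 1 0 = -i.1 1 0 := by rw [h1, neg_apply']
        exact ⟨e2.trans (neg_neg 1), e1⟩
    exact h2 (by linear_combination a1.2 - a1.1)
  have d1 : pj t * pj i * (pj t)⁻¹ = pj j := by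
    rw [← pj_mul, c1, pj_mul, mul_inv_cancel_right]
  refine ⟨pj i, pj j, t, ht, orderOf_of_tr h2 ?_, hne, ?_, d1, ?_, orderOf_eq_prime ?_ fun h1 => hne ?_⟩
  · rw [tr, mk00, mk11, add_zero]
  · rw [← pj_mul, ← pj_mul, c3, pj_neg]
  · rw [← pj_mul, c2, pj_mul, mul_inv_cancel_right, pj_mul]
  · rw [pow_three', ← pj_mul, ← pj_mul, cube_of_tr ht, pj_one]
  · rw [← d1, h1, one_mul, inv_one, mul_one]

/-- unipotent elements -/
def un (s : K) : SpecialLinearGroup (Fin 2) K := mkSL 1 s 0 1 (by ring)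

theorem un_pow (n : ℕ) : (un (1 : K)) ^ n = un (n : K) := by
  induction n with
  | zero => rw [pow_zero, Nat.cast_zero]; exact ext4 rfl rfl rfl rfl
  | succ n ih =>
    rw [pow_succ, ih]
    refine ext4 ?_ ?_ ?_ ?_ <;> simp only [un, mul00, mul01, mul10, mul11, mk00, mk01, mk10, mk11] <;> push_cast <;> ring

theorem con_psl [Fintype K] (r : ℕ) [hr : Fact r.Prime] [CharP K r] (hr2 : r ≠ 2) : Con r (PSL K) := by
  have h2 : (2 : K) ≠ 0 := fun h => hr2 ((Nat.prime_dvd_prime_iff_eq hr.out Nat.prime_two).1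
    ((CharP.cast_eq_zero_iff K r 2).1 (by exact_mod_cast h)))
  have h3 : r ≠ 3 → (3 : K) ≠ 0 := fun hr3 h => hr3 ((Nat.prime_dvd_prime_iff_eq hr.out Nat.prime_three).1
    ((CharP.cast_eq_zero_iff K r 3).1 (by exact_mod_cast h)))
  have hodd : Odd (Fintype.card K) := by
    refine Nat.odd_iff.2 (FiniteField.odd_card_of_char_ne_two ?_)
    rw [ringChar.eq K r]
    exact hr2
  refine ⟨ClassicalGeometry.SLTwoFour.psl_isConj hodd, fun h5 => ?_, ?_⟩
  · obtain ⟨h, hh⟩ : ∃ h : K, 2 * h = 1 := ⟨2⁻¹, mul_inv_cancel₀ h2⟩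
    let v : SpecialLinearGroup (Fin 2) K := mkSL 2 0 0 h (by linear_combination hh)
    have c1 : v * un 1 = un ((4 : ℕ) : K) * v := by
      refine ext4 ?_ ?_ ?_ ?_
      · simp only [v, un, mul00, mk00, mk01, mk10, mk11]; ring
      · simp only [v, un, mul01, mk00, mk01, mk10, mk11]; push_cast; linear_combination -2 * hh
      · simp only [v, un, mul10, mk00, mk01, mk10, mk11]; ring
      · simp only [v, un, mul11, mk00, mk01, mk10, mk11]; ring
    have hp : ∀ n : ℕ, pj (un (1 : K)) ^ n = pj (un (n : K)) := fun n => by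
      rw [← un_pow]; rfl
    refine ⟨pj (un 1), pj v, 4, orderOf_eq_prime ?_ fun h1 => ?_, ?_, fun h1 => ?_⟩
    · rw [hp, CharP.cast_eq_zero K r, ← pj_one]
      congr 1
      exact ext4 rfl rfl rfl rfl
    · rw [← pj_one, eq_comm, pj_eq] at h1
      rcases h1 with h1 | h1
      · have e1 : (un (1 : K)).1 0 1 = 0 := by rw [h1, o01]
        exact one_ne_zero e1
      · have e1 : (un (1 : K)).1 0 1 = 0 := by rw [h1, neg_apply', o01, neg_zero]
        exact one_ne_zero e1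
    · rw [← pj_mul, c1, pj_mul, mul_inv_cancel_right, hp]
    · have h6 : ((3 : ℕ) : ZMod r) = 0 := by
        push_cast at h1 ⊢
        linear_combination h1
      have h7 := Nat.le_of_dvd (by norm_num) ((ZMod.natCast_eq_zero_iff 3 r).1 h6)
      omega
  · have : NeZero r := ⟨hr.out.ne_zero⟩
    obtain ⟨a, b, hab⟩ := CharP.sq_add_sq K r (-1)
    obtain ⟨x₁, x₂, t, ht, hT⟩ := exists_tet h2 (a := (a : K)) (b := (b : K)) (by exact_mod_cast hab)
    refine ⟨x₁, x₂, pj t, hT, fun hr3 => ?_⟩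
    have h4 : tr t ^ 2 ≠ 4 := by
      rw [ht]
      exact fun h => h3 hr3 (by linear_combination -h)
    have hi : t * t = t⁻¹ := eq_inv_of_mul_eq_one_left (cube_of_tr ht)
    refine ⟨?_, fun s hs => ?_⟩
    · have h5 : tr t = tr (t * t) := by
        have hd := det_eq t
        rw [tr] at ht
        rw [tr, tr, mul00, mul11]
        linear_combination (-(t.1 0 0 + t.1 1 1) + 2) * ht + 2 * hd
      obtain ⟨g, hg⟩ := exists_conj_of_tr_eq h5 h4
      refine ⟨pj g, orderOf_of_tr h2 (tr_of_inv (h3 hr3) ht (by rw [hg, inv_mul_cancel_right])), ?_⟩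
      rw [← pj_inv, ← pj_inv, ← pj_mul, ← pj_mul, ← hg, hi]
    · obtain ⟨s, rfl⟩ := pj_surj s
      refine IsConj.symm ((isConj_pj h4).2 ?_)
      rcases tr_of_three hs with h | h
      · exact ⟨s, h.trans ht.symm, rfl⟩
      · exact ⟨-s, h.trans ht.symm, pj_neg s⟩

end mat

/-- Dickson's theorem for simple subgroups -/
theorem dick {F : Type} [Field F] [Fintype F] (p : ℕ) [Fact p.Prime] [CharP F p] (H : Subgroup (PSL F))
    (hs : IsSimpleGroup H) (hc : ¬ IsMulCommutative H) :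
    Nonempty (H ≃* alternatingGroup (Fin 5)) ∨
      ∃ (K : Type) (_ : Field K) (_ : Fintype K) (_ : CharP K p), Nonempty (H ≃* PSL K) := by
  have h60 : 60 ≤ Nat.card H := Cfsg.Agent.H894.sixty_le hc
  have hns : ¬ Group.IsSolvable H := fun h => hc ⟨⟨fun a b => IsSimpleGroup.comm_iff_isSolvable.2 h a b⟩⟩
  rcases Cfsg.Agent.S0799.result (q := Fintype.card F) rfl p H with ⟨k, -, h | ⟨⟨e⟩⟩⟩ | ⟨P, K, hK, ⟨e⟩⟩ | ⟨⟨e⟩⟩ | ⟨⟨e⟩⟩ |
    h | ⟨K, _, _, m, hm, ⟨⟨e⟩⟩ | ⟨⟨e⟩⟩⟩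
  · exact absurd h.1.isMulCommutative hc
  · have := Cfsg.Agent.ClassicalGeometry.PSL2Solvable.isSolvable_dihedral k
    exact absurd (Group.isSolvable_of_isSolvable_injective (f := e.toMonoidHom) e.injective) hns
  · have := ClassicalGeometry.PSL2Solvable.isSolvable_of_le_normalizer p P K hK
    exact absurd (Group.isSolvable_of_isSolvable_injective (f := e.toMonoidHom) e.injective) hns
  · exfalso
    rw [Nat.card_congr e.toEquiv, nat_card_alternatingGroup] at h60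
    norm_num [Nat.factorial] at h60
  · exfalso
    rw [Nat.card_congr e.toEquiv, Nat.card_perm, Nat.card_fin] at h60
    norm_num [Nat.factorial] at h60
  · exact Or.inl h
  · exact Or.inr ⟨K, inferInstance, inferInstance, H19.RP.charP_of_pow p hm, ⟨e⟩⟩
  · have hsp : IsSimpleGroup (ProjGenLinGroup (Fin 2) K) := e.symm.isSimpleGroup
    obtain ⟨f⟩ := H19.RP.pgl_psl hsp
    exact Or.inr ⟨K, inferInstance, inferInstance, H19.RP.charP_of_pow p hm, ⟨e.trans f⟩⟩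

/-- descent to a finite field -/
theorem descend (p : ℕ) [Fact p.Prime] {U : Type} [Group U] [Finite U] (f : U →* PSL (kb p))
    (hf : Function.Injective f) :
    ∃ (F : Type) (_ : Field F) (_ : Fintype F) (_ : CharP F p) (H : Subgroup (PSL F)), Nonempty (U ≃* H) := by
  choose j hj using fun u => pj_surj (f u)
  obtain ⟨E, hE, hS⟩ := H212.BR.locfin (ZMod p) (Set.range fun x : U × Fin 2 × Fin 2 => (j x.1).1 x.2.1 x.2.2)
    (Set.finite_range _)
  let φ : PSL E →* PSL (kb p) := ClassicalGeometry.PSL2Basic.pslMap E.subtype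
  have hφ : Function.Injective φ := ClassicalGeometry.PSL2Basic.pslMap_injective E.subtype
  have hr : f.range ≤ φ.range := by
    rintro _ ⟨u, rfl⟩
    have hm : ∀ a b, (j u).1 a b ∈ E := fun a b => hS ⟨(u, a, b), rfl⟩
    refine ⟨pj (mkSL ⟨_, hm 0 0⟩ ⟨_, hm 0 1⟩ ⟨_, hm 1 0⟩ ⟨_, hm 1 1⟩ (Subtype.ext (det_eq (j u)))), ?_⟩
    rw [← hj u]
    refine (ClassicalGeometry.PSL2Basic.pslMap_mk E.subtype _).trans ?_
    rw [pj]
    congr 1
    exact ext4 rfl rfl rfl rfl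
  refine ⟨E, inferInstance, Fintype.ofFinite E, inferInstance, f.range.comap φ, ⟨?_⟩⟩
  exact (MonoidHom.ofInjective hf).trans ((MulEquiv.subgroupCongr (map_comap_eq_self hr).symm).trans
    (equivMapOfInjective _ φ hφ).symm)

theorem con_of_inj (p : ℕ) [hp : Fact p.Prime] (hp2 : p ≠ 2) {U : Type} [Group U] [Finite U] (hs : IsSimpleGroup U)
    (hc : ¬ IsMulCommutative U) (f : U →* PSL (kb p)) (hf : Function.Injective f) :
    Con p U ∨ (Con 5 U ∧ Nat.card U = 60) := by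
  obtain ⟨F, _, _, _, H, ⟨e⟩⟩ := descend p f hf
  have hc' : ¬ IsMulCommutative H := fun h =>
    hc ⟨⟨fun a b => e.injective (by rw [map_mul, map_mul]; exact h.is_comm.comm _ _)⟩⟩
  rcases dick p H e.symm.isSimpleGroup hc' with ⟨⟨g⟩⟩ | ⟨K, _, _, _, ⟨g⟩⟩
  · have : Fact (Nat.Prime 5) := ⟨Nat.prime_five⟩
    obtain ⟨g'⟩ := Cfsg.Agent.S0253.result (F := ZMod 5) (ZMod.card 5)
    refine Or.inr ⟨Con.congr ((e.trans g).trans g'.symm) (con_psl 5 (by norm_num)), ?_⟩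
    rw [Nat.card_congr (e.trans g).toEquiv, nat_card_alternatingGroup]
    norm_num [Nat.factorial]
  · exact Or.inl (Con.congr (e.trans g) (con_psl p hp2))

/-- the homomorphism to `PSL₂(k)` -/
theorem exists_inj {k : Type} [Field k] {U : Type} [Group U] (hs : IsSimpleGroup U) {Y : Type} [Group Y]
    (ψ : Ex.S2.SL k →* Y) (a : U →* Y) (hψ : Ex.S2.CK ψ) (hi : ∀ u, ∃ j, IA ψ (a u) j) (hn : ∃ u, ¬ Ex.S2.Cz ψ (a u)) :
    ∃ f : U →* PSL k, Function.Injective f := by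
  choose j hj using hi
  let f : U →* PSL k := MonoidHom.mk' (fun u => pj (j u)) fun u v => by
    have h1 : IA ψ (a (u * v)) (j u * j v) := by
      rw [map_mul]
      exact (hj u).mul (hj v)
    exact QuotientGroup.eq.2 (hψ.inn_unique (hj (u * v)) h1)
  refine ⟨f, f.ker_eq_bot_iff.1 ((f.normal_ker.eq_bot_or_eq_top).resolve_right fun h => ?_)⟩
  obtain ⟨u, hu⟩ := hn
  have h1 : u ∈ f.ker := by rw [h]; trivial
  exact hu (Ex.S2.cz_of_inn (hj u) ((QuotientGroup.eq_one_iff _).1 h1))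

/-- two values on a set of odd size -/
theorem exists_fix {X : Type} [Finite X] (hX : Odd (Nat.card X)) (σ : X → X) (hσ : Function.Injective σ) (f : X → ℕ)
    (a b : ℕ) (hf : ∀ x, f x = a ∨ f x = b) : ∃ x, f (σ x) = f x := by
  classical
  by_contra hn
  push Not at hn
  have h1 : ∀ x, f x = a → ¬ f (σ x) = a := fun x h h' => hn x (h'.trans h.symm)
  have h2 : ∀ x, ¬ f x = a → f (σ x) = a := fun x h =>
    (hf (σ x)).resolve_right fun h' => hn x (h'.trans ((hf x).resolve_left h).symm)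
  have a1 : Nat.card {x // f x = a} ≤ Nat.card {x // ¬ f x = a} :=
    Nat.card_le_card_of_injective (fun x => ⟨σ x.1, h1 _ x.2⟩) fun x y h => Subtype.ext (hσ (congrArg Subtype.val h))
  have a2 : Nat.card {x // ¬ f x = a} ≤ Nat.card {x // f x = a} :=
    Nat.card_le_card_of_injective (fun x => ⟨σ x.1, h2 _ x.2⟩) fun x y h => Subtype.ext (hσ (congrArg Subtype.val h))
  rw [← Nat.card_congr (Equiv.sumCompl fun x => f x = a), Nat.card_sum] at hX
  obtain ⟨m, hm⟩ := hX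
  omega

/-- **`BoxGrp`** -/
theorem boxGrp : BoxGrp where
  two := fun U _ _ hs hc => by
    have : Fact (Nat.Prime 2) := ⟨Nat.prime_two⟩
    refine exists_prime_orderOf_dvd_card' 2 ?_
    by_contra h
    have hodd : Odd (Nat.card U) := by rwa [← Nat.not_even_iff_odd, even_iff_two_dvd]
    exact hc ⟨⟨IsSimpleGroup.comm_iff_isSolvable.2 (Cfsg.Agent.S0205.result hodd)⟩⟩
  zs := fun U _ _ hs hc u hu => by
    obtain ⟨g, h1, h2⟩ := StandardComponent.StdCtx.fusion hc hu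
    exact ⟨g, h2, h1.symm.eq⟩
  par := fun U _ _ ψ hψ hu f a b hf => by
    obtain ⟨u, hu⟩ := hu
    have h1 : Odd (Nat.card {t : U // orderOf t = 2}) :=
      Cfsg.Agent.S0226.result (even_iff_two_dvd.2 (hu ▸ orderOf_dvd_natCard u))
    obtain ⟨x, hx⟩ := exists_fix h1 (fun t => ⟨ψ t.1, (orderOf_injective ψ hψ t.1).trans t.2⟩)
      (fun x y h => Subtype.ext (hψ (congrArg Subtype.val h))) (fun t => f t.1) a b fun t => hf t.1 t.2
    exact ⟨x.1, x.2, hx⟩
  pgl := fun p hp hp2 U _ _ hs hc Y _ ψ a hψ hi hn => by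
    obtain ⟨f, hf⟩ := exists_inj hs ψ a hψ hi hn
    rcases con_of_inj p hp2 hs hc f hf with ⟨h1, h2, h3⟩ | ⟨⟨h1, h2, x₁, x₂, t, h3, h4⟩, h5⟩
    · exact ⟨h1, fun h _ => h2 h, h3⟩
    · refine ⟨h1, fun h h6 => ?_, x₁, x₂, t, h3, fun _ => h4 (by norm_num)⟩
      rw [h5] at h6
      have h7 : p = 5 := by
        have h8 : p ∣ 2 * 2 * 3 * 5 := h6
        have hpp := hp.out
        rw [hpp.dvd_mul, hpp.dvd_mul, hpp.dvd_mul, Nat.prime_dvd_prime_iff_eq hpp Nat.prime_two,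
          Nat.prime_dvd_prime_iff_eq hpp Nat.prime_three, Nat.prime_dvd_prime_iff_eq hpp Nat.prime_five] at h8
        omega
      subst h7
      exact h2 le_rfl

end Cfsg.Agent.Cam.Odd.Grp
end

-- part: Cam/Odd/Ext
section
/-!
# S3689, exceptional rows: `BoxExt` (helper53)
-/

set_option autoImplicit false
set_option linter.unusedVariables false

namespace Cfsg.Agent.Cam.Odd.Ext

open CoxeterSystem Cfsg Cfsg.Lie Subgroup Module
open Cfsg.Agent.Nodes.RGDChev Cfsg.Agent.Cam.Ex Cfsg.Agent.BpExc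
open Cfsg.Agent.DS.Nt (dd ad Fx)

section lin

variable {K V : Type} [Field K] [AddCommGroup V] [Module K V] {σ : K → K} (hσ : Function.Bijective σ) {j : V ≃+ V}
  (hj : ∀ (c : K) (v : V), j (c • v) = σ c • j v)

include hσ hj

theorem finrank_eq {A B : Submodule K V} (h : ∀ v, j v ∈ B ↔ v ∈ A) : finrank K B = finrank K A := by
  let e : A ≃+ B :=
    { toFun := fun v => ⟨j v.1, (h _).2 v.2⟩
      invFun := fun v => ⟨j.symm v.1, (h _).1 (by rw [AddEquiv.apply_symm_apply]; exact v.2)⟩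
      left_inv := fun v => Subtype.ext (j.symm_apply_apply _)
      right_inv := fun v => Subtype.ext (j.apply_symm_apply _)
      map_add' := fun v w => Subtype.ext (j.map_add _ _) }
  unfold finrank
  rw [rank_eq_of_equiv_equiv σ e hσ fun c v => Subtype.ext (hj c v.1)]

theorem rk2_eq {f g : Module.End K V} (h : ∀ v, g (j v) = j (f v)) : rk2 g = rk2 f := by
  have h1 : ∀ v, ((g - 1) ^ 2 : Module.End K V) (j v) = j (((f - 1) ^ 2 : Module.End K V) v) := fun v => by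
    simp only [pow_two, Module.End.mul_apply, LinearMap.sub_apply, Module.End.one_apply, map_sub, h]
  refine finrank_eq hσ hj fun v => ⟨?_, ?_⟩
  · rintro ⟨w, hw⟩
    refine ⟨j.symm w, j.injective ?_⟩
    rw [← h1, AddEquiv.apply_symm_apply, hw]
  · rintro ⟨w, rfl⟩
    exact ⟨j w, h1 w⟩

end lin

variable {D : ChevalleyDatum} {p : ℕ} [Fact p.Prime]

/-- the semilinear map attached to `y φ_j` -/
theorem exists_semi (y : YY D p) (m : ℕ) : ∃ (σ : kb p → kb p) (j : (D.Idx → kb p) ≃+ (D.Idx → kb p)),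
    Function.Bijective σ ∧ (∀ c v, j (c • v) = σ c • j v) ∧
    ∀ x v, ad D p (y * FamUntw.phi D (kb p) p m x * y⁻¹) (j v) = j (ad D p x v) := by
  let σ := FamField.frb (kb p) p m
  let j₀ : (D.Idx → kb p) ≃+ (D.Idx → kb p) := AddEquiv.piCongrRight fun _ => σ.toAddEquiv
  have h0 : ∀ v i, j₀ v i = σ (v i) := fun _ _ => rfl
  refine ⟨σ, j₀.trans (DS.Nt.adE y).toAddEquiv, σ.bijective, fun c v => ?_, fun x v => ?_⟩
  · show ad D p y (j₀ (c • v)) = σ c • ad D p y (j₀ v)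
    rw [← map_smul]
    congr 1
    funext i
    rw [h0, Pi.smul_apply, Pi.smul_apply, h0, smul_eq_mul, smul_eq_mul, map_mul]
  · show ad D p _ (ad D p y (j₀ v)) = ad D p y (j₀ (ad D p x v))
    rw [← DS.Nt.ad_mul, inv_mul_cancel_right, DS.Nt.ad_mul]
    congr 1
    funext i
    rw [h0, DS.Nt.ad_apply, DS.Nt.ad_apply, FamUntw.phi_coe]
    simp only [Matrix.mulVec, dotProduct, map_sum, map_mul, Matrix.map_apply, h0]
    exact Finset.sum_congr rfl fun k _ => congrArg (· * _) (FamField.frb_apply _ _ _ _).symm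

theorem of_ext {L : Type} [Group L] {ι : L →* YY D p} {θ : MulAut L} {y : YY D p} {m : ℕ}
    (h : ∀ x, ι (θ x) = y * FamUntw.phi D (kb p) p m (ι x) * y⁻¹) :
    (∀ x : L, dd p (ι (θ x)) = dd p (ι x)) ∧ (∀ x : L, rk2 (ad D p (ι (θ x))) = rk2 (ad D p (ι x))) ∧
    ∀ S : Set L, finrank (kb p) (Fx p (ι '' (θ '' S))) = finrank (kb p) (Fx p (ι '' S)) := by
  obtain ⟨σ, j, hσ, hj, h1⟩ := exists_semi y m
  have h2 : ∀ x v, ad D p (ι (θ x)) (j v) = j (ad D p (ι x) v) := fun x v => by rw [h, h1]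
  refine ⟨fun x => ?_, fun x => rk2_eq hσ hj (h2 x), fun S => ?_⟩
  · refine finrank_eq hσ hj fun v => ?_
    rw [Module.End.mem_eigenspace_iff, Module.End.mem_eigenspace_iff, one_smul, one_smul, h2, j.injective.eq_iff]
  · refine finrank_eq hσ hj fun v => ?_
    simp only [DS.Nt.mem_Fx, Set.forall_mem_image, h2, j.injective.eq_iff]

/-- **`BoxExt`.** -/
theorem boxExt : BoxExt := by
  intro p _ d hd L _ _ E θ
  obtain ⟨y, m, h⟩ := FExt.exists_ext E H129.TorusChar.invC_E7 FamInst.inv_E7 (by norm_num) (Or.inr Nat.prime_two)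
    (fun F _ => S1054.result _ (by simp)) (fun _ => H79.DiagSymm.eq_one_E7) θ
  exact of_ext h

end Cfsg.Agent.Cam.Odd.Ext
end

private theorem dce_0ef4625a0ce6 : _root_.True := by
  try have : _root_.True := by simp only [_root_.Cfsg.Agent.H402.PSL2Cls.mkSL.congr_simp]
  try have : _root_.True := by simp only [_root_.Cfsg.Agent.Cam.Odd.Grp.un.eq_1]
  exact _root_.True.intro
end

-- part: Cam/Ex/PRoot
section
prune_inst 0x30004500740002000018001020000020340000900040080030e10142094f5060a52068014b000803482a80800000002002540010400000000a000000000000208008420213400d04660099803006000000000000000000000000000000041000000000000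
set_option linter.all false
open scoped Cfsg.Agent.FastGrp

/-!
# Exceptional rows, `BoxP`: roots (helper65)

* `cp_le3`, `cp_le2`, `cp_lt4`, `refl_rt`, `exists_refl` : Cartan numbers and reflections;
* `nm` : the norm of a root; `nm_add`, `nm_le`;
* `so_of`, `far_cz` : far roots give commuting root groups.
-/

set_option autoImplicit false
set_option linter.unusedVariables false
set_option linter.unusedSectionVars false

namespace Cfsg.Agent.Cam.Ex.P

open CoxeterSystem Cfsg Cfsg.Lie Subgroup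
open Cfsg.Agent.ChevalleyStructure.CoxeterGeom Cfsg.Agent.ChevalleyStructure.CoxeterGeomTypes
open Cfsg.Agent.Tits.Roots Cfsg.Agent.Nodes.BNOf Cfsg.Agent.Nodes.RGDChev Cfsg.Agent.Nodes.Coroot
open Cfsg.Agent.KFacts.RgdChevCoord Cfsg.Agent.BpExc.TorCent Cfsg.Agent.BpExc.LangFr Cfsg.Agent.BpExc.SubBN
open Cfsg.Agent.Cam.Spor Cfsg.Agent.Cam.Ex.S2
open Cfsg.Agent.ChevalleyStructure.SL2Hom (up lo)
open Cfsg.Agent.Nodes.RGDFoldSL (hS wS)
open Cfsg.Agent.DS.Nt (RP)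
open scoped commutatorElement

variable {D : ChevalleyDatum} {l : ℕ} {M : CoxeterMatrix (Fin l)} {hp : IsType D l M} {p : ℕ} [Fact p.Prime]
  {a b c : Lat l}

theorem cp_le3 (ha : Rt hp a) (hc : Rt hp c) : -3 ≤ cp hp a c ∧ cp hp a c ≤ 3 := by
  have := finite_WW hp
  exact H123.ExcComb.abs_cpr_le ha hc

theorem cp_lt4 (ha : Rt hp a) (hc : Rt hp c) (h1 : a ≠ c) (h2 : a ≠ -c) : cp hp a c * cp hp c a < 4 := by
  have := finite_WW hp
  exact KFacts.RgdSL.cpr_mul_lt ha hc h1 h2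

theorem cp_pos_comm (ha : Rt hp a) (hc : Rt hp c) : 0 < cp hp a c ↔ 0 < cp hp c a := by
  have := finite_WW hp
  exact H123.ExcComb.cpr_pos_comm ha hc

theorem cp_sub (a b : Lat l) (hc : Rt hp c) : cp hp (a - b) c = cp hp a c - cp hp b c := by
  rw [sub_eq_add_neg, cp_add _ _ hc, cp_neg _ hc, sub_eq_add_neg]

theorem add_iff_sub (hc : Rt hp c) (h0 : cp hp a c = 0) : Rt hp (a + c) ↔ Rt hp (a - c) := by
  have := finite_WW hp
  exact H123.ExcComb.add_iff_sub hc h0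

theorem ne_of_cp (hc : Rt hp c) (h : cp hp a c ≠ 2) : a ≠ c := by
  rintro rfl
  exact h (cp_self hc)

theorem ne_neg_of_cp (hc : Rt hp c) (h : cp hp a c ≠ -2) : a ≠ -c := by
  rintro rfl
  exact h (by rw [cp_neg _ hc, cp_self hc])

/-- the reflection in `c` -/
theorem exists_refl (hc : Rt hp c) :
    ∃ w : M.Group, (∀ S : Set (Lat l), c ∈ S → w ∈ WW hp S) ∧ ∀ a, wa hp w a = a - cp hp a c • c := by
  have := finite_WW hp
  obtain ⟨v, i, rfl⟩ := hc
  exact ⟨_, fun S h => subset_closure ⟨v, i, h, rfl⟩, fun a => rep_rfl'_eq _ _ v i a⟩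

/-- induction over a reflection group -/
theorem WW_ind {S : Set (Lat l)} (hS : ∀ a ∈ S, Rt hp a) {K : Subgroup M.Group}
    (h : ∀ c ∈ S, ∀ w : M.Group, (∀ a, wa hp w a = a - cp hp a c • c) → w ∈ K) : WW hp S ≤ K := by
  have := finite_WW hp
  refine (closure_le _).2 ?_
  rintro _ ⟨v, i, h1, rfl⟩
  exact h _ h1 _ fun a => rep_rfl'_eq _ _ v i a

/-- the stabilizer of a finite set of roots -/
def stab (hp : IsType D l M) (S : Set (Lat l)) : Subgroup M.Group where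
  carrier := {w | ∀ a, wa hp w a ∈ S ↔ a ∈ S}
  one_mem' a := by rw [wa_one]
  mul_mem' {v w} hv hw a := by rw [wa_mul, hv, hw]
  inv_mem' {w} hw a := by rw [← hw, wa_wa_inv]

theorem WW_stab {S S' : Set (Lat l)} (hS : ∀ a ∈ S, Rt hp a) (h : ∀ c ∈ S, ∀ a ∈ S', a - cp hp a c • c ∈ S')
    {w : M.Group} (hw : w ∈ WW hp S) (a : Lat l) : wa hp w a ∈ S' ↔ a ∈ S' := by
  refine WW_ind (K := stab hp S') hS (fun c hc v hv a => ?_) hw a
  rw [hv]
  refine ⟨fun h1 => ?_, h c hc a⟩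
  have h2 := h c hc _ h1
  rw [cp_sub _ _ (hS c hc), cp_smul _ _ (hS c hc), cp_self (hS c hc)] at h2
  have e : a - cp hp a c • c - (cp hp a c - cp hp a c * 2) • c = a := by module
  rwa [e] at h2

/-- the invariant form -/
noncomputable def fm (hp : IsType D l M) (a b : Lat l) : ℤ :=
  @form _ _ _ _ _ _ M.toCoxeterSystem _ hp.isCartan (@Fintype.ofFinite _ (finite_WW hp)) a b

theorem two_fm (a : Lat l) (hc : Rt hp c) : 2 * fm hp a c = cp hp a c * fm hp c c :=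
  @two_form_cpr _ _ _ _ _ _ M.toCoxeterSystem _ hp.isCartan (@Fintype.ofFinite _ (finite_WW hp)) a c hc

theorem fm_pos (hc : Rt hp c) : 0 < fm hp c c :=
  @form_pos _ _ _ _ _ _ M.toCoxeterSystem _ hp.isCartan (@Fintype.ofFinite _ (finite_WW hp)) c hc.ne_zero'

theorem fm_comm (a b : Lat l) : fm hp a b = fm hp b a :=
  @form_comm _ _ _ _ _ _ M.toCoxeterSystem _ hp.isCartan (@Fintype.ofFinite _ (finite_WW hp)) a b

theorem fm_add (a b c : Lat l) : fm hp a (b + c) = fm hp a b + fm hp a c :=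
  @form_add_right _ _ _ _ _ _ M.toCoxeterSystem _ hp.isCartan (@Fintype.ofFinite _ (finite_WW hp)) a b c

theorem cp_fm (ha : Rt hp a) (hc : Rt hp c) : cp hp a c * fm hp c c = cp hp c a * fm hp a a := by
  rw [← two_fm a hc, ← two_fm c ha, fm_comm]

theorem cp_add_zero (hc : Rt hp c) (ha : Rt hp a) (hb : Rt hp b) (hab : Rt hp (a + b)) (h1 : cp hp c a = 0)
    (h2 : cp hp c b = 0) : cp hp c (a + b) = 0 := by
  rw [cp_zero_comm hc hab, cp_add _ _ hc, (cp_zero_comm hc ha).1 h1, (cp_zero_comm hc hb).1 h2, add_zero]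

/-- the sum of two orthogonal roots is longer -/
theorem fm_lt (ha : Rt hp a) (hc : Rt hp c) (h0 : cp hp a c = 0) : fm hp c c < fm hp (a + c) (a + c) := by
  have h1 := two_fm a hc
  have h2 := fm_pos ha
  rw [h0, zero_mul] at h1
  rw [fm_add, fm_comm (a + c) a, fm_comm (a + c) c, fm_add, fm_add, fm_comm c a]
  omega

/-- a Cartan number `± 1` -/
theorem fm_le (ha : Rt hp a) (hc : Rt hp c) (h : cp hp a c = 1 ∨ cp hp a c = -1) : fm hp a a ≤ fm hp c c := by
  have h1 := cp_fm ha hc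
  have h2 := fm_pos ha
  have h3 := fm_pos hc
  have h4 : cp hp c a ≠ 0 := fun e => by
    have := (cp_zero_comm hc ha).1 e
    omega
  rcases h with h | h <;> rw [h] at h1
  · have h5 : 1 ≤ cp hp c a := by
      by_contra h5
      have : cp hp c a * fm hp a a ≤ 0 := mul_nonpos_of_nonpos_of_nonneg (by omega) h2.le
      omega
    nlinarith only [hp, h1, h2, h5]
  · have h5 : cp hp c a ≤ -1 := by
      by_contra h5
      have : 0 ≤ cp hp c a * fm hp a a := mul_nonneg (by omega) h2.le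
      omega
    nlinarith only [hp, h1, h2, h5]

/-- the Cartan numbers with a longer root -/
theorem cp_le1 (ha : Rt hp a) (hc : Rt hp c) (h1 : a ≠ c) (h2 : a ≠ -c) (h : fm hp a a ≤ fm hp c c) :
    -1 ≤ cp hp a c ∧ cp hp a c ≤ 1 := by
  have h3 := cp_fm ha hc
  have h4 := fm_pos ha
  have h5 := cp_lt4 ha hc h1 h2
  have h6 : cp hp a c * cp hp a c * fm hp c c = cp hp a c * cp hp c a * fm hp a a := by
    rw [mul_assoc, h3, mul_assoc]
  have h7 : cp hp a c * cp hp a c < 4 := by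
    by_contra h7
    nlinarith
  constructor <;> nlinarith only [hp, h7]

/-- strong orthogonality -/
theorem so_of (ha : Rt hp a) (hc : Rt hp c) (h0 : cp hp a c = 0) (hn : ¬ Rt hp (a + c)) (i j : ℤ) (hi : i ≠ 0)
    (hj : j ≠ 0) : ¬ Rt hp (i • a + j • c) := by
  intro hz
  have h1 := cp_le3 hz hc
  have h2 := cp_le3 hz ha
  rw [cp_add _ _ hc, cp_smul _ _ hc, cp_smul _ _ hc, h0, cp_self hc] at h1
  rw [cp_add _ _ ha, cp_smul _ _ ha, cp_smul _ _ ha, (cp_zero_comm ha hc).1 h0, cp_self ha] at h2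
  have h3 := add_iff_sub hc h0
  obtain rfl | rfl : i = 1 ∨ i = -1 := by omega
  · obtain rfl | rfl : j = 1 ∨ j = -1 := by omega
    · exact hn (by rwa [one_smul, one_smul] at hz)
    · exact hn (h3.2 (by rwa [one_smul, neg_smul, one_smul, ← sub_eq_add_neg] at hz))
  · obtain rfl | rfl : j = 1 ∨ j = -1 := by omega
    · refine hn (h3.2 ?_)
      have h4 := hz.neg'
      rwa [show -((-1 : ℤ) • a + (1 : ℤ) • c) = a - c by module] at h4
    · refine hn ?_
      have h4 := hz.neg'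
      rwa [show -((-1 : ℤ) • a + (-1 : ℤ) • c) = a + c by module] at h4

/-- the structure constants of a string of length three are even -/
def TabE (D : ChevalleyDatum) : Prop := ∀ r < D.nroots, ∀ s < D.nroots,
  ((D.chainRoot r s 1).isSome && (D.chainRoot (D.neg r) s 1).isSome && (D.chainRoot r s 2).isNone &&
    (D.chainRoot (D.neg r) s 2).isNone) = true → ((D.commTerms r s).all fun x => x.2.1 % 2 == 0) = true

theorem tabE_G2 : TabE chevG2 := by unfold TabE; decide +kernel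

theorem tabE_B2 : TabE chevB2 := by unfold TabE; decide +kernel

private noncomputable def _root_.Cfsg.Agent.LsF.f724bc5_0 : {f // @Cfsg.Lie.ChevalleyDatum.chainEntry = f} := ⟨_, by first | (delta Cfsg.Lie.ChevalleyDatum.chainEntry; rewrite [Cfsg.Agent.LsF.instDecEq_eq, Cfsg.Agent.LsF.find?_eq, Cfsg.Agent.LsF.agetD_eq, Cfsg.Agent.LsF.decide_eq]; (try delta Cfsg.Lie.ChevalleyDatum.chainEntry.match_1); (try delta Option.casesOn); exact rfl) | exact rfl⟩
private noncomputable def _root_.Cfsg.Agent.LsF.f724bc5_1 : {f // @Cfsg.Lie.ChevalleyDatum.chainRoot = f} := ⟨_, by first | (delta Cfsg.Lie.ChevalleyDatum.chainRoot Option.map; rewrite [Cfsg.Agent.LsF.f724bc5_0.2, Cfsg.Agent.LsF.nsub_pat, Cfsg.Agent.LsF.instGetElem?_eq]; (try delta Option.getD.match_1); (try delta Option.casesOn); exact rfl) | exact rfl⟩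
private noncomputable def _root_.Cfsg.Agent.LsF.f724bc5_2 : {f // @Cfsg.Lie.ChevalleyDatum.neg = f} := ⟨_, by first | (delta Cfsg.Lie.ChevalleyDatum.neg; rewrite [Cfsg.Agent.LsF.agetD_eq]; exact rfl) | exact rfl⟩
private noncomputable def _root_.Cfsg.Agent.LsF.f724bc5_3 : {f // @Cfsg.Lie.ChevalleyDatum.chainM = f} := ⟨_, by first | (delta Cfsg.Lie.ChevalleyDatum.chainM Option.map; rewrite [Cfsg.Agent.LsF.f724bc5_0.2, Cfsg.Agent.LsF.nsub_pat, Cfsg.Agent.LsF.instGetElem?_eq, Cfsg.Agent.LsF.ogetD_eq]; (try delta Option.getD.match_1); (try delta Option.casesOn); exact rfl) | exact rfl⟩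
private noncomputable def _root_.Cfsg.Agent.LsF.f724bc5_4 : {f // @Cfsg.Lie.ChevalleyDatum.commTerms = f} := ⟨_, by first | (delta Cfsg.Lie.ChevalleyDatum.commTerms Option.bind Option.map; rewrite [Cfsg.Agent.LsF.f724bc5_1.2, Cfsg.Agent.LsF.f724bc5_3.2, Cfsg.Agent.LsF.imul_pat, Cfsg.Agent.LsF.ineg_pat, Cfsg.Agent.LsF.filterMap_eq, Cfsg.Agent.LsF.ogetD_eq]; (try delta Option.bind.match_1); (try delta Option.getD.match_1); (try delta Option.casesOn); exact rfl) | exact rfl⟩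
theorem tabE_F4 : TabE chevF4 := by unfold TabE; (refine of_decide_eq_true ?_; (try (delta Option.isNone Option.isSome; rewrite [Cfsg.Agent.LsF.f724bc5_1.2, Cfsg.Agent.LsF.f724bc5_2.2, Cfsg.Agent.LsF.f724bc5_4.2, Cfsg.Agent.LsF.imod_pat, Cfsg.Agent.LsF.ibeq_pat, Cfsg.Agent.LsF.and_eq, Cfsg.Agent.LsF.all_eq, Cfsg.Agent.LsF.dBoolEq_eq, Cfsg.Agent.LsF.dBallLT_eq, Cfsg.Agent.LsF.dAllP_eq, Cfsg.Agent.LsF.decide_eq])); decide +kernel)

private noncomputable def _root_.Cfsg.Agent.LsF.f724bc5_5 : {f // @Cfsg.Lie.ChevalleyDatum.cartan = f} := ⟨_, by first | (delta Cfsg.Lie.ChevalleyDatum.cartan; rewrite [Cfsg.Agent.LsF.agetD_eq]; exact rfl) | exact rfl⟩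
private noncomputable def _root_.Cfsg.Agent.LsF.f724bc5_6 : {f // @Cfsg.Lie.ChevalleyDatum.simple = f} := ⟨_, by first | (delta Cfsg.Lie.ChevalleyDatum.simple; rewrite [Cfsg.Agent.LsF.agetD_eq]; exact rfl) | exact rfl⟩
private noncomputable def _root_.Cfsg.Agent.LsF.f724bc5_7 : {f // @Cfsg.Agent.ChevalleyStructure.CoxeterGeomTypes.cartanOf = f} := ⟨_, by first | (delta Cfsg.Agent.ChevalleyStructure.CoxeterGeomTypes.cartanOf; rewrite [Cfsg.Agent.LsF.f724bc5_5.2, Cfsg.Agent.LsF.f724bc5_6.2]; exact rfl) | exact rfl⟩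
private noncomputable def _root_.Cfsg.Agent.LsF.f724bc5_8 : {f // @Cfsg.Agent.ChevalleyStructure.RootVecTab.dig = f} := ⟨_, by first | (delta Cfsg.Agent.ChevalleyStructure.RootVecTab.dig; rewrite [Cfsg.Agent.LsF.nmul_pat]; exact rfl) | exact rfl⟩
private noncomputable def _root_.Cfsg.Agent.LsF.f724bc5_9 : {f // @Cfsg.Agent.ChevalleyStructure.RootVecTab.packTab = f} := ⟨_, by first | (delta Cfsg.Agent.ChevalleyStructure.RootVecTab.packTab; rewrite [Cfsg.Agent.LsF.instDecEq_eq, Cfsg.Agent.LsF.ite_eq]; exact rfl) | exact rfl⟩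
private noncomputable def _root_.Cfsg.Agent.LsF.f724bc5_10 : {f // @Cfsg.Agent.ChevalleyStructure.RootVecTab.code = f} := ⟨_, by first | (delta Cfsg.Agent.ChevalleyStructure.RootVecTab.code; rewrite [Cfsg.Agent.LsF.f724bc5_9.2, Cfsg.Agent.LsF.nmul_pat, Cfsg.Agent.LsF.npow_pat]; exact rfl) | exact rfl⟩
private noncomputable def _root_.Cfsg.Agent.LsF.f724bc5_11 : {f // @Cfsg.Agent.ChevalleyStructure.RootVec.rt = f} := ⟨_, by first | (delta Cfsg.Agent.ChevalleyStructure.RootVec.rt; rewrite [Cfsg.Agent.LsF.f724bc5_8.2, Cfsg.Agent.LsF.f724bc5_10.2, Cfsg.Agent.LsF.nsub_pat, Cfsg.Agent.LsF.isub_pat, Cfsg.Agent.LsF.icast_pat, Cfsg.Agent.LsF.decLt_eq, Cfsg.Agent.LsF.dAnd_eq, Cfsg.Agent.LsF.ite_eq]; exact rfl) | exact rfl⟩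
private noncomputable def _root_.Cfsg.Agent.LsF.f724bc5_12 : {f // @Cfsg.Agent.Nodes.RGDChev.vec = f} := ⟨_, by first | (delta Cfsg.Agent.Nodes.RGDChev.vec; rewrite [Cfsg.Agent.LsF.f724bc5_11.2]; exact rfl) | exact rfl⟩
theorem pair_F4 : ∀ i : Fin 4, ∀ s < chevF4.nroots, |pairing (cartanOf chevF4 4) i (vec chevF4 4 s)| ≤ 2 := by
  (refine of_decide_eq_true ?_; (try (delta Cfsg.Agent.ChevalleyStructure.CoxeterGeom.pairing; rewrite [Cfsg.Agent.LsF.sumF_pat, Cfsg.Agent.LsF.f724bc5_7.2, Cfsg.Agent.LsF.f724bc5_12.2, Cfsg.Agent.LsF.iadd_pat, Cfsg.Agent.LsF.imul_pat, Cfsg.Agent.LsF.iACM_eq, Cfsg.Agent.LsF.idecLe_eq, Cfsg.Agent.LsF.dBallLT_eq, Cfsg.Agent.LsF.dForallFin_eq, Cfsg.Agent.LsF.decide_eq])); decide +kernel)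

theorem typ_cases (hp : IsType D l M) : (((∀ i j, M i j ≠ 4) ∧ ∀ i j, M i j ≠ 6) ∨ TabE D) ∧ (D = chevG2 → l = 2) ∧
    (4 ≤ l → ∀ a c, Rt hp a → Rt hp c → |cp hp a c| ≤ 2) := by
  have hf := finite_WW hp
  have key : ((∀ i j, M i j ≠ 4) ∧ ∀ i j, M i j ≠ 6) → ∀ a c, Rt hp a → Rt hp c → |cp hp a c| ≤ 2 := by
    intro h a c ha hc
    by_cases h1 : a = c
    · rw [h1, cp_self hc]; rfl
    by_cases h2 : a = -c
    · rw [h2, cp_neg _ hc, cp_self hc]; rfl
    exact (Nodes.SimplyLaced.abs_cpr_le_one _ _ h.1 h.2 ha hc h1 h2).trans one_le_two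
  have hk : ∀ {D' : ChevalleyDatum}, D = D' → D'.rank ≠ 2 → D = chevG2 → l = 2 := fun e h e' =>
    absurd (congrArg ChevalleyDatum.rank (e.symm.trans e')) h
  have hp' := hp
  simp only [IsType, typeList, List.mem_cons, List.not_mem_nil, or_false, Prod.mk.injEq] at hp'
  rcases hp' with ⟨rfl, h⟩ | ⟨rfl, h⟩ | ⟨rfl, h⟩ | ⟨rfl, h⟩ | ⟨rfl, h⟩ | ⟨rfl, h⟩ | ⟨rfl, h⟩ <;> cases h
  · exact ⟨Or.inr tabE_G2, fun _ => rfl, fun h => absurd h (by decide)⟩
  · exact ⟨Or.inr tabE_B2, fun _ => rfl, fun h => absurd h (by decide)⟩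
  · have h : (∀ i j, coxeterD4 i j ≠ 4) ∧ ∀ i j, coxeterD4 i j ≠ 6 := by
      refine ⟨fun i j => ?_, fun i j => ?_⟩ <;> fin_cases i <;> fin_cases j <;> decide
    exact ⟨Or.inl h, hk rfl (by decide), fun _ => key h⟩
  · refine ⟨Or.inr tabE_F4, hk rfl (by decide), fun _ a c ha hc => ?_⟩
    obtain ⟨w, i, rfl⟩ := hc
    obtain ⟨s, hs, e⟩ := (isRoot_iff hp _ _).1 (ha.wa' w⁻¹)
    have h1 := pair_F4 i s hs
    rw [e] at h1
    rw [show cp hp a _ = _ from cpr_rep_sr _ _ a w i]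
    exact h1
  · have h : (∀ i j, CoxeterMatrix.E₆ i j ≠ 4) ∧ ∀ i j, CoxeterMatrix.E₆ i j ≠ 6 := by
      refine ⟨fun i j => ?_, fun i j => ?_⟩ <;> fin_cases i <;> fin_cases j <;> decide
    exact ⟨Or.inl h, hk rfl (by decide), fun _ => key h⟩
  · have h : (∀ i j, CoxeterMatrix.E₇ i j ≠ 4) ∧ ∀ i j, CoxeterMatrix.E₇ i j ≠ 6 := by
      refine ⟨fun i j => ?_, fun i j => ?_⟩ <;> fin_cases i <;> fin_cases j <;> decide
    exact ⟨Or.inl h, hk rfl (by decide), fun _ => key h⟩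
  · have h : (∀ i j, CoxeterMatrix.E₈ i j ≠ 4) ∧ ∀ i j, CoxeterMatrix.E₈ i j ≠ 6 := by
      refine ⟨fun i j => ?_, fun i j => ?_⟩ <;> fin_cases i <;> fin_cases j <;> decide
    exact ⟨Or.inl h, hk rfl (by decide), fun _ => key h⟩

theorem cp_le2 (hl : 4 ≤ l) (ha : Rt hp a) (hc : Rt hp c) : -2 ≤ cp hp a c ∧ cp hp a c ≤ 2 :=
  abs_le.1 ((typ_cases hp).2.2 hl a c ha hc)

theorem chain_none {r s : ℕ} (hr : r < D.nroots) (hs : s < D.nroots)
    (h0 : cp hp (vec D l s) (vec D l r) = 0) : D.chainRoot r s 2 = none := by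
  have hr' : Rt hp (vec D l r) := (isRoot_iff hp _ _).2 ⟨r, hr, rfl⟩
  rcases e : D.chainRoot r s 2 with _ | u
  · rfl
  · obtain ⟨hu, -, -, h1⟩ := ChevalleyStructure.RootVec.chainRoot_rt hp.checked one_le_two e
    have h2 : vec D l u = vec D l s + (2 : ℤ) • vec D l r := funext fun i => h1 i
    have h3 := cp_le3 ((isRoot_iff hp _ _).2 ⟨u, hu, rfl⟩) hr'
    rw [h2, cp_add _ _ hr', cp_smul _ _ hr', h0, cp_self hr'] at h3
    omega

/-- characteristic two: orthogonal roots -/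
theorem comm_two [CharP (kb p) 2] (hT : TabE D) (ha : Rt hp a) (hc : Rt hp c) (h0 : cp hp a c = 0)
    (hac : Rt hp (a + c)) (s t : kb p) : xc hp a s * xc hp c t = xc hp c t * xc hp a s := by
  have h1 := (add_iff_sub hc h0).1 hac
  have n1 := ne_of_cp hc (a := a) (by omega)
  have n2 := ne_neg_of_cp hc (a := a) (by omega)
  obtain ⟨r, hr, rfl⟩ := (isRoot_iff hp M.toCoxeterSystem c).1 hc
  obtain ⟨s', hs, rfl⟩ := (isRoot_iff hp M.toCoxeterSystem a).1 ha
  obtain ⟨u, hu, e1⟩ := (isRoot_iff hp M.toCoxeterSystem _).1 hac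
  obtain ⟨v, hv, e2⟩ := (isRoot_iff hp M.toCoxeterSystem _).1 h1
  have hn : D.neg r < D.nroots := ChevalleyStructure.RootVec.neg_lt hp.checked hr
  have h2 := List.all_eq_true.1 (hT r hr s' hs (by
    rw [H460.OT.chainRoot_of_vec hp hp.inList hr hs hu (by rw [e1, add_comm]),
      H460.OT.chainRoot_of_vec hp hp.inList hn hs hv (by rw [e2, vec_neg hp hr]; abel), chain_none hr hs h0,
      chain_none (hp := hp) hn hs (by rw [vec_neg hp hr, cp_neg_right _ hc, h0, neg_zero])]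
    rfl))
  have h3 := S1025.result D hp.inList r s' hr hs (fun e => n1 (by rw [e])) (fun e => n2 (by rw [e, vec_neg hp hr])) t s
  have h4 : D.wordMat (kb p) (D.commWord (kb p) r s' t s) = 1 := by
    unfold ChevalleyDatum.wordMat ChevalleyDatum.commWord
    refine List.prod_eq_one fun x hx => ?_
    obtain ⟨y, hy, rfl⟩ := List.mem_map.1 hx
    obtain ⟨z, hz, rfl⟩ := List.mem_map.1 hy
    obtain ⟨n, hn⟩ := Int.dvd_of_emod_eq_zero (beq_iff_eq.1 (h2 z hz))
    have h5 : ((z.2.1 : ℤ) : kb p) = 0 := by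
      rw [hn, Int.cast_mul, Int.cast_ofNat, CharTwo.two_eq_zero, zero_mul]
    show D.x (kb p) z.1 (_ * _ * _) = 1
    rw [h5, zero_mul, zero_mul]
    exact ChevalleyStructure.Elts.x_zero hp.inList _
  rw [h4, mul_one] at h3
  refine Subtype.ext (Units.ext ?_)
  show (xc hp _ s).1.1 * (xc hp _ t).1.1 = (xc hp _ t).1.1 * (xc hp _ s).1.1
  rw [coe_xc hp hr, coe_xc hp hs]
  exact h3

theorem Far.symm' (h : Far hp p a c) (ha : Rt hp a) (hc : Rt hp c) : Far hp p c a :=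
  ⟨(cp_zero_comm ha hc).1 h.1, by rw [add_comm]; exact h.2⟩

theorem Far.neg_right (h : Far hp p a c) (hc : Rt hp c) : Far hp p a (-c) :=
  ⟨by rw [cp_neg_right _ hc, h.1, neg_zero], h.2.imp_right fun h1 h2 =>
    h1 ((add_iff_sub hc h.1).2 (by rwa [sub_eq_add_neg]))⟩

theorem far_comm (ha : Rt hp a) (hc : Rt hp c) (h : Far hp p a c) {x y : YY D p} (hx : x ∈ XR D l p a)
    (hy : y ∈ XR D l p c) : x * y = y * x := by
  have n1 := ne_of_cp hc (a := a) (by rw [h.1]; decide)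
  have n2 := ne_neg_of_cp hc (a := a) (by rw [h.1]; decide)
  by_cases hac : Rt hp (a + c)
  · obtain rfl : p = 2 := h.2.resolve_right (not_not.2 hac)
    rcases (typ_cases hp).1 with h1 | h1
    · have := finite_WW hp
      have h2 := Nodes.SimplyLaced.abs_cpr_le_one _ _ h1.1 h1.2 hac hc (fun e => ha.ne_zero' (add_eq_right.1 e))
        (ne_neg_of_cp hc (by rw [cp_add _ _ hc, h.1, cp_self hc]; decide))
      rw [show cpr _ _ (a + c) c = _ from cp_add _ _ hc, h.1, cp_self hc] at h2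
      exact absurd h2 (by decide)
    · obtain ⟨s, rfl⟩ := (mem_XR ha).1 hx
      obtain ⟨t, rfl⟩ := (mem_XR hc).1 hy
      exact comm_two h1 ha hc h.1 hac s t
  · refine H605.MX.XX_comm_of_SO hp M.toCoxeterSystem ha hc n1 n2 (fun i j hi hj => ?_) hx hy
    have := so_of ha hc h.1 hac i j (by exact_mod_cast hi.ne') (by exact_mod_cast hj.ne')
    rwa [natCast_zsmul, natCast_zsmul] at this

/-- **Far roots.** -/
theorem far_cz (ha : Rt hp a) (hc : Rt hp c) (h : Far hp p a c) {x : YY D p} (hx : x ∈ XR D l p a) :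
    Cz (sl p hc) x := by
  rw [cz_iff]
  rintro b (rfl | rfl) y hy
  · exact far_comm ha hc h hx hy
  · exact far_comm ha hc.neg' (Far.neg_right h hc) hx hy

/-- the groups of two sets of roots commute -/
theorem MS_MS {S S' : Set (Lat l)} (h : ∀ a ∈ S, ∀ c ∈ S', ∀ x ∈ XR D l p a, ∀ y ∈ XR D l p c, x * y = y * x)
    {x y : YY D p} (hx : x ∈ MS D l p S) (hy : y ∈ MS D l p S') : x * y = y * x := by
  have h1 : MS D l p S ≤ centralizer (MS D l p S' : Set (YY D p)) := by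
    refine RGD.Sup_le fun a ha x hx => mem_centralizer_iff.2 fun y hy => ?_
    exact mem_centralizer_singleton_iff.1 (RGD.Sup_le (K := centralizer {x})
      (fun c hc y hy => mem_centralizer_singleton_iff.2 (h a ha c hc x hx y hy).symm) hy)
  exact (mem_centralizer_iff.1 (h1 hx) y hy).symm

/-- rank two -/
theorem rank_two (hl : l = 2) {b' : Lat l} (ha : Rt hp a) (hb : Rt hp b) (hb' : Rt hp b') (h1 : cp hp a b = 0)
    (h2 : cp hp a b' = 0) (h3 : cp hp b b' = -1) (h4 : cp hp b' b = -1) : False := by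
  subst hl
  have key : ∀ x y z : ℤ, x • a + y • b + z • b' = 0 → y = 0 ∧ z = 0 ∧ x = 0 := by
    intro x y z e
    have h0 : ∀ c, Rt hp c → x * cp hp a c + y * cp hp b c + z * cp hp b' c = 0 := fun c hc => by
      rw [← cp_smul _ _ hc, ← cp_smul _ _ hc, ← cp_smul _ _ hc, ← cp_add _ _ hc, ← cp_add _ _ hc, e,
        ← zero_smul ℤ (0 : Lat 2), cp_smul _ _ hc, zero_mul]
    have e1 := h0 a ha
    have e2 := h0 b hb
    have e3 := h0 b' hb'
    rw [cp_self ha, (cp_zero_comm ha hb).1 h1, (cp_zero_comm ha hb').1 h2] at e1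
    rw [cp_self hb, h1, h4] at e2
    rw [cp_self hb', h2, h3] at e3
    omega
  have h5 := (key (b 0 * b' 1 - b 1 * b' 0) (a 1 * b' 0 - a 0 * b' 1) (a 0 * b 1 - a 1 * b 0) (by
    funext i
    (revert i; simp only [_root_.Fin.forall_fin_succ, Fin.isValue, _root_.zsmul_eq_mul, _root_.Int.cast_sub, _root_.Int.cast_mul, _root_.Pi.add_apply, _root_.Pi.mul_apply, _root_.Pi.sub_apply, _root_.Pi.intCast_apply, _root_.Int.cast_eq, _root_.Pi.zero_apply, _root_.Fin.succ_zero_eq_one, _root_.IsEmpty.forall_iff, _root_.and_true]) <;> (repeat' with_reducible apply And.intro) <;> ring)).2.2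
  have h6 := (key 0 (b' 0) (-b 0) (by
    funext i
    (revert i; simp only [_root_.Fin.forall_fin_succ, _root_.zero_smul, Fin.isValue, _root_.zsmul_eq_mul, _root_.zero_add, _root_.neg_smul, _root_.Pi.add_apply, _root_.Pi.mul_apply, _root_.Pi.intCast_apply, _root_.Int.cast_eq, _root_.Pi.neg_apply, _root_.Pi.zero_apply, _root_.Fin.succ_zero_eq_one, _root_.IsEmpty.forall_iff, _root_.and_true, _root_.true_and]) <;> (repeat' with_reducible apply And.intro)
    · ring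
    · linear_combination -h5)).2.1
  have h7 := (key 0 (b' 1) (-b 1) (by
    funext i
    (revert i; simp only [_root_.Fin.forall_fin_succ, _root_.zero_smul, Fin.isValue, _root_.zsmul_eq_mul, _root_.zero_add, _root_.neg_smul, _root_.Pi.add_apply, _root_.Pi.mul_apply, _root_.Pi.intCast_apply, _root_.Int.cast_eq, _root_.Pi.neg_apply, _root_.Pi.zero_apply, _root_.Fin.succ_zero_eq_one, _root_.IsEmpty.forall_iff, _root_.and_true, _root_.true_and]) <;> (repeat' with_reducible apply And.intro)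
    · linear_combination h5
    · ring)).2.1
  refine hb.ne_zero' ?_
  funext i
  fin_cases i
  · exact neg_eq_zero.1 h6
  · exact neg_eq_zero.1 h7

end Cfsg.Agent.Cam.Ex.P

private theorem dce_deb25378b8ce : _root_.True := by
  try have : _root_.True := by simp only [_root_.Cfsg.Agent.Cam.Ex.cp.congr_simp]
  exact _root_.True.intro
end
end
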