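import Cfsg.Agent.Cam.Ex.U2_m3
import Cfsg.Agent.Cam.Ex.RE_m3
import Cfsg.Agent.BpExc.Orbit
import Cfsg.Agent.DS.Ex.Rank
import Cfsg.Agent.H694.P1Crit
import Cfsg.Agent.ChevFast.E6
import Cfsg.Agent.ChevFast.E7
import Cfsg.Agent.ChevFast.E8
import Cfsg.Agent.ChevFast.F4
import Cfsg.Agent.ChevFast.Lin
import Cfsg.Agent.FastGrp
import Cfsg.Agent.Prune
set_option linter.all false

section
prune_inst 0x7fbcfdf82fb8afffdfff7e7ffe95dffc19d1dfffa6dff9437fe0e1ff0bdf030009c56ba50de090fe0ed6e0b410b87813ff7eefffeb6bdc7ffffd5ff45ffbee4fe5f6bd8851d284240fb80fff03f06fce7f3fffffffffffffffffffffffffffbeffffffffffff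

-- part: Cam/Ex/U3
section
set_option linter.all false
open scoped Cfsg.Agent.FastGrp

/-!
# Exceptional rows, `BoxU`: the type `A₂ A₁ A₁ A₁` in `E₇` (helper53)

`T7 φ c c'` : the roots killed by `φ` are `A2s c c'` and isolated roots, and rotations act on `A2s c c'` as elements of
its reflection group.
-/

set_option autoImplicit false
set_option linter.unusedVariables false
set_option linter.unusedSectionVars false
set_option maxRecDepth 100000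

namespace Cfsg.Agent.Cam.Ex.Cb.Ub

open CoxeterSystem Cfsg Cfsg.Lie
open Cfsg.Agent.ChevalleyStructure.CoxeterGeom Cfsg.Agent.ChevalleyStructure.CoxeterGeomTypes
open Cfsg.Agent.Tits.Roots Cfsg.Agent.Nodes.RGDChev Cfsg.Agent.Nodes.Coroot Cfsg.Agent.Nodes.SubComb
open Cfsg.Agent.H931.KC (hr psi psi_apply psi_sr eq_psi)
open Cfsg.Agent.BpExc.Fr (repAut)
open Cfsg.Agent.Cam.Ex.SL3 (ev P2 Bv dl Nn_dl mem_A2s ev01 ev12 ev_swap)

variable {D : ChevalleyDatum} {l : ℕ} {M : CoxeterMatrix (Fin l)} {hp : IsType D l M} {K : Type} [Field K]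

theorem tri3 : ∀ i j k m : Fin 3, i ≠ j → k ≠ m → dl i k - dl i m - (dl j k - dl j m) = -1 →
    (k = j ∧ m ≠ i) ∨ (m = i ∧ k ≠ j) := by decide

theorem nb3 : ∀ i j : Fin 3, i ≠ j → ∃ k, j ≠ k ∧ dl j i - dl j j - (dl k i - dl k j) = -1 := by decide

theorem cov3 : ∀ i j k : Fin 3, i ≠ j → j ≠ k → i ≠ k → ∀ m, m = i ∨ m = j ∨ m = k := by decide

theorem sum3 {A : Type} [AddCommMonoid A] (f : Fin 3 → A) {i j k : Fin 3} (hij : i ≠ j) (hjk : j ≠ k) (hik : i ≠ k) :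
    ∑ m, f m = f i + f j + f k := by
  obtain ⟨σ, rfl, rfl, rfl⟩ := H428.OT.Lin.exists_perm hij hjk hik
  rw [← Equiv.sum_comp σ f, Fin.sum_univ_three]

theorem fix3 : ∀ (τ : Equiv.Perm (Fin 3)) (m : Fin 3), τ m = m → ∀ i, τ (τ i) = i := by decide

theorem cyc3 : ∀ τ : Equiv.Perm (Fin 3), (∀ i, τ i ≠ i) → (∀ i j, i ≠ j → j = τ i ∨ i = τ j) ∧
    ∀ i, i ≠ τ (τ i) ∧ τ (τ (τ i)) = i := by decide

theorem perm3 (h3 : (3 : K) ≠ 0) {e : K} (he : e ^ 2 + e + 1 = 0) {f : Fin 3 → K} {τ : Equiv.Perm (Fin 3)}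
    (h : ∀ i j, f (τ i) - f (τ j) = e * (f i - f j)) (h0 : ¬ ∀ i j, f i = f j) :
    (∀ i, τ i ≠ i) ∧ ∀ i j, i ≠ j → f i ≠ f j := by
  have h1 : ∀ i, τ i ≠ i := by
    intro m hm
    have h4 : ∀ i, f i = f m := by
      intro i
      have h5 := h i m
      have h6 := h (τ i) m
      rw [hm] at h5 h6
      rw [fix3 τ m hm] at h6
      exact sub_eq_zero.1 ((mul_eq_zero.1 (by linear_combination -h6 - e * h5)).resolve_left
        (mul_ne_zero (ne_one h3 he) (ne_neg_one he)))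
    exact h0 fun i j => (h4 i).trans (h4 j).symm
  have h4 : ∀ i, f i ≠ f (τ i) := by
    intro i h5
    have h6 : f (τ i) = f (τ (τ i)) := by
      have := h i (τ i)
      rw [← h5, sub_self, mul_zero, h5] at this
      exact sub_eq_zero.1 this
    have h7 : ∀ m, f m = f i := fun m => by
      rcases cov3 i (τ i) (τ (τ i)) (h1 i).symm (h1 _).symm ((cyc3 τ h1).2 i).1 m with rfl | rfl | rfl
      exacts [rfl, h5.symm, (h5.trans h6).symm]
    exact h0 fun a b => (h7 a).trans (h7 b).symm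
  refine ⟨h1, fun i j hij => ?_⟩
  rcases (cyc3 τ h1).1 i j hij with rfl | rfl
  · exact h4 i
  · exact (h4 j).symm

section p2

variable {c c' : Lat l} (h : P2 hp c c')

include h

theorem cp_ev (i j : Fin 3) {m n : Fin 3} (hmn : m ≠ n) :
    cp hp (ev c c' i - ev c c' j) (ev c c' m - ev c c' n) = dl i m - dl i n - (dl j m - dl j n) := by
  rw [P.cp_sub _ _ (h.right hmn 0).1, (h.right hmn _).2, (h.right hmn _).2, h.Bv_ev, h.Bv_ev, h.Bv_ev, h.Bv_ev, Nn_dl]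

theorem exists_WW (τ : Equiv.Perm (Fin 3)) : ∃ w ∈ WW hp (A2s c c'), ∀ i j,
    wa hp w (ev c c' i - ev c c' j) = ev c c' (τ i) - ev c c' (τ j) := by
  induction τ using Equiv.Perm.swap_induction_on with
  | one => exact ⟨1, one_mem _, fun i j => wa_one hp _⟩
  | swap_mul τ m n hmn ih =>
    obtain ⟨w, hw, h1⟩ := ih
    obtain ⟨v, hv, h2⟩ := P.exists_refl (h.right hmn 0).1
    refine ⟨v * w, mul_mem (hv _ (mem_A2s.2 ⟨m, n, hmn, rfl⟩)) hw, fun i j => ?_⟩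
    rw [wa_mul, h1, h2, cp_ev h _ _ hmn, Equiv.Perm.mul_apply, Equiv.Perm.mul_apply, ev_swap (ev c c') hmn (τ i),
      ev_swap (ev c c') hmn (τ j)]
    module

/-- an automorphism of the pair that preserves the class modulo three is a permutation -/
theorem act_perm {f : Lat l ≃+ Lat l} (h1 : f c ∈ A2s c c') (h2 : f c' ∈ A2s c c')
    (hcp : ∀ a b, Rt hp b → cp hp (f a) (f b) = cp hp a b) {b : Lat l} (hb : ¬ 3 ∣ cp hp b c - cp hp b c')
    (hb' : 3 ∣ cp hp (f b) c - cp hp (f b) c' - (cp hp b c - cp hp b c')) :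
    ∃ τ : Equiv.Perm (Fin 3), ∀ i j, f (ev c c' i - ev c c' j) = ev c c' (τ i) - ev c c' (τ j) := by
  obtain ⟨i, j, hij, e1⟩ := mem_A2s.1 h1
  obtain ⟨k, m, hkm, e2⟩ := mem_A2s.1 h2
  have h4 := hcp c c' h.r2
  rw [e1, e2, cp_ev h _ _ hkm, h.c1] at h4
  rcases tri3 i j k m hij hkm h4 with ⟨rfl, h5⟩ | ⟨rfl, h5⟩
  · obtain ⟨τ, rfl, rfl, rfl⟩ := H428.OT.Lin.exists_perm hij hkm h5.symm
    have h6 : ∀ n, f (ev c c' n) = ev c c' (τ n) - ev c c' (τ 2) := by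
      intro n
      fin_cases n
      · show f (c + c') = ev c c' (τ 0) - _
        rw [map_add, e1, e2, sub_add_sub_cancel]
      · exact e2
      · exact (map_zero f).trans (sub_self _).symm
    exact ⟨τ, fun i j => by rw [map_sub, h6, h6, sub_sub_sub_cancel_right]⟩
  · exfalso
    have h6 := hcp b c h.r1
    have h7 := hcp b c' h.r2
    rw [e1, (h.right hij _).2] at h6
    rw [e2, (h.right hkm _).2] at h7
    have h8 := sum3 (Bv hp c c' (f b)) hij h5.symm hkm.symm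
    rw [Fin.sum_univ_three] at h8
    change cp hp (f b) c + cp hp (f b) c' + cp hp (f b) c' + 0 = _ at h8
    omega

end p2

theorem wa_ev (w : M.Group) (c c' : Lat l) (i : Fin 3) : wa hp w (ev c c' i) = ev (wa hp w c) (wa hp w c') i := by
  fin_cases i
  · exact wa_add hp w c c'
  · rfl
  · exact map_zero _

theorem A1c.neg' {φ : Lat l →+ K} {c : Lat l} (h : A1c hp (Psi hp φ) c) : A1c hp (Psi hp φ) (-c) := by
  refine ⟨neg_mem_Psi hp h.1, fun a ha => ?_⟩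
  rcases h.2 a ha with h1 | h1 | h1
  · exact Or.inr (Or.inl (by rw [neg_neg, h1]))
  · exact Or.inl h1
  · exact Or.inr (Or.inr (by rw [cp_neg_right hp _ h.1.1, h1, neg_zero]))

variable (hp) in
/-- the type `A₂ A₁ A₁ A₁` -/
structure T7 (φ : Lat l →+ K) (c c' : Lat l) : Prop where
  p2 : P2 hp c c'
  k1 : φ c = 0
  k2 : φ c' = 0
  a1 : ∀ a ∈ Psi hp φ, a ∈ A2s c c' ∨ A1c hp (Psi hp φ) a
  cls : ∀ h : Lat l ≃+ Lat l, (∀ a, Rt hp (h a) ↔ Rt hp a) → ∀ e : K, (∀ a, φ (h a) = e * φ a) →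
    (e ^ 2 + e + 1 = 0 ∨ e = 2) → ∃ b, ¬ 3 ∣ cp hp b c - cp hp b c' ∧
      3 ∣ cp hp (h b) c - cp hp (h b) c' - (cp hp b c - cp hp b c')

theorem kill_ev {φ : Lat l →+ K} {c c' : Lat l} (h1 : φ c = 0) (h2 : φ c' = 0) (i : Fin 3) : φ (ev c c' i) = 0 := by
  fin_cases i
  · show φ (c + c') = 0
    rw [map_add, h1, h2, add_zero]
  · exact h2
  · exact map_zero φ

variable {φ : Lat l →+ K} {c c' : Lat l}

theorem T7.mem (T : T7 hp φ c c') {a : Lat l} (ha : a ∈ A2s c c') : a ∈ Psi hp φ := by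
  obtain ⟨i, j, hij, rfl⟩ := mem_A2s.1 ha
  exact ⟨(T.p2.right hij 0).1, by rw [map_sub, kill_ev T.k1 T.k2, kill_ev T.k1 T.k2, sub_self]⟩

theorem T7.nb (T : T7 hp φ c c') {a a' : Lat l} (ha : a ∈ Psi hp φ) (ha' : a' ∈ Psi hp φ) (h : cp hp a' a = -1) :
    a ∈ A2s c c' := by
  refine (T.a1 a ha).resolve_right fun h1 => ?_
  rcases h1.2 a' ha' with h2 | h2 | h2
  · rw [h2, cp_self hp ha.1] at h
    omega
  · rw [h2, cp_neg hp _ ha.1, cp_self hp ha.1] at h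
    omega
  · omega

theorem T7.orth (T : T7 hp φ c c') {a : Lat l} (ha : a ∈ Psi hp φ) :
    a ∈ A2s c c' ∨ (cp hp a c = 0 ∧ cp hp a c' = 0) := by
  by_cases h : a ∈ A2s c c'
  · exact Or.inl h
  have h1 := (T.a1 a ha).resolve_left h
  have h2 : ∀ b ∈ A2s c c', cp hp a b = 0 := by
    intro b hb
    rcases h1.2 b (T.mem hb) with h3 | h3 | h3
    · exact absurd (h3 ▸ hb) h
    · obtain ⟨i, j, hij, e⟩ := mem_A2s.1 hb
      exact absurd (mem_A2s.2 ⟨j, i, hij.symm, by rw [← neg_sub, ← e, h3, neg_neg]⟩) h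
    · exact (cp_zero_comm hp ha.1 (T.mem hb).1).2 h3
  exact Or.inr ⟨h2 c (Or.inl rfl), h2 c' (Or.inr (Or.inl rfl))⟩

theorem T7.stab (T : T7 hp φ c c') {h : Lat l ≃+ Lat l} (hr : ∀ a, Rt hp (h a) ↔ Rt hp a)
    (hcp : ∀ a b, Rt hp b → cp hp (h a) (h b) = cp hp a b) {e : K} (he : ∀ a, φ (h a) = e * φ a) {a : Lat l}
    (ha : a ∈ A2s c c') : h a ∈ A2s c c' := by
  have h1 : ∀ a ∈ A2s c c', h a ∈ Psi hp φ := fun a ha =>
    ⟨(hr a).2 (T.mem ha).1, by rw [he, (T.mem ha).2, mul_zero]⟩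
  obtain ⟨i, j, hij, rfl⟩ := mem_A2s.1 ha
  obtain ⟨k, hk, h2⟩ := nb3 i j hij
  exact T.nb (h1 _ ha) (h1 _ (mem_A2s.2 ⟨j, k, hk, rfl⟩)) (by rw [hcp _ _ (T.mem ha).1, cp_ev T.p2 _ _ hij, h2])

theorem T7.perm (T : T7 hp φ c c') {h : Lat l ≃+ Lat l} (hr : ∀ a, Rt hp (h a) ↔ Rt hp a)
    (hcp : ∀ a b, Rt hp b → cp hp (h a) (h b) = cp hp a b) {e : K} (he : ∀ a, φ (h a) = e * φ a)
    (h1 : e ^ 2 + e + 1 = 0 ∨ e = 2) :
    ∃ τ : Equiv.Perm (Fin 3), ∀ i j, h (ev c c' i - ev c c' j) = ev c c' (τ i) - ev c c' (τ j) := by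
  obtain ⟨b, h2, h3⟩ := T.cls h hr e he h1
  exact act_perm T.p2 (T.stab hr hcp he (Or.inl rfl)) (T.stab hr hcp he (Or.inr (Or.inl rfl))) hcp h2 h3

theorem T7.act {w : M.Group} (T : T7 hp (cw hp φ w) c c') : T7 hp φ (wa hp w c) (wa hp w c') where
  p2 := ⟨T.p2.r1.act w, T.p2.r2.act w, (cp_wa hp w _ T.p2.r2).trans T.p2.c1, (cp_wa hp w _ T.p2.r1).trans T.p2.c2⟩
  k1 := T.k1
  k2 := T.k2
  a1 a ha := by
    have h0 : ∀ a ∈ Psi hp φ, wa hp w⁻¹ a ∈ Psi hp (cw hp φ w) := fun a ha => by rw [mem_cw, wa_inv']; exact ha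
    rcases T.a1 _ (h0 a ha) with h1 | h1
    · obtain ⟨i, j, hij, e⟩ := mem_A2s.1 h1
      exact Or.inl (mem_A2s.2 ⟨i, j, hij, by rw [← wa_ev, ← wa_ev, ← wa_sub, ← e, wa_inv']⟩)
    · refine Or.inr ⟨ha, fun b hb => ?_⟩
      rcases h1.2 _ (h0 b hb) with h2 | h2 | h2
      · exact Or.inl (wa_inj hp h2)
      · exact Or.inr (Or.inl (wa_inj hp (h2.trans (wa_neg hp _ _).symm)))
      · exact Or.inr (Or.inr ((cp_wa hp _ _ ha.1).symm.trans h2))
  cls h hr e he h1 := by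
    obtain ⟨b, h2, h3⟩ := T.cls (gw hp h w) (fun a => by rw [gw_apply, rt_wa, hr, rt_wa]) e
      (fun a => by rw [cw_apply, cw_apply, gw_apply, wa_inv', he]) h1
    refine ⟨wa hp w b, by rwa [cp_wa hp _ _ T.p2.r1, cp_wa hp _ _ T.p2.r2], ?_⟩
    rw [cp_wa hp _ _ T.p2.r1, cp_wa hp _ _ T.p2.r2, ← wa_inv' hp w (h (wa hp w b)), cp_wa hp _ _ T.p2.r1,
      cp_wa hp _ _ T.p2.r2]
    exact h3

/-- **An eigenvector for the reflection group does not kill the pair.** -/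
theorem T7.not_kill (h3 : (3 : K) ≠ 0) (T : T7 hp φ c c') {ψ : Lat l →+ K} {w : M.Group} (hw : w ∈ WW hp (Psi hp φ))
    {e : K} (he : e ^ 2 + e + 1 = 0) (hψ : Eig hp w ψ e) (h0 : ψ ≠ 0) {x y : Lat l} (hxy : P2 hp x y) (hx : φ x = 0)
    (hy : φ y = 0) (hx' : ψ x = 0) (hy' : ψ y = 0) : False := by
  obtain ⟨i, j, hij, rfl⟩ := mem_A2s.1 (T.nb ⟨hxy.r1, hx⟩ ⟨hxy.r2, hy⟩ hxy.c2)
  obtain ⟨k, m, hkm, rfl⟩ := mem_A2s.1 (T.nb ⟨hxy.r2, hy⟩ ⟨hxy.r1, hx⟩ hxy.c1)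
  have h4 := hxy.c1
  rw [cp_ev T.p2 _ _ hkm] at h4
  rw [map_sub, sub_eq_zero] at hx' hy'
  have h5 : ∀ n, ψ (ev c c' n) = ψ (ev c c' i) := by
    intro n
    rcases tri3 i j k m hij hkm h4 with ⟨rfl, h6⟩ | ⟨rfl, h6⟩
    · rcases cov3 i k m hij hkm h6.symm n with rfl | rfl | rfl
      exacts [rfl, hx'.symm, (hx'.trans hy').symm]
    · rcases cov3 m j k hij h6.symm hkm.symm n with rfl | rfl | rfl
      exacts [rfl, hx'.symm, hy']
  refine hψ.not_kill h3 he h0 hw fun a ha => ?_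
  rcases T.a1 a ha with h6 | h6
  · obtain ⟨i', j', -, rfl⟩ := mem_A2s.1 h6
    rw [map_sub, h5, h5 j', sub_self]
  · refine hψ.eq_zero h3 he ((a1c_fix hp (fun a ha => ha.1) h6 hw).imp (congrArg ψ) fun h7 => ?_)
    rw [h7, map_neg]

theorem cls7 (b : Lat 7) : cp tE7 b (sr 0) - cp tE7 b (sr 2) = 3 * (b 0 - b 2) + b 3 := by
  rw [cp_sr, cp_sr, ← tabE7.car, ← tabE7.car, psi_apply, psi_apply, Fin.sum_univ_seven, Fin.sum_univ_seven]
  change b 0 * 2 + b 1 * 0 + b 2 * (-1) + b 3 * 0 + b 4 * 0 + b 5 * 0 + b 6 * 0 -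
    (b 0 * (-1) + b 1 * 0 + b 2 * 2 + b 3 * (-1) + b 4 * 0 + b 5 * 0 + b 6 * 0) = _
  ring

theorem t7_std (h2 : (2 : K) ≠ 0) (h3 : (3 : K) ≠ 0) {φ : Lat 7 →+ K} (hκ : Exa tE7 φ [0, 0, 0, 1, 0, 1, 0]) :
    T7 tE7 φ (sr 0) (sr 2) where
  p2 := ⟨rt_sr tE7 0, rt_sr tE7 2, by rw [cp_sr, psi_sr]; decide +kernel, by rw [cp_sr, psi_sr]; decide +kernel⟩
  k1 := (hκ.ex2 k35 _ (rt_sr tE7 0)).2 (by decide)
  k2 := (hκ.ex2 k35 _ (rt_sr tE7 2)).2 (by decide)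
  a1 a ha := by
    have h1 : ∀ e ∈ dE7.T, φ (toF 7 e.b) = 0 → toF 7 e.b = sr 0 ∨ toF 7 e.b = sr 2 ∨ toF 7 e.b = sr 0 + sr 2 ∨
        A1c tE7 (Psi tE7 φ) (toF 7 e.b) := by
      intro e he h4
      rw [hκ _ (tabE7.rt e he), tabE7.psi_b he] at h4
      rcases (by decide +kernel : ∀ e ∈ dE7.T, dot e.b [0, 0, 0, 1, 0, 1, 0] = 0 → toF 7 e.b = sr 0 ∨
        toF 7 e.b = sr 2 ∨ toF 7 e.b = sr 0 + sr 2 ∨ e.b ∈ g35) e he h4 with h5 | h5 | h5 | h5
      · exact Or.inl h5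
      · exact Or.inr (Or.inl h5)
      · exact Or.inr (Or.inr (Or.inl h5))
      · exact Or.inr (Or.inr (Or.inr (tabE7.gchk_spec hκ (G := g35) (by decide +kernel) h5).2.1))
    obtain ⟨e, he, rfl | rfl⟩ := tabE7.sur a ha.1
    · rcases h1 e he ha.2 with h4 | h4 | h4 | h4
      · exact Or.inl (Or.inl h4)
      · exact Or.inl (Or.inr (Or.inl h4))
      · exact Or.inl (Or.inr (Or.inr (Or.inl h4)))
      · exact Or.inr h4
    · rcases h1 e he (neg_eq_zero.1 ((map_neg φ _).symm.trans ha.2)) with h4 | h4 | h4 | h4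
      · exact Or.inl (Or.inr (Or.inr (Or.inr (Or.inl (congrArg Neg.neg h4)))))
      · exact Or.inl (Or.inr (Or.inr (Or.inr (Or.inr (Or.inl (congrArg Neg.neg h4))))))
      · exact Or.inl (Or.inr (Or.inr (Or.inr (Or.inr (Or.inr (congrArg Neg.neg h4))))))
      · exact Or.inr (A1c.neg' h4)
  cls h hr e he h1 := by
    obtain ⟨p, q, h4, h5⟩ : ∃ p q : ℤ × ℤ, zr 3 (p.1 - 1) = true ∧ Mx h 3 5 p q := by
      rcases h1 with h1 | rfl
      · exact rot tabE7 h2 h3 R35 (N := N3) (P := fun p q => zr 3 (p.1 - 1)) (by decide +kernel) (hκ.ex2 k35) h hr he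
          (hN3 h1)
      · exact rot tabE7 h2 h3 R35 (N := N2) (P := fun p q => zr 3 (p.1 - 1)) (by decide +kernel) (hκ.ex2 k35) h hr he
          hN2
    have h6 : h (sr 3) 3 = 1 * p.1 + 0 * q.1 := (h5 (sr 3)).1
    have h7 : (3 : ℤ) * ((sr 3 : Lat 7) 0 - (sr 3 : Lat 7) 2) + (sr 3 : Lat 7) 3 = 1 := by decide
    rw [zr_iff] at h4
    refine ⟨sr 3, ?_, ?_⟩
    · rw [cls7, h7]
      decide
    · rw [cls7, cls7, h7]
      omega

theorem exists_t7 (h2 : (2 : K) ≠ 0) (h3 : (3 : K) ≠ 0) {φ : Lat 7 →+ K} {v : CoxeterMatrix.E₇.Group} {e : K}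
    (h : Eig tE7 v φ e) (he : e ^ 2 + e + 1 = 0) (hty : Ty tE7 wtE7 φ) : ∃ c c', T7 tE7 φ c c' := by
  obtain ⟨w, h1⟩ := tyE7r h2 h3 h he hty
  exact ⟨_, _, (t7_std h2 h3 h1).act⟩

/-- **The lattice part for `E₇`.** -/
theorem e7_lat (h2 : (2 : K) ≠ 0) (h3 : (3 : K) ≠ 0) {A B : Lat 7 →+ K} {v w : CoxeterMatrix.E₇.Group} {e : K}
    (he : e ^ 2 + e + 1 = 0) (hA : Eig tE7 v A e) (hX : Eig tE7 v (A + B) e) (tA : Ty tE7 wtE7 A)
    (tX : Ty tE7 wtE7 (A + B)) (hw : w ∈ WW tE7 (Psi tE7 A)) (hB : Eig tE7 w B e) (h0 : B ≠ 0) :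
    ∃ c c', T7 tE7 (A + B) c c' ∧ (∀ a ∈ A2s c c', A a ≠ 0) ∧ ∃ τ : Equiv.Perm (Fin 3), (∀ i, τ i ≠ i) ∧
      ∀ i j, wa tE7 v (ev c c' i - ev c c' j) = ev c c' (τ i) - ev c c' (τ j) := by
  obtain ⟨a, a', TA⟩ := exists_t7 h2 h3 hA he tA
  obtain ⟨c, c', T⟩ := exists_t7 h2 h3 hX he tX
  obtain ⟨τ, hτ⟩ := T.perm (h := repAut _ tE7.isCartan v) (rt_wa tE7 v) (fun a b hb => cp_wa tE7 v a hb) hX (Or.inl he)
  obtain ⟨h4, h5⟩ := perm3 h3 he (f := fun i => A (ev c c' i)) (τ := τ) (fun i j => by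
    rw [← map_sub, ← map_sub, ← hτ]
    exact hA _) fun h4 => by
    have h5 : A c = 0 := by rw [← ev01 c c', map_sub, h4 0 1, sub_self]
    have h6 : A c' = 0 := by rw [← ev12 c c', map_sub, h4 1 2, sub_self]
    exact TA.not_kill h3 hw he hB h0 T.p2 h5 h6 (by have := T.k1; rwa [AddMonoidHom.add_apply, h5, zero_add] at this)
      (by have := T.k2; rwa [AddMonoidHom.add_apply, h6, zero_add] at this)
  refine ⟨c, c', T, fun x hx => ?_, τ, h4, hτ⟩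
  obtain ⟨i, j, hij, rfl⟩ := mem_A2s.1 hx
  rw [map_sub]
  exact sub_ne_zero.2 (h5 i j hij)

end Cfsg.Agent.Cam.Ex.Cb.Ub
end

-- part: Cam/Ex/PBox_mg
section
prune_inst 0x9000000000000000400000000000000000000000000000000000000000000000000000000000000000000000000000000000000000000000000000000000000000000000000000000000000000000000000
set_option linter.all false
open scoped Cfsg.Agent.FastGrp

-- part: Cam/Ex/PFr
section
/-!
# Exceptional rows, `BoxP`: orbits of orthogonal roots (helper65)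

* `HP E S` : `M_S` contains the image of a non-trivial perfect subgroup; `hp_orb` : orthogonal orbits;
* `fin_comm`, `fin_perf` : the centralizer of `M_Ψ`;
* `a1_gen`, `one_inv`, `two`.
-/

set_option autoImplicit false
set_option linter.unusedVariables false
set_option linter.unusedSectionVars false

namespace Cfsg.Agent.Cam.Ex.P

open CoxeterSystem Cfsg Cfsg.Lie Subgroup
open Cfsg.Agent.ChevalleyStructure.CoxeterGeom Cfsg.Agent.ChevalleyStructure.CoxeterGeomTypes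
open Cfsg.Agent.Tits.Roots Cfsg.Agent.Nodes.BNOf Cfsg.Agent.Nodes.RGDChev Cfsg.Agent.Nodes.Coroot
open Cfsg.Agent.KFacts.RgdChevCoord Cfsg.Agent.BpExc.TorCent Cfsg.Agent.BpExc.LangFr Cfsg.Agent.BpExc.SubBN
open Cfsg.Agent.Cam.Spor Cfsg.Agent.Cam.Ex.S2
open Cfsg.Agent.ChevalleyStructure.SL2Hom (up lo)
open Cfsg.Agent.Nodes.RGDFoldSL (hS wS)
open Cfsg.Agent.DS.Nt (RP)
open Cfsg.Agent.H129.TorusChar (cX isMC_cX cX_root)
open Cfsg.Agent.H605.MX (dl dlHom dl_succ dl_zero dl_mem alpha_dl)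
open scoped commutatorElement

variable {D : ChevalleyDatum} {l : ℕ} {M : CoxeterMatrix (Fin l)} {hp : IsType D l M} {p : ℕ} [Fact p.Prime]
  {a b c c' : Lat l} {S : Set (Lat l)}

/-- the Frobenius map of the field -/
noncomputable abbrev fb (p : ℕ) [Fact p.Prime] (n : ℕ) : kb p →+* kb p := iterateFrobenius (kb p) p n

theorem fb_apply (n : ℕ) (t : kb p) : fb p n t = t ^ p ^ n := iterateFrobenius_def _ _ _

/-- a frame automorphism on the root `SL₂` -/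
theorem act_sl {σ : MulAut (YY D p)} {e : ℕ} {g : Lat l ≃+ Lat l} (hσ : IsFrob p e σ)
    (F : BpExc.Fr.Fr M.toCoxeterSystem hp.isCartan (TT D (kb p)) (XX D l (kb p)) σ g) (hc : Rt hp c) (hc' : Rt hp c')
    (h : g c = c') : ∃ κ : kb p, ∃ hκ : κ ≠ 0, ∀ A, σ (sl p hc A) = sl p hc' (sgm (fb p e) hκ A) := by
  obtain ⟨μ, hμ, h1⟩ := BpExc.HX.fr_xc hp M.toCoxeterSystem hσ F hc
  obtain ⟨ν, hν, h2⟩ := BpExc.HX.fr_xc hp M.toCoxeterSystem hσ F hc.neg'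
  rw [h] at h1
  rw [map_neg, h] at h2
  have h3 : μ * ν = 1 := by
    refine (sl_ck hc').braid hμ ?_
    have e1 := h1 1
    have e2 := h2 (-1)
    rw [one_pow, mul_one] at e1
    rw [neg_one_pow_char_pow (kb p) p e, mul_neg, mul_one] at e2
    have e3 := congrArg (fun x => σ (sl p hc x)) (braid0 (k := kb p))
    simp only [map_mul, sl_up, sl_lo, e1, e2] at e3
    simpa only [sl_up, sl_lo] using e3
  refine ⟨μ, hμ, DFunLike.congr_fun (hom_ext (f := σ.toMonoidHom.comp (sl p hc))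
    (g := (sl p hc').comp (sgm (fb p e) hμ)) (fun t => ?_) fun t => ?_)⟩
  · show σ (sl p hc (up t)) = sl p hc' (sgm _ hμ (up t))
    rw [sgm_up, sl_up, sl_up, h1, fb_apply]
  · show σ (sl p hc (lo t)) = sl p hc' (sgm _ hμ (lo t))
    rw [sgm_lo, sl_lo, sl_lo, h2, fb_apply, inv_eq_of_mul_eq_one_right h3]

theorem sl_comm (hc : Rt hp c) (hc' : Rt hp c') (h : Far hp p c c') (A B : SL (kb p)) :
    sl p hc A * sl p hc' B = sl p hc' B * sl p hc A := by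
  refine (comm_of_gen (f := sl p hc) (fun t => ?_) (fun t => ?_) A).symm
  · rw [sl_up]
    exact (far_cz hc hc' h (xc_mem_XR hc t) B).symm
  · rw [sl_lo]
    exact (far_cz hc.neg' hc' (Far.symm' (Far.neg_right (Far.symm' h hc hc') hc) hc' hc.neg') (xc_mem_XR hc.neg' t) B).symm

theorem pm_rt (hc : Rt hp c) : ∀ a ∈ ({c, -c} : Set (Lat l)), Rt hp a := by
  rintro _ (rfl | rfl)
  exacts [hc, hc.neg']

theorem pm_neg : ∀ a ∈ ({c, -c} : Set (Lat l)), -a ∈ ({c, -c} : Set (Lat l)) := by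
  rintro _ (rfl | rfl)
  exacts [Or.inr rfl, Or.inl (neg_neg _)]

theorem pm_le (hn : ∀ a ∈ S, -a ∈ S) (h : c ∈ S) : MS D l p {c, -c} ≤ MS D l p S := by
  refine RGD.Sup_mono ?_
  rintro _ (rfl | rfl)
  exacts [h, hn _ h]

theorem sl_inj (hc : Rt hp c) (h : p = 2 ∨ ∃ a, Rt hp a ∧ Odd (cp hp a c)) : Function.Injective (sl p hc) := by
  rw [injective_iff_map_eq_one]
  intro z hz
  have h1 : (-1 : kb p) ≠ 0 := neg_ne_zero.2 one_ne_zero
  rcases center_cases (sl_ck hc z hz) with e | e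
  · exact e
  have h2 : (-1 : kb p) = 1 := by
    rcases h with rfl | ⟨a, ha, ho⟩
    · exact CharTwo.neg_eq 1
    · have h3 := ch_sl_hS hc h1 ha
      rw [← e, hz, ch_one ha, ho.neg_one_zpow] at h3
      exact h3.symm
  rw [e, h2, hS_one]

theorem exists_unit {n : ℕ} (h : 4 ≤ p ^ n) : ∃ a : kb p, a ≠ 0 ∧ fb p n a = a ∧ a ^ 2 ≠ 1 := by
  have hn : n ≠ 0 := by
    rintro rfl
    rw [pow_zero] at h
    omega
  obtain ⟨ζ, hζ⟩ := exists_zeta p (m := p ^ n - 1) (by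
    refine Nat.Coprime.coprime_dvd_right (dvd_pow_self p hn) ?_
    obtain ⟨k, hk⟩ : ∃ k, p ^ n = k + 1 := ⟨p ^ n - 1, by omega⟩
    rw [hk, Nat.add_sub_cancel]
    simp)
  refine ⟨ζ, hζ.ne_zero (by omega), ?_, hζ.pow_ne_one_of_pos_of_lt two_ne_zero (by omega)⟩
  rw [fb_apply, show p ^ n = p ^ n - 1 + 1 by omega, pow_succ, hζ.pow_eq_one, one_mul]

theorem psiS_add {Q : Set (YY D p)} (hQ : ∀ t ∈ Q, t ∈ TT D (kb p)) (ha : a ∈ PsiS hp Q) (hb : b ∈ PsiS hp Q)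
    (h : Rt hp (a + b)) : a + b ∈ PsiS hp Q :=
  ⟨h, fun t ht => by
    rw [ch_eq_cX h (hQ t ht), (isMC_cX hp (hQ t ht)).add, ← ch_eq_cX ha.1 (hQ t ht), ← ch_eq_cX hb.1 (hQ t ht),
      ha.2 t ht, hb.2 t ht, one_mul]⟩

theorem T_norm (hS : ∀ a ∈ S, Rt hp a) : TT D (kb p) ≤ normalizer (MS D l p S : Set (YY D p)) := by
  intro t ht
  refine mem_normalizer_iff.2 fun y => ⟨DS.Ex.Tor.T_conj_MS (hp := hp) hS ht, fun h => ?_⟩
  have h1 := DS.Ex.Tor.T_conj_MS (hp := hp) hS (inv_mem ht) h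
  rwa [show t⁻¹ * (t * y * t⁻¹) * t⁻¹⁻¹ = y by group] at h1

variable {d : ℕ} {g0 : Lat l ≃+ Lat l} {L : Type} [Group L] (E : Frame hp p d g0 L)

theorem rt_g (ha : Rt hp a) : Rt hp (E.g a) := (E.fr.root a).2 ha

theorem rt_iter (ha : Rt hp a) (i : ℕ) : Rt hp (E.g^[i] a) := by
  have := finite_WW hp
  exact (H123.ExcComb.iter_root E.fr.root i).2 ha

theorem ch_g {t : YY D p} (ht : t ∈ TT D (kb p)) (h : E.F t = t) (ha : Rt hp a) :
    ch hp (E.g a) t = ch hp a t ^ E.q := by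
  have h1 := boxChi.frob D l M hp p d g0 L E t ht a ha
  rwa [h] at h1

theorem g_psiS {Q : Set (YY D p)} (hQ : ∀ t ∈ Q, t ∈ TT D (kb p) ∧ E.F t = t) (a : Lat l) :
    E.g a ∈ PsiS hp Q ↔ a ∈ PsiS hp Q := by
  refine ⟨fun h => ⟨(E.fr.root a).1 h.1, fun t ht => ?_⟩, fun h => ⟨(E.fr.root a).2 h.1, fun t ht => ?_⟩⟩
  · have h1 := ch_g E (hQ t ht).1 (hQ t ht).2 ((E.fr.root a).1 h.1)
    rw [h.2 t ht, Frame.q, ← fb_apply, ← map_one (fb p E.e)] at h1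
    exact ((fb p E.e).injective h1).symm
  · rw [ch_g E (hQ t ht).1 (hQ t ht).2 h.1, h.2 t ht, one_pow]

theorem act_pow (i : ℕ) (hc : Rt hp c) (hc' : Rt hp c') (h : E.g^[i] c = c') :
    ∃ κ : kb p, ∃ hκ : κ ≠ 0, ∀ A, (E.F ^ i) (sl p hc A) = sl p hc' (sgm (fb p (i * E.e)) hκ A) := by
  obtain ⟨g', F', h1⟩ := E.fr.pow i
  exact act_sl (E.frob.pow i) F' hc hc' (by rw [h1, h])

/-- perfect groups of fixed points come from `L` -/
theorem pull {X : Subgroup (YY D p)} (hX : ⁅X, X⁆ = X) (hF : ∀ y ∈ X, E.F y = y) :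
    ∃ X' : Subgroup L, ⁅X', X'⁆ = X' ∧ X'.map E.ι = X := by
  have h1 : X ≤ E.ι.range := by
    rw [← hX, commutator_le]
    exact fun y hy z hz => E.der y z (hF y hy) (hF z hz)
  have h2 : (X.comap E.ι).map E.ι = X := map_comap_eq_self h1
  exact ⟨X.comap E.ι, map_injective E.inj (by rw [map_commutator, h2, hX]), h2⟩

/-- `M_S` contains the image of a non-trivial perfect subgroup -/
def HP (E : Frame hp p d g0 L) (S : Set (Lat l)) : Prop :=
  ∃ X : Subgroup L, X ≠ ⊥ ∧ ⁅X, X⁆ = X ∧ X.map E.ι ≤ MS D l p S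

theorem hp_of {X : Subgroup (YY D p)} (h0 : X ≠ ⊥) (hX : ⁅X, X⁆ = X) (hF : ∀ y ∈ X, E.F y = y) (hle : X ≤ MS D l p S) :
    HP E S := by
  obtain ⟨X', h1, rfl⟩ := pull E hX hF
  exact ⟨X', fun h => h0 (by rw [h, Subgroup.map_bot]), h1, hle⟩

theorem HP.mono {E : Frame hp p d g0 L} {S' : Set (Lat l)} (h : HP E S) (hS : S ⊆ S') : HP E S' := by
  obtain ⟨X, h1, h2, h3⟩ := h
  exact ⟨X, h1, h2, h3.trans (RGD.Sup_mono hS)⟩

theorem le_of_move {z : YY D p} {w : M.Group} {h : RP hp p w (z⁻¹ * E.F z)} {K : Subgroup (YY D p)} (hz : z ∈ K)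
    {X : Subgroup L} : X.map (E.move z w h).ι ≤ K ↔ X.map E.ι ≤ K := by
  rw [map_le_iff_le_comap, map_le_iff_le_comap]
  refine forall₂_congr fun x hx => ?_
  rw [mem_comap, mem_comap, E.move_ι, K.mul_mem_cancel_right hz, K.mul_mem_cancel_left (inv_mem hz)]

theorem HP.of_move {E : Frame hp p d g0 L} {z : YY D p} {w : M.Group} {h : RP hp p w (z⁻¹ * E.F z)}
    (hz : z ∈ MS D l p S) (H : HP (E.move z w h) S) : HP E S := by
  obtain ⟨X, h1, h2, h3⟩ := H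
  exact ⟨X, h1, h2, (le_of_move E hz).1 h3⟩

theorem iter_mem (hg : ∀ a ∈ S, E.g a ∈ S) (h : c ∈ S) (i : ℕ) : E.g^[i] c ∈ S := by
  induction i with
  | zero => exact h
  | succ i ih => rw [Function.iterate_succ_apply']; exact hg _ ih

theorem hp_orb0 (hS : ∀ a ∈ S, Rt hp a) (hn : ∀ a ∈ S, -a ∈ S) (hc : c ∈ S) {j : ℕ} (hj : 0 < j) (h1 : E.g^[j] c = c)
    (h2 : ∀ i, 0 < i → i < j → E.g^[i] c ∈ S ∧ Far hp p c (E.g^[i] c)) (hq : 4 ≤ E.q ^ j) : HP E S := by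
  have hr := hS c hc
  have H : ∀ i, 0 < i → i < j → ∀ A B, sl p hr A * (E.F ^ i) (sl p hr B) = (E.F ^ i) (sl p hr B) * sl p hr A := by
    intro i hi hij A B
    obtain ⟨κ, hκ, e⟩ := act_pow E i hr (rt_iter E hr i) rfl
    rw [e]
    exact sl_comm hr _ (h2 i hi hij).2 _ _
  obtain ⟨κ, hκ, e⟩ := act_pow E j hr hr h1
  rw [Frame.q, ← pow_mul, mul_comm] at hq
  obtain ⟨v, hv0, hv⟩ := exists_fix hκ (Q := p ^ (j * E.e)) (by omega)
  rw [← fb_apply] at hv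
  obtain ⟨u, hu0, hu, hu2⟩ := exists_unit hq
  refine hp_of E (X := (fixG (fb p (j * E.e)) hκ).map (dlHom H)) (fun h0 => ?_)
    (map_perf _ (fixG_perfect hv0 hv hu0 hu hu2)) ?_ ?_
  · have h3 : ∀ n, n < j → ∃ y, Cz (sl p hr) y ∧ dl E.F (sl p hr) (n + 1) (up v) = sl p hr (up v) * y := by
      intro n
      induction n with
      | zero => exact fun _ => ⟨1, fun B => by rw [one_mul, mul_one], by
          rw [dl_succ, dl_zero, one_mul, pow_zero, MulAut.one_apply, mul_one]⟩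
      | succ n ih =>
        intro hn
        obtain ⟨y, h4, h5⟩ := ih (by omega)
        refine ⟨y * (E.F ^ (n + 1)) (sl p hr (up v)), fun B => ?_, by rw [dl_succ, h5, mul_assoc]⟩
        rw [mul_assoc, ← H _ (Nat.succ_pos n) hn, ← mul_assoc, h4 B, mul_assoc]
    obtain ⟨y, h4, h5⟩ := h3 (j - 1) (by omega)
    have h6 : dl E.F (sl p hr) j (up v) = 1 := mem_bot.1 (h0 ▸ mem_map_of_mem (dlHom H) (up_mem_fixG hv))
    rw [Nat.sub_add_cancel hj, h6, eq_comm, mul_eq_one_iff_eq_inv] at h5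
    refine not_comm (sl_ck hr) hv0 one_ne_zero ?_
    rw [h5, inv_mul_eq_iff_eq_mul, ← mul_assoc, h4, mul_inv_cancel_right]
  · rintro _ ⟨A, hA, rfl⟩
    exact alpha_dl H hj (by rw [e, mem_fixG.1 hA])
  · rintro _ ⟨A, hA, rfl⟩
    refine dl_mem fun i hi => ?_
    obtain ⟨κ', hκ', e'⟩ := act_pow E i hr (rt_iter E hr i) rfl
    rw [e']
    refine pm_le hn ?_ (sl_mem _ _)
    rcases Nat.eq_zero_or_pos i with rfl | hi0
    · exact hc
    · exact (h2 i hi0 hi).1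

/-- **Orthogonal orbits.** -/
theorem hp_orb (hS : ∀ a ∈ S, Rt hp a) (hn : ∀ a ∈ S, -a ∈ S) (hg : ∀ a ∈ S, E.g a ∈ S) (hc : c ∈ S)
    (ho : ∀ i, E.g^[i] c = c ∨ E.g^[i] c = -c ∨ Far hp p c (E.g^[i] c)) (hq : 4 ≤ E.q ∨ (E.g c ≠ c ∧ E.g c ≠ -c)) :
    HP E S := by
  classical
  have hr := hS c hc
  have := finite_WW hp
  have hex : ∃ j, 0 < j ∧ (E.g^[j] c = c ∨ E.g^[j] c = -c) :=
    ⟨_, H123.ExcComb.period_pos E.fr.root hr, Or.inl Function.iterate_minimalPeriod⟩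
  obtain ⟨hj, h1⟩ := Nat.find_spec hex
  have h2 : ∀ i, 0 < i → i < Nat.find hex → Far hp p c (E.g^[i] c) := fun i hi hij => by
    have h3 := Nat.find_min hex hij
    rcases ho i with h | h | h
    · exact absurd ⟨hi, Or.inl h⟩ h3
    · exact absurd ⟨hi, Or.inr h⟩ h3
    · exact h
  generalize Nat.find hex = j at hj h1 h2
  have h3 : 4 ≤ E.q ^ j := by
    have h4 := En.two_le_q E
    rcases hq with h | h
    · exact h.trans (Nat.le_self_pow hj.ne' _)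
    · have h5 : j ≠ 1 := by
        rintro rfl
        exact h1.elim h.1 h.2
      calc 4 = 2 ^ 2 := rfl
        _ ≤ E.q ^ 2 := Nat.pow_le_pow_left h4 2
        _ ≤ E.q ^ j := Nat.pow_le_pow_right (by omega) (by omega)
  rcases h1 with h1 | h1
  · exact hp_orb0 E hS hn hc hj h1 (fun i hi hij => ⟨iter_mem E hg hc i, h2 i hi hij⟩) h3
  obtain ⟨w, hw, e⟩ := exists_refl hr
  obtain ⟨z, hz, h⟩ := En.exists_move_MS E hS hn hg (hw S hc)
  have h4 : ∀ i, i < j → (E.move z w h).g^[i] c = E.g^[i] c := by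
    intro i
    induction i with
    | zero => exact fun _ => rfl
    | succ i ih =>
      intro hi
      rw [Function.iterate_succ_apply', ih (by omega), E.move_g, ← Function.iterate_succ_apply' E.g, e,
        (cp_zero_comm hr (rt_iter E hr _)).1 (h2 _ (Nat.succ_pos i) hi).1, zero_smul, sub_zero]
  refine HP.of_move hz (hp_orb0 (E.move z w h) hS hn hc hj ?_ (fun i hi hij => ?_) h3)
  · obtain ⟨i, rfl⟩ : ∃ i, j = i + 1 := ⟨j - 1, by omega⟩
    rw [Function.iterate_succ_apply', h4 i (by omega), E.move_g, ← Function.iterate_succ_apply' E.g, h1, e,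
      cp_neg c hr, cp_self hr]
    module
  · rw [h4 i hij]
    exact ⟨iter_mem E hg hc i, h2 i hi hij⟩

variable [Finite L] {U : Type} [Group U] [Finite U] {τ α β : U →* L} {R R' : Subgroup L}

section fin

variable (co : Core τ α β R R') {ι : L →* YY D p} (hι : Function.Injective ι) {r : ℕ} (hr : r.Prime) {Q : Set U}
  (hQ : ∀ u ∈ Q, ι (τ u) ∈ TT D (kb p) ∧ ∃ n : ℕ, ι (τ u) ^ r ^ n = 1)

variable (hp) in
/-- the centralizer of `M_Ψ` -/
noncomputable def JJ (ι : L →* YY D p) (τ : U →* L) (Q : Set U) : Subgroup L :=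
  (centralizer (MS D l p (PsiS hp ((fun u => ι (τ u)) '' Q)) : Set (YY D p))).comap ι

include co hι hr hQ

theorem R_le : R.map ι ≤ MS D l p (PsiS hp ((fun u => ι (τ u)) '' Q)) := by
  refine chi_perf hp hr ?_ (map_perf _ co.pair.perfect) ?_
  · rintro _ ⟨u, hu, rfl⟩
    exact hQ u hu
  · rintro _ ⟨y, hy, rfl⟩
    refine mem_centralizer_iff.2 ?_
    rintro _ ⟨u, hu, rfl⟩
    rw [← map_mul, co.pair.comm u y hy, map_mul]

theorem JJ_le : JJ hp ι τ Q ≤ centralizer (R : Set L) := fun x hx => mem_centralizer_iff.2 fun y hy => hι (by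
  rw [map_mul, map_mul]
  exact mem_centralizer_iff.1 hx _ (R_le co hι hr hQ (mem_map_of_mem _ hy)))

include hp in
theorem Q_comm : ∀ u ∈ Q, ∀ u' ∈ Q, u * u' = u' * u := fun u hu u' hu' => co.pair.inj (hι (by
  rw [map_mul, map_mul, map_mul, map_mul]
  exact T_comm hp (hQ u hu).1 (hQ u' hu').1))

theorem JJ_norm : ∀ d, (∀ u ∈ Q, u * d = d * u) → ∀ y ∈ JJ hp ι τ Q, α d * y * (α d)⁻¹ ∈ JJ hp ι τ Q := by
  intro d hd y hy
  refine mem_centralizer_iff.2 fun m hm => ?_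
  have h4 := DS.Nt.conj_mem_Mz (hp := hp) ((Set.toFinite Q).image _) (by rintro _ ⟨u, hu, rfl⟩; exact (hQ u hu).1)
    (c := ι (α d)⁻¹) (by
      rintro _ ⟨u, hu, rfl⟩
      rw [← map_mul, mem_centralizer_singleton_iff.1 (inv_mem (co.alpha_mem_cent (hd u hu))), map_mul]) hm
  have h5 := mem_centralizer_iff.1 hy _ h4
  rw [map_inv, inv_inv] at h5
  rw [map_mul, map_mul, map_inv]
  calc m * (ι (α d) * ι y * (ι (α d))⁻¹) = ι (α d) * ((ι (α d))⁻¹ * m * ι (α d) * ι y) * (ι (α d))⁻¹ := by group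
    _ = _ := by rw [h5]; group

theorem fin_comm {v v' : U} (hv : τ v ∈ JJ hp ι τ Q) (hv' : τ v' ∈ JJ hp ι τ Q) : v * v' = v' * v :=
  comm_of co (JJ_le co hι hr hQ) (Q_comm (hp := hp) co hι hr hQ) (JJ_norm co hι hr hQ) hv hv'

theorem fin_perf (big : Big) {X : Subgroup L} (hX : ⁅X, X⁆ = X) (h : X ≤ JJ hp ι τ Q) : X = ⊥ :=
  eq_bot_of big co (JJ_le co hι hr hQ) (Q_comm (hp := hp) co hι hr hQ) (JJ_norm co hι hr hQ) hX h

omit co hι hr hQ in
theorem mem_JJ (hS : ∀ a ∈ S, Rt hp a) (h : ∀ a, Rt hp a → (∀ u ∈ Q, ch hp a (ι (τ u)) = 1) → ∀ c ∈ S, Far hp p a c)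
    {x : L} (hx : ι x ∈ MS D l p S) : x ∈ JJ hp ι τ Q :=
  mem_centralizer_iff.2 fun m hm => MS_MS (fun a ha c hc x hx y hy =>
    far_comm ha.1 (hS c hc) (h a ha.1 (fun u hu => ha.2 _ ⟨u, hu, rfl⟩) c hc) hx hy) hm hx

end fin

theorem cen_MS (h : Cen E R S) {y : YY D p} (hy : y ∈ MS D l p S) {x : L} (hx : x ∈ R) : E.ι x * y = y * E.ι x :=
  (mem_centralizer_singleton_iff.1 (RGD.Sup_le (K := centralizer {E.ι x})
    (fun a ha y hy => mem_centralizer_singleton_iff.2 (h a ha y hy x hx).symm) hy)).symm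

theorem cen_le (h : Cen E R S) : (MS D l p S).comap E.ι ≤ centralizer (R : Set L) := fun y hy =>
  mem_centralizer_iff.2 fun x hx => E.inj (by rw [map_mul, map_mul, cen_MS E h hy hx])

theorem cen_move {z : YY D p} {w : M.Group} {h : RP hp p w (z⁻¹ * E.F z)} (H : Cen E R S) (hz : z ∈ MS D l p S) :
    Cen (E.move z w h) R S := fun a ha y hy x hx => by
  rw [E.move_ι, mul_assoc z⁻¹, cen_MS E H hz hx, inv_mul_cancel_left]
  exact H a ha y hy x hx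

theorem cen_g (hS : ∀ a ∈ S, Rt hp a) (H : Cen E R S) : Cen E R (E.g '' S) := by
  rintro _ ⟨a, ha, rfl⟩ y hy x hx
  obtain ⟨y, rfl⟩ := E.F.surjective y
  rw [← E.fix x, ← map_mul, H a ha y ((E.fr.map a (hS a ha) y).1 hy) x hx, map_mul]

theorem a1c_far {Q : Set (YY D p)} (hQ : ∀ t ∈ Q, t ∈ TT D (kb p)) (h : A1c hp (PsiS hp Q) c) (ha : a ∈ PsiS hp Q) :
    a = c ∨ a = -c ∨ Far hp p a c := by
  refine (h.2 a ha).imp_right (Or.imp_right fun h0 => ⟨h0, Or.inr fun h1 => ?_⟩)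
  have h2 : cp hp (a + c) c = 2 := by rw [cp_add _ _ h.1.1, h0, cp_self h.1.1, zero_add]
  rcases h.2 _ (psiS_add hQ ha h.1 h1) with e | e | e
  · exact Rt.ne_zero' ha.1 (add_eq_right.1 e)
  · rw [e, cp_neg _ h.1.1, cp_self h.1.1] at h2
    omega
  · omega

/-- **`A₁`-components, connected centralizer.** -/
theorem a1_gen (big : Big) (co : Core τ α β R R') {u : U} (hT : E.ι (τ u) ∈ TT D (kb p))
    (hconn : ∀ y : L, y * τ u = τ u * y → E.ι y ∈ MS D l p (PsiS hp {E.ι (τ u)}) ⊔ TT D (kb p))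
    (h : A1c hp (PsiS hp {E.ι (τ u)}) c) (hq : 4 ≤ E.q ∨ (E.g c ≠ c ∧ E.g c ≠ -c)) : ¬ Cen E R {c, -c} := by
  intro hcen
  have hQ : ∀ t ∈ ({E.ι (τ u)} : Set (YY D p)), t ∈ TT D (kb p) := by
    rintro _ rfl
    exact hT
  have hg := g_psiS E (Q := {E.ι (τ u)}) (by rintro _ rfl; exact ⟨hT, E.fix _⟩)
  set Ψ := PsiS hp {E.ι (τ u)} with hΨ
  let Θ : Set (Lat l) := {a | A1c hp Ψ a ∧ Cen E R {a, -a}}
  have hS : ∀ a ∈ Θ, Rt hp a := fun a ha => ha.1.1.1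
  have hn : ∀ a ∈ Θ, -a ∈ Θ := fun a ha => by
    refine ⟨⟨(cs_psiS hQ).neg a ha.1.1, fun b hb => ?_⟩, by rw [neg_neg, Set.pair_comm]; exact ha.2⟩
    rw [neg_neg, cp_neg_right _ (hS a ha), neg_eq_zero, or_left_comm]
    exact ha.1.2 b hb
  have hgΘ : ∀ a ∈ Θ, E.g a ∈ Θ := fun a ha => by
    refine ⟨⟨(hg a).2 ha.1.1, fun b hb => ?_⟩, ?_⟩
    · obtain ⟨b, rfl⟩ := E.g.surjective b
      rw [E.gcp _ _ (hS a ha), ← map_neg, E.g.injective.eq_iff, E.g.injective.eq_iff]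
      exact ha.1.2 b ((hg b).1 hb)
    · have h1 := cen_g E (pm_rt (hS a ha)) ha.2
      rwa [Set.image_pair, map_neg] at h1
  obtain ⟨X, h0, hX, hle⟩ := hp_orb E hS hn hgΘ (c := c) ⟨h, hcen⟩ (fun i => by
    have h1 := iter_mem E hgΘ (c := c) ⟨h, hcen⟩ i
    exact (a1c_far hQ h h1.1.1).imp_right (Or.imp_right fun h2 => Far.symm' h2 (hS _ h1) h.1.1)) hq
  have hN : MS D l p Ψ ⊔ TT D (kb p) ≤ normalizer (MS D l p Θ : Set (YY D p)) := by
    refine sup_le (RGD.Sup_le fun b hb x hx => ?_) (T_norm hS)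
    by_cases hb' : b ∈ Θ
    · exact le_normalizer (RGD.le_Sup hb' hx)
    refine centralizer_le_normalizer _ (mem_centralizer_iff.2 fun y hy => ?_)
    refine MS_MS (S' := {b}) ?_ hy (RGD.le_Sup (S := {b}) rfl hx)
    rintro a ha _ rfl y hy x hx
    rcases a1c_far hQ ha.1 hb with e | e | e
    · exact absurd (e ▸ ha) hb'
    · exact absurd (e ▸ hn a ha) hb'
    · exact (far_comm hb.1 (hS a ha) e hx hy).symm
  refine h0 (eq_bot_of big co (J := (MS D l p Θ).comap E.ι) (Q := {u})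
    (cen_le E fun a ha => ha.2 a (Or.inl rfl)) (by rintro _ rfl _ rfl; rfl) (fun d hd y hy => ?_) hX
    (map_le_iff_le_comap.1 hle))
  rw [mem_comap, map_mul, map_mul, map_inv]
  exact (mem_normalizer_iff.1 (hN (hconn _ (mem_centralizer_singleton_iff.1 (co.alpha_mem_cent (hd u rfl))))) _).1 hy

theorem a1 (big : Big) (hl : l ≤ 7) (co : Core τ α β R R') {r : ℕ} (hr : r.Prime) (h5 : 5 ≤ r) {u : U}
    (hu : orderOf u = r) (hT : E.ι (τ u) ∈ TT D (kb p)) (h : A1c hp (PsiS hp {E.ι (τ u)}) c)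
    (hq : 4 ≤ E.q ∨ (E.g c ≠ c ∧ E.g c ≠ -c)) : ¬ Cen E R {c, -c} := by
  refine a1_gen E big co hT (fun y hy => ?_) h hq
  obtain ⟨m, hm, t, ht, e⟩ := mem_MT_of_comm hp hl hr h5 (Set.finite_singleton (E.ι (τ u))) (c := E.ι y)
    (by rintro _ rfl; exact ⟨hT, 1, by rw [pow_one, ← map_pow, ← map_pow, ← hu, pow_orderOf_eq_one, map_one, map_one]⟩)
    (by rintro _ rfl; rw [← map_mul, hy, map_mul])
  rw [e]
  exact mul_mem (mem_sup_left hm) (mem_sup_right ht)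

/-! ### One root -/

theorem exists_tw (hc : Rt hp c) (hg : E.g c = c ∨ E.g c = -c) :
    ∃ z ∈ MS D l p {c, -c}, ∃ w : M.Group, (∀ a, wa hp w a = a - cp hp a c • c) ∧ RP hp p w (z⁻¹ * E.F z) := by
  obtain ⟨w, hw, e⟩ := exists_refl hc
  obtain ⟨z, hz, h⟩ := En.exists_move_MS E (pm_rt hc) pm_neg (by
    rintro _ (rfl | rfl)
    · exact hg
    · rw [map_neg]
      exact pm_neg _ hg) (hw _ (Or.inl rfl))
  exact ⟨z, hz, w, e, h⟩

theorem refl_self (hc : Rt hp c) : c - cp hp c c • c = -c := by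
  rw [cp_self hc]
  module

theorem refl_neg (hc : Rt hp c) : -c - cp hp (-c) c • c = c := by
  rw [cp_neg c hc, cp_self hc]
  module

/-- the fixed points of the root `SL₂` lie in `T` -/
def KT (E : Frame hp p d g0 L) (τ : U →* L) (c : Lat l) : Prop :=
  ∀ y ∈ MS D l p {c, -c}, E.F y = y → ∃ u, E.ι (τ u) = y

theorem kt_move {z : YY D p} {w : M.Group} {h : RP hp p w (z⁻¹ * E.F z)} (hz : z ∈ MS D l p {c, -c}) :
    KT (E.move z w h) τ c ↔ KT E τ c := by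
  refine ⟨fun H y hy hF => ?_, fun H y hy hF => ?_⟩
  · have e : z * (z⁻¹ * y * z) * z⁻¹ = y := by group
    obtain ⟨u, hu⟩ := H (z⁻¹ * y * z) (mul_mem (mul_mem (inv_mem hz) hy) hz) (by rw [E.move_fix, e, hF])
    rw [E.move_ι] at hu
    exact ⟨u, mul_left_cancel (mul_right_cancel hu)⟩
  · obtain ⟨u, hu⟩ := H (z * y * z⁻¹) (mul_mem (mul_mem hz hy) (inv_mem hz)) ((E.move_fix z w h).1 hF)
    exact ⟨u, by rw [E.move_ι, hu]; group⟩

theorem kt_of0 (hc : Rt hp c) (hi : Function.Injective (sl p hc)) (hg : E.g c = c) (hq : 4 ≤ E.q)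
    (H : ∀ X : Subgroup L, ⁅X, X⁆ = X → X.map E.ι ≤ MS D l p {c, -c} → X ≤ τ.range) : KT E τ c := by
  obtain ⟨κ, hκ, e⟩ := act_sl E.frob E.fr hc hc hg
  obtain ⟨v, hv0, hv⟩ := exists_fix hκ (En.two_le_q E)
  obtain ⟨u, hu0, hu, hu2⟩ := exists_unit hq
  obtain ⟨X, h1, h2⟩ := pull E (map_perf (sl p hc) (fixG_perfect (hκ := hκ) hv0 (by rw [fb_apply]; exact hv) hu0 hu hu2))
    (by rintro _ ⟨A, hA, rfl⟩; rw [e, mem_fixG.1 hA])
  intro y hy hF
  rw [← sl_range hc] at hy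
  obtain ⟨A, rfl⟩ := hy
  rw [e] at hF
  obtain ⟨x, hx, h3⟩ : sl p hc A ∈ X.map E.ι := h2 ▸ mem_map_of_mem _ (mem_fixG.2 (hi hF))
  obtain ⟨u, rfl⟩ := H X h1 (by rw [h2]; rintro _ ⟨A, -, rfl⟩; exact sl_mem hc A) hx
  exact ⟨u, h3⟩

theorem kt_of (hc : Rt hp c) (hi : Function.Injective (sl p hc)) (hg : E.g c = c ∨ E.g c = -c) (hq : 4 ≤ E.q)
    (H : ∀ X : Subgroup L, ⁅X, X⁆ = X → X.map E.ι ≤ MS D l p {c, -c} → X ≤ τ.range) : KT E τ c := by
  rcases hg with h1 | h1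
  · exact kt_of0 E hc hi h1 hq H
  obtain ⟨z, hz, w, e, h⟩ := exists_tw E hc (Or.inr h1)
  exact (kt_move E hz).1 (kt_of0 (E.move z w h) hc hi (by rw [E.move_g, h1, e, refl_neg hc]) hq
    fun X hX hle => H X hX ((le_of_move E hz).1 hle))

theorem exists_noncomm (hc : Rt hp c) (hg : E.g c = c ∨ E.g c = -c) (hK : KT E τ c) :
    ∃ v v' : U, E.ι (τ v) ∈ MS D l p {c, -c} ∧ E.ι (τ v') ∈ MS D l p {c, -c} ∧ v * v' ≠ v' * v := by
  have key : ∀ E : Frame hp p d g0 L, E.g c = c → KT E τ c →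
      ∃ v v' : U, E.ι (τ v) ∈ MS D l p {c, -c} ∧ E.ι (τ v') ∈ MS D l p {c, -c} ∧ v * v' ≠ v' * v := by
    intro E hg hK
    obtain ⟨κ, hκ, e⟩ := act_sl E.frob E.fr hc hc hg
    obtain ⟨s, hs0, hs⟩ := exists_fix hκ (En.two_le_q E)
    obtain ⟨t, ht0, ht⟩ := exists_fix (inv_ne_zero hκ) (En.two_le_q E)
    obtain ⟨v, hv⟩ := hK _ (sl_mem hc (up s)) (by rw [e, sgm_up, fb_apply]; exact congrArg _ (congrArg _ hs))
    obtain ⟨v', hv'⟩ := hK _ (sl_mem hc (lo t)) (by rw [e, sgm_lo, fb_apply]; exact congrArg _ (congrArg _ ht))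
    refine ⟨v, v', hv ▸ sl_mem hc _, hv' ▸ sl_mem hc _, fun h => not_comm (sl_ck hc) hs0 ht0 ?_⟩
    rw [← hv, ← hv', ← map_mul, ← map_mul, h, map_mul, map_mul]
  rcases hg with h1 | h1
  · exact key E h1 hK
  obtain ⟨z, hz, w, e, h⟩ := exists_tw E hc (Or.inr h1)
  obtain ⟨v, v', h2, h3, h4⟩ := key (E.move z w h) (by rw [E.move_g, h1, e, refl_neg hc]) ((kt_move E hz).2 hK)
  rw [E.move_ι, mul_mem_cancel_right hz, mul_mem_cancel_left (inv_mem hz)] at h2 h3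
  exact ⟨v, v', h2, h3, h4⟩

/-- **The final contradiction.** -/
theorem fin_K (co : Core τ α β R R') (hc : Rt hp c) (hg : E.g c = c ∨ E.g c = -c) (hK : KT E τ c) {r : ℕ} (hr : r.Prime)
    {Q : Set U} (hQ : ∀ u ∈ Q, E.ι (τ u) ∈ TT D (kb p) ∧ ∃ n : ℕ, E.ι (τ u) ^ r ^ n = 1)
    (h : ∀ a, Rt hp a → (∀ u ∈ Q, ch hp a (E.ι (τ u)) = 1) → Far hp p a c) : False := by
  obtain ⟨v, v', h1, h2, h3⟩ := exists_noncomm E hc hg hK
  have h4 : ∀ a, Rt hp a → (∀ u ∈ Q, ch hp a (E.ι (τ u)) = 1) → ∀ b ∈ ({c, -c} : Set (Lat l)), Far hp p a b := by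
    rintro a ha h5 _ (rfl | rfl)
    exacts [h a ha h5, Far.neg_right (h a ha h5) hc]
  exact h3 (fin_comm co E.inj hr hQ (mem_JJ (pm_rt hc) h4 h1) (mem_JJ (pm_rt hc) h4 h2))

theorem cp_g {ε : ℤˣ} (hc : Rt hp c) (hg : E.g c = (ε : ℤ) • c) (a : Lat l) : cp hp (E.g a) c = ε * cp hp a c := by
  have h1 := E.gcp a c hc
  rcases Int.units_eq_one_or ε with rfl | rfl
  · rw [hg, Units.val_one, one_smul] at h1
    rw [h1, Units.val_one, one_mul]
  · rw [hg, Units.val_neg, Units.val_one, neg_smul, one_smul, cp_neg_right _ hc] at h1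
    rw [← h1, Units.val_neg, Units.val_one, neg_mul_neg, one_mul]

theorem pm_of {ε : ℤˣ} (h : a = (ε : ℤ) • c) : a = c ∨ a = -c := by
  rcases Int.units_eq_one_or ε with rfl | rfl
  · exact Or.inl (by rw [h, Units.val_one, one_smul])
  · exact Or.inr (by rw [h, Units.val_neg, Units.val_one, neg_smul, one_smul])

theorem of_pm (h : a = c ∨ a = -c) : ∃ ε : ℤˣ, a = (ε : ℤ) • c := by
  rcases h with rfl | rfl
  · exact ⟨1, by rw [Units.val_one, one_smul]⟩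
  · exact ⟨-1, by rw [Units.val_neg, Units.val_one, neg_smul, one_smul]⟩

theorem zpow_q {m : ℕ} {ζ : kb p} (hζ : IsPrimitiveRoot ζ m) (h0 : ζ ≠ 0) {i j : ℤ} (h : (m : ℤ) ∣ i - j) :
    ζ ^ i = ζ ^ j := by
  have h1 := (hζ.zpow_eq_one_iff_dvd _).2 h
  rwa [zpow_sub₀ h0, div_eq_one_iff_eq (zpow_ne_zero _ h0)] at h1

theorem fix_h {ε : ℤˣ} (hc : Rt hp c) (hg : E.g c = (ε : ℤ) • c) {m : ℕ} {ζ : kb p} (hζ : IsPrimitiveRoot ζ m)
    (h0 : ζ ≠ 0) (hm : (m : ℤ) ∣ E.q - ε) : E.F (sl p hc (hS ζ)) = sl p hc (hS ζ) := by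
  refine E.fix_of_ch (sl_hS_mem hc h0) fun a ha => ?_
  rw [ch_sl_hS hc h0 ha, ch_sl_hS hc h0 (rt_g E ha), cp_g E hc hg, ← zpow_natCast, ← zpow_mul]
  refine zpow_q hζ h0 ?_
  rw [show (ε : ℤ) * cp hp a c - cp hp a c * E.q = (E.q - ε) * (-cp hp a c) by ring]
  exact hm.mul_right _

theorem h_pow (hc : Rt hp c) {m : ℕ} {ζ : kb p} (h0 : ζ ≠ 0) (h : ζ ^ m = 1) : sl p hc (hS ζ) ^ m = 1 := by
  rw [← map_pow, hS_pow h0, h, hS_one, map_one]

theorem one_core (co : Core τ α β R R') {ε : ℤˣ} (hc : Rt hp c) (hg : E.g c = (ε : ℤ) • c) (hK : KT E τ c) {r n : ℕ}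
    (hr : r.Prime) (hrp : r ≠ p) (hm : ((r ^ n : ℕ) : ℤ) ∣ E.q - ε)
    (h : ∀ a, Rt hp a → ((r ^ n : ℕ) : ℤ) ∣ cp hp a c → Far hp p a c) : False := by
  obtain ⟨ζ, hζ⟩ := exists_zeta p (m := r ^ n) (((Nat.coprime_primes hr Fact.out).2 hrp).pow_left n)
  have h0 : ζ ≠ 0 := hζ.ne_zero (pow_ne_zero n hr.ne_zero)
  obtain ⟨u, hu⟩ := hK _ (sl_mem hc _) (fix_h E hc hg hζ h0 hm)
  refine fin_K E co hc (pm_of hg) hK hr (Q := {u}) ?_ fun a ha h1 => h a ha ?_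
  · rintro _ rfl
    rw [hu]
    exact ⟨sl_hS_mem hc h0, n, h_pow hc h0 hζ.pow_eq_one⟩
  · have h2 := h1 u rfl
    rwa [hu, ch_sl_hS hc h0 ha, hζ.zpow_eq_one_iff_dvd] at h2

theorem exists_odd_prime {q : ℕ} {ε : ℤˣ} (h2 : 2 ∣ q) (hq : 3 ≤ (q : ℤ) - ε) :
    ∃ r : ℕ, r.Prime ∧ 3 ≤ r ∧ (r : ℤ) ∣ q - ε := by
  obtain ⟨r, hr, hd⟩ := Nat.exists_prime_and_dvd (n := ((q : ℤ) - ε).natAbs) (by omega)
  have h1 : (r : ℤ) ∣ q - ε := Int.natCast_dvd.2 hd
  refine ⟨r, hr, ?_, h1⟩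
  have h3 := hr.two_le
  by_contra h4
  obtain rfl : r = 2 := by omega
  rcases Int.units_eq_one_or ε with rfl | rfl
  · rw [Units.val_one] at h1
    omega
  · rw [Units.val_neg, Units.val_one] at h1
    omega

/-- **`BoxP.two`.** -/
theorem two (hl : 4 ≤ l) (E : Frame hp 2 d g0 L) (co : Core τ α β R R') (hc : Rt hp c) (hg : E.g c = c ∨ E.g c = -c)
    (hq : 4 ≤ E.q) : ¬ (MS D l 2 {c, -c}).comap E.ι ≤ τ.range := by
  intro H
  obtain ⟨ε, hε⟩ := of_pm hg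
  obtain ⟨r, hr, h3, hd⟩ := exists_odd_prime (q := E.q) (ε := ε) (dvd_pow_self 2 E.he.ne') (by
    rcases Int.units_eq_one_or ε with rfl | rfl
    · rw [Units.val_one]; omega
    · rw [Units.val_neg, Units.val_one]; omega)
  refine one_core E co hc hε (kt_of E hc (sl_inj hc (Or.inl rfl)) hg hq fun X _ h => (map_le_iff_le_comap.1 h).trans H)
    hr (n := 1) (by omega) (by rwa [pow_one]) fun a ha h => ⟨?_, Or.inl rfl⟩
  have h1 := cp_le2 hl ha hc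
  rw [pow_one] at h
  exact Int.eq_zero_of_abs_lt_dvd h (by rw [abs_lt]; omega)

/-! ### Involutions -/

theorem cp_sr (a : Lat l) (i : Fin l) : cp hp a (sr i) = pairing (cartanOf D l) i a := by
  have := finite_WW hp
  exact cpr_sr _ _ a i

end Cfsg.Agent.Cam.Ex.P
end

-- part: Cam/Ex/PA2
section
/-!
# Exceptional rows, `BoxP`: subsystems of type `A₂` (helper65)

* `heis_perf` : the Sylow subgroup of `SU₃(3)`;
* `ax_split`, `ax_tw` : the perfect groups `SL₃(q)` and `SU₃(3)`;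
* `a2` : `BoxP.a2`.
-/

set_option autoImplicit false
set_option linter.unusedVariables false
set_option linter.unusedSectionVars false

namespace Cfsg.Agent.Cam.Ex.P

open CoxeterSystem Cfsg Cfsg.Lie Subgroup
open Cfsg.Agent.ChevalleyStructure.CoxeterGeom Cfsg.Agent.ChevalleyStructure.CoxeterGeomTypes
open Cfsg.Agent.Tits.Roots Cfsg.Agent.Nodes.BNOf Cfsg.Agent.Nodes.RGDChev Cfsg.Agent.Nodes.Coroot
open Cfsg.Agent.KFacts.RgdChevCoord Cfsg.Agent.BpExc.TorCent Cfsg.Agent.BpExc.LangFr Cfsg.Agent.BpExc.SubBN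
open Cfsg.Agent.Cam.Spor Cfsg.Agent.Cam.Ex.S2
open Cfsg.Agent.Cam.Ex.SL3 (P2 Pi3 ev S3 mem_A2s ev01 ev12 ev02)
open Cfsg.Agent.ChevalleyStructure.SL2Hom (up lo)
open Cfsg.Agent.Nodes.RGDFoldSL (hS wS)
open Cfsg.Agent.DS.Nt (RP)
open Cfsg.Agent.H428.OT.Lin (tv tv_coe slext cmul)
open scoped commutatorElement

section heis

variable {k : Type*} [Field k]

theorem exists_cubic [IsAlgClosed k] {κ : k} (hκ : κ ≠ 0) (c : k) : ∃ w : k, κ * w ^ 3 = w + c := by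
  obtain ⟨w, hw⟩ := IsAlgClosed.exists_root (Polynomial.C κ * Polynomial.X ^ 3 - Polynomial.X - Polynomial.C c) (by
    have h : (Polynomial.C κ * Polynomial.X ^ 3 - Polynomial.X - Polynomial.C c).degree = 3 := by
      compute_degree!
    rw [h]
    decide)
  refine ⟨w, ?_⟩
  simp only [Polynomial.IsRoot, Polynomial.eval_sub, Polynomial.eval_mul, Polynomial.eval_C, Polynomial.eval_pow,
    Polynomial.eval_X] at hw
  linear_combination hw

/-- the fixed points in a Heisenberg group in characteristic three -/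
theorem heis_perf [IsAlgClosed k] [CharP k 3] {Y : Type*} [Group Y] {η : k → k → k → Y}
    (hmul : ∀ s t u s' t' u', η s t u * η s' t' u' = η (s + s') (t + t') (u + u' + s * t'))
    (hinj : ∀ u u', η 0 0 u = η 0 0 u' → u = u') {F : MulAut Y} {κ κ' κ'' : k} (h1 : κ ≠ 0) (h2 : κ' ≠ 0) (h3 : κ'' ≠ 0)
    (hF : ∀ s t u, F (η s t u) = η (κ' * t ^ 3) (κ * s ^ 3) (κ'' * (u - s * t) ^ 3)) {h : Y}
    (hh : ∀ s t u, h * η s t u * h⁻¹ = η (-s) (-t) u) {X : Subgroup Y} (hhX : h ∈ X) (hX : ∀ y ∈ X, F y = y)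
    (hη : ∀ s t u, F (η s t u) = η s t u → η s t u ∈ X) {s t u : k} (hy : F (η s t u) = η s t u) :
    η s t u ∈ ⁅X, X⁆ := by
  have c3 : (3 : k) = 0 := CharP.ofNat_eq_zero k 3
  have e0 : η 0 0 0 = 1 := by
    have h4 := hmul 0 0 0 0 0 0
    rw [add_zero, mul_zero, add_zero] at h4
    exact mul_eq_left.1 h4
  have hex : ∀ s, κ' * κ ^ 3 * s ^ 9 = s → ∃ u, η s (κ * s ^ 3) u ∈ X := fun s hs => by
    obtain ⟨w, hw⟩ := exists_cubic h3 (s * (κ * s ^ 3))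
    refine ⟨w + s * (κ * s ^ 3), hη _ _ _ ?_⟩
    rw [hF, add_sub_cancel_right, hw]
    congr 1
    linear_combination hs
  have hz : ∀ u, η 0 0 u ∈ X → κ'' * u ^ 3 = u := fun u hu => by
    have h4 := hX _ hu
    rw [hF, zero_pow three_ne_zero, mul_zero, mul_zero, mul_zero, sub_zero] at h4
    exact hinj _ _ h4
  obtain ⟨s₀, hs0, hs⟩ := exists_fix (mul_ne_zero h2 (pow_ne_zero 3 h1)) (Q := 9) (by norm_num)
  obtain ⟨i, hi⟩ := IsAlgClosed.exists_pow_nat_eq (-1 : k) two_pos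
  have hi0 : i ≠ 0 := by
    rintro rfl
    rw [zero_pow two_ne_zero] at hi
    exact one_ne_zero (neg_eq_zero.1 hi.symm)
  obtain ⟨u₀, ha⟩ := hex s₀ hs
  obtain ⟨u₁, hb⟩ := hex (i * s₀) (by
    linear_combination i * hs + κ' * κ ^ 3 * s₀ ^ 9 * i * (i ^ 6 - i ^ 4 + i ^ 2 - 1) * hi)
  have h5 : η 0 0 (i * κ * s₀ ^ 4) ∈ ⁅X, X⁆ := by
    have e : η 0 0 (i * κ * s₀ ^ 4) = ⁅(η s₀ (κ * s₀ ^ 3) u₀)⁻¹, (η (i * s₀) (κ * (i * s₀) ^ 3) u₁)⁻¹⁆ := by
      rw [commutatorElement_def, inv_inv, inv_inv, ← mul_inv_rev, mul_assoc (_⁻¹), eq_inv_mul_iff_mul_eq,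
        hmul, hmul, hmul]
      congr 1
      · ring
      · ring
      · linear_combination i * κ * s₀ ^ 4 * c3 - i * κ * s₀ ^ 4 * hi
    rw [e]
    exact commutator_mem_commutator (inv_mem ha) (inv_mem hb)
  have h6 : ∀ u, η 0 0 u ∈ X → η 0 0 u ∈ ⁅X, X⁆ := fun u hu => by
    have h7 := hz u hu
    have h8 := hz _ (commutator_le_self X h5)
    have h9 : i * κ * s₀ ^ 4 ≠ 0 := mul_ne_zero (mul_ne_zero hi0 h1) (pow_ne_zero 4 hs0)
    generalize i * κ * s₀ ^ 4 = v at h5 h8 h9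
    have h10 : u * ((u - v) * (u + v)) = 0 := by
      refine mul_left_cancel₀ (mul_ne_zero h3 h9) ?_
      linear_combination v * h7 - u * h8
    rcases mul_eq_zero.1 h10 with h | h
    · rw [h, e0]
      exact one_mem _
    rcases mul_eq_zero.1 h with h | h
    · rwa [sub_eq_zero.1 h]
    · have e : η 0 0 u = (η 0 0 v)⁻¹ := by
        rw [eq_inv_iff_mul_eq_one, hmul, h, ← e0]
        (with_reducible congr 1) <;> ring
      rw [e]
      exact inv_mem h5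
  have hy' := hη s t u hy
  have h11 : η s t u * (h * η s t u * h⁻¹) = η 0 0 (u + u - s * t) := by
    rw [hh, hmul]
    congr 1 <;> ring
  have h12 := h6 _ (h11 ▸ mul_mem hy' (mul_mem (mul_mem hhX hy') (inv_mem hhX)))
  have h13 : η s t u * η s t u * η s t u = 1 := by
    rw [hmul, hmul, ← e0]
    congr 1
    · linear_combination s * c3
    · linear_combination t * c3
    · linear_combination (u + s * t) * c3
  have h14 : η s t u = (η s t u * (h * η s t u * h⁻¹) * ⁅h, (η s t u)⁻¹⁆)⁻¹ := by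
    rw [eq_inv_iff_mul_eq_one, ← h13, commutatorElement_def]
    group
  rw [h14, h11]
  exact inv_mem (mul_mem h12 (commutator_mem_commutator hhX (inv_mem hy')))

/-- unitriangular matrices -/
def Hm (s t u : k) : S3 k := ⟨!![1, s, u; 0, 1, t; 0, 0, 1], by simp [Matrix.det_fin_three]⟩

theorem Hm_mul (s t u s' t' u' : k) : Hm s t u * Hm s' t' u' = Hm (s + s') (t + t') (u + u' + s * t') := by
  apply slext
  rw [cmul]
  ext i j
  (revert i j; simp only [Hm, Matrix.mul_apply, Fin.sum_univ_three, _root_.Fin.forall_fin_succ, _root_.Matrix.of_apply, _root_.Matrix.cons_val', _root_.Matrix.cons_val_fin_one, Fin.isValue, _root_.Matrix.cons_val_zero, _root_.Matrix.cons_val_one, _root_.Matrix.cons_val, _root_.mul_one, _root_.MulZeroClass.mul_zero, _root_.add_zero, _root_.Matrix.cons_val_succ, _root_.forall_const, _root_.true_and, _root_.one_mul, _root_.add_eq_right, _root_.mul_eq_zero, _root_.true_or,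 _root_.MulZeroClass.zero_mul, _root_.zero_add, _root_.and_self, _root_.implies_true, _root_.and_true]) <;> (repeat' with_reducible apply And.intro) <;> ring

theorem Hm_01 (s : k) : Hm s 0 0 = tv (i := 0) (j := 1) (by decide) s := by
  apply slext
  rw [tv_coe]
  ext i j
  (revert i j; simp only [Hm, _root_.Fin.forall_fin_succ, _root_.Matrix.of_apply, _root_.Matrix.cons_val', _root_.Matrix.cons_val_fin_one, Fin.isValue, _root_.Matrix.add_apply, _root_.Matrix.cons_val_zero, _root_.one_ne_zero, _root_.and_false, _root_.not_false_eq_true, _root_.Matrix.single_apply_of_ne, _root_.add_zero, _root_.Matrix.cons_val_succ, _root_.Fin.succ_zero_eq_one, _root_.Fin.succ_one_eq_two, Fin.reduceEq, _root_.IsEmpty.forall_iff, _root_.and_true, _root_.Matrix.one_apply_eq, Nat.reduceAdd, _root_.ne_eq, _root_.zero_ne_one, _root_.Matrix.one_apply_ne, _root_.Matrix.single_apply_same, _root_.zero_add, _root_.and_self,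 _root_.Fin.succ_ne_zero, _root_.true_and])

theorem Hm_12 (t : k) : Hm 0 t 0 = tv (i := 1) (j := 2) (by decide) t := by
  apply slext
  rw [tv_coe]
  ext i j
  (revert i j; simp only [Hm, _root_.Fin.forall_fin_succ, _root_.Matrix.of_apply, _root_.Matrix.cons_val', _root_.Matrix.cons_val_fin_one, Fin.isValue, _root_.Matrix.add_apply, _root_.Matrix.cons_val_zero, Fin.reduceEq, _root_.and_false, _root_.not_false_eq_true, _root_.Matrix.single_apply_of_ne, _root_.add_zero, _root_.Matrix.cons_val_succ, _root_.Fin.succ_zero_eq_one, _root_.Fin.succ_one_eq_two, _root_.IsEmpty.forall_iff, _root_.and_true, _root_.Matrix.one_apply_eq, Nat.reduceAdd, _root_.ne_eq, _root_.zero_ne_one, _root_.Matrix.one_apply_ne, _root_.one_ne_zero, _root_.and_self, _root_.Fin.succ_ne_zero, _root_.Matrix.single_apply_same, _root_.zero_add, _root_.true_and])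

theorem Hm_02 (u : k) : Hm 0 0 u = tv (i := 0) (j := 2) (by decide) u := by
  apply slext
  rw [tv_coe]
  ext i j
  (revert i j; simp only [Hm, _root_.Fin.forall_fin_succ, _root_.Matrix.of_apply, _root_.Matrix.cons_val', _root_.Matrix.cons_val_fin_one, Fin.isValue, _root_.Matrix.add_apply, _root_.Matrix.cons_val_zero, Fin.reduceEq, _root_.and_false, _root_.not_false_eq_true, _root_.Matrix.single_apply_of_ne, _root_.add_zero, _root_.Matrix.cons_val_succ, _root_.Fin.succ_zero_eq_one, _root_.Fin.succ_one_eq_two, _root_.IsEmpty.forall_iff, _root_.and_true, _root_.Matrix.one_apply_eq, Nat.reduceAdd, _root_.ne_eq, _root_.zero_ne_one, _root_.Matrix.one_apply_ne, _root_.Matrix.single_apply_same, _root_.zero_add, _root_.and_self, _root_.Fin.succ_ne_zero, _root_.true_and])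

theorem Hm_dec (s t u : k) : Hm s t u = Hm s 0 0 * Hm 0 t 0 * Hm 0 0 (u - s * t) := by
  rw [Hm_mul, Hm_mul]
  congr 1 <;> ring

end heis

variable {D : ChevalleyDatum} {l : ℕ} {M : CoxeterMatrix (Fin l)} {hp : IsType D l M} {p : ℕ} [Fact p.Prime]
  {a b b' c c' : Lat l} {S : Set (Lat l)}

theorem p2_symm (h : P2 hp c c') : P2 hp c' c := ⟨h.r2, h.r1, h.c2, h.c1⟩

theorem p2_neg (h : P2 hp c c') : P2 hp (-c) (-c') :=
  ⟨h.r1.neg', h.r2.neg', by rw [cp_neg _ h.r2.neg', cp_neg_right _ h.r2, h.c1, neg_neg],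
    by rw [cp_neg _ h.r1.neg', cp_neg_right _ h.r1, h.c2, neg_neg]⟩

theorem p2_tw (h : P2 hp c c') : P2 hp (-c') (c + c') :=
  ⟨h.r2.neg', (h.sum 0).1, by rw [(h.sum _).2, cp_neg _ h.r1, cp_neg _ h.r2, h.c2, cp_self h.r2]; rfl,
    by rw [cp_neg_right _ h.r2, cp_add _ _ h.r2, h.c1, cp_self h.r2]; rfl⟩

theorem mem_a2 : a ∈ A2s c c' ↔ a = c ∨ a = c' ∨ a = c + c' ∨ a = -c ∨ a = -c' ∨ a = -(c + c') := Iff.rfl

theorem a2_symm (c c' : Lat l) : A2s c' c = A2s c c' := by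
  ext a
  rw [mem_a2, mem_a2, add_comm]
  exact or_left_comm.trans (or_congr_right (or_congr_right (or_congr_right or_left_comm)))

theorem a2_tw (c c' : Lat l) : A2s (-c') (c + c') = A2s c c' := by
  ext a
  rw [mem_a2, mem_a2, neg_neg, show -c' + (c + c') = c by abel]
  constructor <;> rintro (h | h | h | h | h | h) <;> simp only [h, true_or, or_true]

theorem a2_rt (h : P2 hp c c') : ∀ a ∈ A2s c c', Rt hp a := by
  intro a ha
  obtain ⟨i, j, hij, rfl⟩ := mem_A2s.1 ha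
  exact (h.right hij 0).1

theorem a2_neg : ∀ a ∈ A2s c c', -a ∈ A2s c c' := by
  intro a ha
  obtain ⟨i, j, hij, rfl⟩ := mem_A2s.1 ha
  exact mem_A2s.2 ⟨j, i, hij.symm, neg_sub _ _⟩

theorem a2_ind {f : Lat l ≃+ Lat l} {ε : ℤ} (h1 : f c = ε • c) (h2 : f c' = ε • c') : ∀ a ∈ A2s c c', f a = ε • a := by
  rintro _ (rfl | rfl | rfl | rfl | rfl | rfl) <;> simp only [map_add, map_neg, h1, h2, smul_add, smul_neg]

theorem far_a2 (hl : 4 ≤ l) (h : P2 hp c c') (ha : Rt hp a) (h0 : cp hp a c = 0) (h1 : Even (cp hp a c')) :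
    Far hp p a c := by
  refine ⟨h0, Or.inr fun hac => ?_⟩
  have h2 := fm_lt ha h.r1 h0
  have h3 := cp_le2 hl hac h.r2
  have h4 := cp_fm h.r1 h.r2
  obtain ⟨n, hn⟩ := h1
  have h5 := fm_le hac h.r2 (by
    rw [cp_add _ _ h.r2, h.c1, hn] at h3 ⊢
    omega)
  rw [h.c1, h.c2] at h4
  omega

variable {d : ℕ} {g0 : Lat l ≃+ Lat l} {L : Type} [Group L] (E : Frame hp p d g0 L)

/-- a perfect group of fixed points containing the fixed points of the root groups of `± c` -/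
def AX (E : Frame hp p d g0 L) (c : Lat l) (S : Set (Lat l)) : Prop :=
  ∃ X : Subgroup (YY D p), ⁅X, X⁆ = X ∧ (∀ y ∈ X, E.F y = y) ∧ X ≤ MS D l p S ∧
    ∀ y, (y ∈ XR D l p c ∨ y ∈ XR D l p (-c)) → E.F y = y → y ∈ X

theorem fix_closure {Z : Set (YY D p)} (h : ∀ y ∈ Z, E.F y = y) : ∀ y ∈ _root_.Subgroup.closure Z, E.F y = y := fun y hy =>
  (closure_le (E.F.toMonoidHom.eqLocus (MonoidHom.id _))).2 h hy

theorem exists_fix_xc (hc : Rt hp c) (hg : E.g c = c) : ∃ v : kb p, v ≠ 0 ∧ E.F (xc hp c v) = xc hp c v := by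
  obtain ⟨κ, hκ, h⟩ := E.pw c hc
  obtain ⟨v, hv0, hv⟩ := exists_fix hκ (En.two_le_q E)
  exact ⟨v, hv0, by rw [h, hg]; exact congrArg _ hv⟩

theorem AX.to_hp {E : Frame hp p d g0 L} (h : AX E c S) (hc : Rt hp c) (hg : E.g c = c) : HP E S := by
  obtain ⟨X, h1, h2, h3, h4⟩ := h
  obtain ⟨v, hv0, hv⟩ := exists_fix_xc E hc hg
  refine hp_of E (fun h0 => hv0 ((xc_eq_one hc).1 (mem_bot.1 ?_))) h1 h2 h3
  rw [← h0]
  exact h4 _ (Or.inl (xc_mem_XR hc v)) hv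

/-- **`SL₃(q)`.** -/
theorem ax_split (hG : D ≠ chevG2) (h : P2 hp c c') (hg : E.g c = c) (hg' : E.g c' = c') : AX E c (A2s c c') := by
  obtain ⟨π, s, P⟩ := h.exists_pi p hG
  have h1 : ∀ a ∈ A2s c c', E.g a = a := fun a ha => by
    rw [a2_ind (ε := 1) (by rwa [one_smul]) (by rwa [one_smul]) a ha, one_smul]
  let Z : Set (YY D p) := {y | ∃ a ∈ A2s c c', y ∈ XR D l p a ∧ E.F y = y}
  refine ⟨_root_.Subgroup.closure Z, le_antisymm (commutator_le_self _) ((closure_le _).2 ?_), fix_closure E fun y ⟨_, _, _, h⟩ => h,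
    (closure_le _).2 fun y ⟨a, ha, hy, _⟩ => RGD.le_Sup ha hy, fun y hy hF => _root_.Subgroup.subset_closure ?_⟩
  · rintro y ⟨a, ha, hy, hF⟩
    obtain ⟨i, j, hij, rfl⟩ := mem_A2s.1 ha
    obtain ⟨k, hik, hkj⟩ := (by decide : ∀ i j : Fin 3, ∃ k : Fin 3, i ≠ k ∧ k ≠ j) i j
    have r1 := (h.right hij 0).1
    have r2 := (h.right hik 0).1
    have r3 := (h.right hkj 0).1
    have m2 := mem_A2s.2 ⟨i, k, hik, (rfl : ev c c' i - ev c c' k = _)⟩
    have m3 := mem_A2s.2 ⟨k, j, hkj, (rfl : ev c c' k - ev c c' j = _)⟩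
    have key : ∀ v w, ⁅xc hp (ev c c' i - ev c c' k) v, xc hp (ev c c' k - ev c c' j) w⁆ =
        xc hp (ev c c' i - ev c c' j) ((s i j * s i k * s k j * v : kb p) * w) := fun v w => by
      rw [P.xc_eq hik, P.xc_eq hkj, ← map_commutatorElement, LieClassical.SLGen.commutator_transvection hij, P.tv]
      congr 1
      ring
    obtain ⟨u, rfl⟩ := (mem_XR r1).1 hy
    obtain ⟨v, hv0, hv⟩ := exists_fix_xc E r2 (h1 _ m2)
    have h2 : (s i j * s i k * s k j * v : kb p) ≠ 0 :=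
      mul_ne_zero (mul_ne_zero (mul_ne_zero (P.ne hij) (P.ne hik)) (P.ne hkj)) hv0
    obtain ⟨w, rfl⟩ : ∃ w, u = (s i j * s i k * s k j * v : kb p) * w := ⟨_, (mul_div_cancel₀ u h2).symm⟩
    obtain ⟨κ, -, h3⟩ := E.pw _ r3
    rw [h1 _ m3] at h3
    have h4 := hF
    rw [← key, map_commutatorElement, hv, h3, key, key] at h4
    rw [← key]
    refine commutator_mem_commutator (subset_closure ⟨_, m2, xc_mem_XR r2 v, hv⟩)
      (subset_closure ⟨_, m3, xc_mem_XR r3 w, ?_⟩)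
    rw [h3, mul_left_cancel₀ h2 (xc_injective r1 h4)]
  · rcases hy with hy | hy
    · exact ⟨c, Or.inl rfl, hy, hF⟩
    · exact ⟨-c, Or.inr (Or.inr (Or.inr (Or.inl rfl))), hy, hF⟩

theorem eq_of_q {r : ℕ} (hr : r.Prime) (hq : E.q = r) : p = r :=
  (Nat.prime_dvd_prime_iff_eq Fact.out hr).1 (hq ▸ dvd_pow_self p E.he.ne')

theorem tw_half (hG : D ≠ chevG2) (hq : E.q = 3) (h : P2 hp b b') (hg : E.g b = b') (hg' : E.g b' = b) {t : YY D p}
    (ht : t ∈ TT D (kb p)) (h1 : ch hp b t = -1) (h2 : ch hp b' t = -1) (h3 : ch hp (b + b') t = 1)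
    {X : Subgroup (YY D p)} (htX : t ∈ X) (hX : ∀ y ∈ X, E.F y = y)
    (hU : ∀ y ∈ MS D l p {b, b', b + b'}, E.F y = y → y ∈ X) {y : YY D p} (hy : y ∈ MS D l p {b, b', b + b'})
    (hF : E.F y = y) : y ∈ ⁅X, X⁆ := by
  obtain rfl : p = 3 := eq_of_q E Nat.prime_three hq
  obtain ⟨π, s, P⟩ := h.exists_pi 3 hG
  have r3 := (h.sum 0).1
  have n01 : (0 : Fin 3) ≠ 1 := by decide
  have n12 : (1 : Fin 3) ≠ 2 := by decide
  have n02 : (0 : Fin 3) ≠ 2 := by decide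
  have e1 : ∀ u, π (Hm u 0 0) = xc hp b (s 0 1 * u) := fun u => by rw [Hm_01, P.tv, ev01]
  have e2 : ∀ u, π (Hm 0 u 0) = xc hp b' (s 1 2 * u) := fun u => by rw [Hm_12, P.tv, ev12]
  have e3 : ∀ u, π (Hm 0 0 u) = xc hp (b + b') (s 0 2 * u) := fun u => by rw [Hm_02, P.tv, ev02]
  have q1 := P.sq 0 1 n01
  have q2 := P.sq 1 2 n12
  have q3 := P.sq 0 2 n02
  have hm : ∀ x y z, π (Hm x y z) ∈ MS D l 3 {b, b', b + b'} := fun x y z => by
    rw [Hm_dec, map_mul, map_mul, e1, e2, e3]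
    exact mul_mem (mul_mem (RGD.le_Sup (S := {b, b', b + b'}) (Or.inl rfl) (xc_mem_XR h.r1 _))
      (RGD.le_Sup (S := {b, b', b + b'}) (Or.inr (Or.inl rfl)) (xc_mem_XR h.r2 _)))
      (RGD.le_Sup (S := {b, b', b + b'}) (Or.inr (Or.inr rfl)) (xc_mem_XR r3 _))
  have h0 : (Hm 0 0 0 : S3 (kb 3)) = 1 := by rw [Hm_01, H428.OT.Lin.tv_zero]
  let K : Subgroup (YY D 3) :=
    { carrier := {y | ∃ x₁ x₂ x₃, π (Hm x₁ x₂ x₃) = y}
      one_mem' := ⟨0, 0, 0, by rw [h0, map_one]⟩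
      mul_mem' := by
        rintro _ _ ⟨x₁, x₂, x₃, rfl⟩ ⟨y₁, y₂, y₃, rfl⟩
        exact ⟨_, _, _, by rw [← map_mul, Hm_mul]⟩
      inv_mem' := by
        rintro _ ⟨x₁, x₂, x₃, rfl⟩
        refine ⟨-x₁, -x₂, x₁ * x₂ - x₃, ?_⟩
        rw [eq_inv_iff_mul_eq_one, ← map_mul, Hm_mul, ← map_one π, ← h0]
        exact congrArg π (congr (congr (congrArg Hm (by ring)) (by ring)) (by ring)) }
  have hK : MS D l 3 {b, b', b + b'} ≤ K := by
    refine RGD.Sup_le ?_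
    rintro _ (rfl | rfl | rfl) y hy
    · obtain ⟨u, rfl⟩ := (mem_XR h.r1).1 hy
      exact ⟨s 0 1 * u, 0, 0, by rw [e1, ← mul_assoc, q1, one_mul]⟩
    · obtain ⟨u, rfl⟩ := (mem_XR h.r2).1 hy
      exact ⟨0, s 1 2 * u, 0, by rw [e2, ← mul_assoc, q2, one_mul]⟩
    · obtain ⟨u, rfl⟩ := (mem_XR r3).1 hy
      exact ⟨0, 0, s 0 2 * u, by rw [e3, ← mul_assoc, q3, one_mul]⟩
  obtain ⟨x₁, x₂, x₃, rfl⟩ := hK hy
  obtain ⟨κ₁, k1, f1⟩ := E.pw b h.r1
  obtain ⟨κ₂, k2, f2⟩ := E.pw b' h.r2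
  obtain ⟨κ₃, k3, f3⟩ := E.pw _ r3
  rw [show 3 ^ E.e = 3 from hq] at f1 f2 f3
  rw [hg] at f1
  rw [hg'] at f2
  rw [map_add, hg, hg', add_comm b' b] at f3
  refine heis_perf (η := fun x y z => π (Hm x y z)) (fun _ _ _ _ _ _ => by rw [← map_mul, Hm_mul])
    (fun u u' e => ?_) (κ := s 1 2 * κ₁ * s 0 1) (κ' := s 0 1 * κ₂ * s 1 2) (κ'' := κ₃)
    (mul_ne_zero (mul_ne_zero (P.ne n12) k1) (P.ne n01)) (mul_ne_zero (mul_ne_zero (P.ne n01) k2) (P.ne n12)) k3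
    (fun x y z => ?_) (fun x y z => ?_) htX hX (fun x y z => hU _ (hm x y z)) hF
  · rw [e3, e3] at e
    exact mul_left_cancel₀ (P.ne n02) (xc_injective r3 e)
  · have e : (Hm (s 0 1 * κ₂ * s 1 2 * y ^ 3) (s 1 2 * κ₁ * s 0 1 * x ^ 3) (κ₃ * (z - x * y) ^ 3) : S3 (kb 3)) =
        Hm 0 (s 1 2 * κ₁ * s 0 1 * x ^ 3) 0 * Hm (s 0 1 * κ₂ * s 1 2 * y ^ 3) 0 0 * Hm 0 0 (κ₃ * (z - x * y) ^ 3) := by
      rw [Hm_mul, Hm_mul]
      exact congr (congr (congrArg Hm (by ring)) (by ring)) (by ring)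
    rw [e, Hm_dec x y z]
    simp only [map_mul, e1, e2, e3, f1, f2, f3]
    refine congrArg₂ (· * ·) (congrArg₂ (· * ·) (congrArg _ ?_) (congrArg _ ?_)) (congrArg _ ?_)
    · linear_combination κ₁ * s 0 1 * x ^ 3 * q1 - κ₁ * s 0 1 * x ^ 3 * q2
    · linear_combination κ₂ * s 1 2 * y ^ 3 * q2 - κ₂ * s 1 2 * y ^ 3 * q1
    · linear_combination κ₃ * s 0 2 * (z - x * y) ^ 3 * q3
  · rw [Hm_dec x y z, Hm_dec (-x) (-y) z]
    simp only [map_mul, e1, e2, e3]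
    rw [show ∀ x y z : YY D 3, t * (x * y * z) * t⁻¹ = t * x * t⁻¹ * (t * y * t⁻¹) * (t * z * t⁻¹) from
      fun x y z => by group, ch_act h.r1 ht, ch_act h.r2 ht, ch_act r3 ht, h1, h2, h3]
    refine congrArg₂ (· * ·) (congrArg₂ (· * ·) (congrArg _ ?_) (congrArg _ ?_)) (congrArg _ ?_)
    · ring
    · ring
    · ring

/-- **`SU₃(3)`.** -/
theorem ax_tw (hG : D ≠ chevG2) (hq : E.q = 3) (h : P2 hp b b') (hg : E.g b = b') (hg' : E.g b' = b) :
    AX E (b + b') (A2s b b') := by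
  have r3 := (h.sum 0).1
  have h1 : (-1 : kb p) ≠ 0 := neg_ne_zero.2 one_ne_zero
  let Z : Set (YY D p) := {y | E.F y = y ∧ (y ∈ MS D l p {b, b', b + b'} ∨ y ∈ MS D l p {-b, -b', -b + -b'})}
  have h2 : ∀ y, (y ∈ XR D l p (b + b') ∨ y ∈ XR D l p (-(b + b'))) → E.F y = y → y ∈ _root_.Subgroup.closure Z := fun y hy hF =>
    _root_.Subgroup.subset_closure ⟨hF, hy.imp (RGD.le_Sup (S := {b, b', b + b'}) (Or.inr (Or.inr rfl)) ·)
      (RGD.le_Sup (S := {-b, -b', -b + -b'}) (Or.inr (Or.inr (neg_add b b'))) ·)⟩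
  have hF := fix_closure E (Z := Z) fun y hy => hy.1
  have h3 : sl p r3 (hS (-1)) ∈ closure Z := by
    obtain ⟨κ, hκ, e⟩ := act_sl E.frob E.fr r3 r3 (by rw [map_add, hg, hg', add_comm])
    obtain ⟨v, hv0, hv⟩ := exists_fix hκ (En.two_le_q E)
    have m1 : sl p r3 (up v) ∈ closure Z := h2 _ (Or.inl (by rw [sl_up]; exact xc_mem_XR r3 v))
      (by rw [e, sgm_up, fb_apply]; exact congrArg _ (congrArg _ hv))
    have m2 : sl p r3 (lo (-v⁻¹)) ∈ closure Z := h2 _ (Or.inr (by rw [sl_lo]; exact xc_mem_XR r3.neg' _))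
      (by rw [e, sgm_lo, map_neg, map_inv₀, mul_neg, ← mul_inv, fb_apply]; exact congrArg (fun x => sl p r3 (lo (-x⁻¹))) hv)
    rw [← n_sq hv0]
    simp only [map_mul]
    exact mul_mem (mul_mem (mul_mem m1 m2) m1) (mul_mem (mul_mem m1 m2) m1)
  have c1 : cp hp b (b + b') = 1 := by rw [(h.sum _).2, cp_self h.r1, h.c1]; rfl
  have c2 : cp hp b' (b + b') = 1 := by rw [(h.sum _).2, cp_self h.r2, h.c2]; rfl
  refine ⟨closure Z, le_antisymm (commutator_le_self _) ((closure_le _).2 ?_), hF, (closure_le _).2 ?_, h2⟩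
  · rintro y ⟨h4, h5 | h5⟩
    · exact tw_half E hG hq h hg hg' (sl_hS_mem r3 h1) (by rw [ch_sl_hS r3 h1 h.r1, c1, zpow_one])
        (by rw [ch_sl_hS r3 h1 h.r2, c2, zpow_one]) (by rw [ch_sl_hS r3 h1 r3, cp_self r3]; norm_num) h3 hF
        (fun y hy hF => subset_closure ⟨hF, Or.inl hy⟩) h5 h4
    · exact tw_half E hG hq (p2_neg h) (by rw [map_neg, hg]) (by rw [map_neg, hg']) (sl_hS_mem r3 h1)
        (by rw [ch_sl_hS r3 h1 h.r1.neg', cp_neg _ r3, c1]; norm_num only [])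
        (by rw [ch_sl_hS r3 h1 h.r2.neg', cp_neg _ r3, c2]; norm_num)
        (by rw [← neg_add, ch_sl_hS r3 h1 r3.neg', cp_neg _ r3, cp_self r3]; norm_num) h3 hF
        (fun y hy hF => subset_closure ⟨hF, Or.inr hy⟩) h5 h4
  · rintro y ⟨-, h5 | h5⟩
    · refine RGD.Sup_mono ?_ h5
      rintro _ (rfl | rfl | rfl)
      exacts [Or.inl rfl, Or.inr (Or.inl rfl), Or.inr (Or.inr (Or.inl rfl))]
    · refine RGD.Sup_mono ?_ h5
      rintro _ (rfl | rfl | rfl)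
      exacts [a2_neg _ (Or.inl rfl), a2_neg _ (Or.inr (Or.inl rfl)),
        (neg_add b b') ▸ a2_neg _ (Or.inr (Or.inr (Or.inl rfl)))]

/-- moving the first root into place -/
theorem a2_trans (h : P2 hp c c') (ha : a ∈ A2s c c') : ∃ w ∈ WW hp (A2s c c'), wa hp w a = c := by
  obtain ⟨v, hv, e⟩ := exists_refl h.r1
  obtain ⟨v', hv', e'⟩ := exists_refl h.r2
  have m := hv (A2s c c') (Or.inl rfl)
  have m' := hv' (A2s c c') (Or.inr (Or.inl rfl))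
  have e1 : wa hp v (-c) = c := by rw [e, refl_neg h.r1]
  have e2 : wa hp v c' = c + c' := by
    rw [e, h.c2]
    module
  have e3 : wa hp v' (c + c') = c := by
    rw [e', cp_add _ _ h.r2, h.c1, cp_self h.r2]
    module
  rcases ha with rfl | rfl | rfl | rfl | rfl | rfl
  · exact ⟨1, one_mem _, wa_one _⟩
  · exact ⟨v' * v, mul_mem m' m, by rw [wa_mul, e2, e3]⟩
  · exact ⟨v', m', e3⟩
  · exact ⟨v, m, e1⟩
  · exact ⟨v * (v' * v), mul_mem m (mul_mem m' m), by rw [wa_mul, wa_neg, wa_mul, e2, e3, e1]⟩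
  · exact ⟨v * v', mul_mem m m', by rw [wa_mul, wa_neg, e3, e1]⟩

theorem a2_refl (h : P2 hp c c') : ∀ b ∈ A2s c c', ∀ a ∈ A2s c c', a - cp hp a b • b ∈ A2s c c' := by
  intro b hb a ha
  obtain ⟨w, hw, e⟩ := exists_refl (a2_rt h b hb)
  obtain ⟨τ, hτ⟩ := h.act_WW (hw _ hb)
  obtain ⟨i, j, hij, rfl⟩ := mem_A2s.1 ha
  rw [← e, hτ]
  exact mem_A2s.2 ⟨_, _, τ.injective.ne hij, rfl⟩

theorem a2_cp (h : P2 hp c c') (ha : a ∈ A2s c c') (h1 : cp hp a c = -1) : a = c' ∨ a = -(c + c') := by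
  have e1 := cp_self h.r1
  have e2 := h.c2
  rcases ha with rfl | rfl | rfl | rfl | rfl | rfl
  · omega
  · exact Or.inl rfl
  · rw [cp_add _ _ h.r1] at h1
    omega
  · rw [cp_neg _ h.r1] at h1
    omega
  · rw [cp_neg _ h.r1] at h1
    omega
  · exact Or.inr rfl

/-- **The automorphisms of `A₂`.** -/
theorem a2_norm (h : P2 hp c c') (hA : ∀ a ∈ A2s c c', E.g a ∈ A2s c c') : ∃ w ∈ WW hp (A2s c c'), ∃ ε : ℤˣ,
    wa hp w (E.g c) = (ε : ℤ) • c ∧ wa hp w (E.g c') = (ε : ℤ) • c' := by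
  obtain ⟨w, hw, e⟩ := a2_trans h (hA c (Or.inl rfl))
  have h1 := (WW_stab (a2_rt h) (a2_refl h) hw _).2 (hA c' (Or.inr (Or.inl rfl)))
  have h2 : cp hp (wa hp w (E.g c')) c = -1 := by
    conv_lhs => rw [← e]
    rw [e, ← h.c2, ← E.gcp c' c h.r1, ← cp_wa w _ (rt_g E h.r1), e]
  rcases a2_cp h h1 h2 with h3 | h3
  · exact ⟨w, hw, 1, by rw [e, Units.val_one, one_smul], by rw [h3, Units.val_one, one_smul]⟩
  · obtain ⟨v, hv, e'⟩ := exists_refl h.r1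
    refine ⟨v * w, mul_mem (hv _ (Or.inl rfl)) hw, -1, ?_, ?_⟩
    · rw [wa_mul, e, e', refl_self h.r1, Units.val_neg, Units.val_one, neg_smul, one_smul]
    · rw [wa_mul, e', h2, h3, Units.val_neg, Units.val_one]
      module

variable [Finite L] {U : Type} [Group U] [Finite U] {τ α β : U →* L} {R R' : Subgroup L}

theorem AX.kt {E : Frame hp p d g0 L} (h : AX E c S) (hc : Rt hp c) (hi : Function.Injective (sl p hc)) (hg : E.g c = c)
    (H : ∀ X : Subgroup L, ⁅X, X⁆ = X → X.map E.ι ≤ MS D l p S → X ≤ τ.range) : KT E τ c := by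
  obtain ⟨X, h1, h2, h3, h4⟩ := h
  obtain ⟨X', h5, rfl⟩ := pull E h1 h2
  obtain ⟨κ, hκ, e⟩ := act_sl E.frob E.fr hc hc hg
  obtain ⟨v, hv0, hv⟩ := exists_fix hκ (En.two_le_q E)
  intro y hy hF
  rw [← sl_range hc] at hy
  obtain ⟨A, rfl⟩ := hy
  rw [e] at hF
  obtain ⟨x, hx, h6⟩ : A ∈ (X'.map E.ι).comap (sl p hc) := fix_mem (hκ := hκ) hv0 (by rw [fb_apply]; exact hv)
    (fun t ht => h4 _ (Or.inl (by rw [sl_up]; exact xc_mem_XR hc t)) (by rw [e, sgm_up, ht]))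
    (fun t ht => h4 _ (Or.inr (by rw [sl_lo]; exact xc_mem_XR hc.neg' t)) (by rw [e, sgm_lo, ht])) (mem_fixG.2 (hi hF))
  obtain ⟨u, rfl⟩ := H X' h5 h3 hx
  exact ⟨u, h6⟩

theorem ne_G2 (hp : IsType D l M) (hl : 4 ≤ l) : D ≠ chevG2 := fun e => by
  have := (typ_cases hp).2.1 e
  omega

theorem kt_a2 (big : Big) (hl : 4 ≤ l) (co : Core τ α β R R') (h : P2 hp c c') {ε : ℤˣ} (hg : E.g c = (ε : ℤ) • c)
    (hg' : E.g c' = (ε : ℤ) • c') (hq : ε = 1 ∨ 3 ≤ E.q) (H : Cen E R (A2s c c')) : KT E τ c := by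
  have hi : Function.Injective (sl p h.r1) := sl_inj h.r1 (Or.inr ⟨c', h.r2, by rw [h.c2]; decide⟩)
  have hle : MS D l p {c, -c} ≤ MS D l p (A2s c c') := pm_le a2_neg (Or.inl rfl)
  have key : ∀ E : Frame hp p d g0 L, Cen E R (A2s c c') →
      ∀ X : Subgroup L, ⁅X, X⁆ = X → X.map E.ι ≤ MS D l p (A2s c c') → X ≤ τ.range := fun E H X hX h1 =>
    perf_le big co hX ((map_le_iff_le_comap.1 h1).trans (cen_le E H))
  rcases Int.units_eq_one_or ε with rfl | rfl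
  · rw [Units.val_one, one_smul] at hg hg'
    exact (ax_split E (ne_G2 hp hl) h hg hg').kt h.r1 hi hg (key E H)
  have h3 : 3 ≤ E.q := hq.resolve_left (by decide)
  by_cases h4 : 4 ≤ E.q
  · exact kt_of E h.r1 hi (pm_of hg) h4 fun X hX h1 => key E H X hX (h1.trans hle)
  rw [Units.val_neg, Units.val_one, neg_smul, one_smul] at hg hg'
  obtain ⟨z, hz, w, e, h5⟩ := exists_tw E h.r1 (Or.inr hg)
  have h6 := ax_tw (E.move z w h5) (ne_G2 hp hl) (by rw [E.move_q]; omega) (p2_tw h)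
    (by
      rw [E.move_g, map_neg, hg', neg_neg, e, h.c2]
      module)
    (by
      rw [E.move_g, map_add, hg, hg', e, cp_add _ _ h.r1, cp_neg _ h.r1, cp_neg _ h.r1, h.c2, cp_self h.r1]
      module)
  rw [a2_tw, show -c' + (c + c') = c by abel] at h6
  exact (kt_move E hz).1 (h6.kt h.r1 hi (by rw [E.move_g, hg, e, refl_neg h.r1]) (key _ (cen_move E H (hle hz))))

theorem exists_pp {N : ℤ} (h : 3 ≤ N) : ∃ r n : ℕ, r.Prime ∧ 3 ≤ r ^ n ∧ ((r ^ n : ℕ) : ℤ) ∣ N := by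
  obtain ⟨r, hr, hd⟩ := Nat.exists_prime_and_dvd (n := N.natAbs) (by omega)
  have h1 : (r : ℤ) ∣ N := Int.natCast_dvd.2 hd
  have h2 := hr.two_le
  by_cases h3 : r = 2
  · subst h3
    obtain ⟨N', rfl⟩ := h1
    obtain ⟨r, hr, hd⟩ := Nat.exists_prime_and_dvd (n := N'.natAbs) (by omega)
    have h1 : (r : ℤ) ∣ N' := Int.natCast_dvd.2 hd
    have h2 := hr.two_le
    by_cases h3 : r = 2
    · subst h3
      exact ⟨2, 2, Nat.prime_two, by norm_num, by omega⟩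
    · exact ⟨r, 1, hr, by rw [pow_one]; omega, by rw [pow_one]; exact h1.mul_left _⟩
  · exact ⟨r, 1, hr, by rw [pow_one]; omega, by rwa [pow_one]⟩

theorem a2_big (big : Big) (hl : 4 ≤ l) (co : Core τ α β R R') (h : P2 hp c c') {ε : ℤˣ} (hg : E.g c = (ε : ℤ) • c)
    (hg' : E.g c' = (ε : ℤ) • c') (hK : KT E τ c) (hK' : KT E τ c') (hq : 3 ≤ (E.q : ℤ) - ε) : False := by
  obtain ⟨r, n, hr, h3, hd⟩ := exists_pp hq
  have hrp : r ≠ p := by
    rintro rfl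
    have h1 : (r : ℤ) ∣ E.q - ε := by
      refine Dvd.dvd.trans ?_ hd
      rw [Nat.cast_pow]
      refine dvd_pow_self _ ?_
      rintro rfl
      rw [pow_zero] at h3
      omega
    have h2 : (r : ℤ) ∣ E.q := Int.natCast_dvd_natCast.2 (dvd_pow_self r E.he.ne')
    exact hr.not_isUnit (Int.ofNat_isUnit.1 (isUnit_of_dvd_unit ((dvd_sub_right h2).1 h1) ε.isUnit))
  obtain ⟨ζ, hζ⟩ := exists_zeta p (m := r ^ n) (((Nat.coprime_primes hr Fact.out).2 hrp).pow_left n)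
  have h0 : ζ ≠ 0 := hζ.ne_zero (by omega)
  obtain ⟨u, hu⟩ := hK _ (sl_mem h.r1 _) (fix_h E h.r1 hg hζ h0 hd)
  obtain ⟨u', hu'⟩ := hK' _ (sl_mem h.r2 _) (fix_h E h.r2 hg' hζ h0 hd)
  refine fin_K E co h.r1 (pm_of hg) hK hr (Q := {u, u'}) ?_ fun a ha h1 => ?_
  · rintro _ (rfl | rfl)
    · rw [hu]
      exact ⟨sl_hS_mem h.r1 h0, n, h_pow h.r1 h0 hζ.pow_eq_one⟩
    · rw [hu']
      exact ⟨sl_hS_mem h.r2 h0, n, h_pow h.r2 h0 hζ.pow_eq_one⟩
  · have h2 := h1 u (Or.inl rfl)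
    have h4 := h1 u' (Or.inr rfl)
    rw [hu, ch_sl_hS h.r1 h0 ha, hζ.zpow_eq_one_iff_dvd] at h2
    rw [hu', ch_sl_hS h.r2 h0 ha, hζ.zpow_eq_one_iff_dvd] at h4
    have h5 := cp_le2 hl ha h.r1
    have h6 := cp_le2 hl ha h.r2
    refine far_a2 hl h ha (Int.eq_zero_of_abs_lt_dvd h2 (by rw [abs_lt]; omega)) ?_
    rw [Int.eq_zero_of_abs_lt_dvd h4 (by rw [abs_lt]; omega)]
    exact Even.zero

theorem a2_small (big : Big) (hl : 4 ≤ l) (co : Core τ α β R R') (h : P2 hp c c') (hg : E.g c = c) (hg' : E.g c' = c')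
    (hK : KT E τ c) (hK' : KT E τ c') (hq : E.q = 2 ∨ E.q = 3) : False := by
  obtain ⟨r, n, hr, hrp, hn⟩ : ∃ r n : ℕ, r.Prime ∧ r ≠ p ∧ r ^ n = (E.q + 1) * (E.q - 1) := by
    rcases hq with hq | hq
    · exact ⟨3, 1, Nat.prime_three, by rw [eq_of_q E Nat.prime_two hq]; decide, by rw [hq]; rfl⟩
    · exact ⟨2, 3, Nat.prime_two, by rw [eq_of_q E Nat.prime_three hq]; decide, by rw [hq]; rfl⟩
  obtain ⟨ζ, hζ⟩ := exists_zeta p (m := r ^ n) (((Nat.coprime_primes hr Fact.out).2 hrp).pow_left n)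
  have hpos : 0 < r ^ n := pow_pos hr.pos n
  have h0 : ζ ≠ 0 := hζ.ne_zero hpos.ne'
  have h0' : ζ ^ (E.q + 1) ≠ 0 := pow_ne_zero _ h0
  have g1 : E.g c = ((1 : ℤˣ) : ℤ) • c := by rwa [Units.val_one, one_smul]
  have g2 : E.g c' = ((1 : ℤˣ) : ℤ) • c' := by rwa [Units.val_one, one_smul]
  have hT := sl_hS_mem h.r1 h0
  have hT' := sl_hS_mem h.r2 h0'
  have hF' := fix_h E h.r2 g2 (hζ.pow hpos hn) h0' (by
    rw [Units.val_one, Nat.cast_sub (by omega), Nat.cast_one])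
  obtain ⟨z, hz, w, e, h5⟩ := exists_tw E h.r1 (Or.inl hg)
  have hch : ∀ a, Rt hp a → ch hp a (sl p h.r1 (hS ζ) * sl p h.r2 (hS (ζ ^ (E.q + 1)))) =
      ζ ^ (cp hp a c + (E.q + 1) * cp hp a c') := fun a ha => by
    rw [ch_mul ha hT hT', ch_sl_hS _ h0 ha, ch_sl_hS _ h0' ha, zpow_add₀ h0, ← zpow_natCast, ← zpow_mul]
    push_cast
    rfl
  have h6 := (E.move z w h5).fix_of_ch (mul_mem hT hT') fun a ha => by
    rw [hch a ha, hch _ (rt_g _ ha), ← zpow_natCast, ← zpow_mul, E.move_g, E.move_q, e, cp_sub _ _ h.r1,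
      cp_sub _ _ h.r2, cp_smul _ _ h.r1, cp_smul _ _ h.r2, cp_self h.r1, h.c1, cp_g E h.r1 g1, cp_g E h.r2 g2,
      Units.val_one]
    refine zpow_q hζ h0 ⟨-cp hp a c', ?_⟩
    rw [hn, Nat.cast_mul, Nat.cast_sub (by omega)]
    push_cast
    ring
  rw [E.move_fix] at h6
  obtain ⟨u', hu'⟩ := hK' _ (sl_mem h.r2 _) hF'
  obtain ⟨u, hu⟩ := hK (z * (sl p h.r1 (hS ζ) * sl p h.r2 (hS (ζ ^ (E.q + 1)))) * z⁻¹ * (sl p h.r2 (hS (ζ ^ (E.q + 1))))⁻¹)
    (by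
      rw [show ∀ x y : YY D p, z * (x * y) * z⁻¹ * y⁻¹ = z * x * (y * z⁻¹ * y⁻¹) from fun x y => by group]
      exact mul_mem (mul_mem hz (sl_mem h.r1 _)) (DS.Ex.Tor.T_conj_MS (hp := hp) (pm_rt h.r1) hT' (inv_mem hz)))
    (by rw [map_mul, h6, map_inv, hF'])
  have h7 : (E.move z w h5).ι (τ (u * u')) = sl p h.r1 (hS ζ) * sl p h.r2 (hS (ζ ^ (E.q + 1))) := by
    rw [E.move_ι, map_mul, map_mul, hu, hu']
    group
  refine fin_K (E.move z w h5) co h.r1 (Or.inr (by rw [E.move_g, hg, e, refl_self h.r1])) ((kt_move E hz).2 hK) hr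
    (Q := {u * u'}) ?_ fun a ha h1 => ?_
  · rintro _ rfl
    rw [h7]
    refine ⟨mul_mem hT hT', n, ?_⟩
    rw [Commute.mul_pow (T_comm hp hT hT'), h_pow _ h0 hζ.pow_eq_one, h_pow _ h0' (by
      rw [← pow_mul, mul_comm, pow_mul, hζ.pow_eq_one, one_pow]), mul_one]
  · have h2 := h1 _ rfl
    rw [h7, hch a ha, hζ.zpow_eq_one_iff_dvd, hn] at h2
    have h3 := cp_le2 hl ha h.r1
    rcases hq with hq | hq <;> rw [hq] at h2
    · exact ⟨by omega, Or.inl (eq_of_q E Nat.prime_two hq)⟩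
    · exact far_a2 hl h ha (by omega) (Int.even_iff.2 (by omega))

/-- **`BoxP.a2`.** -/
theorem a2 (big : Big) (hl : 4 ≤ l) (co : Core τ α β R R') (h : P2 hp c c') (hA : ∀ a ∈ A2s c c', E.g a ∈ A2s c c')
    (hq : 3 ≤ E.q ∨ ∃ w ∈ WW hp (A2s c c'), ∀ a ∈ A2s c c', E.g a = wa hp w a) : ¬ Cen E R (A2s c c') := by
  intro H
  obtain ⟨w, hw, ε, h1, h2, h3⟩ : ∃ w ∈ WW hp (A2s c c'), ∃ ε : ℤˣ, wa hp w (E.g c) = (ε : ℤ) • c ∧
      wa hp w (E.g c') = (ε : ℤ) • c' ∧ (ε = 1 ∨ 3 ≤ E.q) := by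
    rcases hq with hq | ⟨w, hw, e⟩
    · obtain ⟨w, hw, ε, h1, h2⟩ := a2_norm E h hA
      exact ⟨w, hw, ε, h1, h2, Or.inr hq⟩
    · exact ⟨w⁻¹, inv_mem hw, 1, by rw [e _ (Or.inl rfl), wa_inv_wa, Units.val_one, one_smul],
        by rw [e _ (Or.inr (Or.inl rfl)), wa_inv_wa, Units.val_one, one_smul], Or.inl rfl⟩
  obtain ⟨z, hz, h4⟩ := En.exists_move_MS E (a2_rt h) a2_neg hA hw
  have H' := cen_move E (h := h4) H hz
  have k1 := kt_a2 (E.move z w h4) big hl co h h1 h2 h3 H'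
  have k2 := kt_a2 (E.move z w h4) big hl co (p2_symm h) h2 h1 h3 (by rwa [a2_symm])
  by_cases h5 : 3 ≤ (E.q : ℤ) - ε
  · exact a2_big (E.move z w h4) big hl co h h1 h2 k1 k2 h5
  have h6 := En.two_le_q E
  rcases Int.units_eq_one_or ε with rfl | rfl
  · rw [Units.val_one] at h5
    rw [Units.val_one, one_smul] at h1 h2
    exact a2_small (E.move z w h4) big hl co h h1 h2 k1 k2 (by rw [E.move_q]; omega)
  · rw [Units.val_neg, Units.val_one] at h5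
    omega

end Cfsg.Agent.Cam.Ex.P
end

-- part: Cam/Ex/PBox
section
/-!
# Exceptional rows, `BoxP` (helper65)

* `SS.high` : the highest root of a simply laced set of roots;
* `k1` : no root is far from `Ψ`;
* `boxP`.
-/

set_option autoImplicit false
set_option linter.unusedVariables false
set_option linter.unusedSectionVars false

namespace Cfsg.Agent.Cam.Ex.P

open CoxeterSystem Cfsg Cfsg.Lie Subgroup
open Cfsg.Agent.ChevalleyStructure.CoxeterGeom Cfsg.Agent.ChevalleyStructure.CoxeterGeomTypes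
open Cfsg.Agent.Tits.Roots Cfsg.Agent.Nodes.BNOf Cfsg.Agent.Nodes.RGDChev Cfsg.Agent.Nodes.Coroot
open Cfsg.Agent.KFacts.RgdChevCoord Cfsg.Agent.BpExc.TorCent Cfsg.Agent.BpExc.LangFr Cfsg.Agent.BpExc.SubBN
open Cfsg.Agent.Cam.Spor Cfsg.Agent.Cam.Ex.S2
open Cfsg.Agent.Cam.Ex.SL3 (P2 ev mem_A2s ev01)
open Cfsg.Agent.DS.Nt (RP)
open Cfsg.Agent.BpExc.Fr (repAut)
open scoped commutatorElement

variable {D : ChevalleyDatum} {l : ℕ} {M : CoxeterMatrix (Fin l)} {hp : IsType D l M} {p : ℕ} [Fact p.Prime]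
  {a b b' c c' : Lat l} {S Θ : Set (Lat l)}

variable (hp p) in
/-- simply laced sets of roots -/
structure SS (S : Set (Lat l)) : Prop where
  rt : ∀ a ∈ S, Rt hp a
  neg : ∀ a ∈ S, -a ∈ S
  refl : ∀ c ∈ S, ∀ a ∈ S, a - cp hp a c • c ∈ S
  le1 : ∀ a ∈ S, ∀ c ∈ S, a ≠ c → a ≠ -c → -1 ≤ cp hp a c ∧ cp hp a c ≤ 1
  far : ∀ a ∈ S, ∀ c ∈ S, cp hp a c = 0 → Far hp p a c

variable (hp p) in
/-- orthogonal orbits -/
def Orb (g : Lat l ≃+ Lat l) (c : Lat l) : Prop := ∀ i, g^[i] c = c ∨ g^[i] c = -c ∨ Far hp p c (g^[i] c)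

theorem SS.one (h : SS hp p S) (ha : a ∈ S) (hb : b ∈ S) (e : cp hp a b = 1) : cp hp b a = 1 := by
  have h1 := h.le1 b hb a ha (ne_of_cp (h.rt b hb) (by omega)).symm
    (fun e' => ne_neg_of_cp (h.rt b hb) (a := a) (by omega) (by rw [e', neg_neg]))
  have h2 := (cp_pos_comm (h.rt a ha) (h.rt b hb)).1 (by omega)
  omega

theorem SS.neg_one (h : SS hp p S) (ha : a ∈ S) (hb : b ∈ S) (e : cp hp a b = -1) : cp hp b a = -1 := by
  have h1 := h.one (h.neg a ha) hb (by rw [cp_neg _ (h.rt b hb), e, neg_neg])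
  rw [cp_neg_right _ (h.rt a ha)] at h1
  omega

theorem SS.add (h : SS hp p S) (ha : a ∈ S) (hb : b ∈ S) (e : cp hp a b = -1) : a + b ∈ S := by
  have h1 := h.refl b hb a ha
  rwa [e, neg_smul, one_smul, sub_neg_eq_add] at h1

theorem SS.sub (h : SS hp p S) (ha : a ∈ S) (hb : b ∈ S) (e : cp hp a b = 1) : a - b ∈ S := by
  have h1 := h.refl b hb a ha
  rwa [e, one_smul] at h1

theorem SS.a2 (h : SS hp p S) (ha : a ∈ S) (hb : b ∈ S) (e : cp hp a b = -1) : P2 hp a b ∧ A2s a b ⊆ S := by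
  refine ⟨⟨h.rt a ha, h.rt b hb, e, h.neg_one ha hb e⟩, ?_⟩
  rintro _ (rfl | rfl | rfl | rfl | rfl | rfl)
  exacts [ha, hb, h.add ha hb e, h.neg _ ha, h.neg _ hb, h.neg _ (h.add ha hb e)]

theorem SS.cases (h : SS hp p S) (ha : a ∈ S) (hb : b ∈ S) :
    a = b ∨ a = -b ∨ cp hp a b = 0 ∨ cp hp a b = 1 ∨ cp hp a b = -1 := by
  by_cases h1 : a = b
  · exact Or.inl h1
  by_cases h2 : a = -b
  · exact Or.inr (Or.inl h2)
  have := h.le1 a ha b hb h1 h2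
  omega

theorem cp_a2 (h : P2 hp b b') (hc : Rt hp c) (h1 : cp hp b c = 0) (h2 : cp hp b' c = 0) (ha : a ∈ A2s b b') :
    cp hp a c = 0 := by
  rcases ha with rfl | rfl | rfl | rfl | rfl | rfl <;> simp only [cp_neg _ hc, cp_add _ _ hc, h1, h2, add_zero, neg_zero]

/-- **The highest root.** -/
theorem SS.high (h : SS hp p S) {g : Lat l ≃+ Lat l} (hg : ∀ a ∈ S, g a ∈ S)
    (hcp : ∀ a c, Rt hp c → cp hp (g a) (g c) = cp hp a c) {f : Lat l →+ ℤ} (hf : ∀ a ∈ S, f (g a) = f a)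
    (hf0 : ∀ a ∈ S, f a ≠ 0) (hex : ∃ a ∈ S, ∃ b ∈ S, cp hp a b = -1) :
    (∃ c ∈ S, Orb hp p g c) ∧ ((∃ c ∈ S, Orb hp p g c ∧ g c ≠ c ∧ g c ≠ -c) ∨ ∃ b b', P2 hp b b' ∧ A2s b b' ⊆ S ∧
      ((g b = b ∧ g b' = b') ∨ ((∀ a ∈ A2s b b', g a ∈ A2s b b') ∧
        ∀ c ∈ S, ∀ a ∈ A2s b b', a - cp hp a c • c ∈ A2s b b'))) := by
  have hi : ∀ a ∈ S, ∀ i, g^[i] a ∈ S ∧ f (g^[i] a) = f a := fun a ha i => by
    induction i with
    | zero => exact ⟨ha, rfl⟩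
    | succ i ih => rw [Function.iterate_succ_apply', hf _ ih.1]; exact ⟨hg _ ih.1, ih.2⟩
  have L1 : ∀ a ∈ S, ∀ b ∈ S, f a = f b → cp hp a b ≠ 1 := fun a ha b hb e h1 =>
    hf0 _ (h.sub ha hb h1) (by rw [map_sub, e, sub_self])
  have hn : ∀ a ∈ S, ∀ b, f b = f a → b ≠ -a := fun a ha b e h1 => hf0 a ha (by
    rw [h1, map_neg] at e
    omega)
  obtain ⟨θ, ⟨hθ, b₀, hb₀, e₀⟩, hmax⟩ := Set.exists_max_image {a | a ∈ S ∧ ∃ b ∈ S, cp hp a b = -1} f
    ((finite_Rt hp).subset fun a ha => h.rt a ha.1) (by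
      obtain ⟨a, ha, hb⟩ := hex
      exact ⟨a, ha, hb⟩)
  have rθ := h.rt θ hθ
  have hpos : 0 < f θ := by
    have h1 := hmax (-θ) ⟨h.neg θ hθ, -b₀, h.neg _ hb₀, by
      rw [cp_neg_right _ (h.rt _ hb₀), cp_neg _ (h.rt _ hb₀), neg_neg, e₀]⟩
    have h2 := hf0 θ hθ
    rw [map_neg] at h1
    omega
  have hM : ∀ b ∈ S, cp hp θ b = -1 → f b < 0 := fun b hb e => by
    have h1 := hmax (θ + b) ⟨h.add hθ hb e, -θ, h.neg θ hθ, by
      rw [cp_neg_right _ rθ, cp_add _ _ rθ, cp_self rθ, h.neg_one hθ hb e]; rfl⟩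
    have h2 := hf0 b hb
    rw [map_add] at h1
    omega
  have hO : Orb hp p g θ := fun i => by
    obtain ⟨h1, h2⟩ := hi θ hθ i
    rcases h.cases hθ h1 with e | e | e | e | e
    · exact Or.inl e.symm
    · exact Or.inr (Or.inl (by rw [← neg_eq_iff_eq_neg] at e; exact e.symm))
    · exact Or.inr (Or.inr (h.far _ hθ _ h1 e))
    · exact absurd e (L1 _ hθ _ h1 h2.symm)
    · have := hM _ h1 e
      omega
  refine ⟨⟨θ, hθ, hO⟩, ?_⟩
  by_cases hgθ : g θ = θ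
  swap
  · exact Or.inl ⟨θ, hθ, hO, hgθ, hn θ hθ _ (hf θ hθ)⟩
  have s1 : ∀ a ∈ S, cp hp a θ = 1 → θ - a ∈ S ∧ cp hp (θ - a) θ = 1 ∧ cp hp a (θ - a) = -1 := fun a ha e => by
    have h1 := h.one ha hθ e
    have h2 := h.sub hθ ha h1
    refine ⟨h2, by rw [cp_sub _ _ rθ, cp_self rθ, e]; rfl, h.neg_one h2 ha ?_⟩
    rw [cp_sub _ _ (h.rt a ha), h1, cp_self (h.rt a ha)]
    rfl
  have s2 : ∀ a, cp hp (g a) θ = cp hp a θ := fun a => by
    conv_lhs => rw [← hgθ]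
    exact hcp a θ rθ
  have s3 : ∀ a i, cp hp (g^[i] a) θ = cp hp a θ := fun a i => by
    induction i with
    | zero => rfl
    | succ i ih => rw [Function.iterate_succ_apply', s2, ih]
  have K : ∀ a ∈ S, cp hp a θ = 1 → ∀ a' ∈ S, cp hp a' θ = 1 → f a' = f a →
      a' = a ∨ a' = θ - a ∨ cp hp a a' = 0 := fun a ha e a' ha' e' e1 => by
    rcases h.cases ha ha' with e2 | e2 | e2 | e2 | e2
    · exact Or.inl e2.symm
    · exact absurd e2 (hn a' ha' a e1.symm)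
    · exact Or.inr (Or.inr e2)
    · exact absurd e2 (L1 a ha a' ha' e1.symm)
    · refine Or.inr (Or.inl ?_)
      have h1 : cp hp (a + a') θ = 2 := by rw [cp_add _ _ rθ, e, e']; rfl
      rcases h.cases (h.add ha ha' e2) hθ with e3 | e3 | e3 | e3 | e3
      · exact eq_sub_of_add_eq' e3
      · rw [e3, cp_neg _ rθ, cp_self rθ] at h1
        omega
      all_goals omega
  by_cases c1 : ∃ a ∈ S, cp hp a θ = 1 ∧ g a = a
  · obtain ⟨a, ha, e, e'⟩ := c1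
    obtain ⟨h1, -, h2⟩ := s1 a ha e
    exact Or.inr ⟨a, θ - a, (h.a2 ha h1 h2).1, (h.a2 ha h1 h2).2, Or.inl ⟨e', by rw [map_sub, hgθ, e']⟩⟩
  by_cases c2 : ∃ a ∈ S, cp hp a θ = 1 ∧ ∀ i, g^[i] a ≠ θ - a
  · obtain ⟨a, ha, e, e'⟩ := c2
    refine Or.inl ⟨a, ha, fun i => ?_, fun e1 => c1 ⟨a, ha, e, e1⟩, hn a ha _ (hf a ha)⟩
    obtain ⟨h1, h2⟩ := hi a ha i
    rcases K a ha e _ h1 (by rw [s3, e]) h2 with e1 | e1 | e1
    · exact Or.inl e1
    · exact absurd e1 (e' i)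
    · exact Or.inr (Or.inr (h.far _ ha _ h1 e1))
  push Not at c1 c2
  have s4 : ∀ a ∈ S, cp hp a θ = 1 → f θ = 2 * f a := fun a ha e => by
    obtain ⟨i, e1⟩ := c2 a ha e
    have h1 := (hi a ha i).2
    rw [e1, map_sub] at h1
    omega
  have K2 : ∀ a ∈ S, cp hp a θ = 1 → ∀ a' ∈ S, cp hp a' θ = 1 → a' = a ∨ a' = θ - a := fun a ha e a' ha' e' => by
    obtain ⟨h1, h2, -⟩ := s1 a ha e
    have h3 := s4 a ha e
    have h4 := s4 a' ha' e'
    have h5 := s4 _ h1 h2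
    rcases K a ha e a' ha' e' (by omega) with e1 | e1 | e1
    · exact Or.inl e1
    · exact Or.inr e1
    · exact absurd (by rw [cp_sub _ _ (h.rt a' ha'), h.one ha' hθ e', e1, sub_zero]) (L1 _ h1 a' ha' (by omega))
  have ha := h.neg b₀ hb₀
  have e : cp hp (-b₀) θ = 1 := by rw [cp_neg _ rθ, h.neg_one hθ hb₀ e₀, neg_neg]
  generalize -b₀ = a at ha e
  obtain ⟨h1, h2, h3⟩ := s1 a ha e
  obtain ⟨h4, h5⟩ := h.a2 ha h1 h3
  have h6 : g a = θ - a := (K2 a ha e _ (hg a ha) (by rw [s2, e])).resolve_left (c1 a ha e)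
  have h7 : g (θ - a) = a := by rw [map_sub, hgθ, h6, sub_sub_cancel]
  have m1 : ∀ c ∈ S, cp hp c θ = 1 → c ∈ A2s a (θ - a) := fun c hc e' =>
    (K2 a ha e c hc e').elim Or.inl fun e1 => Or.inr (Or.inl e1)
  have m2 : θ ∈ A2s a (θ - a) := Or.inr (Or.inr (Or.inl (add_sub_cancel a θ).symm))
  refine Or.inr ⟨a, θ - a, h4, h5, Or.inr ⟨?_, fun c hc x hx => ?_⟩⟩
  · have m3 : g a ∈ A2s a (θ - a) := Or.inr (Or.inl h6)
    have m4 : g (θ - a) ∈ A2s a (θ - a) := Or.inl h7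
    have m5 : g (a + (θ - a)) ∈ A2s a (θ - a) := by rwa [add_sub_cancel, hgθ]
    rintro _ (rfl | rfl | rfl | rfl | rfl | rfl)
    exacts [m3, m4, m5, map_neg g _ ▸ a2_neg _ m3, map_neg g _ ▸ a2_neg _ m4, map_neg g _ ▸ a2_neg _ m5]
  by_cases hcA : c ∈ A2s a (θ - a)
  · exact a2_refl h4 c hcA x hx
  have rc := h.rt c hc
  have h8 : cp hp c θ = 0 := by
    rcases h.cases hc hθ with e1 | e1 | e1 | e1 | e1
    · exact absurd (e1 ▸ m2) hcA
    · exact absurd (e1 ▸ a2_neg _ m2) hcA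
    · exact e1
    · exact absurd (m1 c hc e1) hcA
    · exact absurd (neg_neg c ▸ a2_neg _ (m1 _ (h.neg c hc) (by rw [cp_neg _ rθ, e1, neg_neg]))) hcA
  have h9 : ∀ y ∈ S, cp hp y θ = 1 → cp hp y c = 0 := fun y hy e1 => by
    have ry := h.rt y hy
    have n1 : y ≠ c := fun e2 => hcA (e2 ▸ m1 y hy e1)
    have n2 : y ≠ -c := fun e2 => hcA (neg_neg c ▸ a2_neg _ (e2 ▸ m1 y hy e1))
    have b1 := h.le1 y hy c hc n1 n2
    have b2 := h.le1 c hc y hy n1.symm (fun e2 => n2 (by rw [e2, neg_neg]))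
    rcases K2 y hy e1 _ (h.refl c hc y hy) (by rw [cp_sub _ _ rθ, cp_smul _ _ rθ, h8, e1, mul_zero, sub_zero]) with e2 | e2
    · exact (smul_eq_zero.1 (sub_eq_self.1 e2)).resolve_right rc.ne_zero'
    · have e3 := congrArg (fun x => cp hp x y) e2
      simp only [cp_sub _ _ ry, cp_smul _ _ ry, cp_self ry, h.one hy hθ e1] at e3
      nlinarith only [b1, b2, e3]
  rw [cp_a2 h4 rc (h9 a ha e) (h9 _ h1 h2) hx, zero_smul, sub_zero]
  exact hx

theorem fm_two (ha : Rt hp a) (hc : Rt hp c) (h1 : a ≠ c) (h2 : cp hp a c = 2) : fm hp a a = 2 * fm hp c c := by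
  have h3 := cp_lt4 ha hc h1 (ne_neg_of_cp hc (by omega))
  have h4 := (cp_pos_comm ha hc).1 (by omega)
  have h5 := cp_fm ha hc
  rw [h2] at h3 h5
  rw [show cp hp c a = 1 by omega, one_mul] at h5
  exact h5.symm

theorem far_add (ha : Rt hp a) (hb : Rt hp b) (hc : Rt hp c) (h1 : Far hp p a b) (h2 : Far hp p a c)
    (h0 : cp hp b c = 0) (hbc : Rt hp (b + c)) : Far hp p a (b + c) := by
  have h3 := cp_add_zero ha hb hc hbc h1.1 h2.1
  refine ⟨h3, Or.inr fun hz => ?_⟩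
  have h4 := fm_lt ha hbc h3
  have h5 := fm_lt hb hc h0
  have h6 : cp hp (b + c) c = 2 := by rw [cp_add _ _ hc, h0, cp_self hc, zero_add]
  have h7 := fm_two hbc hc (fun e => hb.ne_zero' (add_eq_right.1 e)) h6
  have h8 := fm_two hz hc (fun e => by
    rw [e] at h4
    omega) (by rw [cp_add _ _ hc, h6, h2.1, zero_add])
  omega

variable (hp) in
/-- symmetries of the root system -/
structure Sym (f : Lat l ≃+ Lat l) : Prop where
  rt : ∀ a, Rt hp (f a) ↔ Rt hp a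
  cp : ∀ a c, Rt hp c → cp hp (f a) (f c) = cp hp a c

theorem sym_w (w : M.Group) : Sym hp (repAut M.toCoxeterSystem hp.isCartan w) :=
  ⟨fun a => ⟨fun h => wa_inv_wa (hp := hp) w a ▸ Rt.wa' h w⁻¹, fun h => h.wa' w⟩, fun a c hc => cp_wa w a hc⟩

theorem Sym.far {f : Lat l ≃+ Lat l} (h : Sym hp f) (hc : Rt hp c) : Far hp p (f a) (f c) ↔ Far hp p a c := by
  unfold Far
  rw [h.cp a c hc, ← map_add, h.rt]

variable (hp p) in
/-- the roots far from `Ψ` -/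
def FarS (Ψ : Set (Lat l)) : Set (Lat l) := {c | Rt hp c ∧ ∀ a ∈ Ψ, Far hp p a c}

variable (hp) in
/-- the long roots of `Θ` -/
def LongS (Θ : Set (Lat l)) : Set (Lat l) :=
  {c | c ∈ Θ ∧ ∀ a ∈ Θ, a ≠ c → a ≠ -c → -1 ≤ cp hp a c ∧ cp hp a c ≤ 1}

theorem Sym.farS {f : Lat l ≃+ Lat l} (h : Sym hp f) {Ψ : Set (Lat l)} (hf : ∀ a, f a ∈ Ψ ↔ a ∈ Ψ) (c : Lat l) :
    f c ∈ FarS hp p Ψ ↔ c ∈ FarS hp p Ψ := by
  refine ⟨fun h1 => ⟨(h.rt c).1 h1.1, fun a ha => (h.far ((h.rt c).1 h1.1)).1 (h1.2 _ ((hf a).2 ha))⟩,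
    fun h1 => ⟨(h.rt c).2 h1.1, fun a ha => ?_⟩⟩
  obtain ⟨a, rfl⟩ := f.surjective a
  exact (h.far h1.1).2 (h1.2 a ((hf a).1 ha))

theorem Sym.longS {f : Lat l ≃+ Lat l} (h : Sym hp f) (hΘ : ∀ a ∈ Θ, Rt hp a) (hf : ∀ a, f a ∈ Θ ↔ a ∈ Θ)
    (hc : c ∈ LongS hp Θ) : f c ∈ LongS hp Θ := by
  refine ⟨(hf c).2 hc.1, fun a ha h1 h2 => ?_⟩
  obtain ⟨a, rfl⟩ := f.surjective a
  rw [h.cp a c (hΘ c hc.1)]
  exact hc.2 a ((hf a).1 ha) (fun e => h1 (by rw [e])) fun e => h2 (by rw [e, map_neg])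

theorem farS_w {Ψ : Set (Lat l)} (hc : c ∈ FarS hp p Ψ) {w : M.Group} (e : ∀ a, wa hp w a = a - cp hp a c • c)
    (a : Lat l) : wa hp w a ∈ FarS hp p Ψ ↔ a ∈ FarS hp p Ψ := by
  refine (sym_w w).farS (fun b => ?_) a
  have h1 : ∀ b ∈ Ψ, wa hp w b = b := fun b hb => by rw [e, (hc.2 b hb).1, zero_smul, sub_zero]
  refine ⟨fun h => ?_, fun h => by show wa hp w b ∈ Ψ; rw [h1 b h]; exact h⟩
  have h2 : wa hp w b = b := by
    have h3 := congrArg (wa hp w⁻¹) (h1 _ h)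
    rwa [wa_inv_wa, show repAut M.toCoxeterSystem hp.isCartan w b = wa hp w b from rfl, wa_inv_wa] at h3
  exact h2 ▸ h

theorem ss_long {Ψ : Set (Lat l)} (hΨ : ∀ a ∈ Ψ, Rt hp a) : SS hp p (LongS hp (FarS hp p Ψ)) := by
  have key : ∀ c ∈ LongS hp (FarS hp p Ψ), ∀ a ∈ LongS hp (FarS hp p Ψ),
      a - cp hp a c • c ∈ LongS hp (FarS hp p Ψ) := fun c hc a ha => by
    obtain ⟨w, -, e⟩ := exists_refl hc.1.1
    rw [← e]
    exact (sym_w w).longS (fun a ha => ha.1) (farS_w hc.1 e) ha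
  refine ⟨fun a ha => ha.1.1, fun a ha => refl_self ha.1.1 ▸ key a ha a ha, key,
    fun a ha c hc => hc.2 a ha.1, fun a ha c hc h0 => ⟨h0, Or.inr fun hac => ?_⟩⟩
  have h1 : cp hp (a + c) c = 2 := by rw [cp_add _ _ hc.1.1, h0, cp_self hc.1.1, zero_add]
  have h2 := hc.2 (a + c) ⟨hac, fun x hx => far_add (hΨ x hx) ha.1.1 hc.1.1 (ha.1.2 x hx) (hc.1.2 x hx) h0 hac⟩
    (fun e => Rt.ne_zero' ha.1.1 (add_eq_right.1 e)) (ne_neg_of_cp hc.1.1 (by omega))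
  omega

theorem exists_long (hΘ : ∀ a ∈ Θ, Rt hp a) (hc : c ∈ Θ) : ∃ c, c ∈ LongS hp Θ := by
  obtain ⟨c, h1, h2⟩ := Set.exists_max_image Θ (fun a => fm hp a a) ((finite_Rt hp).subset hΘ) ⟨c, hc⟩
  exact ⟨c, h1, fun a ha n1 n2 => cp_le1 (hΘ a ha) (hΘ c h1) n1 n2 (h2 a ha)⟩

/-- an invariant positive system -/
theorem SS.adjust (h : SS hp p S) {g : Lat l ≃+ Lat l} (hs : Sym hp g) (hg : ∀ a, g a ∈ S ↔ a ∈ S) :
    ∃ w ∈ WW hp S, ∃ f : Lat l →+ ℤ, (∀ a ∈ S, f (wa hp w (g a)) = f a) ∧ ∀ a ∈ S, f a ≠ 0 := by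
  have := finite_WW hp
  obtain ⟨v, hv, h1⟩ := BpExc.Fr.exists_adjust (cs := M.toCoxeterSystem) (h := hp.isCartan) S (WW hp S) (fun a ha => by
    obtain ⟨w, i, e⟩ := h.rt a ha
    exact ⟨w, i, e, subset_closure ⟨w, i, e ▸ ha, rfl⟩⟩) g.symm
    (fun a ha => (hs.rt _).1 (by rwa [AddEquiv.apply_symm_apply]))
  have h2 := DS.Ex.Tor.pres_symm (cs := M.toCoxeterSystem) (h := hp.isCartan) h.rt h.neg
    (g := (repAut M.toCoxeterSystem hp.isCartan v).trans g.symm) ⟨fun a => by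
      rw [← hg, AddEquiv.trans_apply, AddEquiv.apply_symm_apply]
      exact WW_stab h.rt h.refl hv a, h1⟩
  set g' := ((repAut M.toCoxeterSystem hp.isCartan v).trans g.symm).symm with hg'
  have e : ∀ a, g' a = wa hp v⁻¹ (g a) := fun a => rfl
  obtain ⟨N, hN, h3⟩ := BpExc.Orbit.exists_period (cs := M.toCoxeterSystem) (h := hp.isCartan) (g := g') fun a =>
    ((sym_w v⁻¹).rt (g a)).trans (hs.rt a)
  let f : Lat l →+ ℤ := AddMonoidHom.mk' (fun a => ∑ i ∈ Finset.range N, ht (g'^[i] a)) fun a b => by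
    rw [← Finset.sum_add_distrib]
    exact Finset.sum_congr rfl fun i _ => by rw [H123.ExcComb.iter_add, RGD.ht_add]
  have h4 : ∀ a ∈ S, 0 ≤ a → 0 < f a := fun a ha h0 => by
    refine Finset.sum_pos (fun i _ => ?_) ⟨0, Finset.mem_range.2 hN⟩
    have h5 := H123.ExcComb.iter_S (fun a ha => (h2.1 a).2 ha) h2.2 ha h0 i
    exact RGD.ht_pos (h.rt _ h5.1) h5.2
  refine ⟨v⁻¹, inv_mem hv, f, fun a ha => ?_, fun a ha => ?_⟩
  · have h5 := Finset.sum_range_succ (fun i => ht (g'^[i] a)) N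
    rw [Finset.sum_range_succ', h3 a (h.rt a ha)] at h5
    exact add_right_cancel h5
  · rcases (h.rt a ha).pos_or_neg with h0 | h0
    · exact (h4 a ha h0).ne'
    · have h5 := h4 _ (h.neg a ha) (neg_nonneg.2 h0)
      rw [map_neg] at h5
      omega

variable {d : ℕ} {g0 : Lat l ≃+ Lat l} {L : Type} [Group L] (E : Frame hp p d g0 L)

theorem sym_g : Sym hp E.g := ⟨E.fr.root, E.gcp⟩

theorem hp_a2 (hG : D ≠ chevG2) (h : P2 hp c c') (hA : ∀ a ∈ A2s c c', E.g a ∈ A2s c c') (hq : E.q ≤ 3) :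
    HP E (A2s c c') ∨ (E.q = 2 ∧ (E.g^[2] c = c ∨ E.g^[3] c = -c)) := by
  obtain ⟨w, hw, ε, h1, h2⟩ := a2_norm E h hA
  rcases Int.units_eq_one_or ε with rfl | rfl
  · rw [Units.val_one, one_smul] at h1 h2
    obtain ⟨z, hz, h3⟩ := En.exists_move_MS E (a2_rt h) a2_neg hA hw
    exact Or.inl (HP.of_move hz ((ax_split (E.move z w h3) hG h h1 h2).to_hp h.r1 h1))
  rw [Units.val_neg, Units.val_one, neg_smul, one_smul] at h1 h2
  by_cases h3 : E.q = 3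
  · obtain ⟨v, hv, e⟩ := exists_refl h.r1
    obtain ⟨z, hz, h4⟩ := En.exists_move_MS E (a2_rt h) a2_neg hA (mul_mem (hv _ (Or.inl rfl)) hw)
    have h5 := ax_tw (E.move z _ h4) hG h3 (p2_tw h)
      (by
        rw [E.move_g, wa_mul, map_neg, wa_neg, h2, neg_neg, e, h.c2]
        module)
      (by
        rw [E.move_g, wa_mul, map_add, wa_add, h1, h2, e, cp_add _ _ h.r1, cp_neg _ h.r1, cp_neg _ h.r1, h.c2,
          cp_self h.r1]
        module)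
    rw [a2_tw, show -c' + (c + c') = c by abel] at h5
    exact Or.inl (HP.of_move hz (h5.to_hp h.r1 (by rw [E.move_g, wa_mul, h1, e, refl_neg h.r1])))
  have h4 := En.two_le_q E
  refine Or.inr ⟨by omega, ?_⟩
  obtain ⟨σ, hσ⟩ := h.act_WW (inv_mem hw)
  have h5 : ∀ i j, i ≠ j → E.g (ev c c' i - ev c c' j) = ev c c' (σ j) - ev c c' (σ i) := fun i j hij => by
    have h6 := a2_ind (f := E.g.trans (repAut M.toCoxeterSystem hp.isCartan w)) (ε := -1)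
      (by rw [neg_smul, one_smul]; exact h1) (by rw [neg_smul, one_smul]; exact h2) _ (mem_A2s.2 ⟨i, j, hij, rfl⟩)
    rw [← wa_inv_wa (hp := hp) w (E.g _), show wa hp w (E.g _) = _ from h6, neg_smul, one_smul, neg_sub, hσ]
  have n01 : (0 : Fin 3) ≠ 1 := by decide
  have h6 : (σ (σ 0) = 0 ∧ σ (σ 1) = 1) ∨ (σ (σ (σ 0)) = 0 ∧ σ (σ (σ 1)) = 1) :=
    (by decide : ∀ σ : Equiv.Perm (Fin 3), (σ (σ 0) = 0 ∧ σ (σ 1) = 1) ∨ (σ (σ (σ 0)) = 0 ∧ σ (σ (σ 1)) = 1)) σ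
  rw [← ev01 c c']
  refine h6.imp (fun e => ?_) fun e => ?_
  · show E.g (E.g _) = _
    rw [h5 _ _ n01, h5 _ _ (σ.injective.ne n01.symm), e.1, e.2]
  · show E.g (E.g (E.g _)) = _
    rw [h5 _ _ n01, h5 _ _ (σ.injective.ne n01.symm), h5 _ _ (σ.injective.ne (σ.injective.ne n01)), e.1, e.2, neg_sub]

theorem dvd_of_iter {r : ℕ} (hr : r.Prime) {t : YY D p} (ht : t ∈ TT D (kb p)) (hF : E.F t = t) (htr : t ^ r = 1)
    (hc : Rt hp c) (h1 : ch hp c t ≠ 1) {n : ℕ} :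
    (E.g^[n] c = c → (r : ℤ) ∣ E.q ^ n - 1) ∧ (E.g^[n] c = -c → (r : ℤ) ∣ E.q ^ n + 1) := by
  have := Fact.mk hr
  have h2 : IsPrimitiveRoot (ch hp c t) r := by
    have h3 : orderOf (ch hp c t) = r := orderOf_eq_prime (by rw [← ch_pow hc ht, htr, ch_one hc]) h1
    exact h3 ▸ IsPrimitiveRoot.orderOf _
  have h0 := ch_ne_zero hc ht
  have h3 : ch hp (E.g^[n] c) t = ch hp c t ^ ((E.q : ℤ) ^ n) := by
    induction n with
    | zero => rw [pow_zero, zpow_one]; rfl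
    | succ n ih => rw [Function.iterate_succ_apply', ch_g E ht hF (rt_iter E hc n), ih, pow_succ, zpow_mul, zpow_natCast]
  refine ⟨fun e => (h2.zpow_eq_one_iff_dvd _).1 ?_, fun e => (h2.zpow_eq_one_iff_dvd _).1 ?_⟩
  · rw [zpow_sub_one₀ h0, ← h3, e, mul_inv_cancel₀ h0]
  · rw [zpow_add_one₀ h0, ← h3, e, ch_neg hc ht, inv_mul_cancel₀ h0]

variable [Finite L] {U : Type} [Group U] [Finite U] {τ α β : U →* L} {R R' : Subgroup L}

/-- **`BoxP.k1`.** -/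
theorem k1 (big : Big) (co : Core τ α β R R') {r : ℕ} (hr : r.Prime) (h5 : 5 ≤ r) {Q : Set U}
    (hQ : ∀ u ∈ Q, u ^ r = 1 ∧ E.ι (τ u) ∈ TT D (kb p)) : K1 hp p (PsiS hp ((fun u => E.ι (τ u)) '' Q)) := by
  intro c₀ hc₀ hfar
  have hQ1 : ∀ u ∈ Q, E.ι (τ u) ^ r = 1 := fun u hu => by rw [← map_pow, ← map_pow, (hQ u hu).1, map_one, map_one]
  have hQ' : ∀ u ∈ Q, E.ι (τ u) ∈ TT D (kb p) ∧ ∃ n : ℕ, E.ι (τ u) ^ r ^ n = 1 := fun u hu =>
    ⟨(hQ u hu).2, 1, by rw [pow_one, hQ1 u hu]⟩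
  have hgΨ := g_psiS E (Q := (fun u => E.ι (τ u)) '' Q) (by rintro _ ⟨u, hu, rfl⟩; exact ⟨(hQ u hu).2, E.fix _⟩)
  have hR := R_le (hp := hp) co E.inj hr hQ'
  have hdvd : ∀ c ∈ FarS hp p (PsiS hp ((fun u => E.ι (τ u)) '' Q)), ∀ n : ℕ,
      (E.g^[n] c = c → (r : ℤ) ∣ E.q ^ n - 1) ∧ (E.g^[n] c = -c → (r : ℤ) ∣ E.q ^ n + 1) := fun c hc n => by
    by_contra hcon
    have h1 := (hc.2 c ⟨hc.1, by
      rintro _ ⟨u, hu, rfl⟩
      by_contra h1
      exact hcon (dvd_of_iter E hr (hQ u hu).2 (E.fix _) (hQ1 u hu) hc.1 h1)⟩).1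
    rw [cp_self hc.1] at h1
    omega
  suffices H : HP E (FarS hp p (PsiS hp ((fun u => E.ι (τ u)) '' Q))) by
    obtain ⟨X, h0, hX, hle⟩ := H
    exact h0 (fin_perf co E.inj hr hQ' big hX fun x hx => mem_JJ (fun a ha => ha.1)
      (fun a ha h c hc => hc.2 a ⟨ha, by rintro _ ⟨u, hu, rfl⟩; exact h u hu⟩) (hle (mem_map_of_mem _ hx)))
  have hΨ : ∀ a ∈ PsiS hp ((fun u => E.ι (τ u)) '' Q), Rt hp a := fun a ha => ha.1
  generalize PsiS hp ((fun u => E.ι (τ u)) '' Q) = Ψ at hfar hgΨ hR hdvd hΨ ⊢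
  have hS := ss_long (p := p) hΨ
  have hgΘ := (sym_g E).farS (p := p) hgΨ
  have hgS : ∀ a, E.g a ∈ LongS hp (FarS hp p Ψ) ↔ a ∈ LongS hp (FarS hp p Ψ) := fun a =>
    ⟨fun h => E.g.symm_apply_apply a ▸ Sym.longS (f := E.g.symm)
      ⟨fun a => by rw [← (sym_g E).rt, AddEquiv.apply_symm_apply], fun a c hc => by
        rw [← E.gcp _ _ (((sym_g E).rt _).1 (by rwa [AddEquiv.apply_symm_apply])), AddEquiv.apply_symm_apply,
          AddEquiv.apply_symm_apply]⟩ (fun a ha => ha.1)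
      (fun a => by rw [← hgΘ, AddEquiv.apply_symm_apply]) h, (sym_g E).longS (fun a ha => ha.1) hgΘ⟩
  have h2 := En.two_le_q E
  have hnd : ∀ n : ℤ, 0 < n → n ∣ 36 → ¬ (r : ℤ) ∣ n := fun n h0 hn h => by
    have h3 : r ∣ 6 ^ 2 := Int.natCast_dvd_natCast.1 (h.trans hn)
    have h4 := Nat.le_of_dvd (by norm_num) (hr.dvd_of_dvd_pow h3)
    obtain rfl | rfl : r = 5 ∨ r = 6 := by omega
    · omega
    · exact absurd hr (by decide)
  refine HP.mono (S := LongS hp (FarS hp p Ψ)) ?_ fun a ha => ha.1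
  by_cases hex : ∃ a ∈ LongS hp (FarS hp p Ψ), ∃ b ∈ LongS hp (FarS hp p Ψ), cp hp a b = -1
  swap
  · obtain ⟨c, hc⟩ := exists_long (Θ := FarS hp p Ψ) (fun a ha => ha.1) ⟨hc₀, hfar⟩
    refine hp_orb E hS.rt hS.neg (fun a ha => (hgS a).2 ha) hc (fun i => ?_) ?_
    · have h1 := iter_mem E (fun a ha => (hgS a).2 ha) hc i
      rcases hS.cases hc h1 with e | e | e | e | e
      · exact Or.inl e.symm
      · exact Or.inr (Or.inl (by rw [← neg_eq_iff_eq_neg] at e; exact e.symm))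
      · exact Or.inr (Or.inr (hS.far _ hc _ h1 e))
      · exact absurd ⟨_, hS.neg _ hc, _, h1, by rw [cp_neg _ (hS.rt _ h1), e]⟩ hex
      · exact absurd ⟨_, hc, _, h1, e⟩ hex
    · by_cases hq : 4 ≤ E.q
      · exact Or.inl hq
      have h1 := hdvd c hc.1 1
      rw [pow_one] at h1
      obtain e | e : E.q = 2 ∨ E.q = 3 := by omega
      all_goals
        rw [e] at h1
        exact Or.inr ⟨fun h => hnd _ (by norm_num) (by norm_num) (h1.1 h), fun h => hnd _ (by norm_num) (by norm_num) (h1.2 h)⟩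
  have hG : D ≠ chevG2 := by
    intro hG
    obtain ⟨a, ha, b, hb, e⟩ := hex
    obtain ⟨x, hx⟩ : Ψ.Nonempty := by
      rw [Set.nonempty_iff_ne_empty]
      rintro rfl
      obtain ⟨φ, h3, h4⟩ := co.pair.copy
      have h6 : MS D l p ∅ ≤ ⊥ := RGD.Sup_le fun a ha => absurd ha (Set.notMem_empty a)
      refine co.noncomm ⟨⟨fun u v => h3 (E.inj ?_)⟩⟩
      rw [mem_bot.1 (h6 (hR (mem_map_of_mem _ (h4 _)))), mem_bot.1 (h6 (hR (mem_map_of_mem _ (h4 _))))]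
    exact rank_two ((typ_cases hp).2.1 hG) (hΨ x hx) ha.1.1 hb.1.1 (ha.1.2 x hx).1 (hb.1.2 x hx).1 e
      (hS.neg_one ha hb e)
  obtain ⟨w, hw, f, hf, hf0⟩ := hS.adjust (sym_g E) hgS
  obtain ⟨z, hz, h3⟩ := En.exists_move_MS E hS.rt hS.neg (fun a ha => (hgS a).2 ha) hw
  have hg' : ∀ a ∈ LongS hp (FarS hp p Ψ), (E.move z w h3).g a ∈ LongS hp (FarS hp p Ψ) := fun a ha =>
    (WW_stab hS.rt hS.refl hw _).2 ((hgS a).2 ha)
  obtain ⟨⟨θ, hθ, hO⟩, h4⟩ := hS.high hg' (E.move z w h3).gcp hf hf0 hex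
  by_cases hq : 4 ≤ E.q
  · exact HP.of_move hz (hp_orb (E.move z w h3) hS.rt hS.neg hg' hθ hO (Or.inl hq))
  rcases h4 with ⟨c, hc, h4, h6⟩ | ⟨b, b', hb, hA, ⟨h4, h6⟩ | ⟨h4, h6⟩⟩
  · exact HP.of_move hz (hp_orb (E.move z w h3) hS.rt hS.neg hg' hc h4 (Or.inr h6))
  · exact HP.of_move hz (((ax_split _ hG hb h4 h6).to_hp hb.r1 h4).mono hA)
  rcases hp_a2 E hG hb (fun a ha => (WW_stab hS.rt h6 hw _).1 (h4 a ha)) (by omega) with h7 | ⟨e, h7⟩
  · exact h7.mono hA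
  have h8 := hdvd b (hA (Or.inl rfl)).1
  rw [e] at h8
  rcases h7 with h7 | h7
  · exact absurd ((h8 2).1 h7) (hnd _ (by norm_num) (by norm_num))
  · exact absurd ((h8 3).2 h7) (hnd _ (by norm_num) (by norm_num))

/-- **`BoxP`.** -/
theorem boxP (big : Big) : BoxP where
  k1 D l M hp hl hB p _ d g0 L _ _ E U _ _ τ α β R R' co r hr h5 hrp Q hQ := k1 E big co hr h5 hQ
  a1 D l M hp hl hB p _ d g0 L _ _ E U _ _ τ α β R R' co r hr h5 hrp u hu hT c hc hq := a1 E big hl co hr h5 hu hT hc hq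
  a2 D l M hp hl h4 p _ d g0 L _ _ E U _ _ τ α β R R' co c c' hc hc' h1 h2 hA hq := a2 E big h4 co ⟨hc, hc', h1, h2⟩ hA hq
  two D l M hp hl h4 d g0 L _ _ E U _ _ τ α β R R' co c hc hg hq := two h4 E co hc hg hq

end Cfsg.Agent.Cam.Ex.P
end

-- part: Cam/Ex/U1
section
/-!
# Exceptional rows, `BoxU`: the rank and the group theory (helper53)

* `rank_le` : a direct power `U ^ n` inside `Y` has `n ≤ l`;
* `exists_aut` : an abelian `r`-subgroup with an induced automorphism of prime order;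
* `sq_dvd` : the square of this prime divides the order of the Weyl group.
-/

set_option autoImplicit false
set_option linter.unusedVariables false
set_option linter.unusedSectionVars false

namespace Cfsg.Agent.Cam.Ex.Ub

open CoxeterSystem Cfsg Cfsg.Lie Subgroup
open Cfsg.Agent.ChevalleyStructure.CoxeterGeom Cfsg.Agent.ChevalleyStructure.CoxeterGeomTypes
open Cfsg.Agent.Tits.Roots Cfsg.Agent.Nodes.BNOf Cfsg.Agent.Nodes.RGDChev
open Cfsg.Agent.KFacts.RgdChevCoord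
open Cfsg.Agent.Cam.Spor Cfsg.Agent.TwoFusion.PerfCore
open Cfsg.Agent.DS.Nt (RP DZ)
open scoped commutatorElement

variable {D : ChevalleyDatum} {l : ℕ} {M : CoxeterMatrix (Fin l)} {hp : IsType D l M} {p : ℕ} [Fact p.Prime]

/-- a toral set of elements of order `r` and an element of order `r` of a perfect group centralizing it -/
theorem tor_perf (hp : IsType D l M) {r : ℕ} (hr : r.Prime) (hrp : r ≠ p) {Z : Set (YY D p)} (hfin : Z.Finite)
    {z : YY D p} (hZ : ∀ t ∈ Z, z * t * z⁻¹ ∈ TT D (kb p) ∧ t ^ r = 1) {J : Subgroup (YY D p)} (hJ : ⁅J, J⁆ = J)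
    (hc : ∀ j ∈ J, ∀ t ∈ Z, j * t = t * j) {x : YY D p} (hx : x ∈ J) (hxr : x ^ r = 1) :
    ∃ g : YY D p, (∀ t ∈ Z, g * t * g⁻¹ ∈ TT D (kb p)) ∧ g * x * g⁻¹ ∈ TT D (kb p) := by
  have hsq : ∀ y : YY D p, y ^ r = 1 → (z * y * z⁻¹) ^ r ^ 1 = 1 := fun y hy => by
    rw [pow_one, conj_pow, hy, mul_one, mul_inv_cancel]
  have hT : ∀ t ∈ (fun t => z * t * z⁻¹) '' Z, t ∈ TT D (kb p) ∧ t ^ r ^ 1 = 1 := by
    rintro _ ⟨t, ht, rfl⟩
    exact ⟨(hZ t ht).1, hsq t (hZ t ht).2⟩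
  have hcz : ∀ j ∈ J, ∀ t ∈ (fun t => z * t * z⁻¹) '' Z, z * j * z⁻¹ * t = t * (z * j * z⁻¹) := by
    rintro j hj _ ⟨t, ht, rfl⟩
    rw [show z * j * z⁻¹ * (z * t * z⁻¹) = z * (j * t) * z⁻¹ by group, hc j hj t ht]
    group
  have h1 := chi_perf hp hr (Q := (fun t => z * t * z⁻¹) '' Z) (fun t ht => ⟨(hT t ht).1, 1, (hT t ht).2⟩)
    (map_perfect hJ (MulAut.conj z).toMonoidHom) (by
    rintro _ ⟨j, hj, rfl⟩
    exact mem_centralizer_iff.2 fun t ht => (hcz j hj t ht).symm)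
  have hQ : IsPGroup r (closure (insert (z * x * z⁻¹) ((fun t => z * t * z⁻¹) '' Z))) := DS.Nt.isPGroup_of_comm (by
    rintro a (rfl | ha) b (rfl | hb)
    · rfl
    · exact hcz x hx b hb
    · exact (hcz x hx a ha).symm
    · exact T_comm hp (hT a ha).1 (hT b hb).1) (by
    rintro a (rfl | ha)
    · exact ⟨1, hsq x hxr⟩
    · exact ⟨1, (hT a ha).2⟩)
  obtain ⟨g, hg⟩ := DS.Nt.toral_step (hp := hp) (n := 1) hr hrp (hfin.image fun t => z * t * z⁻¹)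
    (fun t ht => (hT t ht).1) (DS.Nt.Mz_le_DZ (h1 ⟨x, hx, rfl⟩)) (hsq x hxr) hQ le_rfl
  refine ⟨g * z, fun t ht => ?_, ?_⟩
  · have h3 := hg _ (_root_.Subgroup.subset_closure (Or.inr ⟨t, ht, rfl⟩))
    rwa [show g * (z * t * z⁻¹) * g⁻¹ = g * z * t * (g * z)⁻¹ by group] at h3
  · have h3 := hg _ (_root_.Subgroup.subset_closure (Or.inl rfl))
    rwa [show g * (z * x * z⁻¹) * g⁻¹ = g * z * x * (g * z)⁻¹ by group] at h3

/-- **The rank.** -/
theorem rank_le (hp : IsType D l M) {U : Type} [Group U] [Finite U] [hs : IsSimpleGroup U] (hn : ¬ IsMulCommutative U)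
    {n : ℕ} (f : (Fin n → U) →* YY D p) (hf : Function.Injective f) : n ≤ l := by
  classical
  obtain ⟨r, hr, hrp, hd⟩ := DS.NT.exists_prime_ne hn p
  have : Fact r.Prime := ⟨hr⟩
  obtain ⟨u, hu⟩ := exists_prime_orderOf_dvd_card' r hd
  have hur : u ^ r = 1 := by rw [← hu, pow_orderOf_eq_one]
  let e : Fin n → U →* YY D p := fun i => f.comp (MonoidHom.mulSingle (fun _ => U) i)
  have key : ∀ s : Finset (Fin n), ∃ z : YY D p, ∀ i ∈ s, z * e i u * z⁻¹ ∈ TT D (kb p) := by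
    intro s
    induction s using Finset.induction_on with
    | empty => exact ⟨1, fun i hi => absurd hi (Finset.notMem_empty i)⟩
    | insert j s hj ih =>
      obtain ⟨z, hz⟩ := ih
      obtain ⟨g, h1, h2⟩ := tor_perf hp hr hrp (Z := (fun i => e i u) '' s) (s.finite_toSet.image _) (z := z) (by
        rintro _ ⟨i, hi, rfl⟩
        exact ⟨hz i hi, by rw [← map_pow, hur, map_one]⟩) (range_perfect hs hn (e j)) (by
        rintro _ ⟨y, rfl⟩ _ ⟨i, hi, rfl⟩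
        have h3 : j ≠ i := fun h => hj (h ▸ hi)
        exact ((Pi.mulSingle_commute (f := fun _ => U) h3 y u).map f).eq) (x := e j u) ⟨u, rfl⟩
        (by rw [← map_pow, hur, map_one])
      refine ⟨g, fun i hi => ?_⟩
      rcases Finset.mem_insert.1 hi with rfl | hi
      · exact h2
      · exact h1 _ ⟨i, hi, rfl⟩
  obtain ⟨z, hz⟩ := key Finset.univ
  let B : Subgroup (Fin n → U) := Subgroup.pi Set.univ fun _ => zpowers u
  have h1 : B ≤ (TT D (kb p)).comap ((MulAut.conj z).toMonoidHom.comp f) := by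
    refine pi_le_iff.2 fun i => ?_
    rw [map_le_iff_le_comap, zpowers_le]
    exact hz i (Finset.mem_univ i)
  have h2 := DS.Rank.card_toral_le hp hr.pos (B.map f) z (by
    rintro _ ⟨x, hx, rfl⟩
    exact h1 hx) (by
    rintro _ ⟨x, hx, rfl⟩
    rw [← map_pow, show x ^ r = 1 from funext fun i => ?_, map_one]
    obtain ⟨k, hk⟩ := hx i (Set.mem_univ i)
    have hk' : u ^ k = x i := hk
    rw [Pi.pow_apply, ← hk', ← zpow_natCast, ← zpow_mul, mul_comm, zpow_mul, zpow_natCast, hur, one_zpow, Pi.one_apply])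
  have : Finite (B.map f) := Finite.of_surjective _ (f.subgroupMap_surjective B)
  have h3 : Nat.card (Fin n → zpowers u) ≤ Nat.card (B.map f) :=
    Nat.card_le_card_of_injective (fun x => ⟨f fun i => x i, _, fun i _ => (x i).2, rfl⟩) fun x y h =>
      funext fun i => Subtype.ext (congrFun (hf (congrArg Subtype.val h)) i)
  rw [Nat.card_fun, Nat.card_zpowers, hu, Nat.card_eq_fintype_card, Fintype.card_fin] at h3
  exact (Nat.pow_le_pow_iff_right hr.one_lt).1 (h3.trans h2)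

section grp

variable {U : Type} [Group U] [Finite U]

/-- an abelian `r`-subgroup with an induced automorphism of prime order -/
theorem exists_aut (hs : IsSimpleGroup U) (hn : ¬ IsMulCommutative U) {r : ℕ} (hr : r.Prime) (hd : r ∣ Nat.card U) :
    ∃ A : Subgroup U, IsPGroup r A ∧ (∀ a ∈ A, ∀ b ∈ A, a * b = b * a) ∧ ∃ (v : U) (σ : MulAut A),
      (orderOf σ).Prime ∧ ∀ a : A, (σ a : U) = v * a * v⁻¹ := by
  have : Fact r.Prime := ⟨hr⟩
  obtain ⟨A, -, hA⟩ := Finite.exists_le_maximal (p := fun A : Subgroup U => IsPGroup r A ∧ ∀ a ∈ A, ∀ b ∈ A,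
    a * b = b * a) (a := ⊥) ⟨IsPGroup.of_bot, fun a ha b hb => by rw [mem_bot.1 ha, one_mul, mul_one]⟩
  have h1 : ¬ normalizer (A : Set U) ≤ centralizer (A : Set U) := by
    intro h
    obtain ⟨P, hP⟩ := hA.1.1.exists_le_sylow
    have h2 : (P : Subgroup U) ≤ A := by
      have hN : Group.IsNilpotent P := P.2.isNilpotent
      have h3 := (normalizerCondition_iff_only_full_group_self_normalizing.1
        (Group.normalizerCondition_of_isNilpotent (G := P))) (A.subgroupOf P) (le_antisymm (fun x hx => ?_) le_normalizer)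
      · exact subgroupOf_eq_top.1 h3
      rw [← subgroupOf_normalizer_eq hP] at hx
      have h4 : (x : U) ∈ centralizer (A : Set U) := h hx
      have h5 : ∀ a ∈ insert (x : U) (A : Set U), ∀ b ∈ insert (x : U) (A : Set U), a * b = b * a := by
        rintro a (rfl | ha) b (rfl | hb)
        · rfl
        · exact (h4 b hb).symm
        · exact h4 a ha
        · exact hA.1.2 a ha b hb
      have h6 : _root_.Subgroup.closure (insert (x : U) (A : Set U)) ≤ A := by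
        refine hA.2 ⟨P.2.to_le ((closure_le _).2 ?_), fun a ha b hb => ?_⟩ fun a ha => _root_.Subgroup.subset_closure (Or.inr ha)
        · rintro a (rfl | ha)
          · exact x.2
          · exact hP ha
        · have := Subgroup.isMulCommutative_closure h5
          exact setLike_mul_comm ha hb
      exact h6 (_root_.Subgroup.subset_closure (Or.inl rfl))
    have h3 : (P : Subgroup U) = A := le_antisymm h2 hP
    exact H397.ZTwo.false_of_transfer' hn P (P.ne_bot_of_dvd_card hd) (by rw [h3]; exact h)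
  have h2 : Nat.card A.normalizerMonoidHom.range ≠ 1 := by
    intro h
    rw [card_eq_one, MonoidHom.range_eq_bot_iff, ← MonoidHom.ker_eq_top_iff, normalizerMonoidHom_ker,
      subgroupOf_eq_top] at h
    exact h1 h
  obtain ⟨q, hq, h3⟩ := Nat.exists_prime_and_dvd h2
  have : Fact q.Prime := ⟨hq⟩
  obtain ⟨⟨_, v, rfl⟩, h4⟩ := exists_prime_orderOf_dvd_card' q h3
  refine ⟨A, hA.1.1, hA.1.2, v, A.normalizerMonoidHom v, ?_, fun a => rfl⟩
  rw [← Subgroup.orderOf_coe] at h4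
  exact h4 ▸ hq

/-- an element of order `r` with trivial norm -/
theorem exists_norm {A : Type} [CommGroup A] {r : ℕ} (hr : r.Prime) (hA : IsPGroup r A) {σ : MulAut A} {m : ℕ}
    (h1 : σ ≠ 1) (hm : σ ^ m = 1) : ∃ u : A, orderOf u = r ∧ ∏ i ∈ Finset.range m, (σ ^ i) u = 1 := by
  have : Fact r.Prime := ⟨hr⟩
  obtain ⟨y, hy⟩ : ∃ y, σ y ≠ y := by
    by_contra h
    exact h1 (MulEquiv.ext fun y => by_contra fun h2 => h ⟨y, h2⟩)
  have h2 : ∏ i ∈ Finset.range m, (σ ^ i) (σ y / y) = 1 := by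
    have h3 := Finset.prod_range_div (fun i => (σ ^ i) y) m
    rw [hm, pow_zero, div_self'] at h3
    rw [← h3]
    exact Finset.prod_congr rfl fun i _ => by rw [map_div, pow_succ, MulAut.mul_apply]
  obtain ⟨k, hk⟩ := IsPGroup.iff_orderOf.1 hA (σ y / y)
  have h3 : k ≠ 0 := by
    rintro rfl
    rw [pow_zero, orderOf_eq_one_iff, div_eq_one] at hk
    exact hy hk
  obtain ⟨k, rfl⟩ := Nat.exists_eq_succ_of_ne_zero h3
  refine ⟨(σ y / y) ^ r ^ k, ?_, ?_⟩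
  · rw [orderOf_pow_of_dvd (pow_ne_zero k hr.ne_zero) (by rw [hk]; exact pow_dvd_pow r k.le_succ), hk,
      Nat.pow_succ', Nat.mul_div_cancel _ (pow_pos hr.pos k)]
  · rw [Finset.prod_congr rfl fun i _ => map_pow (σ ^ i) _ _, Finset.prod_pow, h2, one_pow]

end grp

/-- a normalizing element is represented in the Weyl group -/
theorem exists_w (hp : IsType D l M) {ι : Type} [Finite ι] {s t : ι → YY D p} (hs : ∀ i, s i ∈ TT D (kb p))
    (ht : ∀ i, t i ∈ TT D (kb p)) {c : YY D p} (e : ∀ i, c * s i * c⁻¹ = t i) :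
    ∃ w, ∀ i a, Rt hp a → ch hp (wa hp w a) (t i) = ch hp a (s i) := by
  obtain ⟨m, -, w, k, hk, h1, -⟩ := DS.Nt.form₂ hp hs ht (c := c) fun i => by rw [← e i, inv_mul_cancel_right]
  refine ⟨w, fun i a ha => ?_⟩
  have h2 := ch_rp hk (hs i) ha
  rwa [h1 i, mul_inv_cancel_right] at h2

/-- **The square of the order divides `|W|`.** -/
theorem sq_dvd (hp : IsType D l M) {A : Type} [Group A] [Finite A] {f g : A →* YY D p} (hf : Function.Injective f)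
    (hg : Function.Injective g) (hfT : ∀ a, f a ∈ TT D (kb p)) (hgT : ∀ a, g a ∈ TT D (kb p)) (σ : MulAut A)
    {x y : YY D p} (hx : ∀ a, x * f a * x⁻¹ = f (σ a)) (hx' : ∀ a, x * g a * x⁻¹ = g a)
    (hy : ∀ a, y * f a * y⁻¹ = f a) (hy' : ∀ a, y * g a * y⁻¹ = g (σ a)) : orderOf σ ^ 2 ∣ Nat.card M.Group := by
  have := finite_WW hp
  let Γ : Subgroup (M.Group × (MulAut A × MulAut A)) :=
    { carrier := {z | ∀ a c, Rt hp c → ch hp (wa hp z.1 c) (f (z.2.1 a)) = ch hp c (f a) ∧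
        ch hp (wa hp z.1 c) (g (z.2.2 a)) = ch hp c (g a)}
      one_mem' := fun a c hc => by
        change ch hp (wa hp 1 c) (f a) = _ ∧ ch hp (wa hp 1 c) (g a) = _
        rw [wa_one]
        exact ⟨rfl, rfl⟩
      mul_mem' := fun {z z'} hz hz' a c hc => by
        change ch hp (wa hp (z.1 * z'.1) c) (f (z.2.1 (z'.2.1 a))) = _ ∧
          ch hp (wa hp (z.1 * z'.1) c) (g (z.2.2 (z'.2.2 a))) = _
        rw [wa_mul]
        exact ⟨(hz _ _ (hc.wa' _)).1.trans (hz' a c hc).1, (hz _ _ (hc.wa' _)).2.trans (hz' a c hc).2⟩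
      inv_mem' := fun {z} hz a c hc => by
        have h1 := (hz (z.2.1⁻¹ a) _ (hc.wa' z.1⁻¹)).1
        have h2 := (hz (z.2.2⁻¹ a) _ (hc.wa' z.1⁻¹)).2
        rw [wa_wa_inv, MulAut.apply_inv_self] at h1 h2
        exact ⟨h1.symm, h2.symm⟩ }
  have h1 : Nat.card Γ ∣ Nat.card M.Group := by
    refine card_dvd_of_injective ((MonoidHom.fst _ _).comp Γ.subtype) ((injective_iff_map_eq_one _).2 ?_)
    rintro ⟨⟨w, ρ, ρ'⟩, hz⟩ h
    obtain rfl : w = 1 := h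
    have h2 : ρ = 1 := MulEquiv.ext fun a => hf (chi_sep (hp := hp) (hfT _) (hfT _) fun c hc => by
      have h3 := (hz a c hc).1
      rwa [wa_one] at h3)
    have h3 : ρ' = 1 := MulEquiv.ext fun a => hg (chi_sep (hp := hp) (hgT _) (hgT _) fun c hc => by
      have h3 := (hz a c hc).2
      rwa [wa_one] at h3)
    subst h2 h3
    rfl
  obtain ⟨v, hv⟩ := exists_w hp (ι := A ⊕ A) (s := Sum.elim f g) (t := Sum.elim (fun a => f (σ a)) g)
    (by rintro (a | a); exacts [hfT a, hgT a]) (by rintro (a | a); exacts [hfT _, hgT a]) (c := x)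
    (by rintro (a | a); exacts [hx a, hx' a])
  obtain ⟨w, hw⟩ := exists_w hp (ι := A ⊕ A) (s := Sum.elim f g) (t := Sum.elim f fun a => g (σ a))
    (by rintro (a | a); exacts [hfT a, hgT a]) (by rintro (a | a); exacts [hfT _, hgT _]) (c := y)
    (by rintro (a | a); exacts [hy a, hy' a])
  have h2 : (zpowers σ).prod (zpowers σ) ≤ Γ.map (MonoidHom.snd _ _) := by
    refine prod_le_iff.2 ⟨?_, ?_⟩
    · rw [map_le_iff_le_comap, zpowers_le]
      exact ⟨(v, σ, 1), fun a c hc => ⟨hv (Sum.inl a) c hc, hv (Sum.inr a) c hc⟩, rfl⟩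
    · rw [map_le_iff_le_comap, zpowers_le]
      exact ⟨(w, 1, σ), fun a c hc => ⟨hw (Sum.inl a) c hc, hw (Sum.inr a) c hc⟩, rfl⟩
  have h3 := card_dvd_of_le h2
  rw [Nat.card_congr (prodEquiv _ _).toEquiv, Nat.card_prod, Nat.card_zpowers, ← sq] at h3
  exact h3.trans ((card_map_dvd _ _).trans h1)

end Cfsg.Agent.Cam.Ex.Ub
end

-- part: Cam/Ex/U4
section
/-!
# Exceptional rows: `BoxU` (helper53)

An abelian `r`-subgroup of `U` has an induced automorphism of prime order `l`; `l ≥ 5` is excluded by the order of the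
Weyl group, `l = 3` by the types (`no_three`), and `l = 2` gives a real element.
-/

set_option autoImplicit false
set_option linter.unusedVariables false
set_option linter.unusedSectionVars false

namespace Cfsg.Agent.Cam.Ex.Ub

open CoxeterSystem Cfsg Cfsg.Lie Subgroup
open Cfsg.Agent.ChevalleyStructure.CoxeterGeom Cfsg.Agent.ChevalleyStructure.CoxeterGeomTypes
open Cfsg.Agent.Tits.Roots Cfsg.Agent.Nodes.BNOf Cfsg.Agent.Nodes.RGDChev Cfsg.Agent.Nodes.Coroot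
open Cfsg.Agent.KFacts.RgdChevCoord Cfsg.Agent.BpExc.TorCent Cfsg.Agent.BpExc.SubBN
open Cfsg.Agent.Cam.Spor Cfsg.Agent.TwoFusion.PerfCore
open Cfsg.Agent.DS.Nt (RP)
open Cfsg.Agent.H428.OT.Lin
open Cfsg.Agent.Cam.Ex.SL3
open Cfsg.Agent.Cam.Ex.Cb (Dt Tab V al tchk pats gt)
open Cfsg.Agent.Cam.Ex.Cb.Ub
open scoped commutatorElement

variable {D : ChevalleyDatum} {l : ℕ} {M : CoxeterMatrix (Fin l)} {hp : IsType D l M} {p : ℕ} [Fact p.Prime]

/-! ### cyclic monomial matrices -/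

section lin

variable {k : Type} [Field k] {τ : Equiv.Perm (Fin 3)} {δ : Fin 3 → k} (hδ : ∀ i, δ i ≠ 0)

theorem rel_of {g : S3 k} (h : cjS (mono τ δ hδ) g = g) (i j : Fin 3) :
    δ i * (g : M3 k) i j = (g : M3 k) (τ i) (τ j) * δ j := by
  have h1 : (mono τ δ hδ : M3 k) * (g : M3 k) = (g : M3 k) * (mono τ δ hδ : M3 k) := by
    conv_rhs => rw [← h, coe_cjS, mul_assoc, gl_inv_mul, mul_one]
  have h2 := congrFun (congrFun h1 (τ i)) j
  rw [Matrix.mul_apply, Matrix.mul_apply, Finset.sum_eq_single i, Finset.sum_eq_single (τ j), mono_coe, mono_coe,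
    if_pos rfl, if_pos rfl] at h2
  · exact h2
  · intro m _ hm
    rw [mono_coe, if_neg hm, mul_zero]
  · exact fun h => absurd (Finset.mem_univ _) h
  · intro m _ hm
    rw [mono_coe, if_neg fun e => hm (τ.injective e).symm, zero_mul]
  · exact fun h => absurd (Finset.mem_univ _) h

theorem entries {g : S3 k} (h : cjS (mono τ δ hδ) g = g) {i j m : Fin 3} (hi : τ i = j) (hj : τ j = m) (hm : τ m = i) :
    (g : M3 k) j j = (g : M3 k) i i ∧ (g : M3 k) m m = (g : M3 k) i i ∧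
    (g : M3 k) j m = δ i * (g : M3 k) i j / δ j ∧ (g : M3 k) m i = δ i * (g : M3 k) i j / δ m ∧
    (g : M3 k) j i = δ i * (g : M3 k) i m / δ m ∧ (g : M3 k) m j = δ j * (g : M3 k) i m / δ m := by
  have r1 := rel_of hδ h i i
  have r2 := rel_of hδ h m m
  have r3 := rel_of hδ h i j
  have r4 := rel_of hδ h j m
  have r5 := rel_of hδ h i m
  have r6 := rel_of hδ h m j
  simp only [hi, hj, hm] at r1 r2 r3 r4 r5 r6
  refine ⟨mul_right_cancel₀ (hδ i) (by linear_combination -r1), mul_left_cancel₀ (hδ m) (by linear_combination r2),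
    (eq_div_iff (hδ j)).2 r3.symm, (eq_div_iff (hδ m)).2 (by linear_combination -r3 - r4),
    (eq_div_iff (hδ m)).2 r5.symm, (eq_div_iff (hδ m)).2 (by linear_combination r6)⟩

theorem cyc_comm (hτ : ∀ i, τ i ≠ i) {g g' : S3 k} (h : cjS (mono τ δ hδ) g = g) (h' : cjS (mono τ δ hδ) g' = g') :
    g * g' = g' * g := by
  obtain ⟨i, j, m, hi, hj, hm, hij, hjm, him⟩ : ∃ i j m, τ i = j ∧ τ j = m ∧ τ m = i ∧ i ≠ j ∧ j ≠ m ∧ i ≠ m :=
    ⟨0, _, _, rfl, rfl, ((cyc3 τ hτ).2 0).2, (hτ _).symm, (hτ _).symm, ((cyc3 τ hτ).2 0).1⟩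
  obtain ⟨e1, e2, e3, e4, e5, e6⟩ := entries hδ h hi hj hm
  obtain ⟨f1, f2, f3, f4, f5, f6⟩ := entries hδ h' hi hj hm
  have := hδ i
  have := hδ j
  have := hδ m
  apply slext
  rw [cmul, cmul]
  ext a b
  rcases cov3 i j m hij hjm him a with rfl | rfl | rfl <;> rcases cov3 _ _ _ hij hjm him b with rfl | rfl | rfl <;>
    simp only [Matrix.mul_apply, sum3 _ hij hjm him, e1, e2, e3, e4, e5, e6, f1, f2, f3, f4, f5, f6] <;>
    field_simp <;> ring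

end lin

/-! ### the `A₂` factor -/

section a2

variable {c c' : Lat l} (h : P2 hp c c') {π : S3 (kb p) →* YY D p} {s : Fin 3 → Fin 3 → ℤ} (P : Pi3 hp c c' π s)

include h P

theorem comm_orth (h4 : ∀ i j, M i j ≠ 4) (h6 : ∀ i j, M i j ≠ 6) {S : Set (Lat l)}
    (hS : ∀ a ∈ S, Rt hp a ∧ cp hp a c = 0 ∧ cp hp a c' = 0) {m : YY D p} (hm : m ∈ MS D l p S) (X : S3 (kb p)) :
    m * π X = π X * m := by
  have := finite_WW hp
  have h1 : MS D l p S ≤ centralizer {π X} := by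
    refine RGD.Sup_le fun a ha x hx => ?_
    obtain ⟨h0, h2, h3⟩ := hS a ha
    have h5 : π X ∈ centralizer {x} := by
      refine h.pi_mem P (fun b hb y hy => ?_) X
      obtain ⟨i, j, hij, rfl⟩ := mem_A2s.1 hb
      obtain ⟨h7, h8⟩ := h.right hij a
      have h9 : cp hp a (ev c c' i - ev c c' j) = 0 := by
        have h10 : ∀ m, Bv hp c c' a m = 0 := fun m => by
          unfold Bv
          rw [h2, h3]
          fin_cases m <;> rfl
        rw [h8, h10, h10, sub_zero]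
      have h11 := DS.Ex.Tor.commZ hp p _ a h7 h0 (fun e => by
          rw [e, cp_self h0] at h9
          omega) (fun e => by
          rw [e, cp_neg_right _ h0, cp_self h0] at h9
          omega) y hy x hx
      have h12 : RGD.Sup (XX D l (kb p)) {z | BpExc.Zc.ZB M.toCoxeterSystem hp.isCartan (ev c c' i - ev c c' j) a z} ≤
          ⊥ := RGD.Sup_le fun z hz => absurd hz (DS.Ex.TorCE.not_ZB h4 h6 h7 h0 h9 z)
      rw [mem_centralizer_singleton_iff]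
      exact commutatorElement_eq_one_iff_mul_comm.1 (mem_bot.1 (h12 h11))
    exact mem_centralizer_singleton_iff.2 (mem_centralizer_singleton_iff.1 h5).symm
  exact mem_centralizer_singleton_iff.1 (h1 hm)

theorem act_mono {w : M.Group} {k : YY D p} (hk : RP hp p w k) {τ : Equiv.Perm (Fin 3)}
    (hτ : ∀ i j, wa hp w (ev c c' i - ev c c' j) = ev c c' (τ i) - ev c c' (τ j)) :
    ∃ (δ : Fin 3 → kb p) (hδ : ∀ i, δ i ≠ 0), ∀ X, k * π X * k⁻¹ = π (cjS (mono τ δ hδ) X) := by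
  have h3 : ∀ i j : Fin 3, ∃ κ : kb p, i ≠ j → κ ≠ 0 ∧ ∀ u, k * xc hp (ev c c' i - ev c c' j) u * k⁻¹ =
      xc hp (ev c c' (τ i) - ev c c' (τ j)) (κ * u) := by
    intro i j
    by_cases hij : i = j
    · exact ⟨1, fun h => absurd hij h⟩
    · obtain ⟨κ, h4, h5⟩ := rp_xc hk (h.right hij 0).1
      exact ⟨κ, fun _ => ⟨h4, fun u => by rw [h5, hτ]⟩⟩
  choose κ hκ using h3
  exact exists_mono (φ := (MulAut.conj k).toMonoidHom.comp π) P.ker τ (fun i j => s (τ i) (τ j) * (κ i j * s i j))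
    (fun i j hij => mul_ne_zero (P.ne (τ.injective.ne hij)) (mul_ne_zero (hκ i j hij).1 (P.ne hij)))
    fun i j hij u => by
      show k * π (tv hij u) * k⁻¹ = _
      rw [P.tv, (hκ i j hij).2, P.xc_eq (τ.injective.ne hij)]
      simp only [mul_assoc]

omit P in
/-- a perfect group centralizing a representative of a rotation centralizes the factor -/
theorem cen_a2 (hG : D ≠ chevG2) (h4 : ∀ i j, M i j ≠ 4) (h6 : ∀ i j, M i j ≠ 6) {S S' : Set (Lat l)}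
    (hS : ∀ a ∈ S, Rt hp a) (hc : ∀ a ∈ S, a ∈ A2s c c' ∨ (cp hp a c = 0 ∧ cp hp a c' = 0))
    (hS' : ∀ a ∈ S', Rt hp a ∧ cp hp a c = 0 ∧ cp hp a c' = 0) {J : Subgroup (YY D p)} (hJ : ⁅J, J⁆ = J)
    (hJS : J ≤ MS D l p S) {m k : YY D p} (hm : m ∈ MS D l p S') {w : M.Group} (hk : RP hp p w k)
    {τ : Equiv.Perm (Fin 3)} (h0 : ∀ i, τ i ≠ i)
    (hτ : ∀ i j, wa hp w (ev c c' i - ev c c' j) = ev c c' (τ i) - ev c c' (τ j))
    (hn : ∀ r ∈ J, m * k * r = r * (m * k)) {a : Lat l} (ha : a ∈ A2s c c') {y : YY D p} (hy : y ∈ XR D l p a)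
    {r : YY D p} (hr : r ∈ J) : r * y = y * r := by
  obtain ⟨π, s, P⟩ := h.exists_pi p hG
  obtain ⟨δ, hδ, h1⟩ := act_mono h P hk hτ
  have h2 : ∀ r ∈ J, ∃ g, Ac π g r := fun r hr => h.exists_ac P h4 h6 hS hc (hJS hr)
  have h3 := fix_der P.ker (σ := (MulAut.conj (m * k)).toMonoidHom) (J := J) (cjS_surj (mono τ δ hδ)) (fun X => by
    show m * k * π X * (m * k)⁻¹ = _
    rw [show m * k * π X * (m * k)⁻¹ = m * (k * π X * k⁻¹) * m⁻¹ by group, h1, comm_orth h P h4 h6 hS' hm,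
      mul_inv_cancel_right]) fun r hr => by
    show m * k * r * (m * k)⁻¹ = r
    rw [hn r hr, mul_inv_cancel_right]
  have h5 : ⁅Hat π J, Hat π J⁆ ≤ ⊥ := (perf_der P.ker hJ.ge h2).trans (commutator_le.2 fun g hg g' hg' =>
    mem_bot.2 (commutatorElement_eq_one_iff_mul_comm.2 (cyc_comm hδ h0 (h3 g hg) (h3 g' hg'))))
  obtain ⟨g, hg, h7⟩ := rep_der hJ.ge h2 r hr
  obtain ⟨X, rfl⟩ := h.mem_range P ha hy
  have h8 := h7 X
  rw [mem_bot.1 (h5 hg), one_mul, inv_one, mul_one, eq_mul_inv_iff_mul_eq] at h8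
  exact h8.symm

end a2

/-! ### the lattice part -/

theorem lat_cases (hp : IsType D l M) (hl : l ≤ 7) (hB2 : D ≠ chevB2) {K : Type} [Field K] (h2 : (2 : K) ≠ 0)
    (h3 : (3 : K) ≠ 0) {A B : Lat l →+ K} {v w : M.Group} {e : K} (he : e ^ 2 + e + 1 = 0) (hA : Eig hp v A e)
    (hX : Eig hp v (A + B) e) (hT : ∀ d : Dt, Tab hp d → ∀ WT : List (V × List ℕ × V),
      al (fun P => tchk l d WT 0 P && tchk l d WT 1 P) (pats [0, 1] l) = true → (∀ t ∈ WT, ∀ i : Fin l, 0 ≤ gt t.2.2 i) →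
      Ty hp WT A ∧ Ty hp WT (A + B)) (hw : w ∈ WW hp (Psi hp A)) (hB : Eig hp w B e) (h0 : B ≠ 0) :
    (D ≠ chevG2 ∧ (∀ i j, M i j ≠ 4) ∧ (∀ i j, M i j ≠ 6) ∧ 4 ≤ l) ∧
    ∃ c c', T7 hp (A + B) c c' ∧ (∀ a ∈ A2s c c', A a ≠ 0) ∧ ∃ τ : Equiv.Perm (Fin 3), (∀ i, τ i ≠ i) ∧
      ∀ i j, wa hp v (ev c c' i - ev c c' j) = ev c c' (τ i) - ev c c' (τ j) := by
  have hp' := hp
  simp only [IsType, typeList, List.mem_cons, List.not_mem_nil, or_false, Prod.mk.injEq] at hp'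
  rcases hp' with ⟨rfl, h⟩ | ⟨rfl, h⟩ | ⟨rfl, h⟩ | ⟨rfl, h⟩ | ⟨rfl, h⟩ | ⟨rfl, h⟩ | ⟨rfl, h⟩
  · cases h
    exact absurd (hT _ Cb.tabG2 _ Cb.tyG2 (by decide +kernel)).1 noG2
  · exact absurd rfl hB2
  · cases h
    exact absurd (hT _ Cb.tabD4 _ Cb.tyD4 (by decide +kernel)).1 (noD4 h2 h3 hA he)
  · cases h
    exact absurd (hT _ Cb.tabF4 _ Cb.tyF4 (by decide +kernel)).1 (noF4 h2 h3 hA he)
  · cases h
    obtain ⟨t1, t2⟩ := hT _ Cb.tabE6 _ Cb.tyE6 (by decide +kernel)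
    exact (noE6 h2 h3 he hA hX t1 t2 hw hB h0).elim
  · cases h
    obtain ⟨t1, t2⟩ := hT _ Cb.tabE7 _ Cb.tyE7 (by decide +kernel)
    obtain ⟨h4, h6, -⟩ := DS.Ex.TorCE.typE_facts tE7 (Or.inr (Or.inl rfl))
    exact ⟨⟨fun e => absurd (congrArg ChevalleyDatum.rank e) (by decide), h4, h6, by norm_num⟩,
      e7_lat h2 h3 he hA hX t1 t2 hw hB h0⟩
  · cases h
    omega

/-! ### eigenvectors -/

section fn

variable {r : ℕ} [hr : Fact r.Prime]

/-- `X - ω Y` -/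
noncomputable def fn (ω : kb r) (X Y : Lat l →+ ZMod r) : Lat l →+ kb r :=
  AddMonoidHom.mk' (fun a => algebraMap (ZMod r) (kb r) (X a) - ω * algebraMap (ZMod r) (kb r) (Y a)) fun a b => by
    rw [map_add, map_add, map_add, map_add]
    ring

theorem fn_apply (ω : kb r) (X Y : Lat l →+ ZMod r) (a : Lat l) :
    fn ω X Y a = algebraMap (ZMod r) (kb r) (X a) - ω * algebraMap (ZMod r) (kb r) (Y a) := rfl

theorem fn_add (ω : kb r) (X Y X' Y' : Lat l →+ ZMod r) : fn ω X Y + fn ω X' Y' = fn ω (X + X') (Y + Y') :=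
  AddMonoidHom.ext fun a => by
    rw [AddMonoidHom.add_apply, fn_apply, fn_apply, fn_apply, AddMonoidHom.add_apply, AddMonoidHom.add_apply, map_add,
      map_add]
    ring

/-- `ω` is not in the prime field, or `y` is the corresponding power of `x` -/
def Gd (ω : kb r) {U : Type} [Group U] (x y : U) : Prop :=
  (∀ a b : ZMod r, algebraMap (ZMod r) (kb r) a = ω * algebraMap (ZMod r) (kb r) b → a = 0 ∧ b = 0) ∨
    ∃ k : ℕ, y = x ^ k ∧ (k : kb r) = ω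

theorem Gd.map {ω : kb r} {U U' : Type} [Group U] [Group U'] {x y : U} (h : Gd ω x y) (f : U →* U') :
    Gd ω (f x) (f y) := h.imp id fun ⟨k, h1, h2⟩ => ⟨k, by rw [h1, map_pow], h2⟩

theorem kb_ne (h5 : 5 ≤ r) : (2 : kb r) ≠ 0 ∧ (3 : kb r) ≠ 0 := by
  have h : ∀ n : ℕ, 0 < n → n ≤ 3 → (n : kb r) ≠ 0 := fun n h1 h2 h3 => by
    have := Nat.le_of_dvd h1 ((CharP.cast_eq_zero_iff (kb r) r n).1 h3)
    omega
  exact ⟨by exact_mod_cast h 2 (by norm_num) (by norm_num), by exact_mod_cast h 3 (by norm_num) le_rfl⟩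

theorem exists_gd (h5 : 5 ≤ r) {A : Type} [CommGroup A] (σ : MulAut A) {u : A} (hu : orderOf u = r)
    (hn : u * σ u * σ (σ u) = 1) : ∃ (ω : kb r) (x : A), ω ^ 2 + ω + 1 = 0 ∧ orderOf x = r ∧
      x * σ x * σ (σ x) = 1 ∧ Gd ω x (σ x) := by
  obtain ⟨ω, hω⟩ := exists_zeta r (m := 3) ((Nat.coprime_primes Nat.prime_three hr.out).2 (by omega))
  have h1 : ω ^ 2 + ω + 1 = 0 := by
    have := hω.geom_sum_eq_zero (by norm_num)
    simp only [Finset.sum_range_succ, Finset.sum_range_zero] at this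
    linear_combination this
  by_cases h : ∀ a b : ZMod r, algebraMap (ZMod r) (kb r) a = ω * algebraMap (ZMod r) (kb r) b → a = 0 ∧ b = 0
  · exact ⟨ω, u, h1, hu, hn, Or.inl h⟩
  obtain ⟨k, hk⟩ : ∃ k : ℕ, (k : kb r) = ω := by
    push Not at h
    obtain ⟨a, b, h2, h3⟩ := h
    have h4 : b ≠ 0 := fun e => h3 (by
      rw [e, map_zero, mul_zero] at h2
      exact (map_eq_zero _).1 h2) e
    refine ⟨(a / b).val, ?_⟩
    rw [← map_natCast (algebraMap (ZMod r) (kb r)), ZMod.natCast_zmod_val, map_div₀, h2,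
      mul_div_cancel_right₀ _ ((map_ne_zero _).2 h4)]
  have h2 : ∀ x : A, x ^ r = 1 → x ^ (k ^ 2 + k + 1) = 1 := by
    intro x hx
    obtain ⟨m, hm⟩ := (CharP.cast_eq_zero_iff (kb r) r (k ^ 2 + k + 1)).1 (by push_cast; rw [hk, h1])
    rw [hm, pow_mul, hx, one_pow]
  have h3 : u ^ r = 1 := by rw [← hu, pow_orderOf_eq_one]
  have h4 : σ u ^ r = 1 := by rw [← map_pow, h3, map_one]
  by_cases h6 : σ u * (u ^ k ^ 2)⁻¹ = 1
  · refine ⟨ω ^ 2, u, by linear_combination (ω ^ 2 - ω + 1) * h1, hu, hn, Or.inr ⟨k ^ 2, mul_inv_eq_one.1 h6, ?_⟩⟩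
    rw [Nat.cast_pow, hk]
  have h7 : (σ u * (u ^ k ^ 2)⁻¹) ^ r = 1 := by
    rw [mul_pow, h4, inv_pow, ← pow_mul, mul_comm (k ^ 2), pow_mul, h3, one_pow, inv_one, mul_one]
  have h8 : σ (σ u * (u ^ k ^ 2)⁻¹) = (σ u * (u ^ k ^ 2)⁻¹) ^ k := by
    have e1 : (u ^ k ^ 2) ^ k = u := by
      have e : (u ^ k ^ 2) ^ k * u ^ (k ^ 2 + k + 1) = (u ^ (k ^ 2 + k + 1)) ^ k * u := by
        rw [← pow_mul, ← pow_mul, ← pow_add, ← pow_succ u ((k ^ 2 + k + 1) * k)]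
        congr 1
        ring
      rwa [h2 u h3, one_pow, mul_one, one_mul] at e
    have e2 := h2 _ h4
    rw [pow_succ, pow_add, mul_assoc] at e2
    rw [map_mul, map_inv, map_pow, mul_pow, inv_pow, e1, eq_inv_of_mul_eq_one_right hn, eq_inv_of_mul_eq_one_left e2,
      inv_inv, mul_inv_rev, mul_comm, mul_assoc, mul_inv_cancel_left]
  refine ⟨ω, _, h1, orderOf_eq_prime h7 h6, ?_, Or.inr ⟨k, h8, hk⟩⟩
  rw [h8, map_pow, h8, ← h2 _ h7, ← pow_succ', ← pow_mul, ← pow_add]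
  congr 1
  ring

variable {ζ : kb p} (hζ : IsPrimitiveRoot ζ r) {s t : YY D p} {X Y : Lat l →+ ZMod r} (hX : Chi hp ζ s X)
  (hY : Chi hp ζ t Y) {ω : kb r}

include hζ hX hY

theorem psiS_pair : PsiS hp {s, t} = Psi hp (X.prod Y) := by
  ext a
  constructor
  · rintro ⟨ha, h⟩
    exact ⟨ha, Prod.ext ((zeta_eq_one hζ).1 ((hX.2 a ha).symm.trans (h s (Or.inl rfl))))
      ((zeta_eq_one hζ).1 ((hY.2 a ha).symm.trans (h t (Or.inr rfl))))⟩
  · rintro ⟨ha, h⟩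
    refine ⟨ha, ?_⟩
    rintro _ (rfl | rfl)
    · exact (hX.2 a ha).trans ((zeta_eq_one hζ).2 (congrArg Prod.fst h))
    · exact (hY.2 a ha).trans ((zeta_eq_one hζ).2 (congrArg Prod.snd h))

theorem fn_zero (h5 : 5 ≤ r) (hω : ω ^ 2 + ω + 1 = 0) (gd : Gd ω s t) (a : Lat l) :
    fn ω X Y a = 0 ↔ X.prod Y a = 0 := by
  rw [fn_apply, sub_eq_zero]
  constructor
  · intro h
    rcases gd with h1 | ⟨k, h1, h2⟩
    · exact Prod.ext (h1 _ _ h).1 (h1 _ _ h).2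
    · have h3 : Y a = k * X a := by
        rw [hY.unique hζ (h1 ▸ Five2.chi_pow hζ hX k), AddMonoidHom.nsmul_apply, nsmul_eq_mul]
      rw [h3, map_mul, map_natCast, h2] at h
      have h4 : X a = 0 := (map_eq_zero (algebraMap (ZMod r) (kb r))).1 ((mul_eq_zero.1 (by
        linear_combination -h)).resolve_left (mul_ne_zero (ne_one (kb_ne h5).2 hω) (ne_neg_one hω)))
      exact Prod.ext h4 (h3.trans (by rw [h4, mul_zero]; rfl))
  · intro h
    rw [show X a = 0 from congrArg Prod.fst h, show Y a = 0 from congrArg Prod.snd h, map_zero, mul_zero]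

theorem psiS_fn (h5 : 5 ≤ r) (hω : ω ^ 2 + ω + 1 = 0) (gd : Gd ω s t) : PsiS hp {s, t} = Psi hp (fn ω X Y) := by
  rw [psiS_pair hζ hX hY]
  exact Set.ext fun a => and_congr_right fun _ => (fn_zero hζ hX hY h5 hω gd a).symm

theorem eig_of (hω : ω ^ 2 + ω + 1 = 0) {w : M.Group} (h1 : ∀ a, Rt hp a → ch hp (wa hp w a) t = ch hp a s)
    (h2 : ∀ a, Rt hp a → ch hp (wa hp w a) (s * t)⁻¹ = ch hp a t) : Eig hp w (fn ω X Y) (ω ^ 2) := by
  intro a
  have e1 := hX.of_conj hζ hY h1 a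
  have e2 := hY.of_conj hζ ((hX.mul hζ hY).inv hζ) h2 a
  rw [AddMonoidHom.neg_apply, AddMonoidHom.add_apply, e1] at e2
  rw [fn_apply, fn_apply, e1, show X (wa hp w a) = -X a - Y a by linear_combination -e2, map_sub, map_neg]
  linear_combination (-algebraMap (ZMod r) (kb r) (X a) + (ω - 1) * algebraMap (ZMod r) (kb r) (Y a)) * hω

theorem ty_of (h5 : 5 ≤ r) (hω : ω ^ 2 + ω + 1 = 0) (gd : Gd ω s t) (hs : s ≠ 1) (hK : K1 hp p (PsiS hp {s, t}))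
    {d : Dt} (hT : Tab hp d) {WT : List (V × List ℕ × V)}
    (hc : al (fun P => tchk l d WT 0 P && tchk l d WT 1 P) (pats [0, 1] l) = true)
    (h01 : ∀ t ∈ WT, ∀ i : Fin l, 0 ≤ gt t.2.2 i) : Ty hp WT (fn ω X Y) := by
  rw [psiS_pair hζ hX hY] at hK
  exact (types_pair hT hc h01 hr.out h5 (hX.ne_zero hζ boxChi hs) hK).of (fn_zero hζ hX hY h5 hω gd)

end fn

variable {d : ℕ} {g0 : Lat l ≃+ Lat l} {L : Type} [Group L] [Finite L] {U : Type} [Group U] [Finite U]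
  {τ α β : U →* L} {R R' : Subgroup L}

/-- **No automorphism of order three.** -/
theorem no_three (bp : BoxP) (hl : l ≤ 7) (hB2 : D ≠ chevB2) (E : Frame hp p d g0 L) (c : Core τ α β R R') {r : ℕ}
    [hr : Fact r.Prime] (h5 : 5 ≤ r) (hne : r ≠ p) {ω : kb r} (hω : ω ^ 2 + ω + 1 = 0) {x y v : U} (hx : orderOf x = r)
    (h1 : v * x * v⁻¹ = y) (h2 : v * y * v⁻¹ = (x * y)⁻¹) (gd : Gd ω x y) (ax : E.ι (α x) ∈ TT D (kb p))
    (ay : E.ι (α y) ∈ TT D (kb p)) (bx : E.ι (β x) ∈ TT D (kb p)) (by' : E.ι (β y) ∈ TT D (kb p)) : False := by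
  obtain ⟨ζ, hζ⟩ := exists_zeta p ((Nat.coprime_primes hr.out Fact.out).2 hne)
  obtain ⟨k2, k3⟩ := kb_ne h5
  have hxr : x ^ r = 1 := by rw [← hx, pow_orderOf_eq_one]
  have hyr : y ^ r = 1 := by rw [← h1, conj_pow, hxr, mul_one, mul_inv_cancel]
  have hpw : ∀ (f : U →* L) {u : U}, u ^ r = 1 → E.ι (f u) ^ r = 1 := fun f u hu => by
    rw [← map_pow, ← map_pow, hu, map_one, map_one]
  have hne1 : ∀ f : U →* L, Function.Injective f → E.ι (f x) ≠ 1 := fun f hf e => by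
    have h3 : x = 1 := hf (E.inj (by rw [e, map_one, map_one]))
    rw [h3, orderOf_one] at hx
    omega
  obtain ⟨A₁, hA₁⟩ := chi_ex hp hζ hr.out.pos ax (hpw α hxr)
  obtain ⟨A₂, hA₂⟩ := chi_ex hp hζ hr.out.pos ay (hpw α hyr)
  obtain ⟨B₁, hB₁⟩ := chi_ex hp hζ hr.out.pos bx (hpw β hxr)
  obtain ⟨B₂, hB₂⟩ := chi_ex hp hζ hr.out.pos by' (hpw β hyr)
  have hX₁ : Chi hp ζ (E.ι (τ x)) (A₁ + B₁) := by
    rw [c.eq x, map_mul]
    exact hA₁.mul hζ hB₁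
  have hX₂ : Chi hp ζ (E.ι (τ y)) (A₂ + B₂) := by
    rw [c.eq y, map_mul]
    exact hA₂.mul hζ hB₂
  have gA : Gd ω (E.ι (α x)) (E.ι (α y)) := (gd.map α).map E.ι
  have gB : Gd ω (E.ι (β x)) (E.ι (β y)) := (gd.map β).map E.ι
  have gX : Gd ω (E.ι (τ x)) (E.ι (τ y)) := (gd.map τ).map E.ι
  have he : (ω ^ 2) ^ 2 + ω ^ 2 + 1 = 0 := by linear_combination (ω ^ 2 - ω + 1) * hω
  have hcj : ∀ {n : L} {f : U →* L}, (∀ u, n * f u * n⁻¹ = f (v * u * v⁻¹)) →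
      E.ι n * E.ι (f x) * (E.ι n)⁻¹ = E.ι (f y) ∧ E.ι n * E.ι (f y) * (E.ι n)⁻¹ = (E.ι (f x) * E.ι (f y))⁻¹ := by
    intro n f h
    constructor
    · rw [← map_inv, ← map_mul, ← map_mul, h, h1]
    · rw [← map_inv, ← map_mul, ← map_mul, h, h2, map_inv, map_inv, map_mul, map_mul]
  -- the element of `W` induced by `β v`
  obtain ⟨w, hw, h3⟩ := chi_conj hp (Q := {E.ι (α x), E.ι (α y)}) (by rintro _ (rfl | rfl); exacts [ax, ay])
    (y := E.ι (β v)) (mem_sup_left (chi_perf hp hr.out (by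
      rintro _ (rfl | rfl)
      exacts [⟨ax, 1, by rw [pow_one]; exact hpw α hxr⟩, ⟨ay, 1, by rw [pow_one]; exact hpw α hyr⟩])
      (range_perfect c.simple c.noncomm (E.ι.comp β)) (by
      rintro _ ⟨u, rfl⟩ _ (rfl | rfl) <;> exact (map_mul _ _ _).symm.trans ((congrArg _ (c.ab _ u)).trans (map_mul _ _ _)))
      ⟨v, rfl⟩))
  rw [psiS_fn hζ hA₁ hA₂ h5 hω gA] at hw
  obtain ⟨b1, b2⟩ := hcj (n := β v) (f := β) fun u => by rw [map_mul, map_mul, map_inv]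
  have hB : Eig hp w (fn ω B₁ B₂) (ω ^ 2) := eig_of hζ hB₁ hB₂ hω
    (by have := h3 _ bx (b1 ▸ by'); rwa [b1] at this)
    (by have := h3 _ by' (b2 ▸ inv_mem (mul_mem bx by')); rwa [b2] at this)
  have hB0 : fn ω B₁ B₂ ≠ 0 := fun h => hB₁.ne_zero hζ boxChi (hne1 β c.binj) (AddMonoidHom.ext fun a =>
    congrArg Prod.fst ((fn_zero hζ hB₁ hB₂ h5 hω gB a).1 (by rw [h]; rfl)))
  -- the element of `W` induced by `τ v`
  obtain ⟨x1, x2⟩ := hcj (n := τ v) (f := τ) fun u => by rw [map_mul, map_mul, map_inv]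
  obtain ⟨a1, a2⟩ := hcj (n := τ v) (f := α) fun u => c.conj_alpha u v
  have hs : ∀ i, ![E.ι (τ x), E.ι (τ y), E.ι (α x), E.ι (α y)] i ∈ TT D (kb p) := by
    intro i
    fin_cases i
    exacts [hX₁.1, hX₂.1, ax, ay]
  obtain ⟨m, hm, w', k, hk, hks, e⟩ := DS.Nt.form₂ hp hs
    (t := ![E.ι (τ y), (E.ι (τ x) * E.ι (τ y))⁻¹, E.ι (α y), (E.ι (α x) * E.ι (α y))⁻¹]) (c := E.ι (τ v)) (by
      intro i
      fin_cases i
      exacts [hX₂.1, inv_mem (mul_mem hX₁.1 hX₂.1), ay, inv_mem (mul_mem ax ay)]) (by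
      intro i
      fin_cases i
      exacts [mul_inv_eq_iff_eq_mul.1 x1, mul_inv_eq_iff_eq_mul.1 x2, mul_inv_eq_iff_eq_mul.1 a1,
        mul_inv_eq_iff_eq_mul.1 a2])
  have h4 := fun i a (ha : Rt hp a) => (congrArg (ch hp (wa hp w' a)) (mul_inv_eq_iff_eq_mul.2 (hks i))).symm.trans
    (ch_rp hk (hs i) ha)
  have hX : Eig hp w' (fn ω (A₁ + B₁) (A₂ + B₂)) (ω ^ 2) := eig_of hζ hX₁ hX₂ hω (h4 0) (h4 1)
  have hA : Eig hp w' (fn ω A₁ A₂) (ω ^ 2) := eig_of hζ hA₁ hA₂ hω (h4 2) (h4 3)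
  -- `K1`
  have kX : K1 hp p (PsiS hp {E.ι (τ x), E.ι (τ y)}) := by
    have h6 := bp.k1 D l M hp hl hB2 p d g0 L E U τ α β R R' c r hr.out h5 hne {x, y} (by
      rintro _ (rfl | rfl)
      exacts [⟨hxr, hX₁.1⟩, ⟨hyr, hX₂.1⟩])
    rwa [Set.image_pair] at h6
  have kA : K1 hp p (PsiS hp {E.ι (α x), E.ι (α y)}) := by
    obtain ⟨τ', α', β', Q, Q', ψ, c', -, hψ, -⟩ := Five2.exists_pair c
    have h6 := bp.k1 D l M hp hl hB2 p d g0 L E U τ' α' β' Q Q' c' r hr.out h5 hne {ψ x, ψ y} (by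
      rintro _ (rfl | rfl)
      · exact ⟨by rw [← map_pow, hxr, map_one], by rw [hψ]; exact ax⟩
      · exact ⟨by rw [← map_pow, hyr, map_one], by rw [hψ]; exact ay⟩)
    rwa [Set.image_pair, hψ, hψ] at h6
  rw [← fn_add] at hX
  obtain ⟨⟨hG, m4, m6, h4l⟩, γ, γ', T, hAγ, σ, hσ, hσ'⟩ := lat_cases hp hl hB2 k2 k3 he hA hX (fun d hT WT hc h01 =>
    ⟨ty_of hζ hA₁ hA₂ h5 hω gA (hne1 α c.pair'.inj) kA hT hc h01,
      fn_add ω A₁ A₂ B₁ B₂ ▸ ty_of hζ hX₁ hX₂ h5 hω gX (hne1 τ c.pair.inj) kX hT hc h01⟩) hw hB hB0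
  rw [fn_add] at T
  have pX := psiS_fn hζ hX₁ hX₂ h5 hω gX
  have hg : ∀ a, fn ω (A₁ + B₁) (A₂ + B₂) (E.g a) = (E.q : kb r) * fn ω (A₁ + B₁) (A₂ + B₂) a := fun a => by
    rw [fn_apply, fn_apply, hX₁.frob hζ boxChi E (E.fix _), hX₂.frob hζ boxChi E (E.fix _), map_mul, map_mul,
      map_natCast]
    ring
  refine bp.a2 D l M hp hl h4l p d g0 L E U τ α β R R' c γ γ' T.p2.r1 T.p2.r2 T.p2.c1 T.p2.c2
    (fun a ha => T.stab E.fr.root E.gcp hg ha) ?_ fun a ha z hz ρ hρ => ?_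
  · by_cases hq : 3 ≤ E.q
    · exact Or.inl hq
    have h6 : E.q = 2 := by have := E.two_le; omega
    obtain ⟨σ', h7⟩ := T.perm E.fr.root E.gcp hg (Or.inr (by rw [h6, Nat.cast_ofNat]))
    obtain ⟨u, hu, h8⟩ := exists_WW T.p2 σ'
    refine Or.inr ⟨u, hu, fun a ha => ?_⟩
    obtain ⟨i, j, -, rfl⟩ := mem_A2s.1 ha
    rw [h7, h8]
  · have hinv : ∀ {s t : YY D p} {a : Lat l}, Rt hp a → s ∈ TT D (kb p) → t ∈ TT D (kb p) → ch hp a t = 1 →
        ch hp a (s * t)⁻¹ = 1 → a ∈ PsiS hp {s, t} := by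
      intro s t a ha hs ht h6 h7
      rw [ch_inv ha (mul_mem hs ht), inv_eq_one, ch_mul ha hs ht, h6, mul_one] at h7
      refine ⟨ha, ?_⟩
      rintro _ (rfl | rfl)
      exacts [h7, h6]
    refine cen_a2 T.p2 hG m4 m6 (S := PsiS hp {E.ι (τ x), E.ι (τ y)}) (fun a ha => ha.1)
      (fun a ha => T.orth (pX ▸ ha)) (fun a ha => ⟨ha.1, ?_⟩) (map_perfect c.pair.perfect E.ι)
      (chi_perf hp hr.out ?_ (map_perfect c.pair.perfect E.ι) ?_) hm hk hσ hσ' ?_ ha hz ⟨ρ, hρ, rfl⟩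
    · refine (T.orth (pX ▸ hinv ha.1 hX₁.1 hX₂.1 (ha.2 _ ⟨0, rfl⟩) (ha.2 _ ⟨1, rfl⟩))).resolve_left fun h6 =>
        hAγ a h6 ?_
      have h7 := hinv ha.1 ax ay (ha.2 _ ⟨2, rfl⟩) (ha.2 _ ⟨3, rfl⟩)
      rw [psiS_fn hζ hA₁ hA₂ h5 hω gA] at h7
      exact h7.2
    · rintro _ (rfl | rfl)
      exacts [⟨hX₁.1, 1, by rw [pow_one]; exact hpw τ hxr⟩, ⟨hX₂.1, 1, by rw [pow_one]; exact hpw τ hyr⟩]
    · rintro _ ⟨u, hu, rfl⟩ _ (rfl | rfl) <;>
        exact (map_mul _ _ _).symm.trans ((congrArg _ (c.pair.comm _ u hu)).trans (map_mul _ _ _))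
    · rintro _ ⟨u, hu, rfl⟩
      rw [← e, ← map_mul, ← map_mul, c.pair.comm v u hu]

/-- **Real elements.** -/
theorem real (bp : BoxP) (hl : l ≤ 7) (hB2 : D ≠ chevB2) (E : Frame hp p d g0 L) (c : Core τ α β R R') {r : ℕ}
    (hr : r.Prime) (h5 : 5 ≤ r) (hne : r ≠ p) (hd : r ∣ Nat.card U) :
    ∃ u v : U, orderOf u = r ∧ v * u * v⁻¹ = u⁻¹ := by
  have : Fact r.Prime := ⟨hr⟩
  obtain ⟨A, hA, hab, v, σ, hσ, hv⟩ := exists_aut c.simple c.noncomm hr hd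
  have h1 : ∀ a ∈ α '' A ∪ β '' A, ∀ b ∈ α '' A ∪ β '' A, a * b = b * a := by
    rintro _ (⟨a, ha, rfl⟩ | ⟨a, ha, rfl⟩) _ (⟨b, hb, rfl⟩ | ⟨b, hb, rfl⟩)
    · rw [← map_mul, ← map_mul, hab a ha b hb]
    · exact c.ab a b
    · exact (c.ab b a).symm
    · rw [← map_mul, ← map_mul, hab a ha b hb]
  have h2 : ∀ (f : U →* L), ∀ a ∈ A, ∃ n : ℕ, f a ^ r ^ n = 1 := fun f a ha => by
    obtain ⟨n, hn⟩ := hA ⟨a, ha⟩
    exact ⟨n, by rw [← map_pow, show a ^ r ^ n = 1 from congrArg Subtype.val hn, map_one]⟩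
  obtain ⟨E', -, hE⟩ := E.exists_tor hl hr h5 hne (Q := _root_.Subgroup.closure (α '' A ∪ β '' A)) (DS.Nt.isPGroup_of_comm h1 (by
    rintro _ (⟨a, ha, rfl⟩ | ⟨a, ha, rfl⟩)
    exacts [h2 α a ha, h2 β a ha])) fun a ha b hb => by
    have := Subgroup.isMulCommutative_closure h1
    exact setLike_mul_comm ha hb
  have ha : ∀ a : A, E'.ι (α a) ∈ TT D (kb p) := fun a => hE _ (_root_.Subgroup.subset_closure (Or.inl ⟨a, a.2, rfl⟩))
  have hb : ∀ a : A, E'.ι (β a) ∈ TT D (kb p) := fun a => hE _ (_root_.Subgroup.subset_closure (Or.inr ⟨a, a.2, rfl⟩))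
  have h3 : ¬ 5 ≤ orderOf σ := fun h => (tors_all hp hl hσ h).1 (sq_dvd hp (f := E'.ι.comp (α.comp A.subtype))
    (g := E'.ι.comp (β.comp A.subtype)) (E'.inj.comp (c.pair'.inj.comp Subtype.val_injective))
    (E'.inj.comp (c.binj.comp Subtype.val_injective)) ha hb σ (x := E'.ι (α v)) (y := E'.ι (β v)) (fun a => by
      show _ * E'.ι (α a) * _ = E'.ι (α (σ a))
      rw [hv, map_mul, map_mul, map_mul, map_mul, map_inv, map_inv]) (fun a => by
      show _ * E'.ι (β a) * _ = E'.ι (β a)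
      rw [← map_mul, c.ab, map_mul, mul_inv_cancel_right]) (fun a => by
      show _ * E'.ι (α a) * _ = E'.ι (α a)
      rw [← map_mul, ← c.ab, map_mul, mul_inv_cancel_right]) fun a => by
      show _ * E'.ι (β a) * _ = E'.ι (β (σ a))
      rw [hv, map_mul, map_mul, map_mul, map_mul, map_inv, map_inv])
  let _ : CommGroup A := { (inferInstance : Group A) with mul_comm := fun a b => Subtype.ext (hab a a.2 b b.2) }
  obtain ⟨u, hu, hn⟩ := exists_norm hr hA (σ := σ) (m := orderOf σ) (fun e => by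
    rw [e, orderOf_one] at hσ
    exact Nat.not_prime_one hσ) (pow_orderOf_eq_one σ)
  have h4 : orderOf σ = 2 ∨ orderOf σ = 3 := by
    have h6 := hσ.two_le
    have h7 : orderOf σ ≠ 4 := fun e => by rw [e] at hσ; exact absurd hσ (by decide)
    omega
  rcases h4 with h4 | h4 <;> rw [h4] at hn <;>
    simp only [Finset.prod_range_succ, Finset.prod_range_zero, one_mul, pow_zero, pow_one, sq, MulAut.one_apply,
      MulAut.mul_apply] at hn
  · refine ⟨u, v, by rw [Subgroup.orderOf_coe, hu], ?_⟩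
    rw [← hv, eq_inv_of_mul_eq_one_right hn, Subgroup.coe_inv]
  · obtain ⟨ω, x, hω, hx, h6, gd⟩ := exists_gd h5 σ hu hn
    exact (no_three bp hl hB2 E' c h5 hne hω (x := x) (y := σ x) (v := v) (by rw [Subgroup.orderOf_coe, hx])
      (hv x).symm (by rw [← hv, eq_inv_of_mul_eq_one_right h6, Subgroup.coe_inv, Subgroup.coe_mul])
      (gd.map A.subtype) (ha _) (ha _) (hb _) (hb _)).elim

/-- **`BoxU`.** -/
theorem boxU (bp : BoxP) : BoxU where
  real D l M hp hl hB2 p _ d g0 L _ _ E U _ _ τ α β R R' c r hr h5 hne hd := real bp hl hB2 E c hr h5 hne hd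
  rank D l M hp hl p _ d g0 L _ _ E U _ _ _ hn f hf := by
    have := rank_le hp hn (E.ι.comp f) (E.inj.comp hf)
    omega

end Cfsg.Agent.Cam.Ex.Ub
end

private theorem dce_555a1e94ac53 : _root_.True := by
  try have : _root_.True := by simp only [_root_.Cfsg.Agent.Cam.Ex.P.Hm.eq_1]
  exact _root_.True.intro
end
end
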