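import Cfsg.Agent.Cam.Red.Count_m3
import Cfsg.Agent.Cam.Ex.CbP7a
import Cfsg.Agent.Cam.Ex.Basic
import Cfsg.Agent.H428.OT.Coc
import Mathlib.LinearAlgebra.CrossProduct
import Cfsg.Agent.Cam.Ex.Chi_m3
import Cfsg.Agent.H46.Gen.PairW
import Cfsg.Agent.H130.F4Graph
import Cfsg.Agent.FastGrp
import Cfsg.Agent.Prune
set_option linter.all false

section
prune_inst 0x7ffdbcfdffbcffffffff7e7faf9bdffdd99b7fffe6dff9cbffe069ff2bff6b888dc52bad0df012fe1ed6629490b87853fffeefffe86fdc7ffffdfff41ffbee1fb5e73508119884a40fbc2fff83e07f8a7f3fffffffffffffffffffffffffffbefffdffffffff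

-- part: Cam/Ex/CbP7b
section
set_option linter.all false

/-!
# The finite check: double cosets and certificates (helper12, generated by `tools/cam12/gen_data.py`)
-/

set_option autoImplicit false
set_option linter.unusedVariables false
set_option linter.style.longLine false
set_option maxRecDepth 100000

namespace Cfsg.Agent.Cam.Ex.Cb

open Cfsg Cfsg.Lie

/-- double cosets -/
def LE7_0000100 : List V := [
  ([0, 0, 0, 0, -1, 0, 0] : V), ([0, 0, 0, 0, 1, 0, 0] : V), ([0, 0, 0, 1, -3, 1, 2] : V), ([0, 0, 0, 1, -3, 3, 0] : V),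
  ([0, 0, 0, 1, -2, 0, 3] : V), ([0, 0, 0, 1, -1, 1, 0] : V), ([0, 0, 0, 2, -3, 0, 0] : V), ([0, 0, 0, 2, -3, 0, 2] : V),
  ([0, 0, 1, 0, -3, 3, 0] : V), ([0, 0, 1, 0, -2, 0, 1] : V), ([0, 0, 1, 0, -2, 0, 3] : V), ([0, 0, 1, 0, -2, 2, 1] : V),
  ([0, 0, 1, 1, -3, 0, 2] : V), ([0, 0, 1, 1, -3, 2, 0] : V), ([0, 0, 2, 0, -3, 2, 0] : V), ([0, 0, 2, 0, -1, 0, 0] : V),
  ([0, 1, 0, 0, -2, 0, 2] : V), ([0, 1, 0, 1, -2, 0, 2] : V), ([0, 1, 1, 0, -3, 1, 1] : V), ([0, 1, 1, 0, -3, 2, 1] : V),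
  ([0, 1, 1, 0, -1, 0, 1] : V), ([0, 1, 1, 1, -3, 0, 1] : V), ([0, 1, 2, 0, -2, 0, 0] : V), ([0, 2, 0, 0, -3, 2, 0] : V),
  ([0, 2, 0, 1, -3, 1, 0] : V), ([0, 2, 1, 0, -3, 1, 0] : V), ([0, 2, 1, 0, -2, 0, 1] : V), ([0, 3, 0, 0, -2, 0, 0] : V),
  ([1, 0, 0, 0, -1, 2, 0] : V), ([1, 0, 0, 1, -3, 1, 0] : V), ([1, 0, 0, 1, -3, 1, 2] : V), ([1, 0, 0, 1, -2, 1, 1] : V),
  ([1, 0, 0, 2, -3, 0, 0] : V), ([1, 0, 1, 0, -3, 2, 0] : V), ([1, 0, 1, 1, -3, 1, 0] : V), ([1, 1, 0, 0, -3, 2, 1] : V),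
  ([1, 1, 0, 0, -2, 1, 2] : V), ([1, 1, 0, 1, -3, 0, 1] : V), ([1, 1, 0, 1, -3, 1, 1] : V), ([1, 1, 1, 0, -3, 1, 1] : V),
  ([1, 1, 1, 0, -2, 1, 0] : V), ([1, 2, 0, 0, -3, 2, 0] : V), ([1, 2, 0, 0, -1, 0, 0] : V), ([2, 0, 0, 0, -1, 0, 2] : V),
  ([2, 0, 0, 1, -3, 1, 0] : V), ([2, 0, 0, 1, -2, 0, 1] : V), ([2, 0, 1, 0, -2, 0, 1] : V), ([2, 1, 0, 0, -2, 0, 0] : V),
  ([2, 1, 0, 0, -2, 0, 2] : V), ([3, 0, 0, 0, -1, 0, 0] : V)]

theorem pE7_0000100 : pchk 7 dE7 [0, 0, 0, 0, 1, 0, 0] [0, 0, 0, 0, 1, 0, 0] [0, 1, 2, 3, 5, 6] LE7_0000100 = true :=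
  pchk_of (by decide +kernel)

/-- certificates -/
def CE7_0000100_0 : List (V × Bool × List V) := [(([0, 1, 1, 1, -3, 0, 1] : V), true, [([1, 0, 2, 1, 0, 0, 0] : V)]),
  (([1, 0, 0, 1, -3, 1, 2] : V), true, [([0, -1, -1, -2, 0, 1, 0] : V)])]

/-- survivors -/
def SE7_0000100_0 : List V := [([0, 0, 0, 1, -1, 1, 0] : V), ([0, 0, 1, 0, -3, 3, 0] : V), ([0, 3, 0, 0, -2, 0, 0] : V), ([1, 1, 0, 0, -2, 1, 2] : V), ([1, 1, 1, 0, -3, 1, 1] : V)]

theorem kE7_0000100_0 : kchk 7 dE7 0 85766121000000 [0, 0, 0, 0, 1, 0, 0] [0, 0, 0, 0, 1, 0, 0] [] CE7_0000100_0 LE7_0000100 SE7_0000100_0 = true := by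
  decide +kernel

theorem eE7_0000100_0 : al (fun lam => an (endR dE7 0 85766121000000 (pl [0, 0, 0, 0, 1, 0, 0] lam) (mi [0, 0, 0, 0, 1, 0, 0] lam)) dE7.T) SE7_0000100_0 = true := by
  decide +kernel

/-- certificates -/
def CE7_0000100_7 : List (V × Bool × List V) := [(([0, 1, 1, 1, -3, 0, 1] : V), true, [([1, 0, 2, 1, 0, 0, 0] : V)]),
  (([1, 0, 0, 1, -3, 1, 2] : V), true, [([0, 6, 6, 5, 0, 1, 0] : V)])]

/-- survivors -/
def SE7_0000100_7 : List V := [([0, 0, 0, 1, -1, 1, 0] : V), ([0, 0, 1, 0, -3, 3, 0] : V), ([0, 3, 0, 0, -2, 0, 0] : V), ([1, 1, 0, 0, -2, 1, 2] : V), ([1, 1, 1, 0, -3, 1, 1] : V)]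

theorem kE7_0000100_7 : kchk 7 dE7 7 1 [0, 0, 0, 0, 1, 0, 0] [0, 0, 0, 0, 1, 0, 0] [] CE7_0000100_7 LE7_0000100 SE7_0000100_7 = true := by
  decide +kernel

theorem eE7_0000100_7 : al (fun lam => an (endR dE7 7 1 (pl [0, 0, 0, 0, 1, 0, 0] lam) (mi [0, 0, 0, 0, 1, 0, 0] lam)) dE7.T) SE7_0000100_7 = true := by
  decide +kernel

/-- certificates -/
def CE7_0000100_5 : List (V × Bool × List V) := [(([0, 0, 0, 1, -3, 3, 0] : V), true, [([0, 0, 0, 0, 1, 0, 0] : V)]),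
  (([0, 0, 1, 1, -3, 2, 0] : V), true, [([0, 0, 0, 0, 1, 0, 0] : V)]),
  (([0, 1, 1, 0, -3, 2, 1] : V), true, [([0, 0, 0, 1, 2, 1, 0] : V)]),
  (([0, 1, 1, 1, -3, 0, 1] : V), true, [([1, 0, 2, 1, 0, 0, 0] : V)]),
  (([0, 1, 2, 0, -2, 0, 0] : V), true, [([1, 0, 2, 1, 0, 0, 0] : V)]),
  (([0, 2, 0, 1, -3, 1, 0] : V), false, [([1, 1, 2, 3, 1, 0, 0] : V)]),
  (([0, 2, 1, 0, -2, 0, 1] : V), true, [([0, 0, 0, 1, 2, 1, 0] : V)]),
  (([1, 0, 0, 1, -3, 1, 2] : V), true, [([0, 4, 4, 3, 0, 1, 0] : V)]),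
  (([1, 0, 1, 1, -3, 1, 0] : V), true, [([1, 1, 3, 2, 1, 0, 0] : V)]),
  (([2, 1, 0, 0, -2, 0, 2] : V), false, [([0, 2, 3, 1, 2, 1, 0] : V)])]

/-- survivors -/
def SE7_0000100_5 : List V := [([0, 0, 0, 1, -1, 1, 0] : V), ([0, 0, 1, 0, -3, 3, 0] : V), ([0, 1, 1, 0, -1, 0, 1] : V), ([0, 3, 0, 0, -2, 0, 0] : V), ([1, 0, 0, 1, -2, 1, 1] : V), ([1, 1, 0, 0, -2, 1, 2] : V), ([1, 1, 0, 1, -3, 1, 1] : V), ([1, 1, 1, 0, -3, 1, 1] : V), ([1, 1, 1, 0, -2, 1, 0] : V)]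

theorem kE7_0000100_5 : kchk 7 dE7 5 1 [0, 0, 0, 0, 1, 0, 0] [0, 0, 0, 0, 1, 0, 0] [] CE7_0000100_5 LE7_0000100 SE7_0000100_5 = true := by
  decide +kernel

theorem eE7_0000100_5 : al (fun lam => an (endR dE7 5 1 (pl [0, 0, 0, 0, 1, 0, 0] lam) (mi [0, 0, 0, 0, 1, 0, 0] lam)) dE7.T ||
    Nat.blt (cnt (fun e => !nz 5 1 (dot e.b (pl [0, 0, 0, 0, 1, 0, 0] lam))) dE7.T) 16) SE7_0000100_5 = true := by
  decide +kernel

end Cfsg.Agent.Cam.Ex.Cb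
end

-- part: Cam/Ex/CbP7c
section
set_option linter.all false

/-!
# The finite check: double cosets and certificates (helper12, generated by `tools/cam12/gen_data.py`)
-/

set_option autoImplicit false
set_option linter.unusedVariables false
set_option linter.style.longLine false
set_option maxRecDepth 100000

namespace Cfsg.Agent.Cam.Ex.Cb

open Cfsg Cfsg.Lie

/-- double cosets -/
def LE7_0001000 : List V := [
  ([0, 0, 0, -3, 4, 0, 0] : V), ([0, 0, 0, -2, 0, 3, 0] : V), ([0, 0, 0, -2, 1, 0, 3] : V), ([0, 0, 0, -2, 3, 0, 1] : V),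
  ([0, 0, 0, -1, 0, 0, 0] : V), ([0, 0, 0, -1, 0, 0, 4] : V), ([0, 0, 0, -1, 0, 3, 0] : V), ([0, 0, 0, 1, 0, 0, 0] : V),
  ([0, 0, 1, -3, 1, 2, 1] : V), ([0, 0, 1, -3, 2, 2, 0] : V), ([0, 0, 1, -2, 0, 0, 2] : V), ([0, 0, 1, -2, 0, 2, 2] : V),
  ([0, 0, 1, -2, 2, 1, 0] : V), ([0, 0, 2, -4, 3, 0, 1] : V), ([0, 0, 2, -3, 0, 2, 0] : V), ([0, 0, 2, -3, 0, 3, 0] : V),
  ([0, 0, 2, -3, 2, 0, 2] : V), ([0, 0, 2, -1, 0, 1, 0] : V), ([0, 0, 3, -4, 2, 0, 0] : V), ([0, 0, 3, -4, 2, 1, 0] : V),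
  ([0, 0, 3, -3, 2, 0, 0] : V), ([0, 0, 3, -2, 0, 0, 2] : V), ([0, 0, 4, -3, 0, 0, 0] : V), ([0, 0, 4, -3, 0, 1, 0] : V),
  ([0, 1, 0, -3, 3, 1, 0] : V), ([0, 1, 0, -2, 0, 1, 3] : V), ([0, 1, 1, -4, 3, 1, 0] : V), ([0, 1, 1, -3, 0, 2, 1] : V),
  ([0, 1, 1, -3, 2, 1, 1] : V), ([0, 1, 1, -1, 1, 0, 0] : V), ([0, 1, 2, -4, 1, 2, 0] : V), ([0, 1, 2, -4, 2, 1, 1] : V),
  ([0, 1, 2, -3, 2, 0, 1] : V), ([0, 1, 3, -4, 2, 0, 1] : V), ([0, 1, 4, -4, 1, 0, 0] : V), ([0, 2, 1, -4, 2, 0, 2] : V),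
  ([0, 2, 1, -4, 3, 0, 1] : V), ([0, 2, 1, -3, 0, 1, 0] : V), ([0, 2, 1, -3, 1, 0, 3] : V), ([0, 2, 1, -2, 0, 2, 0] : V),
  ([0, 2, 2, -4, 1, 0, 1] : V), ([0, 2, 2, -4, 2, 1, 0] : V), ([0, 2, 2, -3, 0, 1, 2] : V), ([0, 2, 3, -4, 0, 1, 0] : V),
  ([0, 2, 3, -4, 0, 2, 0] : V), ([0, 3, 0, -4, 3, 0, 0] : V), ([0, 3, 0, -3, 1, 0, 0] : V), ([0, 3, 0, -2, 0, 0, 3] : V),
  ([0, 3, 0, -1, 0, 0, 1] : V), ([0, 3, 1, -4, 1, 1, 0] : V), ([0, 3, 1, -3, 0, 0, 3] : V), ([0, 3, 1, -3, 1, 0, 2] : V),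
  ([0, 3, 2, -4, 0, 1, 1] : V), ([0, 3, 2, -4, 1, 0, 2] : V), ([0, 3, 3, -4, 0, 0, 1] : V), ([0, 4, 0, -3, 0, 1, 0] : V),
  ([0, 4, 0, -2, 0, 1, 0] : V), ([0, 4, 1, -4, 1, 0, 1] : V), ([0, 4, 1, -4, 2, 0, 0] : V), ([0, 4, 1, -3, 0, 0, 2] : V),
  ([0, 4, 2, -4, 0, 1, 0] : V), ([1, 0, 0, -3, 2, 2, 0] : V), ([1, 0, 0, -2, 0, 1, 2] : V), ([1, 0, 0, -2, 0, 2, 2] : V),
  ([1, 0, 0, -2, 1, 2, 1] : V), ([1, 0, 0, -1, 2, 0, 0] : V), ([1, 0, 1, -3, 1, 2, 1] : V), ([1, 0, 2, -4, 2, 1, 0] : V),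
  ([1, 0, 2, -2, 1, 0, 1] : V), ([1, 0, 3, -4, 2, 0, 0] : V), ([1, 0, 3, -3, 1, 0, 1] : V), ([1, 1, 0, -3, 1, 1, 2] : V),
  ([1, 1, 0, -2, 0, 0, 1] : V), ([1, 1, 0, -2, 0, 1, 3] : V), ([1, 1, 0, -2, 1, 2, 0] : V), ([1, 1, 1, -4, 2, 1, 1] : V),
  ([1, 1, 1, -3, 0, 1, 1] : V), ([1, 1, 1, -3, 1, 1, 2] : V), ([1, 1, 1, -2, 1, 1, 0] : V), ([1, 1, 2, -4, 1, 1, 0] : V),
  ([1, 1, 2, -4, 1, 2, 0] : V), ([1, 1, 2, -3, 1, 0, 2] : V), ([1, 1, 3, -4, 1, 0, 0] : V), ([1, 1, 3, -4, 1, 1, 0] : V),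
  ([1, 2, 0, -4, 3, 0, 1] : V), ([1, 2, 0, -3, 0, 2, 0] : V), ([1, 2, 0, -3, 1, 0, 3] : V), ([1, 2, 0, -3, 2, 0, 2] : V),
  ([1, 2, 0, -1, 0, 1, 0] : V), ([1, 2, 1, -4, 1, 1, 1] : V), ([1, 2, 1, -4, 2, 0, 2] : V), ([1, 2, 1, -3, 1, 1, 1] : V),
  ([1, 2, 2, -4, 0, 2, 0] : V), ([1, 2, 2, -4, 1, 1, 1] : V), ([1, 2, 3, -4, 0, 1, 0] : V), ([1, 3, 0, -4, 2, 0, 1] : V),
  ([1, 3, 0, -4, 3, 0, 0] : V), ([1, 3, 0, -2, 0, 1, 1] : V), ([1, 3, 1, -4, 1, 0, 2] : V), ([1, 3, 1, -4, 2, 0, 1] : V),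
  ([1, 3, 2, -4, 0, 1, 1] : V), ([1, 4, 0, -4, 2, 0, 0] : V), ([1, 4, 0, -3, 0, 0, 2] : V), ([1, 4, 0, -3, 1, 0, 1] : V),
  ([1, 4, 1, -4, 1, 0, 1] : V), ([2, 0, 0, -3, 2, 0, 2] : V), ([2, 0, 0, -2, 0, 1, 0] : V), ([2, 0, 0, -2, 0, 3, 0] : V),
  ([2, 0, 0, -2, 1, 0, 3] : V), ([2, 0, 0, -1, 0, 2, 0] : V), ([2, 0, 1, -3, 1, 0, 1] : V), ([2, 0, 1, -2, 0, 1, 2] : V),
  ([2, 0, 2, -3, 0, 1, 0] : V), ([2, 0, 2, -3, 0, 2, 0] : V), ([2, 0, 2, -2, 0, 1, 0] : V), ([2, 1, 0, -3, 1, 0, 2] : V),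
  ([2, 1, 0, -3, 1, 1, 2] : V), ([2, 1, 0, -2, 0, 2, 1] : V), ([2, 1, 1, -4, 2, 0, 1] : V), ([2, 1, 1, -3, 0, 2, 1] : V),
  ([2, 1, 1, -2, 0, 1, 1] : V), ([2, 1, 2, -4, 1, 1, 0] : V), ([2, 1, 2, -3, 0, 1, 1] : V), ([2, 2, 0, -4, 2, 1, 0] : V),
  ([2, 2, 0, -3, 0, 1, 2] : V), ([2, 2, 0, -2, 1, 0, 1] : V), ([2, 2, 1, -4, 1, 1, 1] : V), ([2, 2, 1, -3, 0, 2, 0] : V),
  ([2, 2, 2, -4, 1, 0, 1] : V), ([2, 3, 0, -4, 2, 0, 1] : V), ([2, 3, 0, -3, 1, 1, 0] : V), ([2, 3, 1, -4, 1, 1, 0] : V),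
  ([2, 4, 0, -3, 0, 1, 0] : V), ([3, 0, 0, -3, 2, 0, 0] : V), ([3, 0, 0, -2, 0, 0, 2] : V), ([3, 0, 0, -2, 0, 1, 2] : V),
  ([3, 0, 0, -1, 0, 0, 2] : V), ([3, 0, 1, -3, 1, 0, 1] : V), ([3, 0, 1, -2, 0, 0, 2] : V), ([3, 1, 0, -3, 1, 0, 2] : V),
  ([3, 1, 1, -3, 0, 1, 1] : V), ([3, 1, 1, -2, 0, 0, 1] : V), ([3, 2, 0, -3, 0, 2, 0] : V), ([3, 2, 0, -2, 0, 1, 0] : V),
  ([3, 2, 1, -3, 0, 1, 0] : V), ([3, 3, 0, -3, 1, 0, 0] : V), ([4, 0, 0, -2, 0, 1, 0] : V), ([4, 0, 0, -1, 0, 0, 0] : V),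
  ([4, 1, 0, -2, 0, 0, 1] : V)]

theorem pE7_0001000 : pchk 7 dE7 [0, 0, 0, 1, 0, 0, 0] [0, 0, 0, 1, 0, 0, 0] [0, 1, 2, 4, 5, 6] LE7_0001000 = true :=
  pchk_of (by decide +kernel)

/-- certificates -/
def CE7_0001000_0 : List (V × Bool × List V) := [(([0, 0, 1, -3, 2, 2, 0] : V), true, [([1, 2, 2, 4, 2, 0, 0] : V)]),
  (([0, 0, 4, -3, 0, 1, 0] : V), true, [([0, 1, 0, 2, 1, 0, 0] : V)]),
  (([2, 0, 0, -2, 0, 3, 0] : V), true, [([0, 1, 1, 2, 1, 0, 0] : V)]),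
  (([3, 0, 0, -2, 0, 0, 2] : V), true, [([2, 6, 7, 12, 8, 4, 0] : V)])]

/-- survivors -/
def SE7_0001000_0 : List V := [([0, 0, 0, -2, 0, 3, 0] : V), ([0, 0, 3, -4, 2, 0, 0] : V), ([2, 0, 2, -3, 0, 1, 0] : V)]

theorem kE7_0001000_0 : kchk 7 dE7 0 85766121000000 [0, 0, 0, 1, 0, 0, 0] [0, 0, 0, 1, 0, 0, 0] [[0, 1, 0, 0, 0, 0, 0]] CE7_0001000_0 LE7_0001000 SE7_0001000_0 = true := by
  decide +kernel

theorem eE7_0001000_0 : al (fun lam => an (endR dE7 0 85766121000000 (pl [0, 0, 0, 1, 0, 0, 0] lam) (mi [0, 0, 0, 1, 0, 0, 0] lam)) dE7.T) SE7_0001000_0 = true := by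
  decide +kernel

/-- certificates -/
def CE7_0001000_7 : List (V × Bool × List V) := [(([0, 0, 0, -2, 3, 0, 1] : V), true, [([5, 4, 3, 1, 6, 0, 1] : V)]),
  (([0, 0, 1, -3, 2, 2, 0] : V), true, [([4, 1, 1, 2, 1, 0, 0] : V)]),
  (([0, 0, 3, -2, 0, 0, 2] : V), true, [([0, 6, 0, 5, 6, 0, 1] : V)]),
  (([0, 0, 4, -3, 0, 1, 0] : V), true, [([0, 1, 0, 2, 1, 0, 0] : V)]),
  (([1, 0, 3, -3, 1, 0, 1] : V), true, [([3, 4, 0, 1, 0, 0, 0] : V)]),
  (([2, 0, 0, -2, 0, 3, 0] : V), true, [([0, 1, 1, 2, 1, 0, 0] : V)]),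
  (([3, 0, 0, -2, 0, 0, 2] : V), true, [([4, 5, 3, 3, 2, 1, 0] : V), ([4, 5, 4, 3, 2, 1, 0] : V), ([5, 0, 6, 0, 5, 3, 1] : V)])]

/-- survivors -/
def SE7_0001000_7 : List V := [([0, 0, 0, -2, 0, 3, 0] : V), ([0, 0, 3, -4, 2, 0, 0] : V), ([2, 0, 2, -3, 0, 1, 0] : V)]

theorem kE7_0001000_7 : kchk 7 dE7 7 1 [0, 0, 0, 1, 0, 0, 0] [0, 0, 0, 1, 0, 0, 0] [[0, 1, 0, 0, 0, 0, 0]] CE7_0001000_7 LE7_0001000 SE7_0001000_7 = true := by
  decide +kernel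

theorem eE7_0001000_7 : al (fun lam => an (endR dE7 7 1 (pl [0, 0, 0, 1, 0, 0, 0] lam) (mi [0, 0, 0, 1, 0, 0, 0] lam)) dE7.T) SE7_0001000_7 = true := by
  decide +kernel

/-- certificates -/
def CE7_0001000_5 : List (V × Bool × List V) := [(([0, 0, 1, -3, 2, 2, 0] : V), true, [([2, 1, 1, 2, 1, 0, 0] : V), ([4, 1, 1, 2, 1, 0, 0] : V), ([4, 3, 3, 1, 3, 0, 0] : V)]),
  (([0, 0, 4, -3, 0, 1, 0] : V), true, [([0, 1, 0, 2, 1, 0, 0] : V)]),
  (([1, 0, 3, -3, 1, 0, 1] : V), true, [([4, 3, 1, 1, 2, 1, 0] : V)]),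
  (([2, 0, 0, -2, 0, 3, 0] : V), true, [([0, 1, 1, 2, 1, 0, 0] : V)]),
  (([3, 0, 0, -2, 0, 0, 2] : V), true, [([3, 4, 3, 3, 2, 1, 0] : V)])]

/-- survivors -/
def SE7_0001000_5 : List V := [([0, 0, 0, -2, 0, 3, 0] : V), ([0, 0, 3, -4, 2, 0, 0] : V), ([2, 0, 2, -3, 0, 1, 0] : V)]

theorem kE7_0001000_5 : kchk 7 dE7 5 1 [0, 0, 0, 1, 0, 0, 0] [0, 0, 0, 1, 0, 0, 0] [[0, 1, 0, 0, 0, 0, 0]] CE7_0001000_5 LE7_0001000 SE7_0001000_5 = true := by
  decide +kernel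

theorem eE7_0001000_5 : al (fun lam => an (endR dE7 5 1 (pl [0, 0, 0, 1, 0, 0, 0] lam) (mi [0, 0, 0, 1, 0, 0, 0] lam)) dE7.T ||
    Nat.blt (cnt (fun e => !nz 5 1 (dot e.b (pl [0, 0, 0, 1, 0, 0, 0] lam))) dE7.T) 16) SE7_0001000_5 = true := by
  decide +kernel

end Cfsg.Agent.Cam.Ex.Cb
end

-- part: Cam/Ex/CbE7
section
prune_inst 0x243020043000000000180506420020660800009200600000f860054001477722ad4129205e801c129886964408300000110001700228000000000400011c04a1888f56067391a104240007811007580c00000000000000000000000000041000200000000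
set_option linter.all false
open scoped Cfsg.Agent.FastGrp

/-!
# The finite check: `E₇` (helper12)
-/

set_option autoImplicit false
set_option linter.unusedVariables false
set_option maxRecDepth 100000

namespace Cfsg.Agent.Cam.Ex.Cb

open CoxeterSystem Cfsg Cfsg.Lie
open Cfsg.Agent.ChevalleyStructure.CoxeterGeom Cfsg.Agent.ChevalleyStructure.CoxeterGeomTypes
open Cfsg.Agent.Tits.Roots Cfsg.Agent.Nodes.RGDChev Cfsg.Agent.Nodes.Coroot Cfsg.Agent.Nodes.SubComb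
open Cfsg.Agent.H931.KC (hr psi psi_apply psi_sr eq_psi)

/-- restricted roots, type `A₄ A₁` -/
def r46 : List (ℤ × ℤ) :=
  [(-3, -1), (-2, -1), (-2, 0), (-1, -1), (-1, 0), (0, -1), (0, 1), (1, 0), (1, 1), (2, 0), (2, 1), (3, 1)]

/-- restricted roots, type `A₂ A₂ A₁` -/
def r36 : List (ℤ × ℤ) := [(-4, -1), (-3, -1), (-3, 0), (-2, -1), (-2, 0), (-1, -1), (-1, 0), (0, -1), (0, 1), (1, 0),
  (1, 1), (2, 0), (2, 1), (3, 0), (3, 1), (4, 1)]

/-- restricted roots, type `A₂ A₁ A₁ A₁` -/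
def r35 : List (ℤ × ℤ) := [(-4, -2), (-3, -2), (-3, -1), (-2, -2), (-2, -1), (-2, 0), (-1, -1), (-1, 0), (0, -1),
  (0, 1), (1, 0), (1, 1), (2, 0), (2, 1), (2, 2), (3, 1), (3, 2), (4, 2)]

theorem R46 : RROK tE7 4 6 r46 := tabE7.rrok (by decide) (by decide +kernel)
theorem R36 : RROK tE7 3 6 r36 := tabE7.rrok (by decide) (by decide +kernel)
theorem R35 : RROK tE7 3 5 r35 := tabE7.rrok (by decide) (by decide +kernel)
theorem k46 : toF 7 [0, 0, 0, 0, 1, 0, 1] = sr 4 + sr 6 := by decide +kernel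
theorem k36 : toF 7 [0, 0, 0, 1, 0, 0, 1] = sr 3 + sr 6 := by decide +kernel
theorem k35 : toF 7 [0, 0, 0, 1, 0, 1, 0] = sr 3 + sr 5 := by decide +kernel

/-- the three isolated roots -/
def g35 : List V := [[0, 1, 0, 0, 0, 0, 0], [0, 0, 0, 0, 1, 0, 0], [0, 0, 0, 0, 0, 0, 1]]

/-- rotations of order three and six -/
noncomputable def clsC (p q : ℤ × ℤ) : Bool :=
  ieq (p.1 * q.2 - p.2 * q.1) 1 && ((ieq (p.1 + q.2) 1 || ieq (p.1 + q.2) (-1)) &&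
    al (fun v => an (fun c => leq c.b v && movchk dE7 3 5 p q c) dE7.T) g35)

theorem exists_negE7 : ∃ w, ∀ a, wa tE7 w a = -a := ⟨_, tabE7.neg_word negE7⟩

/-- corank one -/
def T1 {r : ℕ} (φ : Lat 7 →+ ZMod r) : Prop :=
  Exa tE7 φ [0, 0, 0, 0, 0, 0, 1] ∨ Exa tE7 φ [0, 0, 0, 0, 0, 1, 0] ∨ Exa tE7 φ [0, 1, 0, 0, 0, 0, 0] ∨
    Exa tE7 φ [0, 0, 1, 0, 0, 0, 0] ∨ Exa tE7 φ [0, 0, 0, 0, 1, 0, 0] ∨ Exa tE7 φ [0, 0, 0, 1, 0, 0, 0]

/-- corank two, scalar action -/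
def T2 {r : ℕ} (g : Lat 7 ≃+ Lat 7) (e : ZMod r) (φ : Lat 7 →+ ZMod r) : Prop :=
  ∃ (κ : V) (i j : Fin 7), i ≠ j ∧ Exa tE7 φ κ ∧ Ex2 tE7 φ i j ∧ (e = 1 ∨ e = -1) ∧
    (∀ a, (g a j : ZMod r) = e * a j) ∧
    Nat.blt (cnt (fun e => ieq (dot e.b κ) 0) dE7.T) (cnt (fun e => ieq (gt e.b j) 0) dE7.T) = true

/-- corank two, rotation -/
def T3 {r : ℕ} (g : Lat 7 ≃+ Lat 7) (e : ZMod r) (φ : Lat 7 →+ ZMod r) : Prop :=
  Exa tE7 φ [0, 0, 0, 1, 0, 1, 0] ∧ (e ^ 2 - e + 1 = 0 ∨ e ^ 2 + e + 1 = 0) ∧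
    ∀ v ∈ g35, g (toF 7 v) ≠ toF 7 v ∧ g (toF 7 v) ≠ -toF 7 v

/-- the types of Frobenius eigenvectors in `E₇` -/
theorem typesE7 {r : ℕ} (hr' : r.Prime) (h5 : 5 ≤ r) {p : ℕ} {φ : Lat 7 →+ ZMod r} (h0 : φ ≠ 0)
    (hK : K1 tE7 p (Psi tE7 φ)) {g : Lat 7 ≃+ Lat 7} (hr : ∀ a, Rt tE7 (g a) ↔ Rt tE7 a)
    (hcp : ∀ a c, Rt tE7 c → cp tE7 (g a) (g c) = cp tE7 a c) {e : ZMod r} (he : ∀ a, φ (g a) = e * φ a) :
    ∃ w, T1 (cw tE7 φ w) ∨ T2 (gw tE7 g w) e (cw tE7 φ w) ∨ T3 (gw tE7 g w) e (cw tE7 φ w) := by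
  obtain ⟨w, t, ht', h⟩ := tabE7.types tyE7 hr' h5 h0 hK
  have h1 := tyE7' t ht'
  simp only [List.mem_cons, List.not_mem_nil, or_false] at h1
  have hr2 : ∀ a, Rt tE7 (gw tE7 g w a) ↔ Rt tE7 a := fun a => by rw [gw_apply, rt_wa, hr, rt_wa]
  have hcp2 : ∀ a c, Rt tE7 c → cp tE7 (gw tE7 g w a) (gw tE7 g w c) = cp tE7 a c := fun a c hc => by
    rw [gw_apply, gw_apply, cp_wa tE7 _ _ ((hr _).2 (hc.act w)), hcp _ _ (hc.act w), cp_wa tE7 _ _ hc]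
  have he2 : ∀ a, cw tE7 φ w (gw tE7 g w a) = e * cw tE7 φ w a := fun a => by
    rw [cw_apply, cw_apply, gw_apply, wa_inv', he]
  refine ⟨w, ?_⟩
  rcases h1 with h1 | h1 | h1 | h1 | h1 | h1 | h1 | h1 | h1 <;> rw [h1] at h
  · exact Or.inl (Or.inl h)
  · exact Or.inl (Or.inr (Or.inl h))
  · exact Or.inl (Or.inr (Or.inr (Or.inl h)))
  · exact Or.inl (Or.inr (Or.inr (Or.inr (Or.inl h))))
  · exact Or.inl (Or.inr (Or.inr (Or.inr (Or.inr (Or.inl h)))))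
  · exact Or.inl (Or.inr (Or.inr (Or.inr (Or.inr (Or.inr h)))))
  · rcases tabE7.cls2 R46 (X := fun _ _ => false) (by decide +kernel) hr' h5 (h.ex2 k46) _ hr2 he2 with h2 | h2
    · exact Or.inr (Or.inl ⟨_, 4, 6, by decide, h, h.ex2 k46, h2.1, h2.2, by decide +kernel⟩)
    · obtain ⟨_, _, h3, -⟩ := h2
      exact absurd h3 Bool.false_ne_true
  · rcases tabE7.cls2 R36 (X := fun _ _ => false) (by decide +kernel) hr' h5 (h.ex2 k36) _ hr2 he2 with h2 | h2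
    · exact Or.inr (Or.inl ⟨_, 3, 6, by decide, h, h.ex2 k36, h2.1, h2.2, by decide +kernel⟩)
    · obtain ⟨_, _, h3, -⟩ := h2
      exact absurd h3 Bool.false_ne_true
  · rcases tabE7.cls2 R35 (X := clsC) (by decide +kernel) hr' h5 (h.ex2 k35) _ hr2 he2 with h2 | h2
    · exact Or.inr (Or.inl ⟨_, 3, 5, by decide, h, h.ex2 k35, h2.1, h2.2, by decide +kernel⟩)
    · obtain ⟨p', q', h3, h4, h6⟩ := h2
      obtain ⟨h7, h3⟩ := Bool.and_eq_true_iff.1 h3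
      obtain ⟨h8, h9⟩ := Bool.and_eq_true_iff.1 h3
      refine Or.inr (Or.inr ⟨h, ?_, fun v hv => ?_⟩)
      · rw [ieq_iff.1 h7] at h6
        rcases Bool.or_eq_true_iff.1 h8 with h10 | h10 <;> rw [ieq_iff.1 h10] at h6 <;> push_cast at h6
        · exact Or.inl (by linear_combination h6)
        · exact Or.inr (by linear_combination h6)
      · obtain ⟨c, hc, h10⟩ := an_iff.1 (al_iff.1 h9 v hv)
        obtain ⟨h11, h12⟩ := Bool.and_eq_true_iff.1 h10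
        rw [← leq_iff.1 h11]
        exact tabE7.moved hc (i := 3) (j := 5) h12 hr2 hcp2 h4

theorem no_poly {r : ℕ} (hr' : r.Prime) (h5 : 5 ≤ r) {e : ZMod r} (h1 : e = 1 ∨ e = -1)
    (h2 : e ^ 2 - e + 1 = 0 ∨ e ^ 2 + e + 1 = 0) : False := by
  rcases h1 with rfl | rfl <;> rcases h2 with h | h
  · exact un6 hr' h5 (n := 1) (by norm_num) (by push_cast; linear_combination h)
  · exact un6 hr' h5 (n := 3) (by norm_num) (by push_cast; linear_combination h)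
  · exact un6 hr' h5 (n := 3) (by norm_num) (by push_cast; linear_combination h)
  · exact un6 hr' h5 (n := 1) (by norm_num) (by push_cast; linear_combination h)

theorem T1.eig {p q r : ℕ} {g : Lat 7 ≃+ Lat 7} {A B : Lat 7 →+ ZMod r} (C : Cm tE7 p q r g A B)
    {φ : Lat 7 →+ ZMod r} (h : T1 φ) (he : ∀ a, φ (g a) = (q : ZMod r) * φ a) :
    (q : ZMod r) = 1 ∨ (q : ZMod r) = -1 := by
  rcases h with h | h | h | h | h | h
  · exact (h.ex1 (toF_uv (l := 7) 6)).eig C he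
  · exact (h.ex1 (toF_uv (l := 7) 5)).eig C he
  · exact (h.ex1 (toF_uv (l := 7) 1)).eig C he
  · exact (h.ex1 (toF_uv (l := 7) 2)).eig C he
  · exact (h.ex1 (toF_uv (l := 7) 4)).eig C he
  · exact (h.ex1 (toF_uv (l := 7) 3)).eig C he

theorem not_T2 {p q r : ℕ} {g : Lat 7 ≃+ Lat 7} {A B : Lat 7 →+ ZMod r} (C : Cm tE7 p q r g A B) :
    ¬ T2 g (q : ZMod r) (A + B) := by
  rintro ⟨κ, i, j, -, h1, h2, -, h3, h4⟩
  obtain ⟨w0, hw0⟩ := exists_negE7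
  exact tabE7.not_scalar C h1 h2 hw0 h4 h3

theorem not_T3 (hc : BoxConn) {p q r : ℕ} {g : Lat 7 ≃+ Lat 7} {A B : Lat 7 →+ ZMod r} (C : Cm tE7 p q r g A B) :
    ¬ T3 g (q : ZMod r) (A + B) := by
  rintro ⟨h1, h2, h3⟩
  obtain ⟨w0, hw0⟩ := exists_negE7
  have hg : gchk 7 dE7 [0, 0, 0, 1, 0, 1, 0] g35 = true := by decide +kernel
  have h4 : ∀ v ∈ g35, Rt tE7 (toF 7 v) ∧ A (toF 7 v) = 0 ∧ B (toF 7 v) = 0 := by
    intro v hv
    have h5 := (tabE7.gchk_spec h1 hg hv).2.1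
    have h6 := C.k3' hc le_rfl h5 (neg_of_word hw0 _) (Or.inr (hw0 _)) (Or.inr (h3 v hv))
    refine ⟨h5.1.1, h6, ?_⟩
    have h7 := h5.1.2
    rwa [AddMonoidHom.add_apply, h6, zero_add] at h7
  obtain ⟨w, h5 | h5 | h5⟩ := typesE7 C.prime C.five C.a0 C.k1a C.root C.gcp C.frA
  · exact no_poly C.prime C.five (h5.eig (C.act w) (C.act w).frA) h2
  · obtain ⟨κ, i, j, -, -, -, h6, -⟩ := h5
    exact no_poly C.prime C.five h6 h2
  have C' := C.act w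
  have e1 : toF 7 [0, 1, 0, 0, 0, 0, 0] = sr 1 := toF_uv (l := 7) 1
  have e4 : toF 7 [0, 0, 0, 0, 1, 0, 0] = sr 4 := toF_uv (l := 7) 4
  have e6 : toF 7 [0, 0, 0, 0, 0, 0, 1] = sr 6 := toF_uv (l := 7) 6
  obtain ⟨-, a1, b1⟩ := h4 [0, 1, 0, 0, 0, 0, 0] (by decide)
  obtain ⟨-, a4, b4⟩ := h4 [0, 0, 0, 0, 1, 0, 0] (by decide)
  obtain ⟨-, a6, b6⟩ := h4 [0, 0, 0, 0, 0, 0, 1] (by decide)
  rw [e1] at a1 b1
  rw [e4] at a4 b4
  rw [e6] at a6 b6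
  have hcar : ∀ i j : Fin 7, cartanOf chevE7 7 j i = 0 →
      cp tE7 (wa tE7 w⁻¹ (sr i)) (wa tE7 w⁻¹ (sr j)) = 0 := fun i j h => by
    rw [cp_wa tE7 _ _ (rt_sr tE7 j), cp_sr, psi_sr, h]
  have hev : ∀ c, Rt tE7 c → (2 : ℤ) ∣ cp tE7 (toF 7 [0, 1, 0, 0, 1, 0, 1]) c := by
    intro c hc'
    obtain ⟨e, he, h6⟩ := tabE7.sur c hc'
    have h7 : (2 : ℤ) ∣ cp tE7 (toF 7 [0, 1, 0, 0, 1, 0, 1]) (toF 7 e.b) := by
      rw [tabE7.cpe e he, psi_toF (by rfl)]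
      exact zr_iff.1 (al_iff.1 (show al (fun e => zr 2 (dot [0, 1, 0, 0, 1, 0, 1] e.cv)) dE7.T = true by
        decide +kernel) e he)
    rcases h6 with rfl | rfl
    · exact h7
    · rw [cp_neg_right tE7 _ (tabE7.rt e he), dvd_neg]; exact h7
  have es : toF 7 [0, 1, 0, 0, 1, 0, 1] = sr 1 + sr 4 + sr 6 := by decide +kernel
  have h6 := tabE7.tri (B := cw tE7 B w) h5.1 (G := g35) (by decide +kernel) ((rt_sr tE7 1).act w⁻¹)
    ((rt_sr tE7 4).act w⁻¹) ((rt_sr tE7 6).act w⁻¹) (by rw [cw_apply, wa_inv', a1]) (by rw [cw_apply, wa_inv', a4])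
    (by rw [cw_apply, wa_inv', a6]) (by rw [cw_apply, wa_inv', b1]) (by rw [cw_apply, wa_inv', b4])
    (by rw [cw_apply, wa_inv', b6]) (hcar 1 4 (by decide +kernel)) (hcar 1 6 (by decide +kernel))
    (hcar 4 6 (by decide +kernel)) fun j => by
      have h7 := hev _ ((rt_sr tE7 j).act w)
      rw [← cp_wa tE7 w⁻¹ _ ((rt_sr tE7 j).act w), es, wa_add, wa_add] at h7
      rwa [show wa tE7 w⁻¹ (rep _ tE7.isCartan w (sr j)) = sr j from wa_inv tE7 w _] at h7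
  obtain ⟨ν, c, h7, h8⟩ := tabE7.root_mult C'.prime C'.five h5.1 C'.k2a (u := [2, 0, 1, 0, 0, 0, 0])
    (X := [[-1, 0, 1, 0, 0, 0, 0], [-1, 0, -2, 0, 0, 0, 0]]) (by decide +kernel)
    (Bs := [2, 3, 4, 6, 3, 0, 0] :: [-2, -3, -4, -6, 0, 6, 3] :: g35)
    (fun b hb => by
      rcases List.mem_cons.1 hb with rfl | hb
      · exact tabE7.span_ex C'.prime C'.five h5.1 C'.k2a (by decide +kernel)
      rcases List.mem_cons.1 hb with rfl | hb
      · exact tabE7.span_ex C'.prime C'.five h5.1 C'.k2a (by decide +kernel)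
      · exact h6 b hb)
    (DT := [([-1, 0, 2, -1, 0, 0, 0], [0, 0, 1, 1, 0, 0, 0], 6, [[1, 1, 0, -3, -3, 0], [0, 0, 0, 6, 0, 0],
        [1, -2, 0, 6, 6, 0], [-1, 2, 0, -6, -6, 0], [0, 0, 0, 0, 6, 0], [0, 1, 1, 0, -3, -3], [0, 0, 0, 0, 0, 6]]),
      ([2, 0, -1, 0, 0, 0, 0], [0, -1, -1, -1, -1, 0, 0], 6, [[2, 2, 0, 6, 6, 0], [0, 0, 0, 6, 0, 0],
        [2, -1, 0, -3, -3, 0], [-2, 1, 0, -3, -3, 0], [0, 0, 0, 0, 6, 0], [0, 1, 1, 0, -3, -3], [0, 0, 0, 0, 0, 6]]),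
      ([1, 0, 1, -1, 0, 0, 0], [0, -1, -1, -2, -1, 0, 0], 6, [[2, 2, 0, 0, 0, 0], [0, 0, 0, 6, 0, 0],
        [-4, 2, 0, 0, 0, 0], [2, -1, 0, -3, -3, 0], [0, 0, 0, 0, 6, 0], [0, 1, 1, 0, -3, -3], [0, 0, 0, 0, 0, 6]])])
    (Q := fun ν => Nat.beq ν.length 7 && an (fun ω => leq (fw dE7.C ω ν) (uv 7 0))
      [[0, 3, 1, 4, 3, 2, 5, 4, 3, 1, 6, 5, 4, 3, 2, 0], [2, 3, 1, 4, 3, 2, 5, 4, 3, 1, 6, 5, 4, 3, 2, 0],
        [3, 1, 4, 3, 2, 5, 4, 3, 1, 6, 5, 4, 3, 2, 0]]) (by decide +kernel)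
  obtain ⟨h9, h10⟩ := Bool.and_eq_true_iff.1 h7
  obtain ⟨ω, -, h11⟩ := an_iff.1 h10
  exact no_poly C.prime C.five (tabE7.eig_of_is C'.prime C'.five C'.b0 (Nat.eq_of_beq_eq_true h9) h8 (j := 0) h11
    (by decide +kernel) C'.root C'.frB) h2

/-- the survivors for a type of corank one -/
theorem e7_surv (hc : BoxConn) {μ : V} {J : List ℕ} {L : List V} (h : pchk 7 dE7 μ μ J L = true) {G : List V}
    (hG : gchk 7 dE7 μ G = true) {j : Fin 7} (hj : toF 7 μ = sr j) {m K : ℤ} {CT : List (V × Bool × List V)}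
    {SV : List V} (hk : kchk 7 dE7 m K μ μ G CT L SV = true) {p q r : ℕ} (hm : Md r m K) {g : Lat 7 ≃+ Lat 7}
    {A B : Lat 7 →+ ZMod r} (C : Cm tE7 p q r g A B) (hκ : Exa tE7 (A + B) μ) :
    ∃ u, ∃ lam ∈ SV, ∃ c : ZMod r, c ≠ 0 ∧ Is (cw tE7 A u) c (pl μ lam) ∧ Is (cw tE7 B u) c (mi μ lam) ∧
      (an (endR dE7 m K (pl μ lam) (mi μ lam)) dE7.T = true → EndE7 q g A B) := by
  obtain ⟨w0, hw0⟩ := exists_negE7
  have hq := (hκ.ex1 hj).eig C C.frX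
  obtain ⟨u, -, lam, hlam, c, hc0, hA, hB⟩ := tabE7.surv h hk hm C hκ ((hκ.ex1 hj).is hj)
    (tabE7.k3G hc le_rfl C hκ hG (neg_of_word hw0 _) (fun v _ => Or.inr (hw0 _)) hq)
  refine ⟨u, lam, hlam, c, hc0, hA, hB, fun h1 => ?_⟩
  obtain ⟨γ, hγ, h2⟩ := an_iff.1 h1
  exact endE7_of (w := u) ⟨hq, tabE7.end_root (C.act u) hm hc0 hA hB hγ h2⟩

theorem e7_of (hc : BoxConn) {μ : V} {J : List ℕ} {L : List V} (h : pchk 7 dE7 μ μ J L = true) {G : List V}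
    (hG : gchk 7 dE7 μ G = true) {j : Fin 7} (hj : toF 7 μ = sr j) {m K : ℤ} {CT : List (V × Bool × List V)}
    {SV : List V} (hk : kchk 7 dE7 m K μ μ G CT L SV = true)
    (he : al (fun lam => an (endR dE7 m K (pl μ lam) (mi μ lam)) dE7.T) SV = true) {p q r : ℕ} (hm : Md r m K)
    {g : Lat 7 ≃+ Lat 7} {A B : Lat 7 →+ ZMod r} (C : Cm tE7 p q r g A B) (hκ : Exa tE7 (A + B) μ) :
    EndE7 q g A B := by
  obtain ⟨u, lam, hlam, c, -, -, -, h1⟩ := e7_surv hc h hG hj hk hm C hκ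
  exact h1 (al_iff.1 he lam hlam)

theorem gE7_6 : gchk 7 dE7 [0, 0, 0, 0, 0, 0, 1] [] = true := rfl
theorem gE7_5 : gchk 7 dE7 [0, 0, 0, 0, 0, 1, 0] [[0, 0, 0, 0, 0, 0, 1]] = true := by decide +kernel
theorem gE7_1 : gchk 7 dE7 [0, 1, 0, 0, 0, 0, 0] [] = true := rfl
theorem gE7_2 : gchk 7 dE7 [0, 0, 1, 0, 0, 0, 0] [[1, 0, 0, 0, 0, 0, 0]] = true := by decide +kernel
theorem gE7_4 : gchk 7 dE7 [0, 0, 0, 0, 1, 0, 0] [] = true := rfl
theorem gE7_3 : gchk 7 dE7 [0, 0, 0, 1, 0, 0, 0] [[0, 1, 0, 0, 0, 0, 0]] = true := by decide +kernel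

theorem finE7 (hc : BoxConn) (p q r : ℕ) (g0 g : Lat 7 ≃+ Lat 7) (A B : Lat 7 →+ ZMod r) (h7 : 7 ≤ r)
    (C0 : Cmb tE7 p q r g0 g A B) : EndE7 q g A B := by
  obtain ⟨w, h⟩ := typesE7 C0.prime C0.five C0.x0 C0.k1x C0.root C0.gcp (cm_of C0).frX
  have C := (cm_of C0).act w
  refine endE7_of (w := w) ?_
  have h8 : r = 7 ∨ 8 ≤ r := by omega
  rcases h with h | h | h
  swap
  · exact absurd h (not_T2 C)
  swap
  · exact absurd h (not_T3 hc C)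
  rcases h with h | h | h | h | h | h <;> rcases h8 with rfl | h8
  · exact e7_of hc pE7_0000001 gE7_6 (toF_uv (l := 7) 6) kE7_0000001_7 eE7_0000001_7 md7 C h.cw_add
  · exact e7_of hc pE7_0000001 gE7_6 (toF_uv (l := 7) 6) kE7_0000001_0 eE7_0000001_0 (md210 C.prime h8) C h.cw_add
  · exact e7_of hc pE7_0000010 gE7_5 (toF_uv (l := 7) 5) kE7_0000010_7 eE7_0000010_7 md7 C h.cw_add
  · exact e7_of hc pE7_0000010 gE7_5 (toF_uv (l := 7) 5) kE7_0000010_0 eE7_0000010_0 (md210 C.prime h8) C h.cw_add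
  · exact e7_of hc pE7_0100000 gE7_1 (toF_uv (l := 7) 1) kE7_0100000_7 eE7_0100000_7 md7 C h.cw_add
  · exact e7_of hc pE7_0100000 gE7_1 (toF_uv (l := 7) 1) kE7_0100000_0 eE7_0100000_0 (md210 C.prime h8) C h.cw_add
  · exact e7_of hc pE7_0010000 gE7_2 (toF_uv (l := 7) 2) kE7_0010000_7 eE7_0010000_7 md7 C h.cw_add
  · exact e7_of hc pE7_0010000 gE7_2 (toF_uv (l := 7) 2) kE7_0010000_0 eE7_0010000_0 (md210 C.prime h8) C h.cw_add
  · exact e7_of hc pE7_0000100 gE7_4 (toF_uv (l := 7) 4) kE7_0000100_7 eE7_0000100_7 md7 C h.cw_add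
  · exact e7_of hc pE7_0000100 gE7_4 (toF_uv (l := 7) 4) kE7_0000100_0 eE7_0000100_0 (md210 C.prime h8) C h.cw_add
  · exact e7_of hc pE7_0001000 gE7_3 (toF_uv (l := 7) 3) kE7_0001000_7 eE7_0001000_7 md7 C h.cw_add
  · exact e7_of hc pE7_0001000 gE7_3 (toF_uv (l := 7) 3) kE7_0001000_0 eE7_0001000_0 (md210 C.prime h8) C h.cw_add

end Cfsg.Agent.Cam.Ex.Cb
end

-- part: Cam/Ex/CbE6_mg
section

end

-- part: Cam/Ex/U2
section
set_option linter.all false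
open scoped Cfsg.Agent.FastGrp

/-!
# Exceptional rows, `BoxU`: the types of pairs of characters, rotations (helper53)

* `types_pair` : the normal form of the roots killed by two characters;
* `noG2`, `noF4`, `noD4`, `tyE6`, `tyE7` : the types with an eigenvalue of order three;
* `noE6` : the type `D₄` in `E₆` does not occur.
-/

set_option autoImplicit false
set_option linter.unusedVariables false
set_option linter.unusedSectionVars false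
set_option maxRecDepth 100000

namespace Cfsg.Agent.Cam.Ex.Cb.Ub

open CoxeterSystem Cfsg Cfsg.Lie
open Cfsg.Agent.ChevalleyStructure.CoxeterGeom Cfsg.Agent.ChevalleyStructure.CoxeterGeomTypes
open Cfsg.Agent.Tits.Roots Cfsg.Agent.Nodes.RGDChev Cfsg.Agent.Nodes.Coroot Cfsg.Agent.Nodes.SubComb
open Cfsg.Agent.H931.KC (hr psi psi_apply psi_sr eq_psi Kac exists_alcove dvd_iff)
open Cfsg.Agent.BpExc.Fr (repAut)

variable {D : ChevalleyDatum} {l : ℕ} {M : CoxeterMatrix (Fin l)} {hp : IsType D l M} {d : Dt} (hT : Tab hp d)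

include hT in
/-- the types for a modulus prime to six (the proof of `Tab.types`) -/
theorem types_mod {WT : List (V × List ℕ × V)}
    (hc : al (fun P => tchk l d WT 0 P && tchk l d WT 1 P) (pats [0, 1] l) = true) {r : ℕ} (hr' : 0 < r)
    (hr2 : ¬ (2 : ℤ) ∣ r) (hr3 : ¬ (3 : ℤ) ∣ r) {p : ℕ} {φ : Lat l →+ ZMod r} (h0 : φ ≠ 0)
    (hK : K1 hp p (Psi hp φ)) : ∃ w, ∃ t ∈ WT, Exa hp (cw hp φ w) t.2.2 := by
  classical
  have : NeZero r := ⟨hr'.ne'⟩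
  obtain ⟨w, c, c0, hk, hw⟩ := exists_alcove hp hr' (psi fun i => ((φ (sr i)).val : ℤ))
  have hb : ∀ x, ((psi (fun i => ((φ (sr i)).val : ℤ)) x : ℤ) : ZMod r) = φ x := by
    intro x
    rw [eq_sum φ x, psi_apply]
    push_cast
    exact Finset.sum_congr rfl fun i _ => by rw [ZMod.natCast_zmod_val]
  have h1 : ∀ x, φ (wa hp w x) = 0 ↔ (r : ℤ) ∣ ∑ i, x i * c i := by
    intro x
    rw [← hb, ZMod.intCast_zmod_eq_zero_iff_dvd]
    have h2 := hw x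
    constructor
    · intro h3
      have := dvd_add h2 h3
      rwa [sub_add_cancel] at this
    · intro h3
      have := dvd_sub h3 h2
      rwa [sub_sub_cancel] at this
  set f : Fin l → ℕ := fun i => if c i = 0 then 0 else 1 with hf
  set f0 : ℕ := if c0 = 0 then 0 else 1 with hf0
  set P : V := List.ofFn fun i => (f i : ℤ) with hP
  have hfz : ∀ i, f i = 0 ↔ c i = 0 := fun i => by by_cases h : c i = 0 <;> simp [hf, h]
  have hf0z : f0 = 0 ↔ c0 = 0 := by by_cases h : c0 = 0 <;> simp [hf0, h]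
  have hPl : P.length = l := List.length_ofFn
  have hPg : ∀ i : Fin l, gt P i = f i := gt_ofFn _
  have hPF : toF l P = fun i => (f i : ℤ) := toF_ofFn _
  have hmem : P ∈ pats [0, 1] l := mem_pats _ fun i => by by_cases h : c i = 0 <;> simp [hf, h]
  have h2 := Bool.and_eq_true_iff.1 (al_iff.1 hc P hmem)
  have h3 : tchk l d WT (f0 : ℤ) P = true := by
    by_cases h : c0 = 0
    · have : f0 = 0 := hf0z.2 h
      rw [this]; exact h2.1
    · have : f0 = 1 := by simp [hf0, h]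
      rw [this]; exact h2.2
  have hgcd : ∀ m : ℤ, (ieq (f0 : ℤ) 0 && al (fun i => zr m (gt d.H i * gt P i)) (List.range l)) = true → m ∣ r := by
    intro m hm
    obtain ⟨h4, h6⟩ := Bool.and_eq_true_iff.1 hm
    have h7 : c0 = 0 := hf0z.1 (by exact_mod_cast ieq_iff.1 h4)
    rw [← hk.sum, h7, Nat.cast_zero, zero_add]
    refine Finset.dvd_sum fun i _ => ?_
    by_cases h : c i = 0
    · rw [h, Nat.cast_zero, mul_zero]; exact dvd_zero _
    · have h8 := zr_iff.1 (al_iff.1 h6 i (List.mem_range.2 i.2))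
      have h9 : f i = 1 := by simp [hf, h]
      rw [hPg, h9, Nat.cast_one, mul_one, ← toF_apply, hT.hi] at h8
      exact h8.mul_right _
  unfold tchk at h3
  rcases Bool.or_eq_true_iff.1 h3 with h4 | h4
  · exact absurd (hgcd 2 h4) hr2
  rcases Bool.or_eq_true_iff.1 h4 with h4 | h4
  · exact absurd (hgcd 3 h4) hr3
  obtain ⟨hN, h4⟩ := Bool.and_eq_true_iff.1 h4
  rw [decide_eq_true_iff] at hN
  obtain ⟨N, hNe⟩ := Int.eq_ofNat_of_zero_le hN.le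
  have hk' : Kac D l N f f0 := by
    refine ⟨by omega, ?_⟩
    rw [← hNe, dot_eq hPl, hT.hi, hPF]
    congr 1
    exact Finset.sum_congr rfl fun i _ => mul_comm _ _
  have hE : ∀ a, Rt hp a → (φ (wa hp w a) = 0 ↔ (N : ℤ) ∣ psi (toF l P) a) := by
    refine hT.of_T (fun a h => by rw [wa_neg, map_neg, neg_eq_zero, map_neg, dvd_neg]; exact h) fun e he => ?_
    rw [h1, dvd_iff hp hk (hT.rt e he) (hT.pos e he), psi_apply, hPF, dvd_iff hp hk' (hT.rt e he) (hT.pos e he)]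
    simp only [hfz, hf0z]
  rw [hNe] at h4
  rcases Bool.or_eq_true_iff.1 h4 with h4 | h4
  · exfalso
    refine cw_ne hp h0 w (AddMonoidHom.ext fun a => ?_)
    rw [eq_sum (cw hp φ w) a]
    refine Finset.sum_eq_zero fun i _ => ?_
    have h6 : cw hp φ w (sr i) = 0 := by
      rw [cw_apply, hE _ (rt_sr hp i), psi_sr]
      exact zr_iff.1 (al_iff.1 h4 i (List.mem_range.2 i.2))
    rw [h6, mul_zero]
  rcases Bool.or_eq_true_iff.1 h4 with h4 | h4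
  · obtain ⟨t, ht, h6⟩ := an_iff.1 h4
    have h7 := (Bool.and_eq_true_iff.1 h6).2
    refine ⟨w * wd M t.2.1, t, ht, ?_⟩
    refine hT.of_T (fun a h => by rw [map_neg, neg_eq_zero, map_neg, neg_eq_zero]; exact h) fun e he => ?_
    rw [cw_apply, wa_mul, hE _ ((hT.rt e he).act _), ← hT.psi_fw _ hPl, hT.psi_b he, hT.psi_b he, ← zr_iff, ← ieq_iff,
      beq_iff_eq.1 (al_iff.1 h7 e he)]
  · exfalso
    obtain ⟨c', hc', h6⟩ := an_iff.1 h4
    refine hT.not_K1 hc' (fun e he h7 => ?_) p (K1_cw hp hK w)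
    refine al_iff.1 h6 e (mem_fl.2 ⟨he, ?_⟩)
    rw [cw_apply, hE _ (hT.rt e he), hT.psi_b he] at h7
    exact zr_iff.2 h7

variable (hp) in
/-- `φ` has one of the types of the list -/
def Ty {K : Type} [AddCommGroup K] (WT : List (V × List ℕ × V)) (φ : Lat l →+ K) : Prop :=
  ∃ w, ∃ t ∈ WT, Exa hp (cw hp φ w) t.2.2

theorem Ty.of {K K' : Type} [AddCommGroup K] [AddCommGroup K'] {WT : List (V × List ℕ × V)} {φ : Lat l →+ K}
    {ψ : Lat l →+ K'} (h : Ty hp WT φ) (e : ∀ a, ψ a = 0 ↔ φ a = 0) : Ty hp WT ψ := by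
  obtain ⟨w, t, ht, h1⟩ := h
  exact ⟨w, t, ht, fun a ha => (e _).trans (h1 a ha)⟩

theorem cast_lift {r : ℕ} [NeZero r] (φ : Lat l →+ ZMod r) (x : Lat l) :
    ((psi (fun i => ((φ (sr i)).val : ℤ)) x : ℤ) : ZMod r) = φ x := by
  rw [eq_sum φ x, psi_apply]
  push_cast
  exact Finset.sum_congr rfl fun i _ => by rw [ZMod.natCast_zmod_val]

theorem not_dvd_sq {r : ℕ} (hr' : r.Prime) (h5 : 5 ≤ r) {m : ℕ} (hm : m.Prime) (h : m ≤ 3) :
    ¬ (m : ℤ) ∣ ((r ^ 2 : ℕ) : ℤ) := fun h1 => by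
  have := (Nat.prime_dvd_prime_iff_eq hm hr').1 (hm.dvd_of_dvd_pow (Int.natCast_dvd_natCast.1 h1))
  omega

include hT in
/-- **The types of pairs.** -/
theorem types_pair {WT : List (V × List ℕ × V)}
    (hc : al (fun P => tchk l d WT 0 P && tchk l d WT 1 P) (pats [0, 1] l) = true)
    (h01 : ∀ t ∈ WT, ∀ i : Fin l, 0 ≤ gt t.2.2 i) {r : ℕ} (hr' : r.Prime) (h5 : 5 ≤ r) {p : ℕ}
    {X Y : Lat l →+ ZMod r} (h0 : X ≠ 0) (hK : K1 hp p (Psi hp (X.prod Y))) : Ty hp WT (X.prod Y) := by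
  have : NeZero r := ⟨hr'.ne_zero⟩
  obtain ⟨w, t, ht, h1⟩ := hT.types hc hr' h5 (p := p) h0 fun c hc h =>
    hK c hc fun a ha => h a ⟨ha.1, congrArg Prod.fst ha.2⟩
  set μ : Lat l := fun i => ((cw hp X w (sr i)).val : ℤ) with hμ
  set ν : Lat l := fun i => ((cw hp Y w (sr i)).val : ℤ) with hν
  have h2 : ∀ a, Rt hp a → cw hp X w a = 0 → psi μ a = 0 := by
    intro a ha h3
    have h4 := (h1 a ha).1 h3
    rw [psi_apply] at h4 ⊢
    have h6 : ∀ i, a i * toF l t.2.2 i = 0 := by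
      rcases ha.pos_or_neg with h7 | h7
      · exact fun i => (Finset.sum_eq_zero_iff_of_nonneg fun i _ => mul_nonneg (h7 i) (h01 t ht i)).1 h4 i
          (Finset.mem_univ i)
      · exact fun i => (Finset.sum_eq_zero_iff_of_nonpos fun i _ =>
          mul_nonpos_of_nonpos_of_nonneg (h7 i) (h01 t ht i)).1 h4 i (Finset.mem_univ i)
    refine Finset.sum_eq_zero fun i _ => ?_
    rcases mul_eq_zero.1 (h6 i) with h7 | h7
    · rw [h7, zero_mul]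
    · have h8 := (h1 _ (rt_sr hp i)).2 (by rw [psi_sr, h7])
      rw [hμ]
      simp only [h8, ZMod.val_zero, Nat.cast_zero, mul_zero]
  have h3 : ∀ a, Rt hp a → (red (r ^ 2) (μ + (r : ℤ) • ν) a = 0 ↔ cw hp (X.prod Y) w a = 0) := by
    intro a ha
    have e : psi (μ + (r : ℤ) • ν) a = psi μ a + r * psi ν a := by
      rw [show μ + (r : ℤ) • ν = μ - (-(r : ℤ)) • ν by rw [neg_smul, sub_neg_eq_add], psi_sub_smul]
      ring
    have e1 : cw hp X w a = 0 ↔ (r : ℤ) ∣ psi μ a := by rw [← cast_lift, ZMod.intCast_zmod_eq_zero_iff_dvd]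
    have e2 : cw hp Y w a = 0 ↔ (r : ℤ) ∣ psi ν a := by rw [← cast_lift, ZMod.intCast_zmod_eq_zero_iff_dvd]
    have e3 : cw hp (X.prod Y) w a = 0 ↔ cw hp X w a = 0 ∧ cw hp Y w a = 0 := Prod.ext_iff
    have e4 : (r : ℤ) ≠ 0 := by exact_mod_cast hr'.ne_zero
    rw [red_apply, ZMod.intCast_zmod_eq_zero_iff_dvd, e, e3, Nat.cast_pow, sq]
    constructor
    · intro h4
      have h6 := e1.2 ((dvd_add_left (dvd_mul_right _ _)).1 ((dvd_mul_right _ _).trans h4))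
      rw [h2 a ha h6, zero_add] at h4
      exact ⟨h6, e2.2 ((mul_dvd_mul_iff_left e4).1 h4)⟩
    · rintro ⟨h4, h6⟩
      rw [h2 a ha h4, zero_add]
      exact mul_dvd_mul_left _ (e2.1 h6)
  obtain ⟨w', t', ht', h4⟩ := types_mod hT hc (pow_pos hr'.pos 2) (not_dvd_sq hr' h5 Nat.prime_two (by norm_num))
    (not_dvd_sq hr' h5 Nat.prime_three le_rfl) (p := p) (φ := red (r ^ 2) (μ + (r : ℤ) • ν)) (fun h => by
      refine cw_ne hp h0 w (ext_rt (hp := hp) fun a ha => ?_)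
      exact congrArg Prod.fst ((h3 a ha).1 (by rw [h]; rfl))) (fun c hc h =>
      K1_cw hp hK w c hc fun a ha => h a ⟨ha.1, (h3 a ha.1).2 ha.2⟩)
  refine ⟨w * w', t', ht', fun a ha => ?_⟩
  rw [← h4 a ha, cw_apply, cw_apply, wa_mul, h3 _ (ha.act w')]
  rfl

section field

variable {K : Type} [Field K] (h2 : (2 : K) ≠ 0) (h3 : (3 : K) ≠ 0)

include h2 h3 in
theorem un6K {n : ℤ} (h : n ∣ 46656) : (n : K) ≠ 0 := by
  obtain ⟨k, hk⟩ := h
  intro h0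
  have h1 : ((46656 : ℤ) : K) = 0 := by rw [hk, Int.cast_mul, h0, zero_mul]
  exact mul_ne_zero (pow_ne_zero 6 h2) (pow_ne_zero 6 h3) (by push_cast at h1; linear_combination h1)

variable (hp) in
/-- an eigenvector -/
def Eig (w : M.Group) (φ : Lat l →+ K) (e : K) : Prop := ∀ a, φ (wa hp w a) = e * φ a

theorem Eig.conj {v : M.Group} {φ : Lat l →+ K} {e : K} (h : Eig hp v φ e) (w : M.Group) :
    Eig hp (w⁻¹ * v * w) (cw hp φ w) e := fun a => by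
  rw [cw_apply, cw_apply, wa_mul, wa_mul, wa_inv', h]

include h3 in
theorem ne_one {e : K} (he : e ^ 2 + e + 1 = 0) : e - 1 ≠ 0 := fun h => h3 (by linear_combination he - (e + 2) * h)

theorem ne_neg_one {e : K} (he : e ^ 2 + e + 1 = 0) : e + 1 ≠ 0 := fun h =>
  one_ne_zero (α := K) (by linear_combination he - e * h)

include h3 in
theorem Eig.eq_zero {w : M.Group} {φ : Lat l →+ K} {e : K} (h : Eig hp w φ e) (he : e ^ 2 + e + 1 = 0) {a : Lat l}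
    (ha : φ (wa hp w a) = φ a ∨ φ (wa hp w a) = -φ a) : φ a = 0 := by
  rw [h] at ha
  rcases ha with h1 | h1
  · exact (mul_eq_zero.1 (by linear_combination h1)).resolve_left (ne_one h3 he)
  · exact (mul_eq_zero.1 (by linear_combination h1)).resolve_left (ne_neg_one he)

include h3 in
/-- an eigenvector for an element of `W(S)` does not kill `S` -/
theorem Eig.not_kill {w : M.Group} {φ : Lat l →+ K} {e : K} (h : Eig hp w φ e) (he : e ^ 2 + e + 1 = 0) (h0 : φ ≠ 0)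
    {S : Set (Lat l)} (hw : w ∈ WW hp S) : ¬ ∀ a ∈ S, φ a = 0 := fun h1 =>
  h0 (AddMonoidHom.ext fun a => h.eq_zero h3 he (Or.inl (fixs_of_mem hp h1 hw a)))

include h3 in
theorem not_ex1 {w : M.Group} {φ : Lat l →+ K} {e : K} (h : Eig hp w φ e) (he : e ^ 2 + e + 1 = 0) {κ : V}
    (hx : Exa hp φ κ) (j : Fin l) (hκ : toF l κ = sr j) : False := by
  rcases (hx.ex1 hκ).res (repAut M.toCoxeterSystem hp.isCartan w) (rt_wa hp w) h with h1 | h1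
  · exact ne_one h3 he (by rw [h1.1, sub_self])
  · exact ne_neg_one he (by rw [h1.1, neg_add_cancel])

/-- the candidates with `N (trace) (determinant) = 0` satisfy `P` -/
noncomputable def chkN (d : Dt) (i j : ℕ) (RR : List (ℤ × ℤ)) (N : ℤ → ℤ → ℤ) (P : ℤ × ℤ → ℤ × ℤ → Bool) : Bool :=
  al (fun p => al (fun q => !cand d i j RR p q || (zr (N (p.1 + q.2) (p.1 * q.2 - p.2 * q.1)) 46656 || P p q)) RR) RR

/-- the resultant with `X ^ 2 + X + 1` -/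
def N3 (t s : ℤ) : ℤ := (s - 1) * (s - 1) + (s - 1) * (t + 1) + (t + 1) * (t + 1)

/-- the value at two -/
def N2 (t s : ℤ) : ℤ := 4 - 2 * t + s

theorem hN3 {e : K} (he : e ^ 2 + e + 1 = 0) (t s : ℤ) (h : e ^ 2 - t * e + s = 0) : (N3 t s : K) = 0 := by
  have h1 : (s : K) - 1 = (t + 1) * e := by linear_combination h - he
  unfold N3
  push_cast
  rw [h1]
  linear_combination ((t : K) + 1) ^ 2 * he

theorem hN2 (t s : ℤ) (h : (2 : K) ^ 2 - t * 2 + s = 0) : (N2 t s : K) = 0 := by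
  unfold N2
  push_cast
  linear_combination h

include hT h2 h3 in
theorem rot {i j : Fin l} {RR : List (ℤ × ℤ)} (R : RROK hp i j RR) {N : ℤ → ℤ → ℤ} {P : ℤ × ℤ → ℤ × ℤ → Bool}
    (hc : chkN d i j RR N P = true) {φ : Lat l →+ K} (hx : Ex2 hp φ i j) (h : Lat l ≃+ Lat l)
    (hr : ∀ a, Rt hp (h a) ↔ Rt hp a) {e : K} (he : ∀ a, φ (h a) = e * φ a)
    (hN : ∀ t s : ℤ, e ^ 2 - t * e + s = 0 → (N t s : K) = 0) : ∃ p q, P p q = true ∧ Mx h i j p q := by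
  obtain ⟨p, hp', q, hq, h1, h4, h5, h6⟩ := hT.res2 R hx h hr he
  have h7 := al_iff.1 (al_iff.1 hc p hp') q hq
  rw [h1, Bool.not_true, Bool.false_or] at h7
  refine ⟨p, q, (Bool.or_eq_true_iff.1 h7).resolve_left fun h8 => un6K h2 h3 (zr_iff.1 h8) (hN _ _ ?_), h4⟩
  push_cast
  exact charpoly hx.ne1 h5 h6

include hT h2 h3 in
theorem not_ex2 {i j : Fin l} {RR : List (ℤ × ℤ)} (R : RROK hp i j RR)
    (hc : chkN d i j RR N3 (fun _ _ => false) = true) {w : M.Group} {φ : Lat l →+ K} {e : K} (h : Eig hp w φ e)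
    (he : e ^ 2 + e + 1 = 0) (hx : Ex2 hp φ i j) : False := by
  obtain ⟨p, q, h1, -⟩ := rot hT h2 h3 R hc hx (repAut M.toCoxeterSystem hp.isCartan w) (rt_wa hp w) h (hN3 he)
  exact Bool.false_ne_true h1

theorem noG2 {φ : Lat 2 →+ K} : ¬ Ty tG2 wtG2 φ := by
  rintro ⟨w, t, ht, -⟩
  exact List.not_mem_nil ht

include h2 h3

theorem noF4 {φ : Lat 4 →+ K} {v : CoxeterMatrix.F₄.Group} {e : K} (h : Eig tF4 v φ e) (he : e ^ 2 + e + 1 = 0) :
    ¬ Ty tF4 wtF4 φ := by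
  rintro ⟨w, t, ht, hx⟩
  have h1 := tyF4' t ht
  simp only [List.mem_cons, List.not_mem_nil, or_false] at h1
  rcases h1 with h1 | h1 | h1 <;> rw [h1] at hx
  · exact not_ex1 h3 (h.conj w) he hx 0 (toF_uv (l := 4) 0)
  · exact not_ex1 h3 (h.conj w) he hx 1 (toF_uv (l := 4) 1)
  · exact not_ex1 h3 (h.conj w) he hx 2 (toF_uv (l := 4) 2)

theorem noD4 {φ : Lat 4 →+ K} {v : coxeterD4.Group} {e : K} (h : Eig tD4 v φ e) (he : e ^ 2 + e + 1 = 0) :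
    ¬ Ty tD4 wtD4 φ := by
  rintro ⟨w, t, ht, hx⟩
  have h1 := tyD4' t ht
  simp only [List.mem_cons, List.not_mem_nil, or_false] at h1
  rcases h1 with h1 | h1 | h1 | h1 <;> rw [h1] at hx
  · exact not_ex1 h3 (h.conj w) he hx 0 (toF_uv (l := 4) 0)
  · exact not_ex1 h3 (h.conj w) he hx 2 (toF_uv (l := 4) 2)
  · exact not_ex1 h3 (h.conj w) he hx 3 (toF_uv (l := 4) 3)
  have e23 : toF 4 [0, 0, 1, 1] = sr 2 + sr 3 := by decide +kernel
  have R : RROK tD4 2 3 [(-1, -1), (-1, 0), (0, -1), (0, 1), (1, 0), (1, 1)] :=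
    tabD4.rrok (by decide) (by decide +kernel)
  obtain ⟨p, q, h4, h5⟩ := rot tabD4 h2 h3 R (N := N3) (P := fun p q => !(zr 2 (p.1 - 1) && zr 2 p.2))
    (by decide +kernel) (hx.ex2 e23) (repAut _ tD4.isCartan (w⁻¹ * v * w)) (rt_wa tD4 _) (h.conj w) (hN3 he)
  obtain ⟨y, hy⟩ := cg_wa tD4 (n := 2) (z := toF 4 [1, 0, 1, 0]) (fun k => by
    rw [← tabD4.car, psi_toF (by rfl), Nat.cast_ofNat, ← zr_iff]
    revert k
    decide +kernel) (w⁻¹ * v * w)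
  obtain ⟨h6, h7⟩ := h5 (toF 4 [1, 0, 1, 0])
  have h8 : (1 : ℤ) + 2 * y 2 = 1 * p.1 + 0 * q.1 := (congrFun hy 2).symm.trans h6
  have h9 : (0 : ℤ) + 2 * y 3 = 1 * p.2 + 0 * q.2 := (congrFun hy 3).symm.trans h7
  rw [zr_iff.2 (show (2 : ℤ) ∣ p.1 - 1 by omega), zr_iff.2 (show (2 : ℤ) ∣ p.2 by omega)] at h4
  exact Bool.false_ne_true h4

theorem tyE6r {φ : Lat 6 →+ K} {v : CoxeterMatrix.E₆.Group} {e : K} (h : Eig tE6 v φ e) (he : e ^ 2 + e + 1 = 0)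
    (hty : Ty tE6 wtE6 φ) : ∃ w, Exa tE6 (cw tE6 φ w) [1, 0, 0, 0, 0, 1] := by
  obtain ⟨w, t, ht, hx⟩ := hty
  have h1 := tyE6' t ht
  simp only [List.mem_cons, List.not_mem_nil, or_false] at h1
  rcases h1 with h1 | h1 | h1 | h1 | h1 <;> rw [h1] at hx
  · exact (not_ex1 h3 (h.conj w) he hx 0 (toF_uv (l := 6) 0)).elim
  · exact (not_ex1 h3 (h.conj w) he hx 2 (toF_uv (l := 6) 2)).elim
  · exact (not_ex1 h3 (h.conj w) he hx 3 (toF_uv (l := 6) 3)).elim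
  · exact ⟨w, hx⟩
  · exact (not_ex2 tabE6 h2 h3 R24 (by decide +kernel) (h.conj w) he (hx.ex2 k24)).elim

theorem tyE7r {φ : Lat 7 →+ K} {v : CoxeterMatrix.E₇.Group} {e : K} (h : Eig tE7 v φ e) (he : e ^ 2 + e + 1 = 0)
    (hty : Ty tE7 wtE7 φ) : ∃ w, Exa tE7 (cw tE7 φ w) [0, 0, 0, 1, 0, 1, 0] := by
  obtain ⟨w, t, ht, hx⟩ := hty
  have h1 := tyE7' t ht
  simp only [List.mem_cons, List.not_mem_nil, or_false] at h1
  rcases h1 with h1 | h1 | h1 | h1 | h1 | h1 | h1 | h1 | h1 <;> rw [h1] at hx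
  · exact (not_ex1 h3 (h.conj w) he hx 6 (toF_uv (l := 7) 6)).elim
  · exact (not_ex1 h3 (h.conj w) he hx 5 (toF_uv (l := 7) 5)).elim
  · exact (not_ex1 h3 (h.conj w) he hx 1 (toF_uv (l := 7) 1)).elim
  · exact (not_ex1 h3 (h.conj w) he hx 2 (toF_uv (l := 7) 2)).elim
  · exact (not_ex1 h3 (h.conj w) he hx 4 (toF_uv (l := 7) 4)).elim
  · exact (not_ex1 h3 (h.conj w) he hx 3 (toF_uv (l := 7) 3)).elim
  · exact (not_ex2 tabE7 h2 h3 R46 (by decide +kernel) (h.conj w) he (hx.ex2 k46)).elim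
  · exact (not_ex2 tabE7 h2 h3 R36 (by decide +kernel) (h.conj w) he (hx.ex2 k36)).elim
  · exact ⟨w, hx⟩

/-! ### `E₆` -/

theorem four_key {a b c d : K} (h1 : a + b + c + d = 0) (h4 : a ^ 2 + b ^ 2 + c ^ 2 + d ^ 2 = 0)
    (h5 : a * b * c * d = 0) (h : a = b) : a = 0 ∧ b = 0 ∧ c = 0 ∧ d = 0 := by
  subst h
  have k : ∀ {x y : K}, 2 * a + x + y = 0 → 2 * a ^ 2 + x ^ 2 + y ^ 2 = 0 → x = 0 → a = 0 ∧ y = 0 := by
    intro x y e1 e2 e3
    have e4 : a = 0 := pow_eq_zero_iff two_ne_zero |>.1 ((mul_eq_zero.1 (show (2 * 3) * a ^ 2 = 0 by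
      linear_combination e2 + (2 * a - x - y) * e1 + (2 * y) * e3)).resolve_left (mul_ne_zero h2 h3))
    exact ⟨e4, by linear_combination e1 - 2 * e4 - e3⟩
  rcases mul_eq_zero.1 h5 with h6 | h6
  · rcases mul_eq_zero.1 h6 with h7 | h7
    · have e1 : a = 0 := mul_self_eq_zero.1 h7
      have e2 : c = 0 := pow_eq_zero_iff two_ne_zero |>.1 ((mul_eq_zero.1 (show 2 * c ^ 2 = 0 by
        linear_combination h4 + (c - d) * h1 + (-2 * a - 2 * c + 2 * d) * e1)).resolve_left h2)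
      exact ⟨e1, e1, e2, by linear_combination h1 - 2 * e1 - e2⟩
    · obtain ⟨e1, e2⟩ := k (x := c) (y := d) (by linear_combination h1) (by linear_combination h4) h7
      exact ⟨e1, e1, h7, e2⟩
  · obtain ⟨e1, e2⟩ := k (x := d) (y := c) (by linear_combination h1) (by linear_combination h4) h6
    exact ⟨e1, e1, e2, h6⟩

theorem four_key' {a b c d : K} (h1 : a + b + c + d = 0) (h4 : a ^ 2 + b ^ 2 + c ^ 2 + d ^ 2 = 0)
    (h5 : a * b * c * d = 0) (h : a = b ∨ a = c ∨ a = d ∨ b = c ∨ b = d ∨ c = d) :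
    a = 0 ∧ b = 0 ∧ c = 0 ∧ d = 0 := by
  rcases h with h | h | h | h | h | h
  · exact four_key h2 h3 h1 h4 h5 h
  · have := four_key h2 h3 (a := a) (b := c) (c := b) (d := d) (by linear_combination h1) (by linear_combination h4)
      (by linear_combination h5) h
    tauto
  · have := four_key h2 h3 (a := a) (b := d) (c := b) (d := c) (by linear_combination h1) (by linear_combination h4)
      (by linear_combination h5) h
    tauto
  · have := four_key h2 h3 (a := b) (b := c) (c := a) (d := d) (by linear_combination h1) (by linear_combination h4)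
      (by linear_combination h5) h
    tauto
  · have := four_key h2 h3 (a := b) (b := d) (c := a) (d := c) (by linear_combination h1) (by linear_combination h4)
      (by linear_combination h5) h
    tauto
  · have := four_key h2 h3 (a := c) (b := d) (c := a) (d := b) (by linear_combination h1) (by linear_combination h4)
      (by linear_combination h5) h
    tauto

/-- eight roots of `E₆` -/
def L8 : List V := [[1, 0, 0, 0, 0, 0], [1, 0, 1, 0, 0, 0], [1, 0, 1, 1, 0, 0], [1, 0, 1, 1, 1, 0], [1, 1, 1, 1, 0, 0],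
  [1, 1, 1, 1, 1, 0], [1, 1, 1, 2, 1, 0], [1, 1, 2, 2, 1, 0]]

/-- the positive roots of `D₄` -/
def L12 : List V := [[0, 0, 0, 0, 1, 0], [0, 0, 0, 1, 0, 0], [0, 0, 1, 0, 0, 0], [0, 1, 0, 0, 0, 0],
  [0, 0, 0, 1, 1, 0], [0, 0, 1, 1, 0, 0], [0, 1, 0, 1, 0, 0], [0, 0, 1, 1, 1, 0],
  [0, 1, 0, 1, 1, 0], [0, 1, 1, 1, 0, 0], [0, 1, 1, 1, 1, 0], [0, 1, 1, 2, 1, 0]]

omit h2 h3 in
theorem mem_L8 {a : Lat 6} : a ∈ L8.map (toF 6) ↔ Rt tE6 a ∧ a 0 = 1 ∧ a 5 = 0 := by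
  constructor
  · intro ha
    obtain ⟨v, hv, rfl⟩ := List.mem_map.1 ha
    obtain ⟨e, he, h1, h4, h5⟩ := (by decide +kernel : ∀ v ∈ L8, ∃ e ∈ dE6.T, e.b = v ∧ gt v 0 = 1 ∧ gt v 5 = 0) v hv
    exact ⟨h1 ▸ tabE6.rt e he, h4, h5⟩
  · rintro ⟨ha, h1, h4⟩
    obtain ⟨e, he, rfl | rfl⟩ := tabE6.sur a ha
    · exact List.mem_map.2 ⟨_, (by decide +kernel : ∀ e ∈ dE6.T, gt e.b 0 = 1 → gt e.b 5 = 0 → e.b ∈ L8) e he h1 h4,
        rfl⟩
    · have h5 : (0 : ℤ) ≤ toF 6 e.b 0 := tabE6.pos e he 0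
      rw [Pi.neg_apply] at h1
      omega

omit h2 h3 in
theorem prod_L8 {N : Type} [CommMonoid N] (f : Lat 6 → N) {w : CoxeterMatrix.E₆.Group}
    (h0 : ∀ a, wa tE6 w a 0 = a 0) (h5 : ∀ a, wa tE6 w a 5 = a 5) :
    ((L8.map (toF 6)).map fun a => f (wa tE6 w a)).prod = ((L8.map (toF 6)).map f).prod := by
  classical
  have hn : (L8.map (toF 6)).Nodup := List.Nodup.map_on (fun x hx y hy h =>
    toF_inj ((by decide : ∀ v ∈ L8, v.length = 6) x hx) ((by decide : ∀ v ∈ L8, v.length = 6) y hy) h) (by decide)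
  have hi : Set.InjOn (wa tE6 w) (L8.map (toF 6)).toFinset := fun a _ b _ h => wa_inj tE6 h
  have e : (L8.map (toF 6)).toFinset.image (wa tE6 w) = (L8.map (toF 6)).toFinset := by
    refine Finset.eq_of_subset_of_card_le (fun a ha => ?_) (Finset.card_image_of_injOn hi).ge
    obtain ⟨b, hb, rfl⟩ := Finset.mem_image.1 ha
    rw [List.mem_toFinset, mem_L8] at hb ⊢
    exact ⟨hb.1.act w, (h0 b).trans hb.2.1, (h5 b).trans hb.2.2⟩
  rw [← List.prod_toFinset _ hn, ← List.prod_toFinset _ hn, ← Finset.prod_image hi, e]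

omit h2 h3 in
theorem val6 (φ : Lat 6 →+ K) (a b c d e f : ℤ) : φ (toF 6 [a, b, c, d, e, f]) =
    a * φ (sr 0) + b * φ (sr 1) + c * φ (sr 2) + d * φ (sr 3) + e * φ (sr 4) + f * φ (sr 5) := by
  rw [eq_sum, Fin.sum_univ_six]
  rfl

/-- no root of `D₄` is killed by an eigenvector -/
theorem e6_core {A B : Lat 6 →+ K} (hA : Exa tE6 A [1, 0, 0, 0, 0, 1]) {w : CoxeterMatrix.E₆.Group}
    (hw : w ∈ WW tE6 (Psi tE6 A)) {e : K} (he : e ^ 2 + e + 1 = 0) (hB : Eig tE6 w B e) (h0 : B ≠ 0) {a : Lat 6}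
    (ha : a ∈ Psi tE6 A) : B a ≠ 0 := by
  intro hBa
  have hx := hA.ex2 k05
  have f0 : ∀ a, wa tE6 w a 0 = a 0 := fun a => by
    have := fixs_of_mem tE6 (φ := psi (sr 0)) (fun a ha => (psi_sr' 0 a).trans ((hx a ha.1).1 ha.2).1) hw a
    rwa [psi_sr', psi_sr'] at this
  have f5 : ∀ a, wa tE6 w a 5 = a 5 := fun a => by
    have := fixs_of_mem tE6 (φ := psi (sr 5)) (fun a ha => (psi_sr' 5 a).trans ((hx a ha.1).1 ha.2).2) hw a
    rwa [psi_sr', psi_sr'] at this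
  have p1 := congrArg Multiplicative.toAdd (prod_L8 (fun a => Multiplicative.ofAdd (B a)) f0 f5)
  have p2 := congrArg Multiplicative.toAdd (prod_L8 (fun a => Multiplicative.ofAdd (B a ^ 2)) f0 f5)
  have p4 := congrArg Multiplicative.toAdd (prod_L8 (fun a => Multiplicative.ofAdd (B a ^ 4)) f0 f5)
  have p8 := prod_L8 (fun a => B a) f0 f5
  simp only [L8, List.map_cons, List.map_nil, List.prod_cons, List.prod_nil, toAdd_mul, toAdd_ofAdd, toAdd_one, hB _,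
    val6, Int.cast_one, Int.cast_zero, Int.cast_ofNat, one_mul, zero_mul, add_zero] at p1 p2 p4 p8
  obtain ⟨s1, e1⟩ : ∃ s, B (sr 0) = s := ⟨_, rfl⟩
  obtain ⟨s2, e2⟩ : ∃ s, B (sr 2) = s - s1 := ⟨B (sr 2) + s1, by ring⟩
  obtain ⟨s3, e3⟩ : ∃ s, B (sr 3) = s - s2 := ⟨B (sr 3) + s2, by ring⟩
  obtain ⟨s4, e4⟩ : ∃ s, B (sr 4) = s - s3 := ⟨B (sr 4) + s3, by ring⟩
  have n1 := ne_one h3 he
  have n2 : e ^ 2 - 1 ≠ 0 := fun h => mul_ne_zero n1 (ne_neg_one he) (by linear_combination h)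
  have e3' : e ^ 3 = 1 := by linear_combination (e - 1) * he
  rw [e1, e2, e3, e4] at p1 p2 p4 p8
  have e5 : B (sr 1) = -s3 - s4 := by
    refine sub_eq_zero.1 ((mul_eq_zero.1 (?_ : (2 * 2 * (e - 1)) * _ = 0)).resolve_left
      (mul_ne_zero (mul_ne_zero h2 h2) n1))
    linear_combination p1
  rw [e5] at p2 p4 p8
  have q2 : s1 ^ 2 + s2 ^ 2 + s3 ^ 2 + s4 ^ 2 = 0 := by
    refine (mul_eq_zero.1 (?_ : (2 * (e ^ 2 - 1)) * _ = 0)).resolve_left (mul_ne_zero h2 n2)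
    linear_combination p2
  have q4 : (s1 ^ 2) ^ 2 + (s2 ^ 2) ^ 2 + (s3 ^ 2) ^ 2 + (s4 ^ 2) ^ 2 = 0 := by
    refine (mul_eq_zero.1 (?_ : (2 * (e - 1)) * _ = 0)).resolve_left (mul_ne_zero h2 n1)
    linear_combination p4 - 2 * e * (s1 ^ 4 + s2 ^ 4 + s3 ^ 4 + s4 ^ 4) * e3'
  have q8 : s1 ^ 2 * s2 ^ 2 * s3 ^ 2 * s4 ^ 2 = 0 := by
    refine (mul_eq_zero.1 (?_ : (e ^ 2 - 1) * _ = 0)).resolve_left n2
    linear_combination p8 - e ^ 2 * (e ^ 3 + 1) * (s1 ^ 2 * s2 ^ 2 * s3 ^ 2 * s4 ^ 2) * e3'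
  have h12 : ∀ b ∈ Psi tE6 A, ∃ v ∈ L12, b = toF 6 v ∨ b = -toF 6 v := by
    intro b hb
    obtain ⟨f, hf, h1⟩ := tabE6.sur b hb.1
    have h4 := (hx b hb.1).1 hb.2
    refine ⟨f.b, (by decide +kernel : ∀ e ∈ dE6.T, gt e.b 0 = 0 → gt e.b 5 = 0 → e.b ∈ L12) f hf ?_ ?_, h1⟩
    · rcases h1 with rfl | rfl
      exacts [h4.1, neg_eq_zero.1 h4.1]
    · rcases h1 with rfl | rfl
      exacts [h4.2, neg_eq_zero.1 h4.2]
  obtain ⟨v, hv, h1⟩ := h12 a ha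
  have h4 : B (toF 6 v) = 0 := by
    rcases h1 with rfl | rfl
    · exact hBa
    · rwa [map_neg, neg_eq_zero] at hBa
  have h5 := four_key' h2 h3 q2 q4 q8 (by
    simp only [L12, List.mem_cons, List.not_mem_nil, or_false] at hv
    rcases hv with rfl | rfl | rfl | rfl | rfl | rfl | rfl | rfl | rfl | rfl | rfl | rfl <;>
      rw [val6, e1, e2, e3, e4, e5] at h4 <;> push_cast at h4
    · exact Or.inr (Or.inr (Or.inr (Or.inr (Or.inr (by linear_combination (-1 * s3 - 1 * s4) * h4)))))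
    · exact Or.inr (Or.inr (Or.inr (Or.inl (by linear_combination (-1 * s2 - 1 * s3) * h4))))
    · exact Or.inl (by linear_combination (-1 * s1 - 1 * s2) * h4)
    · exact Or.inr (Or.inr (Or.inr (Or.inr (Or.inr (by linear_combination (-1 * s3 - (-1) * s4) * h4)))))
    · exact Or.inr (Or.inr (Or.inr (Or.inr (Or.inl (by linear_combination (-1 * s2 - 1 * s4) * h4)))))
    · exact Or.inr (Or.inl (by linear_combination (-1 * s1 - 1 * s3) * h4))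
    · exact Or.inr (Or.inr (Or.inr (Or.inr (Or.inl (by linear_combination (-1 * s2 - (-1) * s4) * h4)))))
    · exact Or.inr (Or.inr (Or.inl (by linear_combination (-1 * s1 - 1 * s4) * h4)))
    · exact Or.inr (Or.inr (Or.inr (Or.inl (by linear_combination (-1 * s2 - (-1) * s3) * h4))))
    · exact Or.inr (Or.inr (Or.inl (by linear_combination (-1 * s1 - (-1) * s4) * h4)))
    · exact Or.inr (Or.inl (by linear_combination (-1 * s1 - (-1) * s3) * h4))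
    · exact Or.inl (by linear_combination (-1 * s1 - (-1) * s2) * h4))
  obtain ⟨z1, z2, z3, z4⟩ := h5
  rw [pow_eq_zero_iff two_ne_zero] at z1 z2 z3 z4
  subst z1 z2 z3 z4
  refine hB.not_kill h3 he h0 hw fun b hb => ?_
  have h6 := (hx b hb.1).1 hb.2
  rw [eq_sum, Fin.sum_univ_six, e1, e2, e3, e4, e5, h6.2]
  simp

/-- **The type `D₄` in `E₆` does not occur.** -/
theorem noE6 {A B : Lat 6 →+ K} {v w : CoxeterMatrix.E₆.Group} {e : K} (he : e ^ 2 + e + 1 = 0)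
    (hA : Eig tE6 v A e) (hX : Eig tE6 v (A + B) e) (tA : Ty tE6 wtE6 A) (tX : Ty tE6 wtE6 (A + B))
    (hw : w ∈ WW tE6 (Psi tE6 A)) (hB : Eig tE6 w B e) (h0 : B ≠ 0) : False := by
  obtain ⟨u, h1⟩ := tyE6r h2 h3 hA he tA
  obtain ⟨u', h4⟩ := tyE6r h2 h3 hX he tX
  have c1 : (Psi tE6 A).ncard = 24 := by
    rw [← ncard_cw tE6 A u, tabE6.ncard_ex h1]
    decide +kernel
  have c2 : ∀ x, (Psi tE6 (cw tE6 (A + B) x)).ncard = 24 := fun x => by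
    rw [ncard_cw, ← ncard_cw tE6 (A + B) u', tabE6.ncard_ex h4]
    decide +kernel
  have c3 : (Psi tE6 (0 : Lat 6 →+ K)).ncard = 72 := by
    rw [tabE6.ncard_eq (0 : Lat 6 →+ K) (P := fun _ => true) fun e _ => ⟨fun _ => rfl, fun _ => rfl⟩]
    decide +kernel
  have k : ∀ a, Rt tE6 a → A a = 0 → B a ≠ 0 := fun a ha h5 => by
    have h6 := e6_core h2 h3 h1 (conj_mem_WW tE6 hw u) he (hB.conj u) (cw_ne tE6 h0 u) (a := wa tE6 u⁻¹ a)
      ((mem_cw tE6).2 (by rw [wa_inv']; exact ⟨ha, h5⟩))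
    rwa [cw_apply, wa_inv'] at h6
  have hf : ∀ a, A (wa tE6 w a) = A a := fixs_of_mem tE6 (fun a ha => ha.2) hw
  have v0 : ∀ a, cw tE6 (A + B) 1 a = A a + 1 * B a := fun a => by rw [cw_apply, wa_one, one_mul]; rfl
  have v1 : ∀ a, cw tE6 (A + B) w a = A a + e * B a := fun a => by
    rw [cw_apply, AddMonoidHom.add_apply, hf, hB]
  have v2 : ∀ a, cw tE6 (A + B) (w * w) a = A a + e ^ 2 * B a := fun a => by
    rw [cw_apply, AddMonoidHom.add_apply, wa_mul, hf, hf, hB, hB, ← mul_assoc, sq]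
  have n0 : e ≠ 0 := fun h => one_ne_zero (α := K) (by rw [h] at he; linear_combination he)
  have n1 := ne_one h3 he
  have n2 : e ^ 2 - 1 ≠ 0 := fun h => mul_ne_zero n1 (ne_neg_one he) (by linear_combination h)
  have n3 : e ^ 2 - e ≠ 0 := fun h => mul_ne_zero n0 n1 (by linear_combination h)
  have d1 : ∀ {x : CoxeterMatrix.E₆.Group} {s : K}, (∀ a, cw tE6 (A + B) x a = A a + s * B a) → s ≠ 0 →
      Disjoint (Psi tE6 A) (Psi tE6 (cw tE6 (A + B) x)) := fun hs h => Set.disjoint_left.2 fun a ha hb => by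
    have h5 := hb.2
    rw [hs, ha.2, zero_add] at h5
    exact k a ha.1 ha.2 ((mul_eq_zero.1 h5).resolve_left h)
  have d2 : ∀ {x y : CoxeterMatrix.E₆.Group} {s t : K}, (∀ a, cw tE6 (A + B) x a = A a + s * B a) →
      (∀ a, cw tE6 (A + B) y a = A a + t * B a) → t - s ≠ 0 →
      Disjoint (Psi tE6 (cw tE6 (A + B) x)) (Psi tE6 (cw tE6 (A + B) y)) :=
    fun {x y s t} hs ht h => Set.disjoint_left.2 fun a ha hb => by
    have h5 := ha.2
    have h6 := hb.2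
    rw [hs] at h5
    rw [ht] at h6
    have h7 : B a = 0 := (mul_eq_zero.1 (by linear_combination h6 - h5)).resolve_left h
    exact k a ha.1 (by linear_combination h5 - s * h7) h7
  have fin : ∀ φ : Lat 6 →+ K, (Psi tE6 φ).Finite := fun φ => (finite_Rt tE6).subset fun a ha => ha.1
  have h5 : (Psi tE6 A ∪ Psi tE6 (cw tE6 (A + B) 1) ∪ (Psi tE6 (cw tE6 (A + B) w) ∪
      Psi tE6 (cw tE6 (A + B) (w * w)))).ncard ≤ 72 := by
    rw [← c3]
    refine Set.ncard_le_ncard ?_ (fin 0)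
    rintro a ((ha | ha) | (ha | ha)) <;> exact ⟨ha.1, rfl⟩
  rw [Set.ncard_union_eq (Set.disjoint_union_left.2 ⟨Set.disjoint_union_right.2 ⟨d1 v1 n0, d1 v2 (pow_ne_zero 2 n0)⟩,
    Set.disjoint_union_right.2 ⟨d2 v0 v1 n1, d2 v0 v2 n2⟩⟩) ((fin _).union (fin _)) ((fin _).union (fin _)),
    Set.ncard_union_eq (d1 v0 one_ne_zero) (fin _) (fin _), Set.ncard_union_eq (d2 v1 v2 n3) (fin _) (fin _),
    c1, c2, c2, c2] at h5
  omega

end field

end Cfsg.Agent.Cam.Ex.Cb.Ub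

private theorem dce_dd9309d1c473 : _root_.True := by
  try have : _root_.True := by simp only [_root_.Cfsg.Agent.Cam.Ex.Cb.cw.congr_simp]
  try have : _root_.True := by simp only [_root_.Cfsg.Agent.Cam.Ex.Cb.Ub.L8.eq_1]
  try have : _root_.True := by simp only [_root_.Cfsg.Agent.Cam.Ex.Cb.Ub.L12.eq_1]
  exact _root_.True.intro
end

-- part: Cam/Ex/SL3
section
prune_inst 0x180004400002020000000000000000000008000000040000000820200000020000004400300000110000200200000000000800011804810800040040810000000000000000400000000000000000000000000000000000200000000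
set_option linter.all false
open scoped Cfsg.Agent.FastGrp

-- part: Cam/Ex/SL3Lin
section
/-!
# Perfect subgroups of `SL₃(k)` fixed by a graph automorphism, characteristic two (helper60)

* `eq_bot` : a perfect group fixing a vector `v ≠ 0` and a functional `u ≠ 0` with `u v = 0` is trivial;
* `exists_pair` : a fixed vector and a fixed functional;
* `core` : the element `y = λ + (λ³ - λ) e` of order five;
* `lift` : the same for the image of `SL₃(k)` in a group.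
-/

set_option autoImplicit false

namespace Cfsg.Agent.Cam.Ex.SL3

open Matrix Cfsg.Agent.H428.OT.Lin
open scoped commutatorElement

variable {k : Type*} [Field k]

/-- `SL₃(k)` -/
abbrev S3 (k : Type*) [Field k] : Type _ := _root_.Matrix.SpecialLinearGroup (Fin 3) k

/-- matrices -/
abbrev M3 (k : Type*) : Type _ := Matrix (Fin 3) (Fin 3) k

/-- fixed vectors -/
def Fv (R : Subgroup (S3 k)) (v : Fin 3 → k) : Prop := ∀ g ∈ R, (g : M3 k) *ᵥ v = v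

/-- fixed functionals -/
def Fw (R : Subgroup (S3 k)) (w : Fin 3 → k) : Prop := ∀ g ∈ R, (g : M3 k)ᵀ *ᵥ w = w

theorem par {a b : Fin 3 → k} (ha : a ≠ 0) (h : a ⨯₃ b = 0) : ∃ s : k, b = s • a := by
  obtain ⟨i, hi⟩ := Function.ne_iff.1 ha
  have h1 := cross_cross_eq_smul_sub_smul' (Pi.single i (1 : k)) a b
  rw [h, map_zero, single_dotProduct, dotProduct_single, one_mul, mul_one] at h1
  refine ⟨(a i)⁻¹ * b i, ?_⟩
  rw [mul_smul, ← sub_eq_zero.1 h1.symm |>.symm, smul_smul, inv_mul_cancel₀ hi, one_smul]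

theorem cross_mulVec (g : M3 k) (a b : Fin 3 → k) : gᵀ *ᵥ ((g *ᵥ a) ⨯₃ (g *ᵥ b)) = g.det • (a ⨯₃ b) := by
  funext i
  (revert i; simp only [cross_apply, mulVec, dotProduct, Fin.sum_univ_three, det_fin_three, _root_.Fin.forall_fin_succ, _root_.Matrix.transpose_apply, _root_.Nat.succ_eq_add_one, Nat.reduceAdd, Fin.isValue, _root_.Matrix.cons_val_zero, _root_.Matrix.cons_val_one, _root_.Matrix.cons_val, _root_.Pi.smul_apply, _root_.smul_eq_mul, _root_.Matrix.cons_val_succ, _root_.Fin.succ_zero_eq_one, _root_.Matrix.cons_val_fin_one, _root_.Fin.succ_one_eq_two, _root_.IsEmpty.forall_iff, _root_.and_true]) <;> (repeat' with_reducible apply And.intro) <;> ring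

theorem mulVec_inj {g : M3 k} (hg : g.det ≠ 0) {a b : Fin 3 → k} (h : g *ᵥ a = g *ᵥ b) : a = b :=
  mulVec_injective_iff_isUnit.2 ((isUnit_iff_isUnit_det g).2 (IsUnit.mk0 _ hg)) h

theorem dot_mulVec (g : M3 k) (u x : Fin 3 → k) : u ⬝ᵥ (g *ᵥ x) = (gᵀ *ᵥ u) ⬝ᵥ x := by
  rw [dotProduct_mulVec, mulVec_transpose]

variable {R : Subgroup (S3 k)}

theorem fv_of (hR : R ≤ ⁅R, R⁆) {x : Fin 3 → k} (h : ∀ g ∈ R, Fv R ((g : M3 k) *ᵥ x - x)) : Fv R x := by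
  let A : Subgroup (S3 k) :=
    { carrier := {g | (g : M3 k) *ᵥ x = x}
      one_mem' := one_mulVec x
      mul_mem' := fun {a b} ha hb => by
        show ((a : M3 k) * (b : M3 k)) *ᵥ x = x
        rw [← mulVec_mulVec, hb, ha]
      inv_mem' := fun {a} ha => by
        show ((a⁻¹ : S3 k) : M3 k) *ᵥ x = x
        conv_lhs => rw [← show (a : M3 k) *ᵥ x = x from ha]
        rw [mulVec_mulVec, ← cmul, inv_mul_cancel, cone, one_mulVec] }
  have h1 : ∀ a ∈ R, ∀ b ∈ R, (a : M3 k) *ᵥ ((b : M3 k) *ᵥ x) = (b : M3 k) *ᵥ ((a : M3 k) *ᵥ x) := by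
    intro a ha b hb
    have h2 := h b hb a ha
    have h3 := h a ha b hb
    rw [mulVec_sub] at h2 h3
    linear_combination (exp := 1) h2 - h3
  have h2 : ⁅R, R⁆ ≤ A := by
    rw [Subgroup.commutator_le]
    intro a ha b hb
    show ((a * b * a⁻¹ * b⁻¹ : S3 k) : M3 k) *ᵥ x = x
    rw [cmul, ← mulVec_mulVec, cmul, ← mulVec_mulVec, h1 _ (inv_mem ha) _ (inv_mem hb), mulVec_mulVec, mulVec_mulVec,
      ← cmul, ← cmul, mul_inv_cancel_right, mul_inv_cancel, cone, one_mulVec]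
  exact fun g hg => h2 (hR hg)

theorem Fv.smul {v : Fin 3 → k} (h : Fv R v) (s : k) : Fv R (s • v) := fun g hg => by rw [mulVec_smul, h g hg]

theorem Fw.smul {v : Fin 3 → k} (h : Fw R v) (s : k) : Fw R (s • v) := fun g hg => by rw [mulVec_smul, h g hg]

theorem det_ne' (g : S3 k) : (g : M3 k).det ≠ 0 := by
  rw [g.det_coe]
  exact one_ne_zero

/-- **The degenerate case.** -/
theorem eq_bot (hR : R ≤ ⁅R, R⁆) {v u : Fin 3 → k} (hv : Fv R v) (hv0 : v ≠ 0) (hu : Fw R u) (hu0 : u ≠ 0)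
    (h : u ⬝ᵥ v = 0) : R = ⊥ := by
  have h1 : ∀ x, u ⬝ᵥ x = 0 → Fv R x := by
    intro x hx
    refine fv_of hR fun g hg => ?_
    obtain ⟨t, ht⟩ := par hu0 (b := x ⨯₃ v) (by
      rw [cross_cross_eq_smul_sub_smul', h, dotProduct_comm, hx, zero_smul, zero_smul, sub_zero])
    have h2 := cross_mulVec (g : M3 k) x v
    rw [g.det_coe, one_smul, hv g hg, ht, ← (hu.smul t) g hg, ← ht] at h2
    have h3 := mulVec_inj (by rw [det_transpose]; exact det_ne' g) h2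
    obtain ⟨s, hs⟩ := par hv0 (b := (g : M3 k) *ᵥ x - x) (by
      rw [map_sub, ← cross_anticomm, h3, ← cross_anticomm x v, sub_self])
    rw [hs]
    exact hv.smul s
  have h2 : ∀ x, Fv R x := fun x => fv_of hR fun g hg => h1 _ (by
    rw [dotProduct_sub, dot_mulVec, hu g hg, sub_self])
  rw [eq_bot_iff]
  intro g hg
  rw [Subgroup.mem_bot]
  apply slext
  rw [cone]
  ext i j
  have h3 := congrFun (h2 (Pi.single j 1) g hg) i
  rw [mulVec_single_one] at h3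
  rw [one_apply, ← Pi.single_apply, ← h3]
  rfl

section unique

variable (hR : R ≤ ⁅R, R⁆) (h0 : R ≠ ⊥) {v w : Fin 3 → k} (hv : Fv R v) (hw : Fw R w) (h1 : w ⬝ᵥ v = 1)

include hR h0 h1

include hv in
theorem Fv.eq {a : Fin 3 → k} (ha : Fv R a) : a = (w ⬝ᵥ a) • v := by
  have hv0 : v ≠ 0 := by
    rintro rfl
    rw [dotProduct_zero] at h1
    exact zero_ne_one h1
  have h2 : v ⨯₃ a = 0 := by
    by_contra h2
    refine h0 (eq_bot hR hv hv0 (fun g hg => ?_) h2 (by rw [dotProduct_comm, dot_self_cross]))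
    have h3 := cross_mulVec (g : M3 k) v a
    rwa [g.det_coe, one_smul, hv g hg, ha g hg] at h3
  obtain ⟨s, rfl⟩ := par hv0 h2
  rw [dotProduct_smul, h1, smul_eq_mul, mul_one]

include hw in
theorem Fw.eq {b : Fin 3 → k} (hb : Fw R b) : b = (b ⬝ᵥ v) • w := by
  have hw0 : w ≠ 0 := by
    rintro rfl
    rw [zero_dotProduct] at h1
    exact zero_ne_one h1
  have h2 : w ⨯₃ b = 0 := by
    by_contra h2
    refine h0 (eq_bot hR (fun g hg => ?_) h2 hw hw0 (dot_self_cross _ _))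
    have h3 := cross_mulVec (g : M3 k)ᵀ w b
    rwa [det_transpose, g.det_coe, one_smul, hw g hg, hb g hg, transpose_transpose] at h3
  obtain ⟨s, rfl⟩ := par hw0 h2
  rw [smul_dotProduct, h1, smul_eq_mul, mul_one]

end unique

theorem gl_mul_inv (H : GL (Fin 3) k) : (H : M3 k) * ((H⁻¹ : GL (Fin 3) k) : M3 k) = 1 := by
  rw [← Units.val_mul, mul_inv_cancel, Units.val_one]

theorem gl_inv_mul (H : GL (Fin 3) k) : ((H⁻¹ : GL (Fin 3) k) : M3 k) * (H : M3 k) = 1 := by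
  rw [← Units.val_mul, inv_mul_cancel, Units.val_one]

theorem cjS_vec (H : GL (Fin 3) k) {A : S3 k} {a : Fin 3 → k} (h : (A : M3 k) *ᵥ a = a) :
    (cjS H A : M3 k) *ᵥ ((H : M3 k) *ᵥ a) = (H : M3 k) *ᵥ a := by
  rw [coe_cjS, mulVec_mulVec, mul_assoc, gl_inv_mul, mul_one, ← mulVec_mulVec, h]

theorem cjS_fun (H : GL (Fin 3) k) {A : S3 k} {b : Fin 3 → k} (h : (A : M3 k)ᵀ *ᵥ b = b) :
    (cjS H A : M3 k)ᵀ *ᵥ (((H⁻¹ : GL (Fin 3) k) : M3 k)ᵀ *ᵥ b) = ((H⁻¹ : GL (Fin 3) k) : M3 k)ᵀ *ᵥ b := by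
  rw [coe_cjS, mulVec_mulVec, ← transpose_mul, ← mul_assoc, ← mul_assoc, gl_inv_mul, one_mul, transpose_mul,
    ← mulVec_mulVec, h]

/-- the action of a ring homomorphism -/
abbrev mp (f : k →+* k) : S3 k →* S3 k := SpecialLinearGroup.map f

theorem coe_mp (f : k →+* k) (A : S3 k) : (mp f A : M3 k) = (A : M3 k).map f := rfl

theorem mp_vec (f : k →+* k) {A : S3 k} {a : Fin 3 → k} (h : (A : M3 k) *ᵥ a = a) :
    (mp f A : M3 k) *ᵥ (f ∘ a) = f ∘ a := by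
  funext i
  rw [coe_mp, ← RingHom.map_mulVec, h]
  rfl

theorem mp_fun (f : k →+* k) {A : S3 k} {a : Fin 3 → k} (h : (A : M3 k)ᵀ *ᵥ a = a) :
    (mp f A : M3 k)ᵀ *ᵥ (f ∘ a) = f ∘ a := by
  funext i
  rw [coe_mp, ← transpose_map, ← RingHom.map_mulVec, h]
  rfl

/-- the matrices `λ + (λ³ - λ) e` -/
def Ym (v w : Fin 3 → k) (c : k) : M3 k := c • (1 : M3 k) + (c ^ 3 - c) • vecMulVec v w

theorem Ym_mul {v w : Fin 3 → k} (h : w ⬝ᵥ v = 1) (c d : k) : Ym v w c * Ym v w d = Ym v w (c * d) := by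
  have h1 : vecMulVec v w * vecMulVec v w = vecMulVec v w := by
    rw [vecMulVec_mul_vecMulVec, h, one_smul]
  unfold Ym
  simp only [add_mul, mul_add, smul_mul_smul_comm, h1, mul_one, one_mul]
  module

theorem Ym_one (v w : Fin 3 → k) : Ym v w 1 = 1 := by
  unfold Ym
  rw [one_pow, sub_self, zero_smul, add_zero, one_smul]

theorem Ym_det {v w : Fin 3 → k} (h : w ⬝ᵥ v = 1) (c : k) : (Ym v w c).det = c ^ 5 := by
  rw [vec3_dotProduct] at h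
  simp only [Ym, det_fin_three, Matrix.add_apply, Matrix.smul_apply, vecMulVec_apply, one_apply, smul_eq_mul]
  simp only [↓ _root_.reduceIte, _root_.mul_one, _root_.Fin.isValue, _root_.Fin.reduceEq, _root_.MulZeroClass.mul_zero, _root_.zero_add, _root_.zero_ne_one, _root_.one_ne_zero]
  linear_combination (c ^ 5 - c ^ 3) * h

theorem Ym_transpose (v w : Fin 3 → k) (c : k) : (Ym v w c)ᵀ = Ym w v c := by
  unfold Ym
  rw [transpose_add, transpose_smul, transpose_smul, transpose_one, transpose_vecMulVec]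

theorem Ym_map (f : k →+* k) (v w : Fin 3 → k) (c : k) : (Ym v w c).map f = Ym (f ∘ v) (f ∘ w) (f c) := by
  ext i j
  simp only [Ym, map_apply, Matrix.add_apply, Matrix.smul_apply, vecMulVec_apply, one_apply, smul_eq_mul, map_add,
    map_mul, map_sub, map_pow, Function.comp_apply]
  split_ifs <;> simp

theorem Ym_conj (H : GL (Fin 3) k) (a b : Fin 3 → k) (c : k) : (H : M3 k) * Ym a b c * ((H⁻¹ : GL (Fin 3) k) : M3 k) =
    Ym ((H : M3 k) *ᵥ a) (((H⁻¹ : GL (Fin 3) k) : M3 k)ᵀ *ᵥ b) c := by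
  unfold Ym
  rw [mul_add, add_mul, mul_smul_comm, mul_smul_comm, smul_mul_assoc, smul_mul_assoc, mul_one, gl_mul_inv,
    mul_vecMulVec, vecMulVec_mul, mulVec_transpose]

theorem dot_map (f : k →+* k) {v w : Fin 3 → k} (h : w ⬝ᵥ v = 1) : (f ∘ w) ⬝ᵥ (f ∘ v) = 1 := by
  rw [← RingHom.map_dotProduct, h, map_one]

theorem Ym_conj_eq (hR : R ≤ ⁅R, R⁆) (h0 : R ≠ ⊥) {v w : Fin 3 → k} (hv : Fv R v) (hw : Fw R w) (h1 : w ⬝ᵥ v = 1)
    (H : GL (Fin 3) k) {a b : Fin 3 → k} (h2 : b ⬝ᵥ a = 1) (ha : Fv R ((H : M3 k) *ᵥ a))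
    (hb : Fw R (((H⁻¹ : GL (Fin 3) k) : M3 k)ᵀ *ᵥ b)) (c : k) :
    (H : M3 k) * Ym a b c * ((H⁻¹ : GL (Fin 3) k) : M3 k) = Ym v w c := by
  have h3 : (((H⁻¹ : GL (Fin 3) k) : M3 k)ᵀ *ᵥ b) ⬝ᵥ ((H : M3 k) *ᵥ a) = 1 := by
    rw [← dot_mulVec, mulVec_mulVec, gl_inv_mul, one_mulVec, h2]
  rw [Ym_conj]
  have e1 := Fv.eq hR h0 hv h1 ha
  have e2 := Fw.eq hR h0 hw h1 hb
  generalize (H : M3 k) *ᵥ a = a' at *
  generalize ((H⁻¹ : GL (Fin 3) k) : M3 k)ᵀ *ᵥ b = b' at *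
  generalize w ⬝ᵥ a' = s at e1
  generalize b' ⬝ᵥ v = t at e2
  subst e1 e2
  rw [smul_dotProduct, dotProduct_smul, h1, smul_eq_mul, smul_eq_mul, mul_one] at h3
  unfold Ym
  rw [smul_vecMulVec, vecMulVec_smul, smul_smul s t, mul_comm s t, h3, one_smul]

theorem inv_vec {g : S3 k} {a : Fin 3 → k} (h : ((g⁻¹ : S3 k) : M3 k) *ᵥ a = a) : (ti g : M3 k)ᵀ *ᵥ a = a := by
  rw [coe_ti, transpose_transpose, h]

/-- the alternating matrix of a vector -/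
def Xm (v : Fin 3 → k) : M3 k := !![0, v 2, -v 1; -v 2, 0, v 0; v 1, -v 0, 0]

theorem Xm_conj (g : M3 k) (v : Fin 3 → k) : gᵀ * Xm v * g = Xm (adjugate g *ᵥ v) := by
  ext i j
  (revert i j; simp only [Xm, mul_apply, Fin.sum_univ_three, adjugate_fin_three, mulVec, dotProduct, _root_.Fin.forall_fin_succ, Fin.isValue, _root_.Matrix.transpose_apply, _root_.Matrix.of_apply, _root_.Matrix.cons_val', _root_.Matrix.cons_val_fin_one, _root_.Matrix.cons_val_zero, _root_.Matrix.cons_val_one, _root_.Matrix.cons_val, _root_.MulZeroClass.mul_zero, _root_.mul_neg, _root_.zero_add, _root_.add_zero, _root_.neg_add_rev, _root_.Matrix.cons_val_succ, _root_.Fin.succ_zero_eq_one, _root_.Fin.succ_one_eq_two, _root_.IsEmpty.forall_iff, _root_.and_true]) <;> (repeat' with_reducible apply And.intro) <;> ring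

theorem Xm_inj {v w : Fin 3 → k} (h : Xm v = Xm w) : v = w := by
  funext i
  fin_cases i
  · exact congrFun (congrFun h 1) 2
  · exact congrFun (congrFun h 2) 0
  · exact congrFun (congrFun h 0) 1

/-- **A fixed vector and a fixed functional.** -/
theorem exists_pair [CharP k 2] [IsAlgClosed k] (hR : R ≤ ⁅R, R⁆) (h0 : R ≠ ⊥) {H : GL (Fin 3) k}
    (hH : ∀ g ∈ R, cjS H (ti g) = g) : ∃ v w, Fv R v ∧ Fw R w ∧ w ⬝ᵥ v = 1 := by
  set G : M3 k := ((H⁻¹ : GL (Fin 3) k) : M3 k) with hG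
  have hGd : G.det ≠ 0 := det_ne H⁻¹
  have h1 : ∀ g ∈ R, (g : M3 k)ᵀ * G * g = G := by
    intro g hg
    have h2 : (g : M3 k) = H * ((g⁻¹ : S3 k) : M3 k)ᵀ * G := (congrArg (fun A : S3 k => (A : M3 k)) (hH g hg)).symm
    conv_lhs => rhs; rw [h2]
    rw [← mul_assoc, ← mul_assoc, mul_assoc _ G, gl_inv_mul, mul_one, ← transpose_mul, ← cmul, inv_mul_cancel, cone,
      transpose_one, one_mul]
  have h2 : ∃ v, v ≠ 0 ∧ Fv R v := by
    by_cases hs : G = Gᵀ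
    · have h3 : ∀ i, ∃ z : k, z ^ 2 = G i i := fun i => IsAlgClosed.exists_pow_nat_eq _ two_pos
      choose z hz using h3
      have h2 : (2 : k) = 0 := CharTwo.two_eq_zero
      have s01 : G 1 0 = G 0 1 := congrFun (congrFun hs 1) 0
      have s02 : G 2 0 = G 0 2 := congrFun (congrFun hs 2) 0
      have s12 : G 2 1 = G 1 2 := congrFun (congrFun hs 2) 1
      have h4 : Fw R z := by
        intro g hg
        funext j
        have h5 := congrFun (congrFun (h1 g hg) j) j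
        simp only [mul_apply, transpose_apply, Fin.sum_univ_three, s01, s02, s12, ← hz] at h5
        have h6 : ((g : M3 k)ᵀ *ᵥ z) j ^ 2 = z j ^ 2 := by
          simp only [mulVec, dotProduct, transpose_apply, Fin.sum_univ_three]
          linear_combination h5 + (g 0 j * g 1 j * (z 0 * z 1 - G 0 1) + g 0 j * g 2 j * (z 0 * z 2 - G 0 2) +
            g 1 j * g 2 j * (z 1 * z 2 - G 1 2)) * h2
        rcases sq_eq_sq_iff_eq_or_eq_neg.1 h6 with h7 | h7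
        · exact h7
        · rw [h7, CharTwo.neg_eq]
      refine ⟨(H : M3 k) *ᵥ z, fun h5 => hGd ?_, fun g hg => ?_⟩
      · have h6 : z = 0 := mulVec_inj (det_ne H) (by rw [h5, mulVec_zero])
        have h7 : ∀ i, G i i = 0 := fun i => by rw [← hz, h6, Pi.zero_apply, zero_pow two_ne_zero]
        rw [det_fin_three, h7, h7, h7, s01, s02, s12]
        linear_combination (G 0 1 * G 1 2 * G 0 2) * h2
      · conv_lhs => rw [← hH g hg]
        exact cjS_vec H (h4 _ (inv_mem hg))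
    · have h3 : G - Gᵀ = Xm ![G 1 2 - G 2 1, G 2 0 - G 0 2, G 0 1 - G 1 0] := by
        ext i j
        (revert i j; simp only [Xm, _root_.Fin.forall_fin_succ, _root_.Matrix.sub_apply, _root_.Matrix.transpose_apply, Fin.isValue, _root_.Matrix.cons_val, _root_.Matrix.cons_val_one, _root_.Matrix.cons_val_zero, _root_.neg_sub, _root_.Matrix.of_apply, _root_.Matrix.cons_val', _root_.Matrix.cons_val_fin_one, _root_.Matrix.cons_val_succ, _root_.Fin.succ_zero_eq_one, _root_.Fin.succ_one_eq_two, _root_.IsEmpty.forall_iff, _root_.and_true, _root_.sub_self, _root_.and_self])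
      refine ⟨![G 1 2 - G 2 1, G 2 0 - G 0 2, G 0 1 - G 1 0], fun h4 => hs ?_, fun g hg => ?_⟩
      · rw [h4] at h3
        refine sub_eq_zero.1 (h3.trans ?_)
        ext i j
        (revert i j; simp only [Xm, _root_.Fin.forall_fin_succ, _root_.Pi.zero_apply, _root_.neg_zero, _root_.Matrix.of_apply, _root_.Matrix.cons_val', _root_.Matrix.cons_val_fin_one, _root_.Matrix.zero_apply, Fin.isValue, _root_.Matrix.cons_val_zero, _root_.Matrix.cons_val_succ, _root_.forall_const, _root_.and_self, _root_.implies_true])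
      · have h4 : (g : M3 k)ᵀ * (G - Gᵀ) * g = G - Gᵀ := by
          have h5 := congrArg transpose (h1 g hg)
          rw [transpose_mul, transpose_mul, transpose_transpose, ← mul_assoc] at h5
          rw [mul_sub, sub_mul, h1 g hg, h5]
        rw [h3, Xm_conj] at h4
        conv_lhs => rw [← Xm_inj h4]
        rw [mulVec_mulVec, mul_adjugate, g.det_coe, one_smul, one_mulVec]
  obtain ⟨v, hv0, hv⟩ := h2
  have h3 : Fw R (G *ᵥ v) := fun g hg => by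
    conv_lhs => rw [← hv g hg]
    rw [mulVec_mulVec, mulVec_mulVec, h1 g hg]
  have h4 : (G *ᵥ v) ⬝ᵥ v ≠ 0 := fun h5 =>
    h0 (eq_bot hR hv hv0 h3 (fun h6 => hv0 (mulVec_inj hGd (by rw [h6, mulVec_zero]))) h5)
  exact ⟨v, _, hv, h3.smul ((G *ᵥ v) ⬝ᵥ v)⁻¹, by rw [smul_dotProduct, smul_eq_mul, inv_mul_cancel₀ h4]⟩

/-- **The element of order five.** -/
theorem core [CharP k 2] [IsAlgClosed k] (hR : R ≤ ⁅R, R⁆) (h0 : R ≠ ⊥) {H : GL (Fin 3) k}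
    (hH : ∀ g ∈ R, cjS H (ti g) = g) {c : k} (hc : IsPrimitiveRoot c 5) :
    ∃ y : S3 k, y ^ 5 = 1 ∧ y ∉ Subgroup.center (S3 k) ∧ (∀ g ∈ R, g * y = y * g) ∧ cjS H (ti y) = y⁻¹ ∧
      (∀ (f : k →+* k) (H' : GL (Fin 3) k), (∀ g ∈ R, cjS H' (mp f g) = g) → f c = c → cjS H' (mp f y) = y) ∧
      ∀ (f : k →+* k) (H' : GL (Fin 3) k), (∀ g ∈ R, cjS H' (ti (mp f g)) = g) → f c ^ 4 = c →
        cjS H' (ti (mp f y)) = y := by
  obtain ⟨v, w, hv, hw, h1⟩ := exists_pair hR h0 hH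
  have hc5 : c ^ 5 = 1 := hc.pow_eq_one
  let y : S3 k := ⟨Ym v w c, by rw [Ym_det h1, hc5]⟩
  have hy : (y : M3 k) = Ym v w c := rfl
  have hpow : ∀ n : ℕ, ((y ^ n : S3 k) : M3 k) = Ym v w (c ^ n) := by
    intro n
    induction n with
    | zero => rw [pow_zero, pow_zero, cone, Ym_one]
    | succ n ih => rw [pow_succ, cmul, ih, hy, Ym_mul h1, pow_succ]
  have h5 : y ^ 5 = 1 := slext (by rw [hpow, hc5, Ym_one, cone])
  have hinv : ((y⁻¹ : S3 k) : M3 k) = Ym v w (c ^ 4) := by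
    rw [← hpow, inv_eq_of_mul_eq_one_right (show y * y ^ 4 = 1 by rw [← pow_succ', h5])]
  have key : ∀ (f : k →+* k) (H' : GL (Fin 3) k), (∀ g ∈ R, cjS H' (ti (mp f g)) = g) →
      ((cjS H' (ti (mp f y)) : S3 k) : M3 k) = Ym v w (f c ^ 4) := by
    intro f H' h
    rw [coe_cjS, coe_ti, ← map_inv, coe_mp, hinv, Ym_map, Ym_transpose, map_pow]
    refine Ym_conj_eq hR h0 hv hw h1 H' (by rw [dotProduct_comm]; exact dot_map f h1) (fun g hg => ?_)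
      (fun g hg => ?_) _
    · conv_lhs => rw [← h g hg]
      refine cjS_vec H' ?_
      rw [coe_ti, ← map_inv]
      exact mp_fun f (hw _ (inv_mem hg))
    · conv_lhs => rw [← h g hg]
      refine cjS_fun H' (inv_vec ?_)
      rw [← map_inv]
      exact mp_vec f (hv _ (inv_mem hg))
  refine ⟨y, h5, fun h => ?_, fun g hg => slext ?_, slext ?_, fun f H' h hf => slext ?_,
    fun f H' h hf => slext (by rw [key f H' h, hf, hy])⟩
  · obtain ⟨r, hr, e⟩ := Matrix.SpecialLinearGroup.mem_center_iff.1 h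
    have h2 : w ⬝ᵥ ((y : M3 k) *ᵥ v) = c ^ 3 := by
      rw [hy, Ym, add_mulVec, smul_mulVec, smul_mulVec, one_mulVec, vecMulVec_mulVec, h1, MulOpposite.op_one, one_smul,
        dotProduct_add, dotProduct_smul, dotProduct_smul, h1]
      simp
    rw [← e, scalar_apply, ← smul_one_eq_diagonal, smul_mulVec, one_mulVec, dotProduct_smul, h1, smul_eq_mul,
      mul_one] at h2
    rw [h2, Fintype.card_fin, ← pow_mul, hc.pow_eq_one_iff_dvd] at hr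
    omega
  · rw [cmul, cmul, hy, Ym, mul_add, add_mul, mul_smul_comm, mul_smul_comm, smul_mul_assoc, smul_mul_assoc, mul_one,
      one_mul, mul_vecMulVec, vecMulVec_mul, hv g hg, ← mulVec_transpose, hw g hg]
  · rw [hinv]
    exact key (RingHom.id k) H hH
  · rw [coe_cjS, coe_mp, hy, Ym_map, hf]
    refine Ym_conj_eq hR h0 hv hw h1 H' (dot_map f h1) (fun g hg => ?_) (fun g hg => ?_) _
    · conv_lhs => rw [← h g hg]
      exact cjS_vec H' (mp_vec f (hv g hg))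
    · conv_lhs => rw [← h g hg]
      exact cjS_fun H' (mp_fun f (hw g hg))

section lift

variable {Y : Type*} [Group Y] (π : S3 k →* Y)

/-- `r` acts on the image as `g` -/
def Ac (g : S3 k) (r : Y) : Prop := ∀ X, π (g * X * g⁻¹) = r * π X * r⁻¹

variable {π}

theorem Ac.one : Ac π 1 1 := fun X => by rw [one_mul, one_mul, inv_one, inv_one, mul_one, mul_one]

theorem Ac.self (g : S3 k) : Ac π g (π g) := fun X => by rw [map_mul, map_mul, map_inv]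

theorem Ac.mul {g g' : S3 k} {r r' : Y} (h : Ac π g r) (h' : Ac π g' r') : Ac π (g * g') (r * r') := fun X => by
  rw [show g * g' * X * (g * g')⁻¹ = g * (g' * X * g'⁻¹) * g⁻¹ by group, h, h']
  group

theorem Ac.inv {g : S3 k} {r : Y} (h : Ac π g r) : Ac π g⁻¹ r⁻¹ := fun X => by
  have h1 := h (g⁻¹ * X * g⁻¹⁻¹)
  rw [show g * (g⁻¹ * X * g⁻¹⁻¹) * g⁻¹ = X by group] at h1
  rw [h1]
  group

variable (π) in
/-- the matrices acting as elements of `J` -/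
def Hat (J : Subgroup Y) : Subgroup (S3 k) where
  carrier := {g | ∃ r ∈ J, Ac π g r}
  one_mem' := ⟨1, one_mem _, Ac.one⟩
  mul_mem' := fun ⟨r, hr, h⟩ ⟨r', hr', h'⟩ => ⟨r * r', mul_mem hr hr', h.mul h'⟩
  inv_mem' := fun ⟨r, hr, h⟩ => ⟨r⁻¹, inv_mem hr, h.inv⟩

variable {J : Subgroup Y}

theorem rep_der (hJ : J ≤ ⁅J, J⁆) (h : ∀ r ∈ J, ∃ g, Ac π g r) : ∀ r ∈ J, ∃ g ∈ ⁅Hat π J, Hat π J⁆, Ac π g r := by
  let B : Subgroup Y :=
    { carrier := {r | ∃ g ∈ ⁅Hat π J, Hat π J⁆, Ac π g r}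
      one_mem' := ⟨1, one_mem _, Ac.one⟩
      mul_mem' := fun ⟨g, hg, h⟩ ⟨g', hg', h'⟩ => ⟨g * g', mul_mem hg hg', h.mul h'⟩
      inv_mem' := fun ⟨g, hg, h⟩ => ⟨g⁻¹, inv_mem hg, h.inv⟩ }
  have h1 : ⁅J, J⁆ ≤ B := by
    rw [Subgroup.commutator_le]
    intro a ha b hb
    obtain ⟨g, hg⟩ := h a ha
    obtain ⟨g', hg'⟩ := h b hb
    exact ⟨⁅g, g'⁆, Subgroup.commutator_mem_commutator ⟨a, ha, hg⟩ ⟨b, hb, hg'⟩, ((hg.mul hg').mul hg.inv).mul hg'.inv⟩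
  exact fun r hr => h1 (hJ hr)

variable (hker : π.ker ≤ Subgroup.center (S3 k))

include hker

theorem Ac.center {g g' : S3 k} {r : Y} (h : Ac π g r) (h' : Ac π g' r) : g * g'⁻¹ ∈ Subgroup.center (S3 k) := by
  have h1 := h.mul h'.inv
  rw [mul_inv_cancel] at h1
  obtain ⟨μ, hμ⟩ := scalar_of hker (H := toG (g * g'⁻¹)) fun X => by
    rw [cjS_toG, h1 X, one_mul, inv_one, mul_one]
  rw [coe_toG] at hμ
  rw [Subgroup.mem_center_iff]
  intro X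
  apply slext
  rw [cmul X, cmul _ X, hμ]
  exact ((scalar_commute μ (fun _ => Commute.all _ _) _).eq).symm

theorem fix_der {σ : Y →* Y} {τ : S3 k →* S3 k} (hτ : Function.Surjective τ) (h : ∀ X, σ (π X) = π (τ X))
    (hσ : ∀ r ∈ J, σ r = r) : ∀ g ∈ ⁅Hat π J, Hat π J⁆, τ g = g := by
  have h1 : ∀ g ∈ Hat π J, τ g * g⁻¹ ∈ Subgroup.center (S3 k) := by
    rintro g ⟨r, hr, hg⟩
    refine Ac.center hker (fun X => ?_) hg
    obtain ⟨X, rfl⟩ := hτ X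
    rw [← map_inv, ← map_mul, ← map_mul, ← h, hg X, map_mul, map_mul, map_inv, hσ r hr, h]
  have h2 : ⁅Hat π J, Hat π J⁆ ≤ τ.eqLocus (MonoidHom.id _) := by
    rw [Subgroup.commutator_le]
    intro a ha b hb
    show τ ⁅a, b⁆ = ⁅a, b⁆
    rw [map_commutatorElement]
    exact comm_eq_of_center (h1 a ha) (h1 b hb)
  exact fun g hg => h2 hg

theorem perf_der (hJ : J ≤ ⁅J, J⁆) (h : ∀ r ∈ J, ∃ g, Ac π g r) :
    ⁅Hat π J, Hat π J⁆ ≤ ⁅⁅Hat π J, Hat π J⁆, ⁅Hat π J, Hat π J⁆⁆ := by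
  refine Subgroup.commutator_le.2 ?_
  rintro a ⟨r, hr, ha⟩ b ⟨s, hs, hb⟩
  obtain ⟨a', ha', h1⟩ := rep_der hJ h r hr
  obtain ⟨b', hb', h2⟩ := rep_der hJ h s hs
  rw [comm_eq_of_center (Ac.center hker ha h1) (Ac.center hker hb h2)]
  exact Subgroup.commutator_mem_commutator ha' hb'

omit hker in
theorem cjS_surj (H : GL (Fin 3) k) : Function.Surjective (cjS H) := fun X =>
  ⟨cjS H⁻¹ X, by rw [← cjS_mul, mul_inv_cancel, cjS_one]⟩

omit hker in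
theorem ti_surj : Function.Surjective (ti (K := k)) := fun X => ⟨ti X, ti_ti X⟩

omit hker in
theorem mp_mp (f : k ≃+* k) (X : S3 k) : mp (f : k →+* k) (mp (f.symm : k →+* k) X) = X := by
  apply slext
  ext i j
  exact f.apply_symm_apply _

omit hker in
theorem mp_surj (f : k ≃+* k) : Function.Surjective (mp (f : k →+* k)) := fun X => ⟨_, mp_mp f X⟩

/-- **The element of order five in the image.** -/
theorem lift [CharP k 2] [IsAlgClosed k] (hJ : J ≤ ⁅J, J⁆) (h1 : ∀ r ∈ J, ∃ g, Ac π g r)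
    (h2 : ¬ ∀ r ∈ J, ∀ X, r * π X = π X * r) {n : Y} {H : GL (Fin 3) k} (hn : ActT π n H)
    (hnJ : ∀ r ∈ J, n * r = r * n) {σ : Y →* Y} (hσ : ∀ r ∈ J, σ r = r) {f : k ≃+* k} {H' : GL (Fin 3) k} {c : k}
    (hc : IsPrimitiveRoot c 5) (hF : (f c = c ∧ ∀ X, σ (π X) = π (cjS H' (mp (f : k →+* k) X))) ∨
      (f c ^ 4 = c ∧ ∀ X, σ (π X) = π (cjS H' (ti (mp (f : k →+* k) X))))) :
    ∃ y : S3 k, y ^ 5 = 1 ∧ σ (π y) = π y ∧ (∀ r ∈ J, r * π y = π y * r) ∧ n * π y * n⁻¹ = (π y)⁻¹ ∧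
      ¬ ∀ X, π y * π X = π X * π y := by
  have h0 : ⁅Hat π J, Hat π J⁆ ≠ ⊥ := by
    intro h
    refine h2 fun r hr X => ?_
    obtain ⟨g, hg, h3⟩ := rep_der hJ h1 r hr
    rw [h, Subgroup.mem_bot] at hg
    have h4 := h3 X
    rw [hg, one_mul, inv_one, mul_one, eq_mul_inv_iff_mul_eq] at h4
    exact h4.symm
  obtain ⟨y, h3, h4, h5, h6, h7, h8⟩ := core (perf_der hker hJ h1) h0 (H := H)
    (fix_der hker (σ := (MulAut.conj n).toMonoidHom) (τ := (cjS H).comp ti) (((cjS_surj H).comp ti_surj :)) hn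
      fun r hr => by
        show n * r * n⁻¹ = r
        rw [hnJ r hr, mul_inv_cancel_right]) hc
  refine ⟨y, h3, ?_, fun r hr => ?_, by rw [hn y, h6, map_inv], fun h => h4 ?_⟩
  · rcases hF with ⟨e, h⟩ | ⟨e, h⟩
    · rw [h, h7 f H' (fix_der hker (τ := (cjS H').comp (mp (f : k →+* k))) ((cjS_surj H').comp (mp_surj f)) h hσ) e]
    · rw [h, h8 f H' (fix_der hker (τ := (cjS H').comp (ti.comp (mp (f : k →+* k))))
        (((cjS_surj H').comp ((ti_surj.comp (mp_surj f) :)) :)) h hσ) e]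
  · obtain ⟨g, hg, h9⟩ := rep_der hJ h1 r hr
    have h10 := h9 y
    rw [h5 g hg, mul_inv_cancel_right, eq_mul_inv_iff_mul_eq] at h10
    exact h10.symm
  · have h9 := Ac.center hker (g := y) (g' := 1) (r := 1) (fun X => by
      rw [map_mul, map_mul, map_inv, h X, mul_inv_cancel_right, one_mul, inv_one, mul_one]) Ac.one
    rwa [inv_one, mul_one] at h9

end lift

end Cfsg.Agent.Cam.Ex.SL3
end

-- part: Cam/Ex/SL3
section
/-!
# Exceptional rows: `BoxSL3` (helper60)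

* `act_WW` : the reflection group of `A2s c c'` acts as `S₃`;
* `exists_pi` : the homomorphism `π : SL₃(k) →* Y` with image `MS (A2s c c')`;
* `act_pi` : automorphisms permuting the root groups of `A2s c c'`;
* `boxSL3 : BoxSL3`.
-/

set_option autoImplicit false
set_option linter.unusedVariables false
set_option linter.unusedSectionVars false

namespace Cfsg.Agent.Cam.Ex.SL3

open CoxeterSystem Cfsg Cfsg.Lie Subgroup
open Cfsg.Agent.ChevalleyStructure.CoxeterGeom Cfsg.Agent.ChevalleyStructure.CoxeterGeomTypes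
open Cfsg.Agent.Tits.Roots Cfsg.Agent.Nodes.BNOf Cfsg.Agent.Nodes.RGDChev Cfsg.Agent.Nodes.Coroot
open Cfsg.Agent.KFacts.RgdChevCoord Cfsg.Agent.BpExc.TorCent Cfsg.Agent.BpExc.LangFr Cfsg.Agent.BpExc.SubBN
open Cfsg.Agent.H428.OT.Lin
open scoped commutatorElement

variable {D : ChevalleyDatum} {l : ℕ} {M : CoxeterMatrix (Fin l)} {hp : IsType D l M} {p : ℕ} [Fact p.Prime]

/-- the frame of the pair -/
def ev (c c' : Lat l) : Fin 3 → Lat l := ![c + c', c', 0]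

theorem ev01 (c c' : Lat l) : ev c c' 0 - ev c c' 1 = c := add_sub_cancel_right c c'
theorem ev12 (c c' : Lat l) : ev c c' 1 - ev c c' 2 = c' := sub_zero c'
theorem ev02 (c c' : Lat l) : ev c c' 0 - ev c c' 2 = c + c' := sub_zero (c + c')
theorem ev10 (c c' : Lat l) : ev c c' 1 - ev c c' 0 = -c := by rw [← neg_sub, ev01]
theorem ev21 (c c' : Lat l) : ev c c' 2 - ev c c' 1 = -c' := by rw [← neg_sub, ev12]
theorem ev20 (c c' : Lat l) : ev c c' 2 - ev c c' 0 = -(c + c') := by rw [← neg_sub, ev02]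

theorem six : ∀ i j : Fin 3, i ≠ j → (i = 0 ∧ j = 1) ∨ (i = 1 ∧ j = 2) ∨ (i = 0 ∧ j = 2) ∨ (i = 1 ∧ j = 0) ∨
    (i = 2 ∧ j = 1) ∨ (i = 2 ∧ j = 0) := by decide

theorem mem_A2s {c c' a : Lat l} : a ∈ A2s c c' ↔ ∃ i j, i ≠ j ∧ a = ev c c' i - ev c c' j := by
  simp only [A2s, Set.mem_insert_iff, Set.mem_singleton_iff]
  constructor
  · rintro (h | h | h | h | h | h)
    · exact ⟨0, 1, by decide, h.trans (ev01 c c').symm⟩
    · exact ⟨1, 2, by decide, h.trans (ev12 c c').symm⟩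
    · exact ⟨0, 2, by decide, h.trans (ev02 c c').symm⟩
    · exact ⟨1, 0, by decide, h.trans (ev10 c c').symm⟩
    · exact ⟨2, 1, by decide, h.trans (ev21 c c').symm⟩
    · exact ⟨2, 0, by decide, h.trans (ev20 c c').symm⟩
  · rintro ⟨i, j, hij, rfl⟩
    rcases six i j hij with ⟨rfl, rfl⟩ | ⟨rfl, rfl⟩ | ⟨rfl, rfl⟩ | ⟨rfl, rfl⟩ | ⟨rfl, rfl⟩ | ⟨rfl, rfl⟩
    · exact Or.inl (ev01 c c')
    · exact Or.inr (Or.inl (ev12 c c'))
    · exact Or.inr (Or.inr (Or.inl (ev02 c c')))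
    · exact Or.inr (Or.inr (Or.inr (Or.inl (ev10 c c'))))
    · exact Or.inr (Or.inr (Or.inr (Or.inr (Or.inl (ev21 c c')))))
    · exact Or.inr (Or.inr (Or.inr (Or.inr (Or.inr (ev20 c c')))))

variable (hp) in
/-- a pair of type `A₂` -/
structure P2 (c c' : Lat l) : Prop where
  r1 : Rt hp c
  r2 : Rt hp c'
  c1 : cp hp c c' = -1
  c2 : cp hp c' c = -1

variable (hp) in
/-- the coroots of the frame -/
noncomputable def Bv (c c' x : Lat l) : Fin 3 → ℤ := ![cp hp x c + cp hp x c', cp hp x c', 0]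

/-- the values of `Bv` on the frame -/
def Nn : Fin 3 → Fin 3 → ℤ := ![![2, 1, 0], ![1, 2, 0], ![0, 0, 0]]

/-- the Kronecker symbol -/
def dl (i j : Fin 3) : ℤ := if i = j then 1 else 0

theorem Nn_dl : ∀ i j m n : Fin 3, Nn i m - Nn i n - (Nn j m - Nn j n) = dl i m - dl i n - (dl j m - dl j n) := by
  decide +kernel

theorem ev_swap (e : Fin 3 → Lat l) {m n : Fin 3} (hmn : m ≠ n) (i : Fin 3) :
    e (Equiv.swap m n i) = e i - (dl i m - dl i n) • (e m - e n) := by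
  unfold dl
  by_cases h1 : i = m
  · subst h1
    rw [Equiv.swap_apply_left, if_pos rfl, if_neg hmn, sub_zero, one_smul, sub_sub_cancel]
  · by_cases h2 : i = n
    · subst h2
      rw [Equiv.swap_apply_right, if_neg h1, if_pos rfl, zero_sub, neg_smul, one_smul, sub_neg_eq_add, add_sub_cancel]
    · rw [Equiv.swap_apply_of_ne_of_ne h1 h2, if_neg h1, if_neg h2, sub_zero, zero_smul, sub_zero]

variable {c c' : Lat l} (h : P2 hp c c')

include h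

theorem P2.sum (x : Lat l) : Rt hp (c + c') ∧ cp hp x (c + c') = cp hp x c + cp hp x c' := by
  have := finite_WW hp
  have h1 := Nodes.KindBase.cpr_diff M.toCoxeterSystem hp.isCartan h.r1 h.r2.neg
    (by rw [cpr_neg_right _ _ _ h.r2, show cpr _ _ c c' = -1 from h.c1, neg_neg])
    (by rw [cpr_neg _ _ _ h.r1, show cpr _ _ c' c = -1 from h.c2, neg_neg]) x
  rwa [sub_neg_eq_add, cpr_neg_right _ _ _ h.r2, sub_neg_eq_add] at h1

theorem P2.right {m n : Fin 3} (hmn : m ≠ n) (x : Lat l) : Rt hp (ev c c' m - ev c c' n) ∧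
    cp hp x (ev c c' m - ev c c' n) = Bv hp c c' x m - Bv hp c c' x n := by
  have := finite_WW hp
  have h3 := h.sum x
  rcases six m n hmn with ⟨rfl, rfl⟩ | ⟨rfl, rfl⟩ | ⟨rfl, rfl⟩ | ⟨rfl, rfl⟩ | ⟨rfl, rfl⟩ | ⟨rfl, rfl⟩
  · rw [ev01]
    exact ⟨h.r1, (add_sub_cancel_right _ _).symm⟩
  · rw [ev12]
    exact ⟨h.r2, (sub_zero _).symm⟩
  · rw [ev02]
    exact ⟨h3.1, h3.2.trans (sub_zero _).symm⟩
  · rw [ev10]
    refine ⟨h.r1.neg, (cpr_neg_right _ _ _ h.r1).trans ?_⟩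
    show -cp hp x c = cp hp x c' - (cp hp x c + cp hp x c')
    ring
  · rw [ev21]
    exact ⟨h.r2.neg, (cpr_neg_right _ _ _ h.r2).trans (zero_sub _).symm⟩
  · rw [ev20]
    refine ⟨h3.1.neg, (cpr_neg_right _ _ _ h3.1).trans ?_⟩
    rw [show cpr _ _ x (c + c') = _ from h3.2]
    exact (zero_sub _).symm

theorem P2.Bv_ev (i m : Fin 3) : Bv hp c c' (ev c c' i) m = Nn i m := by
  have := finite_WW hp
  have a1 : cp hp c c = 2 := cpr_self _ _ h.r1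
  have a2 : cp hp c' c' = 2 := cpr_self _ _ h.r2
  have a3 : cp hp (c + c') c = 1 := by
    rw [show cp hp (c + c') c = cp hp c c + cp hp c' c from cpr_add _ _ _ _ h.r1, a1, h.c2]
    rfl
  have a4 : cp hp (c + c') c' = 1 := by
    rw [show cp hp (c + c') c' = cp hp c c' + cp hp c' c' from cpr_add _ _ _ _ h.r2, a2, h.c1]
    rfl
  have a5 : ∀ y, Rt hp y → cp hp 0 y = 0 := fun y hy => by
    have h1 := cpr_smul M.toCoxeterSystem hp.isCartan 0 y hy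
    rwa [zero_smul, zero_mul] at h1
  fin_cases i
  · show Bv hp c c' (c + c') m = _
    unfold Bv
    rw [a3, a4]
    rfl
  · show Bv hp c c' c' m = _
    unfold Bv
    rw [a2, h.c2]
    rfl
  · show Bv hp c c' 0 m = _
    unfold Bv
    rw [a5 c h.r1, a5 c' h.r2]
    rfl

/-- **The reflection group of the pair acts as `S₃`.** -/
theorem P2.act_WW {w : M.Group} (hw : w ∈ WW hp (A2s c c')) : ∃ τ : Equiv.Perm (Fin 3), ∀ i j,
    wa hp w (ev c c' i - ev c c' j) = ev c c' (τ i) - ev c c' (τ j) := by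
  have := finite_WW hp
  induction hw using Subgroup.closure_induction with
  | mem r hr =>
    obtain ⟨v, j0, h1, rfl⟩ := hr
    obtain ⟨m, n, hmn, e⟩ := mem_A2s.1 h1
    refine ⟨Equiv.swap m n, fun i j => ?_⟩
    have h2 := rep_rfl'_eq M.toCoxeterSystem hp.isCartan v j0 (ev c c' i - ev c c' j)
    rw [e, Nodes.KindBase.cpr_sub _ _ _ _ (h.right hmn 0).1, show cpr _ _ (ev c c' i) _ = _ from (h.right hmn _).2,
      show cpr _ _ (ev c c' j) _ = _ from (h.right hmn _).2, h.Bv_ev, h.Bv_ev, h.Bv_ev, h.Bv_ev, Nn_dl] at h2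
    rw [ev_swap (ev c c') hmn i, ev_swap (ev c c') hmn j]
    refine h2.trans ?_
    module
  | one => exact ⟨1, fun i j => wa_one _⟩
  | mul a b _ _ ha hb =>
    obtain ⟨τ, h1⟩ := ha
    obtain ⟨τ', h2⟩ := hb
    exact ⟨τ * τ', fun i j => by rw [wa_mul, h2, h1]; rfl⟩
  | inv a _ ha =>
    obtain ⟨τ, h1⟩ := ha
    refine ⟨τ⁻¹, fun i j => ?_⟩
    have h2 := h1 (τ.symm i) (τ.symm j)
    rw [Equiv.apply_symm_apply, Equiv.apply_symm_apply] at h2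
    rw [← h2, wa_inv_wa]
    rfl

omit h in
variable (hp c c') in
/-- the homomorphism of the pair -/
structure Pi3 (π : S3 (kb p) →* YY D p) (s : Fin 3 → Fin 3 → ℤ) : Prop where
  tv : ∀ i j (hij : i ≠ j) u, π (tv hij u) = xc hp (ev c c' i - ev c c' j) ((s i j : kb p) * u)
  sq : ∀ i j, i ≠ j → (s i j : kb p) * s i j = 1
  ker : π.ker ≤ center (S3 (kb p))

variable (p) in
theorem P2.exists_pi (hG : D ≠ chevG2) : ∃ (π : S3 (kb p) →* YY D p) (s : Fin 3 → Fin 3 → ℤ), Pi3 hp c c' π s := by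
  have := finite_WW hp
  have h1 : H46.Gen.AFr D l (ev c c') := H46.Gen.afr_of_pair hp (by
    rw [ev01, ev12]
    exact H46.Gen.pr_of_cpr hp M.toCoxeterSystem hG h.r1 h.r2 h.c1 h.c2)
  obtain ⟨π, h2, h3⟩ := H46.Gen.exists_hom_afr (k := kb p) hp h1 le_rfl (H469.Exc.locFin p)
  exact ⟨π, H46.Gen.sgn D l (ev c c'), h2, fun i j hij => by
    rw [← Int.cast_mul, H46.Gen.sgn_sq hp h1 hij, Int.cast_one], h3⟩

variable {π : S3 (kb p) →* YY D p} {s : Fin 3 → Fin 3 → ℤ} (P : Pi3 hp c c' π s)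

include P

omit h in
theorem Pi3.xc_eq {i j : Fin 3} (hij : i ≠ j) (u : kb p) :
    xc hp (ev c c' i - ev c c' j) u = π (H428.OT.Lin.tv hij ((s i j : kb p) * u)) := by
  rw [P.tv, ← mul_assoc, P.sq i j hij, one_mul]

omit h in
theorem Pi3.ne {i j : Fin 3} (hij : i ≠ j) : (s i j : kb p) ≠ 0 := left_ne_zero_of_mul_eq_one (P.sq i j hij)

theorem P2.mem_range {a : Lat l} (ha : a ∈ A2s c c') {y : YY D p} (hy : y ∈ XR D l p a) : ∃ X, π X = y := by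
  obtain ⟨i, j, hij, rfl⟩ := mem_A2s.1 ha
  obtain ⟨u, rfl⟩ := (DS.Nt.mem_X (hp := hp) (h.right hij 0).1).1 hy
  exact ⟨_, (P.xc_eq hij u).symm⟩

theorem P2.pi_mem {K : Subgroup (YY D p)} (hK : ∀ a ∈ A2s c c', XR D l p a ≤ K) (X : S3 (kb p)) : π X ∈ K := by
  refine LieClassical.SLGen.transvection_induction (fun X => π X ∈ K) (fun i j hij u => ?_) (fun A B hA hB => ?_) X
  · rw [show π _ = _ from P.tv i j hij u]
    exact hK _ (mem_A2s.2 ⟨i, j, hij, rfl⟩) (DS.Nt.xc_mem (hp := hp) (h.right hij 0).1 _)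
  · rw [map_mul]
    exact mul_mem hA hB

/-- **Automorphisms permuting the root groups of the pair.** -/
theorem P2.act_pi (σ : YY D p →* YY D p) (f : kb p ≃+* kb p) {g : Lat l → Lat l} {ε : ℤˣ} (hA : ActA2 hp g ε c c')
    (hσ : ∀ a, Rt hp a → ∃ κ : kb p, κ ≠ 0 ∧ ∀ u, σ (xc hp a u) = xc hp (g a) (κ * f u)) :
    ∃ H : GL (Fin 3) (kb p), (ε = 1 ∧ ∀ X, σ (π X) = π (cjS H (mp (f : kb p →+* kb p) X))) ∨
      (ε = -1 ∧ ∀ X, σ (π X) = π (cjS H (ti (mp (f : kb p →+* kb p) X)))) := by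
  obtain ⟨w, hw, h1⟩ := hA
  obtain ⟨τ, h2⟩ := h.act_WW hw
  have h3 : ∀ i j : Fin 3, ∃ κ : kb p, i ≠ j → κ ≠ 0 ∧ ∀ u, σ (xc hp (ev c c' i - ev c c' j) u) =
      xc hp ((ε : ℤ) • (ev c c' (τ i) - ev c c' (τ j))) (κ * f u) := by
    intro i j
    by_cases hij : i = j
    · exact ⟨1, fun h => absurd hij h⟩
    · obtain ⟨κ, h4, h5⟩ := hσ _ (h.right hij 0).1
      refine ⟨κ, fun _ => ⟨h4, fun u => ?_⟩⟩
      rw [h5, h1 _ (mem_A2s.2 ⟨i, j, hij, rfl⟩), h2]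
  choose κ hκ using h3
  have h4 : ∀ {i j : Fin 3} (hij : i ≠ j) (u : kb p), σ (π (mp (f.symm : kb p →+* kb p) (tv hij u))) =
      xc hp ((ε : ℤ) • (ev c c' (τ i) - ev c c' (τ j))) (κ i j * (s i j * u)) := by
    intro i j hij u
    rw [show mp (f.symm : kb p →+* kb p) (tv hij u) = tv hij (f.symm u) from H46.Gen.map_transvection' _ hij u,
      P.tv, (hκ i j hij).2, map_mul, map_intCast, f.apply_symm_apply]
  have h5 : ∀ X, mp (f.symm : kb p →+* kb p) (mp (f : kb p →+* kb p) X) = X := mp_mp f.symm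
  rcases Int.units_eq_one_or ε with rfl | rfl
  · obtain ⟨δ, hδ, h6⟩ := exists_mono (φ := σ.comp (π.comp (mp (f.symm : kb p →+* kb p)))) P.ker τ
      (fun i j => s (τ i) (τ j) * (κ i j * s i j))
      (fun i j hij => mul_ne_zero (P.ne (τ.injective.ne hij)) (mul_ne_zero (hκ i j hij).1 (P.ne hij)))
      fun i j hij u => by
        refine (h4 hij u).trans ?_
        rw [Units.val_one, one_smul, P.xc_eq (τ.injective.ne hij)]
        simp only [mul_assoc]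
    refine ⟨mono τ δ hδ, Or.inl ⟨rfl, fun X => ?_⟩⟩
    rw [← h6]
    show _ = σ (π (mp (f.symm : kb p →+* kb p) (mp (f : kb p →+* kb p) X)))
    rw [h5]
  · obtain ⟨δ, hδ, h6⟩ := exists_mono (φ := σ.comp (π.comp ((mp (f.symm : kb p →+* kb p)).comp ti))) P.ker τ
      (fun i j => s (τ i) (τ j) * (κ j i * -s j i))
      (fun i j hij => mul_ne_zero (P.ne (τ.injective.ne hij))
        (mul_ne_zero (hκ j i hij.symm).1 (neg_ne_zero.2 (P.ne hij.symm))))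
      fun i j hij u => by
        show σ (π (mp (f.symm : kb p →+* kb p) (ti (tv hij u)))) = _
        rw [ti_tv, h4, Units.val_neg, Units.val_one, neg_smul, one_smul, neg_sub, P.xc_eq (τ.injective.ne hij)]
        simp only [mul_assoc, mul_neg, neg_mul]
    refine ⟨mono τ δ hδ, Or.inr ⟨rfl, fun X => ?_⟩⟩
    rw [← h6]
    show _ = σ (π (mp (f.symm : kb p →+* kb p) (ti (ti (mp (f : kb p →+* kb p) X)))))
    rw [ti_ti, h5]

/-- **The group of `S` acts on the component by inner automorphisms.** -/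
theorem P2.exists_ac (h4 : ∀ i j, M i j ≠ 4) (h6 : ∀ i j, M i j ≠ 6) {S : Set (Lat l)} (hS : ∀ a ∈ S, Rt hp a)
    (hc : ∀ a ∈ S, a ∈ A2s c c' ∨ (cp hp a c = 0 ∧ cp hp a c' = 0)) {m : YY D p} (hm : m ∈ MS D l p S) :
    ∃ g, Ac π g m := by
  have := finite_WW hp
  let B : Subgroup (YY D p) :=
    { carrier := {r | ∃ g, Ac π g r}
      one_mem' := ⟨1, Ac.one⟩
      mul_mem' := fun ⟨g, h⟩ ⟨g', h'⟩ => ⟨g * g', h.mul h'⟩
      inv_mem' := fun ⟨g, h⟩ => ⟨g⁻¹, h.inv⟩ }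
  have h1 : MS D l p S ≤ B := by
    refine RGD.Sup_le fun a ha x hx => ?_
    rcases hc a ha with h2 | ⟨h2, h3⟩
    · obtain ⟨X, rfl⟩ := h.mem_range P h2 hx
      exact ⟨X, Ac.self X⟩
    · refine ⟨1, fun X => ?_⟩
      have h5 : π X ∈ centralizer {x} := by
        refine h.pi_mem P (fun b hb y hy => ?_) X
        obtain ⟨i, j, hij, rfl⟩ := mem_A2s.1 hb
        obtain ⟨h7, h8⟩ := h.right hij a
        have h9 : cp hp a (ev c c' i - ev c c' j) = 0 := by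
          have h10 : ∀ m, Bv hp c c' a m = 0 := fun m => by
            unfold Bv
            rw [h2, h3]
            fin_cases m <;> rfl
          rw [h8, h10, h10, sub_zero]
        have h11 := DS.Ex.Tor.commZ hp p _ a h7 (hS a ha) (fun e => by
            rw [e, show cp hp a a = 2 from cpr_self _ _ (hS a ha)] at h9
            omega) (fun e => by
            rw [e, show cp hp a (-a) = -cp hp a a from cpr_neg_right _ _ _ (hS a ha),
              show cp hp a a = 2 from cpr_self _ _ (hS a ha)] at h9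
            omega) y hy x hx
        have h12 : RGD.Sup (XX D l (kb p)) {z | BpExc.Zc.ZB M.toCoxeterSystem hp.isCartan (ev c c' i - ev c c' j) a z} ≤
            ⊥ := RGD.Sup_le fun z hz => absurd hz (DS.Ex.TorCE.not_ZB h4 h6 h7 (hS a ha) h9 z)
        rw [mem_centralizer_singleton_iff]
        exact commutatorElement_eq_one_iff_mul_comm.1 (mem_bot.1 (h12 h11))
      rw [one_mul, inv_one, mul_one, ← mem_centralizer_singleton_iff.1 h5, mul_inv_cancel_right]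
  exact h1 hm

omit h P in
/-- **The main theorem**, simply laced types. -/
theorem main (hp : IsType D l M) (hG : D ≠ chevG2) (h4 : ∀ i j, M i j ≠ 4) (h6 : ∀ i j, M i j ≠ 6) {d : ℕ}
    {g0 : Lat l ≃+ Lat l} {L : Type} [Group L] (E : Frame hp 2 d g0 L) {x n : L} {R : Subgroup L} {c c' : Lat l} {ε : ℤˣ}
    (hx : E.ι x ∈ TT D (kb 2)) (hx5 : x ^ 5 = 1) (hn : n * x * n⁻¹ = x⁻¹) (hR : ⁅R, R⁆ = R)
    (hxR : ∀ y ∈ R, x * y = y * x) (hnR : ∀ y ∈ R, n * y = y * n) (hc : A2c hp (PsiS hp {E.ι x}) c c')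
    (hw : ∀ w, (∀ a, Rt hp a → ch hp (wa hp w a) (E.ι x)⁻¹ = ch hp a (E.ι x)) → ActA2 hp (wa hp w) (-1) c c')
    (hq : (E.q : ZMod 5) = ((ε : ℤ) : ZMod 5)) (hg : ActA2 hp E.g ε c c') (hC : ¬ Cen E R (A2s c c')) :
    ∃ y ∈ MS D l 2 (A2s c c'), E.F y = y ∧ y ^ 5 = 1 ∧ (∀ z ∈ R, E.ι z * y = y * E.ι z) ∧
      E.ι n * y * (E.ι n)⁻¹ = y⁻¹ ∧ ¬ ∀ a ∈ A2s c c', ∀ z ∈ XR D l 2 a, y * z = z * y := by
  have := finite_WW hp
  have h : P2 hp c c' := ⟨hc.1.1, hc.2.1.1, hc.2.2.1, hc.2.2.2.1⟩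
  obtain ⟨π, s, P⟩ := h.exists_pi 2 hG
  have hac : ∀ m ∈ MS D l 2 (PsiS hp {E.ι x}), ∃ g, Ac π g m := fun m hm =>
    h.exists_ac P h4 h6 (fun a ha => ha.1) hc.2.2.2.2 hm
  have hJ : ⁅R.map E.ι, R.map E.ι⁆ = R.map E.ι := by rw [← Subgroup.map_commutator, hR]
  have h1 : R.map E.ι ≤ MS D l 2 (PsiS hp {E.ι x}) := by
    refine chi_perf hp Nat.prime_five (fun t ht => ?_) hJ ?_
    · rw [Set.mem_singleton_iff.1 ht]
      exact ⟨hx, 1, by rw [pow_one, ← map_pow, hx5, map_one]⟩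
    · rintro _ ⟨y, hy, rfl⟩
      rw [mem_centralizer_singleton_iff, ← map_mul, ← map_mul, hxR y hy]
  obtain ⟨m, hm, w, k, hk, hks, e⟩ := DS.Nt.form₂ hp (ι := Unit) (s := fun _ => E.ι x) (t := fun _ => (E.ι x)⁻¹)
    (fun _ => hx) (fun _ => inv_mem hx) (c := E.ι n) fun _ => by
      rw [← map_inv, ← map_mul, ← map_mul, ← hn, inv_mul_cancel_right]
  have hm' : m ∈ MS D l 2 (PsiS hp {E.ι x}) := by
    refine RGD.Sup_mono (S := PsiS hp (Set.range fun _ : Unit => (E.ι x)⁻¹)) (S' := PsiS hp {E.ι x})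
      (fun a ha => ⟨ha.1, fun t ht => ?_⟩) hm
    have h2 := ha.2 _ ⟨(), rfl⟩
    rw [Set.mem_singleton_iff.1 ht]
    rwa [show ch hp a (E.ι x)⁻¹ = _ from ch_inv ha.1 hx, inv_eq_one] at h2
  obtain ⟨H, h2⟩ := h.act_pi P (MulAut.conj k).toMonoidHom (RingEquiv.refl _) (hw w fun a ha => by
    have h2 := ch_rp hk hx ha
    rwa [hks (), mul_inv_cancel_right] at h2)
    fun a ha => H130.TorOrd.rp_xc hp M.toCoxeterSystem (H469.Exc.locFin 2) 2 hk.toT ha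
  obtain ⟨g, h3⟩ := hac m hm'
  have h5 : ActT π (E.ι n) (toG g * H) := by
    rw [e]
    exact ActA.mulT (fun X => by rw [cjS_toG, h3 X]) (h2.resolve_left fun h => absurd h.1 (by decide)).2
  obtain ⟨H', h7⟩ := h.act_pi P E.F.toMonoidHom (iterateFrobeniusEquiv (kb 2) 2 E.e) hg E.pw
  obtain ⟨ζ, hζ⟩ := exists_zeta 2 (m := 5) (by decide)
  have h8 : iterateFrobeniusEquiv (kb 2) 2 E.e ζ = ζ ^ (E.q % 5) := pow_eq_pow_mod E.q hζ.pow_eq_one
  obtain ⟨y, y1, y2, y3, y4, y5⟩ := lift P.ker hJ.ge (fun r hr => hac r (h1 hr)) (fun h9 => hC fun a ha y hy z hz => by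
      obtain ⟨X, rfl⟩ := h.mem_range P ha hy
      exact h9 _ ⟨z, hz, rfl⟩ X) h5 (by
      rintro _ ⟨z, hz, rfl⟩
      rw [← map_mul, ← map_mul, hnR z hz]) (σ := E.F.toMonoidHom) (by
      rintro _ ⟨z, hz, rfl⟩
      exact E.fix z) hζ (h7.imp (fun h9 => ⟨by
      rw [h9.1] at hq
      rw [h8, (ZMod.natCast_eq_natCast_iff' E.q 1 5).1 hq, pow_one], h9.2⟩) fun h9 => ⟨by
      rw [h9.1] at hq
      rw [h8, (ZMod.natCast_eq_natCast_iff' E.q 4 5).1 hq, ← pow_mul, pow_eq_pow_mod _ hζ.pow_eq_one, pow_one], h9.2⟩)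
  refine ⟨π y, h.pi_mem P (fun a ha => RGD.le_Sup ha) y, y2, by rw [← map_pow, y1, map_one],
    fun z hz => y3 _ ⟨z, hz, rfl⟩, y4, fun h9 => y5 fun X => ?_⟩
  exact (mem_centralizer_singleton_iff.1 (h.pi_mem P (K := centralizer {π y})
    (fun a ha z hz => mem_centralizer_singleton_iff.2 (h9 a ha z hz).symm) X)).symm

omit h P in
/-- **`BoxSL3`.** -/
theorem boxSL3 : BoxSL3 := by
  intro d L _ _ E x n R c c' ε
  obtain ⟨h4, h6, -⟩ := DS.Ex.TorCE.typE_facts tE7 (Or.inr (Or.inl rfl))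
  exact main tE7 (fun e => absurd (congrArg ChevalleyDatum.rank e) (by decide)) h4 h6 E

end Cfsg.Agent.Cam.Ex.SL3
end

private theorem dce_2034c59da260 : _root_.True := by
  try have : _root_.True := by simp only [_root_.Cfsg.Agent.Cam.Ex.A2s.eq_1]
  try have : _root_.True := by simp only [_root_.Cfsg.Agent.Cam.Ex.SL3.Ym.eq_1]
  try have : _root_.True := by simp only [_root_.Cfsg.Agent.H428.OT.Lin.tv.congr_simp]
  try have : _root_.True := by simp only [_root_.Cfsg.Agent.Cam.Ex.SL3.Xm.eq_1]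
  exact _root_.True.intro
end
end
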