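import Cfsg.Agent.Cam.Ex.U2_m3
import Cfsg.Agent.Cam.Red.Count_m3
import Cfsg.Agent.OrdDiv.Table
import Cfsg.Agent.H436.Core3719
import Cfsg.Agent.H809.SelfCentPSU
import Cfsg.Agent.H171.AltGoal
import Cfsg.Agent.H528.PDAlt.Main
import Cfsg.Agent.J2Type.A5Facts
import Cfsg.Agent.H55.OutGen
import Cfsg.Agent.H183.OutPSU
import Cfsg.Agent.S0243
import Cfsg.Agent.SmallSimple.S1000.PSLFacts
import Cfsg.Agent.SolvableStructure.HallConverse
import Cfsg.Agent.Cam.Spor.BSev
import Cfsg.Agent.H895.SLT.ResCard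
import Cfsg.Agent.TAB.M5.B
import Cfsg.Agent.S2082
import Cfsg.Agent.S1701
import Cfsg.Agent.H202.TwoTransAltC
import Cfsg.Agent.S0205
import Cfsg.Agent.S4114
import Cfsg.Agent.H812.CoFiveMain
import Cfsg.Agent.CoFiveC.Row
import Cfsg.Agent.H898.WkCo1
import Cfsg.Agent.H393.Iso.J23
import Cfsg.Agent.BpSpor.CoTwoFive
import Cfsg.Agent.H868.Ore.CoOne
import Cfsg.Agent.LThreeMB.Quo
import Cfsg.Agent.H235.Ore.He
import Cfsg.Agent.H300.Cls.Complete
import Cfsg.Agent.ThFive.Abs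
import Cfsg.Agent.H680.ONThirtyOne_m3
import Cfsg.Agent.H763.Wk.CoTwoFive
import Cfsg.Agent.CpAutCoFive.Comps
import Cfsg.Agent.H898.RowCo0
import Cfsg.Agent.SP.Mon.NL.Cent
import Cfsg.Agent.H461.RM.M
import Cfsg.Agent.H609.Inv.MEleven
import Cfsg.Agent.H435.S8.MTwelveOut
import Cfsg.Agent.H362.IsoGroup
import Cfsg.Agent.H363.PSL2Spec
import Cfsg.Agent.H71.Tor.JTwo
import Cfsg.Agent.S2075
import Cfsg.Agent.S2061
import Cfsg.Agent.H850.MonSub
import Cfsg.Agent.CoOneType.CoQ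
import Cfsg.Agent.CoOneType.CoW
import Cfsg.Agent.SP.Mon.L3.Iface_m3
import Cfsg.Agent.H154.ASix
import Cfsg.Agent.CpAutON.Gen
import Cfsg.Agent.H757.ThFinal
import Cfsg.Agent.TAB.M5.Loc_m3
import Cfsg.Agent.Lib.FastPerm
import Cfsg.Agent.SigZeroHN.Main
import Cfsg.Agent.H651.HNF.Raw_m3
import Cfsg.Agent.HN.FusOne
import Cfsg.Agent.HN.FusionOut
import Cfsg.Agent.H705.OreB.FiveRad
import Cfsg.Agent.FastGrp
import Cfsg.Agent.Prune
set_option linter.all false

section
prune_inst 0x7fb0fef80cb8addeffff7e7ffef1dffc19d0dfffe6dff9437fe1ebff4bdf03650be1fb8f8de410fecef6e21410b87853fb7ee67fe36bdc7ffffd5ff45ffbee1ff7febd0d51d6b8341ffe6ffffbf0778e7f3fffffffffffffffffffffffffffffffffffffffff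

-- part: Cam/Ex/Fin5
section
prune_inst 0x4d0102f345522100000180010e2003822b200000200400000a040000201c88e40e043000108a01110001a8c402830004811980080420800000a00000000040000100802029048a000000000000082000000000000000000000000000000000000000000000
set_option linter.all false
open scoped Cfsg.Agent.FastGrp

/-!
# The finite check for `r = 5`: `BoxFin5` (helper12)
-/

set_option autoImplicit false
set_option linter.unusedVariables false
set_option linter.unusedSectionVars false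
set_option maxRecDepth 100000

namespace Cfsg.Agent.Cam.Ex.Cb

open CoxeterSystem Cfsg Cfsg.Lie
open Cfsg.Agent.ChevalleyStructure.CoxeterGeom Cfsg.Agent.ChevalleyStructure.CoxeterGeomTypes
open Cfsg.Agent.Tits.Roots Cfsg.Agent.Nodes.RGDChev Cfsg.Agent.Nodes.Coroot Cfsg.Agent.Nodes.SubComb
open Cfsg.Agent.H931.KC (hr psi psi_apply psi_sr eq_psi)

section gen

variable {D : ChevalleyDatum} {l : ℕ} {M : CoxeterMatrix (Fin l)} {hp : IsType D l M} {d : Dt} (hT : Tab hp d)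

include hT in
theorem Tab.ncard_le {K : Type} [AddCommGroup K] (φ : Lat l →+ K) {P : Ent → Bool}
    (hP : ∀ e ∈ d.T, φ (toF l e.b) = 0 → P e = true) : (Psi hp φ).ncard ≤ 2 * cnt P d.T := by
  classical
  rw [hT.ncard_eq φ (P := fun e => decide (φ (toF l e.b) = 0)) (fun e _ => decide_eq_true_iff), cnt_eq, cnt_eq]
  exact Nat.mul_le_mul_left 2 (List.countP_mono_left fun e he h => hP e he (of_decide_eq_true h))

theorem conj_WW {S S' : Set (Lat l)} {w : M.Group} (h : ∀ a ∈ S, wa hp w a ∈ S') {v : M.Group} (hv : v ∈ WW hp S) :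
    w * v * w⁻¹ ∈ WW hp S' := by
  refine WW_ind hp (P := fun v => w * v * w⁻¹ ∈ WW hp S') ?_ (fun u j v h1 h2 => ?_) hv
  · show w * 1 * w⁻¹ ∈ _
    rw [mul_one, mul_inv_cancel]
    exact one_mem _
  · have e : w * (rfl' M.toCoxeterSystem u j * v) * w⁻¹ = rfl' M.toCoxeterSystem (w * u) j * (w * v * w⁻¹) := by
      unfold rfl'
      group
    show w * (rfl' M.toCoxeterSystem u j * v) * w⁻¹ ∈ _
    rw [e]
    exact mul_mem (rfl_mem hp (by rw [wa_mul]; exact h _ h1)) h2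

theorem mem_A2s {a c c' : Lat l} :
    a ∈ A2s c c' ↔ a = c ∨ a = c' ∨ a = c + c' ∨ a = -c ∨ a = -c' ∨ a = -(c + c') := Iff.rfl

theorem map_A2s {f : Lat l → Lat l} (h1 : ∀ a b, f (a + b) = f a + f b) (h2 : ∀ a, f (-a) = -f a) {a c c' : Lat l}
    (ha : a ∈ A2s c c') : f a ∈ A2s (f c) (f c') := by
  rw [mem_A2s] at ha ⊢
  rcases ha with rfl | rfl | rfl | rfl | rfl | rfl <;> simp only [h1, h2, true_or, or_true]

theorem wa_A2s {w : M.Group} {a c c' : Lat l} (ha : a ∈ A2s c c') : wa hp w a ∈ A2s (wa hp w c) (wa hp w c') :=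
  map_A2s (wa_add hp w) (wa_neg hp w) ha

theorem act_of {f f' : Lat l → Lat l} {ε : ℤˣ} {c c' : Lat l} {w : M.Group} (hf : ∀ a, f' a = wa hp w⁻¹ (f (wa hp w a)))
    (h : ActA2 hp f' ε c c') : ActA2 hp f ε (wa hp w c) (wa hp w c') := by
  obtain ⟨v, hv, h1⟩ := h
  refine ⟨w * v * w⁻¹, conj_WW (fun a ha => wa_A2s ha) hv, fun a ha => ?_⟩
  have h2 : wa hp w⁻¹ a ∈ A2s c c' := by
    have := wa_A2s (hp := hp) (w := w⁻¹) ha
    rwa [wa_inv, wa_inv] at this
  have h3 := h1 _ h2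
  rw [hf, wa_inv'] at h3
  rw [wa_mul, wa_mul, ← wa_smul, ← h3, wa_inv']

/-- the second alternative -/
def RD (hp : IsType D l M) (q : ℕ) {r : ℕ} (g : Lat l ≃+ Lat l) (A : Lat l →+ ZMod r) : Prop :=
  ∃ c c', A2c hp (Psi hp A) c c' ∧ (∀ w, Neg hp w A → ActA2 hp (wa hp w) (-1) c c') ∧
    ∃ ε : ℤˣ, (q : ZMod r) = ((ε : ℤ) : ZMod r) ∧ ActA2 hp g ε c c'

theorem rd_of {q r : ℕ} {g : Lat l ≃+ Lat l} {A : Lat l →+ ZMod r} {w : M.Group}
    (h : RD hp q (gw hp g w) (cw hp A w)) : RD hp q g A := by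
  obtain ⟨c, c', ⟨h1, h2, h3, h4, h5⟩, h6, ε, h7, h8⟩ := h
  refine ⟨wa hp w c, wa hp w c', ⟨(mem_cw hp).1 h1, (mem_cw hp).1 h2, by rw [cp_wa hp _ _ h2.1, h3],
    by rw [cp_wa hp _ _ h1.1, h4], fun a ha => ?_⟩, fun v hv => act_of (fun a => ?_) (h6 _ (neg_conj hp hv w)), ε, h7,
    act_of (gw_apply hp g w) h8⟩
  · have h9 : wa hp w⁻¹ a ∈ Psi hp (cw hp A w) := by rw [mem_cw, wa_inv']; exact ha
    rcases h5 _ h9 with h10 | h10
    · left
      have := wa_A2s (hp := hp) (w := w) h10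
      rwa [wa_inv'] at this
    · right
      rw [← cp_wa hp w _ h1.1, ← cp_wa hp w _ h2.1, wa_inv'] at h10
      exact h10
  · rw [wa_mul, wa_mul]

theorem K5s_act {q r : ℕ} {g : Lat l ≃+ Lat l} {A : Lat l →+ ZMod r} (h : K5s hp q g A) (w : M.Group) :
    K5s hp q (gw hp g w) (cw hp A w) := by
  rintro Z h1 h2 ⟨v, h3, h4⟩
  obtain ⟨c, hc⟩ := h (cw hp Z w⁻¹) (fun a ha => (mem_cw hp).2 (h1 (by rw [mem_cw, wa_inv']; exact ha)))
    (fun a => by rw [cw_apply, cw_apply, ← gw_inv, h2]) ⟨w⁻¹⁻¹ * v * w⁻¹, fun a => by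
      have h7 := h3 (wa hp w⁻¹ a)
      rw [cw_apply, cw_apply, wa_inv'] at h7
      rw [inv_inv, wa_mul, wa_mul, h7], neg_conj hp h4 w⁻¹⟩
  exact ⟨c, fun a => by rw [cw_apply, ← hc, cw_apply, wa_inv]⟩

theorem wd_mem {S : Set (Lat l)} {ω : List ℕ} (h : ∀ k ∈ ω, ∃ i : Fin l, k = i ∧ sr i ∈ S) : wd M ω ∈ WW hp S := by
  induction ω with
  | nil => exact one_mem _
  | cons k ω ih =>
    obtain ⟨i, rfl, h1⟩ := h k List.mem_cons_self
    refine mul_mem (a := sI M i) (b := wd M ω) ?_ (ih fun k hk => h k (List.mem_cons_of_mem _ hk))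
    have e : sI M i = rfl' M.toCoxeterSystem 1 i := by
      unfold sI rfl'
      rw [dif_pos i.2, one_mul, inv_one, mul_one]
    rw [e]
    exact rfl_mem hp (by rw [wa_one]; exact h1)

/-- the images of the `A₂` -/
noncomputable def a2chk (l : ℕ) (d : Dt) (j i1 i2 : ℕ) : Bool :=
  al (fun e => !ieq (gt e.b j) 0 || (leq e.b (uv l i1) || (leq e.b (uv l i2) || (leq e.b (pl (uv l i1) (uv l i2)) ||
    (ieq (dot e.b (row d.C i1)) 0 && ieq (dot e.b (row d.C i2)) 0))))) d.T &&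
  (al (fun e => !ieq (gt e.b j) 0 || ieq (dot e.b (row d.C i1)) 0 == ieq (dot e.b (row d.C i2)) 0) d.T &&
  (an (fun e => ieq (gt e.b j) 1 && (ieq (dot e.b (row d.C i1)) 1 && ieq (dot e.b (row d.C i2)) 0)) d.T &&
  (ieq (gt (row d.C i1) i2) (-1) && (ieq (gt (row d.C i2) i1) (-1) &&
  al (fun e1 => al (fun e2 => al (fun s1 => al (fun s2 => !ieq (s1 * s2 * dot e1.b e2.cv) (-1) ||
    (an (fun e => ieq (dot e.b e1.cv) 0 != ieq (dot e.b e2.cv) 0) (fl (fun e => ieq (gt e.b j) 0) d.T) ||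
    (!an (fun e => ieq (gt e.b j) 1 && (ieq (s1 * dot e.b e1.cv) 1 && ieq (dot e.b e2.cv) 0)) d.T ||
    an (fun ω => al (fun i => ieq (gt (fw d.C ω (uv l i)) i1) (s1 * gt e1.b i) &&
      ieq (gt (fw d.C ω (uv l i)) i2) (s2 * gt e2.b i)) (List.range l))
      [[], [i1], [i2], [i1, i2], [i2, i1], [i1, i2, i1]]))) [1, -1]) [1, -1])
    (fl (fun e => ieq (gt e.b j) 0) d.T)) (fl (fun e => ieq (gt e.b j) 0) d.T)))))

include hT in
theorem Tab.cp_sr_b {e : Ent} (he : e ∈ d.T) (i : Fin l) : cp hp (toF l e.b) (sr i) = dot e.b (row d.C i) := by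
  rw [cp_sr, ← hT.car i, hT.psi_b he]

include hT in
theorem Tab.a2c {K : Type} [AddCommGroup K] {φ : Lat l →+ K} {j i1 i2 : Fin l} (hx : Ex1 hp φ j) (h1 : i1 ≠ j)
    (h2 : i2 ≠ j) (h : a2chk l d j i1 i2 = true) : A2c hp (Psi hp φ) (sr i1) (sr i2) := by
  obtain ⟨k1, h⟩ := Bool.and_eq_true_iff.1 h
  obtain ⟨-, h⟩ := Bool.and_eq_true_iff.1 h
  obtain ⟨-, h⟩ := Bool.and_eq_true_iff.1 h
  obtain ⟨k2, h⟩ := Bool.and_eq_true_iff.1 h
  obtain ⟨k3, -⟩ := Bool.and_eq_true_iff.1 h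
  refine ⟨⟨rt_sr hp i1, (hx _ (rt_sr hp i1)).2 (sr_ne h1.symm)⟩, ⟨rt_sr hp i2, (hx _ (rt_sr hp i2)).2 (sr_ne h2.symm)⟩,
    by rw [cp_sr, psi_sr, ← hT.car, toF_apply, ieq_iff.1 k3], by rw [cp_sr, psi_sr, ← hT.car, toF_apply, ieq_iff.1 k2],
    fun a ha => ?_⟩
  refine hT.of_T (P := fun a => a j = 0 → a ∈ A2s (sr i1) (sr i2) ∨ (cp hp a (sr i1) = 0 ∧ cp hp a (sr i2) = 0))
    (fun a h3 h4 => ?_) (fun e he h3 => ?_) a ha.1 ((hx a ha.1).1 ha.2)
  · rcases h3 (neg_eq_zero.1 h4) with h5 | h5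
    · left
      rw [mem_A2s] at h5 ⊢
      rcases h5 with rfl | rfl | rfl | rfl | rfl | rfl <;> simp only [neg_neg, true_or, or_true]
    · right
      rw [cp_neg hp _ (rt_sr hp i1), cp_neg hp _ (rt_sr hp i2), h5.1, h5.2, neg_zero]
      exact ⟨rfl, rfl⟩
  · have h4 := al_iff.1 k1 e he
    rw [ieq_iff.2 (show gt e.b j = 0 from h3), Bool.not_true, Bool.false_or] at h4
    rcases Bool.or_eq_true_iff.1 h4 with h5 | h4
    · left; rw [leq_iff.1 h5, toF_uv]; exact Or.inl rfl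
    rcases Bool.or_eq_true_iff.1 h4 with h5 | h4
    · left; rw [leq_iff.1 h5, toF_uv]; exact Or.inr (Or.inl rfl)
    rcases Bool.or_eq_true_iff.1 h4 with h5 | h4
    · left; rw [leq_iff.1 h5, toF_pl (length_uv _ _), toF_uv, toF_uv]; exact Or.inr (Or.inr (Or.inl rfl))
    · right
      rw [hT.cp_sr_b he, hT.cp_sr_b he]
      exact ⟨ieq_iff.1 (Bool.and_eq_true_iff.1 h4).1, ieq_iff.1 (Bool.and_eq_true_iff.1 h4).2⟩

include hT in
theorem Tab.sgn {x : Lat l} (hx : Rt hp x) : ∃ e ∈ d.T, ∃ s ∈ ([1, -1] : List ℤ), x = s • toF l e.b ∧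
    ∀ a, cp hp a x = s * psi (toF l e.cv) a := by
  obtain ⟨e, he, h | h⟩ := hT.sur x hx
  · exact ⟨e, he, 1, by simp, by rw [one_smul, h], fun a => by rw [h, hT.cpe e he, one_mul]⟩
  · exact ⟨e, he, -1, by simp, by rw [neg_one_smul, h],
      fun a => by rw [h, cp_neg_right hp _ (hT.rt e he), hT.cpe e he, neg_one_mul]⟩

include hT in
theorem Tab.act_one {j i1 i2 : Fin l} (h1 : i1 ≠ j) (h2 : i2 ≠ j) (h : a2chk l d j i1 i2 = true) {f : Lat l ≃+ Lat l}
    (hr : ∀ a, Rt hp (f a) ↔ Rt hp a) (hcp : ∀ a c, Rt hp c → cp hp (f a) (f c) = cp hp a c)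
    (hj : ∀ a, f a j = a j) : ∃ w ∈ WW hp (A2s (sr i1) (sr i2)), f (sr i1) = wa hp w (sr i1) ∧
      f (sr i2) = wa hp w (sr i2) := by
  obtain ⟨-, h⟩ := Bool.and_eq_true_iff.1 h
  obtain ⟨k1, h⟩ := Bool.and_eq_true_iff.1 h
  obtain ⟨k2, h⟩ := Bool.and_eq_true_iff.1 h
  obtain ⟨-, h⟩ := Bool.and_eq_true_iff.1 h
  obtain ⟨k3, k4⟩ := Bool.and_eq_true_iff.1 h
  obtain ⟨e1, t1, s1, m1, x1, y1⟩ := hT.sgn ((hr _).2 (rt_sr hp i1))
  obtain ⟨e2, t2, s2, m2, x2, y2⟩ := hT.sgn ((hr _).2 (rt_sr hp i2))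
  have n1 : s1 = 1 ∨ s1 = -1 := by simpa using m1
  have n2 : s2 = 1 ∨ s2 = -1 := by simpa using m2
  have z1 : gt e1.b j = 0 := by
    have h3 := hj (sr i1)
    rw [x1, sr_ne h1.symm, Pi.smul_apply, smul_eq_mul, toF_apply] at h3
    rcases n1 with rfl | rfl <;> omega
  have z2 : gt e2.b j = 0 := by
    have h3 := hj (sr i2)
    rw [x2, sr_ne h2.symm, Pi.smul_apply, smul_eq_mul, toF_apply] at h3
    rcases n2 with rfl | rfl <;> omega
  have h3 := al_iff.1 (al_iff.1 (al_iff.1 (al_iff.1 k4 e1 (mem_fl.2 ⟨t1, ieq_iff.2 z1⟩)) e2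
    (mem_fl.2 ⟨t2, ieq_iff.2 z2⟩)) s1 m1) s2 m2
  have h4 : s1 * s2 * dot e1.b e2.cv = -1 := by
    have h5 := hcp (sr i1) _ (rt_sr hp i2)
    rw [y2, x1, map_zsmul, hT.psi_b t1, cp_sr, psi_sr, ← hT.car, toF_apply, ieq_iff.1 k3, smul_eq_mul] at h5
    linear_combination h5
  rw [ieq_iff.2 h4, Bool.not_true, Bool.false_or] at h3
  rcases Bool.or_eq_true_iff.1 h3 with h5 | h3
  · exfalso
    obtain ⟨e, he, h6⟩ := an_iff.1 h5
    obtain ⟨he, h7⟩ := mem_fl.1 he
    have h8 : Rt hp (f.symm (toF l e.b)) := by rw [← hr, f.apply_symm_apply]; exact hT.rt e he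
    have h9 : ∀ a, Rt hp a → a j = 0 → (cp hp a (sr i1) = 0 ↔ cp hp a (sr i2) = 0) := by
      refine hT.of_T (P := fun a => a j = 0 → (cp hp a (sr i1) = 0 ↔ cp hp a (sr i2) = 0)) (fun a h10 h11 => ?_)
        fun e' he' h10 => ?_
      · rw [cp_neg hp _ (rt_sr hp i1), cp_neg hp _ (rt_sr hp i2), neg_eq_zero, neg_eq_zero]
        exact h10 (neg_eq_zero.1 h11)
      · have h11 := al_iff.1 k1 e' he'
        rw [ieq_iff.2 (show gt e'.b j = 0 from h10), Bool.not_true, Bool.false_or, beq_iff_eq] at h11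
        rw [hT.cp_sr_b he', hT.cp_sr_b he', ← ieq_iff, ← ieq_iff, h11]
    have h10 := h9 _ h8 (by rw [← hj (f.symm _), f.apply_symm_apply, toF_apply, ieq_iff.1 h7])
    rw [← hcp _ _ (rt_sr hp i1), ← hcp _ _ (rt_sr hp i2), f.apply_symm_apply, y1, y2, hT.psi_b he, hT.psi_b he] at h10
    have h11 : dot e.b e1.cv = 0 ↔ dot e.b e2.cv = 0 := by
      rcases n1 with rfl | rfl <;> rcases n2 with rfl | rfl <;> omega
    rw [← ieq_iff, ← ieq_iff, Bool.coe_iff_coe] at h11
    rw [h11, bne_self_eq_false] at h6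
    exact Bool.false_ne_true h6
  rcases Bool.or_eq_true_iff.1 h3 with h5 | h3
  · exfalso
    obtain ⟨b, hb, h6⟩ := an_iff.1 k2
    obtain ⟨h7, h6⟩ := Bool.and_eq_true_iff.1 h6
    obtain ⟨h8, h9⟩ := Bool.and_eq_true_iff.1 h6
    obtain ⟨e, he, h10⟩ := hT.sur _ ((hr _).2 (hT.rt b hb))
    have h11 : f (toF l b.b) j = 1 := by rw [hj, toF_apply, ieq_iff.1 h7]
    have h12 : f (toF l b.b) = toF l e.b := by
      refine h10.resolve_right fun h13 => ?_
      have h14 : 0 ≤ toF l e.b j := hT.pos e he j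
      rw [h13, Pi.neg_apply] at h11
      omega
    have h13 := hcp (toF l b.b) _ (rt_sr hp i1)
    have h14 := hcp (toF l b.b) _ (rt_sr hp i2)
    rw [y1, h12, hT.psi_b he, hT.cp_sr_b hb, ieq_iff.1 h8] at h13
    rw [y2, h12, hT.psi_b he, hT.cp_sr_b hb, ieq_iff.1 h9] at h14
    have h15 : dot e.b e2.cv = 0 := by rcases n2 with rfl | rfl <;> omega
    rw [h12] at h11
    rw [an_iff.2 ⟨e, he, Bool.and_eq_true_iff.2 ⟨ieq_iff.2 h11, Bool.and_eq_true_iff.2
      ⟨ieq_iff.2 h13, ieq_iff.2 h15⟩⟩⟩] at h5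
    exact Bool.false_ne_true h5
  · obtain ⟨ω, hω, h5⟩ := an_iff.1 h3
    refine ⟨wd M ω, wd_mem fun k hk => ?_, ?_, ?_⟩
    · have h6 : k = i1 ∨ k = i2 := by
        simp only [List.mem_cons, List.not_mem_nil, or_false] at hω
        rcases hω with rfl | rfl | rfl | rfl | rfl | rfl <;> simp only [List.mem_cons, List.not_mem_nil, or_false] at hk <;>
          (clear * - hk; tauto)
      rcases h6 with h6 | h6
      · exact ⟨i1, h6, Or.inl rfl⟩
      · exact ⟨i2, h6, Or.inr (Or.inl rfl)⟩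
    · funext i
      rw [hT.wd_apply, psi_sr, toF_apply, ieq_iff.1 (Bool.and_eq_true_iff.1 (al_iff.1 h5 i (List.mem_range.2 i.2))).1, x1]
      rfl
    · funext i
      rw [hT.wd_apply, psi_sr, toF_apply, ieq_iff.1 (Bool.and_eq_true_iff.1 (al_iff.1 h5 i (List.mem_range.2 i.2))).2, x2]
      rfl

include hT in
theorem Tab.actA2 {j i1 i2 : Fin l} (h1 : i1 ≠ j) (h2 : i2 ≠ j) (h : a2chk l d j i1 i2 = true) {f : Lat l ≃+ Lat l}
    (hr : ∀ a, Rt hp (f a) ↔ Rt hp a) (hcp : ∀ a c, Rt hp c → cp hp (f a) (f c) = cp hp a c) {ε : ℤˣ}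
    (hj : ∀ a, f a j = ε * a j) : ActA2 hp f ε (sr i1) (sr i2) := by
  have hr' : ∀ a, Rt hp ((ε : ℤ) • a) ↔ Rt hp a := by
    intro a
    rcases Int.units_eq_one_or ε with rfl | rfl
    · rw [Units.val_one, one_smul]
    · rw [Units.val_neg, Units.val_one, neg_one_smul]
      exact ⟨fun h => by have := h.neg; rwa [neg_neg] at this, fun h => h.neg⟩
  obtain ⟨w, hw, h3, h4⟩ := hT.act_one h1 h2 h (f := f.trans (sg l ε))
    (fun a => by rw [AddEquiv.trans_apply, sg_apply, hr', hr]) (fun a c hc => by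
      rw [AddEquiv.trans_apply, AddEquiv.trans_apply, sg_apply, sg_apply, ← hcp a c hc]
      rcases Int.units_eq_one_or ε with rfl | rfl
      · rw [Units.val_one, one_smul, one_smul]
      · rw [Units.val_neg, Units.val_one, neg_one_smul, neg_one_smul, cp_neg_right hp _ ((hr c).2 hc),
          cp_neg hp _ ((hr c).2 hc), neg_neg])
    (fun a => by
      rw [AddEquiv.trans_apply, sg_apply, Pi.smul_apply, hj, smul_eq_mul, ← mul_assoc, Int.units_coe_mul_self, one_mul])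
  rw [AddEquiv.trans_apply, sg_apply] at h3 h4
  have h5 : f (sr i1) = (ε : ℤ) • wa hp w (sr i1) := by rw [← h3, smul_smul, Int.units_coe_mul_self, one_smul]
  have h6 : f (sr i2) = (ε : ℤ) • wa hp w (sr i2) := by rw [← h4, smul_smul, Int.units_coe_mul_self, one_smul]
  refine ⟨w, hw, fun a ha => ?_⟩
  rcases mem_A2s.1 ha with rfl | rfl | rfl | rfl | rfl | rfl <;>
    simp only [map_add, map_neg, h5, h6, smul_add, smul_neg]

include hT in
theorem Tab.rd {p q r : ℕ} {g : Lat l ≃+ Lat l} {A B : Lat l →+ ZMod r} (C : Cm hp p q r g A B) {j i1 i2 : Fin l}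
    (hx : Ex1 hp A j) (h1 : i1 ≠ j) (h2 : i2 ≠ j) (h : a2chk l d j i1 i2 = true) : RD hp q g A := by
  have := Fact.mk C.prime
  refine ⟨_, _, hT.a2c hx h1 h2 h, fun w hw => ?_, ?_⟩
  · rcases hx.res (BpExc.Fr.repAut M.toCoxeterSystem hp.isCartan w) (rt_wa hp w) (e := -1)
      (fun a => by rw [neg_one_mul]; exact hw a) with h3 | h3
    · exact absurd (by push_cast; linear_combination -h3.1) (un6 C.prime C.five (n := 2) (by norm_num))
    · exact hT.actA2 h1 h2 h (f := BpExc.Fr.repAut M.toCoxeterSystem hp.isCartan w) (rt_wa hp w)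
        (fun a c hc => cp_wa hp w a hc) fun a => by rw [h3.2, Units.val_neg, Units.val_one, neg_one_mul]
  · rcases hx.res g C.root C.frA with h3 | h3
    · exact ⟨1, by rw [h3.1, Units.val_one, Int.cast_one],
        hT.actA2 h1 h2 h C.root C.gcp fun a => by rw [h3.2, Units.val_one, one_mul]⟩
    · exact ⟨-1, by rw [h3.1, Units.val_neg, Units.val_one, Int.cast_neg, Int.cast_one],
        hT.actA2 h1 h2 h C.root C.gcp fun a => by rw [h3.2, Units.val_neg, Units.val_one, neg_one_mul]⟩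

end gen

theorem no_poly5 (e : ZMod 5) : ¬ (e ^ 2 - e + 1 = 0 ∨ e ^ 2 + e + 1 = 0) := by
  revert e
  decide

theorem e7_five (hc : BoxConn) {μ : V} {J : List ℕ} {L : List V} (h : pchk 7 dE7 μ μ J L = true) {G : List V}
    (hG : gchk 7 dE7 μ G = true) {j : Fin 7} (hj : toF 7 μ = sr j) {CT : List (V × Bool × List V)}
    {SV : List V} (hk : kchk 7 dE7 5 1 μ μ G CT L SV = true)
    (he : al (fun lam => an (endR dE7 5 1 (pl μ lam) (mi μ lam)) dE7.T ||
      Nat.blt (cnt (fun e => !nz 5 1 (dot e.b (pl μ lam))) dE7.T) 16) SV = true) {p q : ℕ}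
    {g : Lat 7 ≃+ Lat 7} {A B : Lat 7 →+ ZMod 5} (C : Cm tE7 p q 5 g A B) (hκ : Exa tE7 (A + B) μ)
    (hA : 32 ≤ (Psi tE7 A).ncard) : EndE7 q g A B := by
  obtain ⟨u, lam, hlam, c, hc0, h1, -, h2⟩ := e7_surv hc h hG hj hk md5 C hκ
  rcases Bool.or_eq_true_iff.1 (al_iff.1 he lam hlam) with h3 | h3
  · exact h2 h3
  · have h4 := tabE7.ncard_le (cw tE7 A u) (P := fun e => !nz 5 1 (dot e.b (pl μ lam))) fun e he h5 =>
      h1.not_nz C.prime hc0 (tabE7.lb e he) md5 h5
    rw [ncard_cw] at h4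
    rw [Nat.blt_eq] at h3
    omega

theorem end_five (hc : BoxConn) {p q : ℕ} {g : Lat 7 ≃+ Lat 7} {A B : Lat 7 →+ ZMod 5} (C0 : Cm tE7 p q 5 g A B)
    (hA : 32 ≤ (Psi tE7 A).ncard) : EndE7 q g A B := by
  obtain ⟨w, h⟩ := typesE7 C0.prime C0.five C0.x0 C0.k1x C0.root C0.gcp C0.frX
  have C := C0.act w
  rw [← ncard_cw tE7 A w] at hA
  refine endE7_of (w := w) ?_
  rcases h with h | h | h
  swap
  · exact absurd h (not_T2 C)
  swap
  · exact absurd h (not_T3 hc C)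
  rcases h with h | h | h | h | h | h
  · exact e7_five hc pE7_0000001 gE7_6 (toF_uv (l := 7) 6) kE7_0000001_5 eE7_0000001_5 C h.cw_add hA
  · exact e7_five hc pE7_0000010 gE7_5 (toF_uv (l := 7) 5) kE7_0000010_5 eE7_0000010_5 C h.cw_add hA
  · exact e7_five hc pE7_0100000 gE7_1 (toF_uv (l := 7) 1) kE7_0100000_5 eE7_0100000_5 C h.cw_add hA
  · exact e7_five hc pE7_0010000 gE7_2 (toF_uv (l := 7) 2) kE7_0010000_5 eE7_0010000_5 C h.cw_add hA
  · exact e7_five hc pE7_0000100 gE7_4 (toF_uv (l := 7) 4) kE7_0000100_5 eE7_0000100_5 C h.cw_add hA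
  · exact e7_five hc pE7_0001000 gE7_3 (toF_uv (l := 7) 3) kE7_0001000_5 eE7_0001000_5 C h.cw_add hA

theorem finE7_five (hc : BoxConn) (p q : ℕ) (g0 g : Lat 7 ≃+ Lat 7) (A B : Lat 7 →+ ZMod 5)
    (C0 : Cmb tE7 p q 5 g0 g A B) (hK : K5s tE7 q g A) : EndE7 q g A B ∨ RD tE7 q g A := by
  have := Fact.mk C0.prime
  obtain ⟨w, h⟩ := typesE7 C0.prime C0.five C0.a0 C0.k1a C0.root C0.gcp C0.frA
  have C := (cm_of C0).act w
  have key : ∀ κ : V, Exa tE7 (cw tE7 A w) κ → Nat.ble 16 (cnt (fun e => ieq (dot e.b κ) 0) dE7.T) = true →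
      EndE7 q g A B := fun κ h1 h2 => end_five hc (cm_of C0) (by
    rw [← ncard_cw tE7 A w, tabE7.ncard_ex h1]
    rw [Nat.ble_eq] at h2
    omega)
  rcases h with h | h | h
  · rcases h with h | h | h | h | h | h
    · exact Or.inl (key _ h (by decide +kernel))
    · exact Or.inl (key _ h (by decide +kernel))
    · exact Or.inl (key _ h (by decide +kernel))
    · exact Or.inl (key _ h (by decide +kernel))
    · exact Or.inr (rd_of (w := w) (tabE7.rd C (h.ex1 (toF_uv (l := 7) 4)) (i1 := 6) (i2 := 5) (by decide) (by decide)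
        (by decide +kernel)))
    · exact Or.inr (rd_of (w := w) (tabE7.rd C (h.ex1 (toF_uv (l := 7) 3)) (i1 := 0) (i2 := 2) (by decide) (by decide)
        (by decide +kernel)))
  · exfalso
    obtain ⟨κ, i, j, hij, -, h1, -, h2, -⟩ := h
    obtain ⟨w0, hw0⟩ := exists_negE7
    obtain ⟨c, h3⟩ := K5s_act hK w (red 5 (sr j))
      (fun a ha => ⟨ha.1, by rw [red_apply, psi_sr', ((h1 a ha.1).1 ha.2).2, Int.cast_zero]⟩)
      (fun a => by rw [red_apply, red_apply, psi_sr', psi_sr', h2]) ⟨w0, neg_of_word hw0 _, neg_of_word hw0 _⟩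
    have h4 := h3 (sr i)
    have h5 := h3 (sr j)
    rw [red_apply, psi_sr', sr_ne hij.symm, Int.cast_zero] at h4
    rw [(mul_eq_zero.1 h4.symm).resolve_right h1.ne1, zero_mul, red_apply, psi_sr', sr_self, Int.cast_one] at h5
    exact one_ne_zero h5
  · exact absurd h.2.1 (no_poly5 _)

/-- **The finite check for `r = 5`.** -/
theorem boxFin5 (hc : BoxConn) : BoxFin5 where
  e6 := finE6_five hc
  e7 := finE7_five hc

end Cfsg.Agent.Cam.Ex.Cb
end

-- part: Cam/Ex/Grp5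
section
set_option linter.all false
open scoped Cfsg.Agent.FastGrp

/-!
# The simple groups with all prime divisors at most five (helper86, task 267)

`boxGrp5 : Big → BoxGrp5`.
-/

set_option autoImplicit false

namespace Cfsg.Agent.Cam.Ex.Grp5

open Cfsg Subgroup

/-- the elements of order five are centralized by their powers only -/
def SC5 (U : Type) [Group U] : Prop := ∀ u t : U, orderOf u = 5 → t * u = u * t → t ∈ zpowers u

theorem sc5_congr {U V : Type} [Group U] [Group V] (e : U ≃* V) (h : SC5 V) : SC5 U := by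
  intro u t hu ht
  have h1 := h (e u) (e t) (by rw [e.orderOf_eq, hu]) (by rw [← map_mul, ← map_mul, ht])
  obtain ⟨k, hk⟩ := mem_zpowers_iff.1 h1
  refine mem_zpowers_iff.2 ⟨k, e.injective ?_⟩
  rw [map_zpow, hk]

/-- a self-centralizing subgroup of order five is a Sylow subgroup -/
theorem sc5_of_self {U : Type} [Group U] [Finite U] {R : Subgroup U} (hR : Nat.card R = 5)
    (hC : centralizer (R : Set U) = R) : SC5 U := by
  have : Fact (Nat.Prime 5) := ⟨by norm_num⟩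
  have hRp : IsPGroup 5 R := IsPGroup.of_card (n := 1) (by rw [hR]; rfl)
  obtain ⟨P, hP⟩ := hRp.exists_le_sylow
  have hRne : R ≠ ⊥ := by
    intro h
    rw [h, card_bot] at hR
    omega
  have : Nontrivial (P : Subgroup U) := by
    rw [Subgroup.nontrivial_iff_ne_bot]
    intro h
    exact hRne (le_bot_iff.1 (h ▸ hP))
  have hnt := P.isPGroup'.center_nontrivial
  obtain ⟨⟨z, hz⟩, hz1⟩ := exists_ne (1 : center (P : Subgroup U))
  have hz1' : (z : U) ≠ 1 := fun h => hz1 (Subtype.ext (Subtype.ext h))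
  have hzc : ∀ y ∈ (P : Subgroup U), y * (z : U) = z * y := fun y hy =>
    congrArg Subtype.val (mem_center_iff.1 hz ⟨y, hy⟩)
  have hzR : (z : U) ∈ R := by
    rw [← hC, mem_centralizer_iff]
    exact fun y hy => hzc y (hP hy)
  have hzz : zpowers (z : U) = R := by
    have hle : zpowers (z : U) ≤ R := (zpowers_le).2 hzR
    have hd : Nat.card (zpowers (z : U)) ∣ 5 := (card_dvd_of_le hle).trans (dvd_of_eq hR)
    rcases (Nat.dvd_prime (by norm_num)).1 hd with h | h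
    · rw [Nat.card_zpowers, orderOf_eq_one_iff] at h
      exact absurd h hz1'
    · exact eq_of_le_of_card_ge hle (by rw [h, hR])
  have hPR : (P : Subgroup U) = R := by
    refine le_antisymm (fun y hy => ?_) hP
    rw [← hC, mem_centralizer_iff]
    intro x hx
    rw [SetLike.mem_coe, ← hzz] at hx
    obtain ⟨k, rfl⟩ := mem_zpowers_iff.1 hx
    exact ((show Commute y (z : U) from hzc y hy).zpow_right k).eq.symm
  intro u t hu ht
  have hup : IsPGroup 5 (zpowers u) := IsPGroup.of_card (n := 1) (by rw [Nat.card_zpowers, hu]; rfl)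
  obtain ⟨Q, hQ⟩ := hup.exists_le_sylow
  obtain ⟨g, hg⟩ := MulAction.exists_smul_eq U Q P
  have hmem : g * u * g⁻¹ ∈ R := by
    rw [← hPR, ← hg, Sylow.coe_subgroup_smul]
    exact Subgroup.smul_mem_pointwise_smul u (MulAut.conj g) _ (hQ (mem_zpowers u))
  have hord : orderOf (g * u * g⁻¹) = 5 := by
    rw [← hu]
    exact (MulAut.conj g).orderOf_eq u
  have hzz' : zpowers (g * u * g⁻¹) = R :=
    eq_of_le_of_card_ge (zpowers_le.2 hmem) (by rw [Nat.card_zpowers, hord, hR])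
  have ht' : g * t * g⁻¹ ∈ R := by
    rw [← hC, mem_centralizer_iff]
    intro x hx
    rw [SetLike.mem_coe, ← hzz'] at hx
    obtain ⟨k, rfl⟩ := mem_zpowers_iff.1 hx
    have hc : Commute (g * t * g⁻¹) (g * u * g⁻¹) := by
      show g * t * g⁻¹ * (g * u * g⁻¹) = g * u * g⁻¹ * (g * t * g⁻¹)
      calc g * t * g⁻¹ * (g * u * g⁻¹) = g * (t * u) * g⁻¹ := by group
        _ = g * (u * t) * g⁻¹ := by rw [ht]
        _ = _ := by group
    exact (hc.zpow_right k).eq.symm
  rw [← hzz'] at ht'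
  obtain ⟨k, hk⟩ := mem_zpowers_iff.1 ht'
  refine mem_zpowers_iff.2 ⟨k, ?_⟩
  rw [conj_zpow] at hk
  exact mul_left_cancel (mul_right_cancel hk)

theorem sc5_five : SC5 (alternatingGroup (Fin 5)) := fun _ _ hu ht =>
  J2Type.A5Facts.mem_zpowers_of_comm (MulEquiv.refl _) hu ht

theorem sc5_six : SC5 (alternatingGroup (Fin 6)) := by
  intro u t hu ht
  have h1 := H528.PDAlt.cent6_five hu
  have hle : zpowers u ≤ centralizer ({u} : Set (alternatingGroup (Fin 6))) :=
    zpowers_le.2 (mem_centralizer_singleton_iff.2 rfl)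
  have h2 : zpowers u = centralizer ({u} : Set (alternatingGroup (Fin 6))) :=
    eq_of_le_of_card_ge hle (by rw [Nat.card_zpowers, hu]; exact Nat.le_of_dvd (by norm_num) h1)
  rw [h2]
  exact mem_centralizer_singleton_iff.2 ht

/-- if the outer automorphism group is a `2`-group then the automorphisms of odd order are inner -/
theorem inner_of_out {U : Type} [Group U] [Finite U]
    (h : ∀ p : ℕ, p.Prime → p ∣ Nat.card (Cfsg.Out U) → p = 2) (σ : MulAut U) (hσ : Odd (orderOf σ)) :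
    ∃ t : U, σ = MulAut.conj t := by
  have h1 : orderOf (QuotientGroup.mk' (Cfsg.Inn U) σ) = 1 := by
    by_contra hne
    obtain ⟨p, hp, hd⟩ := Nat.exists_prime_and_dvd hne
    have h2 : p = 2 := h p hp (hd.trans (orderOf_dvd_natCard _))
    subst h2
    exact (Nat.not_even_iff_odd.2 hσ) (even_iff_two_dvd.2 (hd.trans (orderOf_map_dvd _ σ)))
  rw [orderOf_eq_one_iff, QuotientGroup.mk'_apply, QuotientGroup.eq_one_iff] at h1
  obtain ⟨t, ht⟩ := h1
  exact ⟨t, ht.symm⟩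

theorem card_out_u42 {F : Type} [Field F] [Fintype F] (hF : Fintype.card F = 4) :
    Nat.card (Cfsg.Out (PSU 4 F 2)) = 2 := by
  have : Fact (Nat.Prime 2) := ⟨Nat.prime_two⟩
  obtain ⟨φ, hs, -, hk⟩ := H183.OutPSU.out_psu (K := F) (p := 2) (f := 1) (q := 2) (n := 4) le_rfl (by norm_num)
    (by rw [hF]; norm_num) (by norm_num) (by norm_num)
  have hk' : φ.ker = ⊥ := by
    rw [← Subgroup.card_eq_one, hk]
    norm_num
  have hb : Function.Bijective φ := ⟨(MonoidHom.ker_eq_bot_iff φ).1 hk', hs⟩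
  rw [Nat.card_eq_of_bijective φ hb]
  simp

theorem three_primes {U : Type} [Group U] [Finite U] [IsSimpleGroup U] (hU : ¬ IsMulCommutative U)
    (h5 : ∀ r : ℕ, r.Prime → r ∣ Nat.card U → r ≤ 5) : (Nat.card U).primeFactors.card = 3 := by
  have hle : (Nat.card U).primeFactors ⊆ {2, 3, 5} := by
    intro r hr
    have hp := Nat.prime_of_mem_primeFactors hr
    have h1 := h5 r hp (Nat.dvd_of_mem_primeFactors hr)
    have h2 := hp.two_le
    have h4 : r ≠ 4 := by
      rintro rfl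
      norm_num at hp
    simp only [Finset.mem_insert, Finset.mem_singleton]
    omega
  have h3 : (Nat.card U).primeFactors.card ≤ 3 := (Finset.card_le_card hle).trans (by decide)
  by_contra hne
  have := SolvableStructure.HallConverse.isSolvable_of_no_three_primes (G := U) (by omega)
  exact hU ⟨⟨IsSimpleGroup.comm_iff_isSolvable.2 ‹_›⟩⟩

/-- **The simple groups whose order has no prime divisor above five.** -/
theorem list5 (big : Big) {U : Type} [Group U] [Finite U] [IsSimpleGroup U] (hU : ¬ IsMulCommutative U)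
    (h5 : ∀ r : ℕ, r.Prime → r ∣ Nat.card U → r ≤ 5) :
    Nonempty (U ≃* alternatingGroup (Fin 5)) ∨ Nonempty (U ≃* alternatingGroup (Fin 6)) ∨
      ∃ (F : Type) (_ : Field F) (_ : Fintype F), Fintype.card F = 4 ∧ Nonempty (U ≃* PSU 4 F 2) := by
  obtain ⟨g, hg⟩ := H436.exists_named OrdDiv.table (big.cf U) fun h => hU ⟨⟨h⟩⟩
  have no : ∀ r n : ℕ, r.Prime → 5 < r → r ∣ n → Nat.card U ≠ n := fun r n hr h1 h2 h3 =>
    absurd (h5 r hr (h3 ▸ h2)) (by omega)
  rcases H436.Core3719.core hg (three_primes hU h5) with h | h | ⟨F, _, _, hF, ⟨e⟩⟩ | ⟨F, _, _, hF, ⟨e⟩⟩ |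
    ⟨F, _, _, hF, ⟨e⟩⟩ | h
  · exact Or.inl h
  · exact Or.inr (Or.inl h)
  · exfalso
    have hc := Nat.card_congr e.toEquiv
    rcases hF with hF | hF | hF
    · have h := S0243.result hF 2 le_rfl
      rw [← hc] at h
      simp only [Fin.prod_univ_two] at h
      norm_num at h
      exact no 7 168 (by norm_num) (by norm_num) (by norm_num) (by omega)
    · have h := S0243.result hF 2 le_rfl
      rw [← hc] at h
      simp only [Fin.prod_univ_two] at h
      norm_num at h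
      exact no 7 504 (by norm_num) (by norm_num) (by norm_num) (by omega)
    · have h := S0243.result hF 2 le_rfl
      rw [← hc] at h
      simp only [Fin.prod_univ_two] at h
      norm_num at h
      exact no 17 2448 (by norm_num) (by norm_num) (by norm_num) (by omega)
  · exfalso
    have hc := Nat.card_congr e.toEquiv
    have h := S0243.result hF 3 (by norm_num)
    rw [← hc] at h
    simp only [Fin.prod_univ_three] at h
    norm_num at h
    exact no 13 5616 (by norm_num) (by norm_num) (by norm_num) (by omega)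
  · exfalso
    have hc := Nat.card_congr e.toEquiv
    rw [SmallSimple.PSLFacts.card_psu_three_three hF] at hc
    exact no 7 6048 (by norm_num) (by norm_num) (by norm_num) hc
  · exact Or.inr (Or.inr h)

/-- **Task 267.** -/
theorem boxGrp5 (big : Big) : BoxGrp5 := by
  intro U _ _ hs hU h5
  rcases list5 big hU h5 with ⟨⟨e⟩⟩ | ⟨⟨e⟩⟩ | ⟨F, _, _, hF, ⟨e⟩⟩
  · refine ⟨sc5_congr e sc5_five, inner_of_out fun p hp hd => ?_⟩
    rw [H55.OutGen.card_out_congr e] at hd
    exact H171.AltGoal.prime_out le_rfl hp hd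
  · refine ⟨sc5_congr e sc5_six, inner_of_out fun p hp hd => ?_⟩
    rw [H55.OutGen.card_out_congr e] at hd
    exact H171.AltGoal.prime_out (by norm_num) hp hd
  · obtain ⟨R, hR, hC⟩ := H809.SelfCent.psu_four_two (F := F) (by rw [hF]; norm_num)
    refine ⟨sc5_congr e (sc5_of_self hR hC), inner_of_out fun p hp hd => ?_⟩
    rw [H55.OutGen.card_out_congr e, card_out_u42 hF] at hd
    exact (Nat.prime_dvd_prime_iff_eq hp Nat.prime_two).1 hd

end Cfsg.Agent.Cam.Ex.Grp5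
end

-- part: Cam/Spor/BFb
section
prune_inst 0x4d0003b345500100000000010c0003e42f2000192006b8801c1400b420788af40404207208ca01300100aaa0420300048119800c0001000000000000041180080102a02029048a00001000000b087180c00000000000000000000000000000000000000000
set_option linter.all false
open scoped Cfsg.Agent.FastGrp

/-!
# S3689, S3690: the class `5B` of the Baby Monster, the local argument (helper66)
-/

set_option autoImplicit false

namespace Cfsg.Agent.Cam.Spor

open Cfsg Subgroup Cfsg.Agent.TwoFusion.PerfCore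

section five
variable {G : Type} [Group G]

theorem five_mul_le [Finite G] {H K : Subgroup G} (hK : IsPGroup 5 K) (h : H < K) : 5 * Nat.card H ≤ Nat.card K := by
  have : Fact (Nat.Prime 5) := ⟨Nat.prime_five⟩
  obtain ⟨m, hm⟩ := IsPGroup.iff_card.1 (hK.to_le h.le)
  obtain ⟨n, hn⟩ := IsPGroup.iff_card.1 hK
  have h1 : m < n := by
    by_contra h2
    exact h.ne (eq_of_le_of_card_ge h.le (by rw [hm, hn]; exact Nat.pow_le_pow_right (by norm_num) (by omega)))
  rw [hm, hn, ← pow_succ']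
  exact Nat.pow_le_pow_right (by norm_num) h1

theorem eq_one_of_inv {A : Subgroup G} (hA : IsPGroup 5 A) {w : G} (hw : w ∈ A) (h : w⁻¹ = w) : w = 1 := by
  obtain ⟨k, hk⟩ := hA ⟨w, hw⟩
  rw [← pow_one w, ← (show Nat.Coprime 2 (5 ^ k) from Nat.Coprime.pow_right _ (by norm_num)), pow_gcd_eq_one]
  exact ⟨by rw [pow_two]; nth_rewrite 1 [← h]; exact inv_mul_cancel w, congrArg Subtype.val hk⟩

/-- an abelian `5`-group with a faithful action of `A₄` and a fixed point -/
theorem card_ge_of_four [Finite G] {A : Subgroup G} (hA : IsPGroup 5 A) (hc : ∀ p ∈ A, ∀ q ∈ A, p * q = q * p)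
    {a b r x : G} (ha : ∀ w ∈ A, a * w * a⁻¹ ∈ A) (hb : ∀ w ∈ A, b * w * b⁻¹ ∈ A) (hr : ∀ w ∈ A, r * w * r⁻¹ ∈ A)
    (haa : a * a = 1) (hbb : b * b = 1) (hab : a * b = b * a) (ra : r * a * r⁻¹ = b) (rb : r * b * r⁻¹ = a * b)
    (hx : x ∈ A) (hx1 : x ≠ 1) (hxa : x * a = a * x) (hxb : x * b = b * x) {w : G} (hw : w ∈ A)
    (hne : a * w * a⁻¹ ≠ w) : 5 ^ 4 ≤ Nat.card A := by
  have rab : r * (a * b) * r⁻¹ = a := by
    calc r * (a * b) * r⁻¹ = (r * a * r⁻¹) * (r * b * r⁻¹) := by group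
      _ = a := by rw [ra, rb, ← mul_assoc, ← hab, mul_assoc, hbb, mul_one]
  have h1 : ∀ y, a * (r * y * r⁻¹) * a⁻¹ = r * (a * (b * y * b⁻¹) * a⁻¹) * r⁻¹ := fun y => by
    nth_rewrite 1 2 [← rab]
    group
  have h2 : ∀ y, b * (r * y * r⁻¹) * b⁻¹ = r * (a * y * a⁻¹) * r⁻¹ := fun y => by
    rw [← ra]
    group
  have h3 : ∀ {g y : G}, g * g = 1 → y ∈ A → g * y * g⁻¹ ∈ A →
      g * (g * y * g⁻¹ * y⁻¹) * g⁻¹ = (g * y * g⁻¹ * y⁻¹)⁻¹ := fun {g y} hg _ _ => by
    calc g * (g * y * g⁻¹ * y⁻¹) * g⁻¹ = g * g * y * (g * g)⁻¹ * (g * y * g⁻¹)⁻¹ := by group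
      _ = _ := by rw [hg]; group
  have h4 : ∀ {g y : G}, g * y * g⁻¹ = y⁻¹ → g * y⁻¹ * g⁻¹ = y := fun {g y} h => by
    rw [← conj_inv, h, inv_inv]
  have hr1 : ∀ {y : G}, y ≠ 1 → r * y * r⁻¹ ≠ 1 := fun h h' => h (conj_eq_one_iff.1 h')
  have e12 : (∃ y ∈ A, y ≠ 1 ∧ a * y * a⁻¹ = y⁻¹ ∧ b * y * b⁻¹ = y) →
      ∃ y ∈ A, y ≠ 1 ∧ a * y * a⁻¹ = y⁻¹ ∧ b * y * b⁻¹ = y⁻¹ := by
    rintro ⟨y, hy, hy1, e1, e2⟩
    exact ⟨_, hr y hy, hr1 hy1, by rw [h1, e2, e1, conj_inv], by rw [h2, e1, conj_inv]⟩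
  have e23 : (∃ y ∈ A, y ≠ 1 ∧ a * y * a⁻¹ = y⁻¹ ∧ b * y * b⁻¹ = y⁻¹) →
      ∃ y ∈ A, y ≠ 1 ∧ a * y * a⁻¹ = y ∧ b * y * b⁻¹ = y⁻¹ := by
    rintro ⟨y, hy, hy1, e1, e2⟩
    exact ⟨_, hr y hy, hr1 hy1, by rw [h1, e2, h4 e1], by rw [h2, e1, conj_inv]⟩
  have e31 : (∃ y ∈ A, y ≠ 1 ∧ a * y * a⁻¹ = y ∧ b * y * b⁻¹ = y⁻¹) →
      ∃ y ∈ A, y ≠ 1 ∧ a * y * a⁻¹ = y⁻¹ ∧ b * y * b⁻¹ = y := by
    rintro ⟨y, hy, hy1, e1, e2⟩
    exact ⟨_, hr y hy, hr1 hy1, by rw [h1, e2, conj_inv, ← conj_inv (b := a), e1], by rw [h2, e1]⟩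
  have e2 : ∃ y ∈ A, y ≠ 1 ∧ a * y * a⁻¹ = y⁻¹ ∧ b * y * b⁻¹ = y⁻¹ := by
    have hy := mul_mem (ha w hw) (inv_mem hw)
    have hy1 : a * w * a⁻¹ * w⁻¹ ≠ 1 := fun h => hne (mul_inv_eq_one.1 h)
    have hya := h3 haa hw (ha w hw)
    generalize a * w * a⁻¹ * w⁻¹ = y at hy hy1 hya
    by_cases h : b * y * b⁻¹ = y
    · exact e12 ⟨y, hy, hy1, hya, h⟩
    refine ⟨_, mul_mem (hb y hy) (inv_mem hy), fun h' => h (mul_inv_eq_one.1 h'), ?_, h3 hbb hy (hb y hy)⟩
    calc a * (b * y * b⁻¹ * y⁻¹) * a⁻¹ = a * b * y * (a * b)⁻¹ * (a * y⁻¹ * a⁻¹) := by group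
      _ = b * (a * y * a⁻¹) * b⁻¹ * y := by rw [hab, h4 hya]; group
      _ = (b * y * b⁻¹)⁻¹ * y := by rw [hya, conj_inv]
      _ = _ := by rw [hc _ (inv_mem (hb y hy)) _ hy, mul_inv_rev (b * y * b⁻¹), inv_inv]
  obtain ⟨w1, m1, n1, a1, b1⟩ := e31 (e23 e2)
  obtain ⟨w3, m3, n3, a3, b3⟩ := e23 e2
  obtain ⟨w2, m2, n2, a2, b2⟩ := e2
  let ψ : A →* G :=
    { toFun := fun y => a * y * a⁻¹ * (y : G)⁻¹
      map_one' := by simp
      map_mul' := fun p q => by
        have h5 := hc _ (inv_mem p.2) _ (mul_mem (ha q q.2) (inv_mem q.2))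
        calc a * ((p : G) * q) * a⁻¹ * ((p : G) * q)⁻¹ =
            a * p * a⁻¹ * (a * q * a⁻¹ * (q : G)⁻¹ * (p : G)⁻¹) := by group
          _ = _ := by rw [← h5]; group }
  have hψ : ∀ y : A, ψ y = a * y * a⁻¹ * (y : G)⁻¹ := fun y => rfl
  have l1 : (⊥ : Subgroup A) < (centralizer ({a} : Set G) ⊓ centralizer ({b} : Set G)).subgroupOf A :=
    SetLike.lt_iff_le_and_exists.2 ⟨bot_le, ⟨x, hx⟩, mem_subgroupOf.2 (mem_inf.2 ⟨mem_centralizer_singleton_iff.2 hxa,
      mem_centralizer_singleton_iff.2 hxb⟩), fun h => hx1 (congrArg Subtype.val (mem_bot.1 h))⟩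
  have l2 : (centralizer ({a} : Set G) ⊓ centralizer ({b} : Set G)).subgroupOf A <
      (centralizer ({a} : Set G)).subgroupOf A :=
    SetLike.lt_iff_le_and_exists.2 ⟨fun y hy => hy.1, ⟨w3, m3⟩,
      mem_centralizer_singleton_iff.2 (mul_inv_eq_iff_eq_mul.1 a3).symm, fun h => n3 (eq_one_of_inv hA m3 (by
        have h5 : w3 * b = b * w3 := mem_centralizer_singleton_iff.1 h.2
        rw [← b3, ← h5, mul_inv_cancel_right]))⟩
  have l3 : (centralizer ({a} : Set G)).subgroupOf A < (centralizer ({b} : Set G)).comap ψ :=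
    SetLike.lt_iff_le_and_exists.2 ⟨fun y hy => by
      have h5 : (y : G) * a = a * y := mem_centralizer_singleton_iff.1 hy
      rw [mem_comap, hψ, ← h5, mul_inv_cancel_right, mul_inv_cancel]
      exact one_mem _, ⟨w1, m1⟩, by
      have h5 : w1 ∈ centralizer ({b} : Set G) := mem_centralizer_singleton_iff.2 (mul_inv_eq_iff_eq_mul.1 b1).symm
      rw [mem_comap, hψ, a1]
      exact mul_mem (inv_mem h5) (inv_mem h5), fun h => n1 (eq_one_of_inv hA m1 (by
        have h5 : w1 * a = a * w1 := mem_centralizer_singleton_iff.1 h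
        rw [← a1, ← h5, mul_inv_cancel_right]))⟩
  have l4 : (centralizer ({b} : Set G)).comap ψ < ⊤ :=
    SetLike.lt_iff_le_and_exists.2 ⟨le_top, ⟨w2, m2⟩, mem_top _, fun h => by
      rw [mem_comap, hψ, a2, mem_centralizer_singleton_iff] at h
      have h5 : w2 * w2 = 1 := eq_one_of_inv hA (mul_mem m2 m2) (by
        calc (w2 * w2)⁻¹ = b * (w2⁻¹ * w2⁻¹) * b⁻¹ := by rw [← h]; group
          _ = b * w2⁻¹ * b⁻¹ * (b * w2⁻¹ * b⁻¹) := by group
          _ = _ := by rw [h4 b2])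
      exact n2 (eq_one_of_inv hA m2 (inv_eq_of_mul_eq_one_left h5))⟩
  have c1 := five_mul_le (hA.to_subgroup _) l1
  have c2 := five_mul_le (hA.to_subgroup _) l2
  have c3 := five_mul_le (hA.to_subgroup _) l3
  have c4 := five_mul_le (hA.to_subgroup _) l4
  rw [card_bot] at c1
  rw [card_top] at c4
  omega

/-- large abelian subgroups of a group of extraspecial type -/
theorem false_of_abelian [Finite G] {A Q : Subgroup G} {x : G} (hx : orderOf x = 5) (hQ : IsPGroup 5 Q) (hAQ : A ≤ Q)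
    (hc : ∀ p ∈ A, ∀ q ∈ A, p * q = q * p) (hxQ : ∀ q ∈ Q, q * x = x * q)
    (hcm : ∀ p ∈ Q, ∀ q ∈ Q, p * q * p⁻¹ * q⁻¹ ∈ zpowers x) (hz : ∀ w ∈ Q, (∀ q ∈ Q, q * w = w * q) → w ∈ zpowers x)
    (hA : 5 ^ 4 ≤ Nat.card A) (h5 : Nat.card Q ≤ 5 ^ 5) : False := by
  obtain ⟨q, hq, h⟩ : ∃ q ∈ Q, ∀ w ∈ A, q * w = w * q → w ∈ zpowers x := by
    by_cases h : Q ≤ A
    · exact ⟨1, one_mem _, fun w hw _ => hz w (hAQ hw) fun q hq => hc q (h hq) w hw⟩
    obtain ⟨q, hq, hqA⟩ := SetLike.not_le_iff_exists.1 h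
    refine ⟨q, hq, fun w hw hqw => hz w (hAQ hw) fun p hp => ?_⟩
    have h1 : A < Q ⊓ centralizer ({w} : Set G) := SetLike.lt_iff_le_and_exists.2
      ⟨fun y hy => ⟨hAQ hy, mem_centralizer_singleton_iff.2 (hc y hy w hw)⟩, q,
        mem_inf.2 ⟨hq, mem_centralizer_singleton_iff.2 hqw⟩, hqA⟩
    have h2 := five_mul_le (hQ.to_le inf_le_left) h1
    have h3 : Q ⊓ centralizer ({w} : Set G) = Q := eq_of_le_of_card_ge inf_le_left (by omega)
    exact mem_centralizer_singleton_iff.1 (h3.ge hp).2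
  let χ : A →* zpowers x :=
    { toFun := fun y => ⟨q * y * q⁻¹ * (y : G)⁻¹, hcm q hq y (hAQ y.2)⟩
      map_one' := Subtype.ext (by simp)
      map_mul' := fun a b => Subtype.ext (by
        have h1 := zpowers_comm _ (hcm q hq b (hAQ b.2)) _
          (mem_centralizer_singleton_iff.2 (hxQ _ (inv_mem (hAQ a.2))))
        change q * ((a : G) * b) * q⁻¹ * ((a : G) * b)⁻¹ = q * a * q⁻¹ * (a : G)⁻¹ * (q * b * q⁻¹ * (b : G)⁻¹)
        calc q * ((a : G) * b) * q⁻¹ * ((a : G) * b)⁻¹ = q * a * q⁻¹ * (q * b * q⁻¹ * (b : G)⁻¹ * (a : G)⁻¹) := by group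
          _ = _ := by rw [← h1]; group) }
  have h1 := χ.ker.card_mul_index
  have h2 : χ.ker.index ≤ 5 := by
    rw [index_ker, ← hx, ← Nat.card_zpowers]
    exact card_le_card_group _
  have h3 : Nat.card χ.ker ≤ 5 := by
    rw [← hx, ← Nat.card_zpowers]
    refine Nat.card_le_card_of_injective (fun y => (⟨((y : A) : G), h _ (y : A).2 ?_⟩ : zpowers x))
      fun a b e => Subtype.ext (Subtype.ext (congrArg (fun z : zpowers x => (z : G)) e))
    have h4 : q * (y : A) * q⁻¹ * ((y : A) : G)⁻¹ = 1 := congrArg Subtype.val (show χ y = 1 from y.2)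
    exact mul_inv_eq_iff_eq_mul.1 (mul_inv_eq_one.1 h4)
  have h4 := Nat.mul_le_mul h3 h2
  omega

end five

variable {L U : Type} [Group L] [Group U] {τ α β : U →* L} {R R' : Subgroup L}

/-- the situation of an element of the class `5B` of `B` -/
structure Rad5 (x : L) (Q0 Q : Subgroup L) : Prop where
  n0 : (Q0.subgroupOf (centralizer ({x} : Set L))).Normal
  s0 : Group.IsSolvable Q0
  idx : Q0.relIndex (centralizer ({x} : Set L)) ∣ 1920
  mem : ∀ y ∈ Q0, y ^ 5 = 1 → y ∈ Q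
  pg : IsPGroup 5 Q
  xm : x ∈ Q
  le : ∀ q ∈ Q, q * x = x * q
  nrm : ∀ g, g * x = x * g → ∀ q ∈ Q, g * q * g⁻¹ ∈ Q
  comm : ∀ a ∈ Q, ∀ b ∈ Q, a * b * a⁻¹ * b⁻¹ ∈ zpowers x
  cen : ∀ w ∈ Q, (∀ q ∈ Q, q * w = w * q) → w ∈ zpowers x

theorem Core.dvd_of_rad5 (c : Core τ α β R R') {u : U} {Q0 Q : Subgroup L} (F : Rad5 (τ u) Q0 Q) :
    Nat.card U ∣ 1920 := by
  obtain ⟨φ, hφ, hφR⟩ := c.pair.copy
  exact (card_dvd_relIndex c.simple c.noncomm F.n0 F.s0 hφ fun w => c.pair.le_cent u (hφR w)).trans F.idx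

/-- **the class `5B`** -/
theorem Core.false_5B [Finite L] [Finite U] (big : Big) (c : Core τ α β R R') (hL : ¬ 5 ^ 7 ∣ Nat.card L)
    {u v a b r : U} (d : A5Dat u v a b r) {Q0 Q : Subgroup L} (F : Rad5 (τ u) Q0 Q) : False := by
  have : Fact (Nat.Prime 5) := ⟨Nat.prime_five⟩
  have hu1 : u ≠ 1 := fun h => by
    have := d.hu
    rw [h, orderOf_one] at this
    omega
  have hu5 : u ^ 5 = 1 := by rw [← d.hu, pow_orderOf_eq_one]
  have hx : orderOf (τ u) = 5 := (c.pair.orderOf_eq u).trans d.hu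
  obtain ⟨φ, hφ, hφR⟩ := c.pair.copy
  obtain ⟨hy0, M, hM, hcov⟩ := c.alpha_mem big Nat.prime_five d.hu (d.hvu ▸ inv_mem (mem_zpowers u))
    (not_comm_of_inv d.hu d.hvu) F.n0 F.s0 (l := [(2, 7), (3, 1), (5, 1)]) (N := 1920) (by decide +kernel) F.idx
    (m := 60) (by decide +kernel) (by decide +kernel) (by norm_num) hφ hφR
  have hy := F.mem _ hy0 (by rw [← map_pow, hu5, map_one])
  have hsx : τ v * τ u * (τ v)⁻¹ = (τ u)⁻¹ := by rw [← map_inv, ← map_inv, ← map_mul, ← map_mul, d.hvu]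
  have hc : ∀ p ∈ Q, τ v * p * (τ v)⁻¹ = p⁻¹ → ∀ q ∈ Q, τ v * q * (τ v)⁻¹ = q⁻¹ → p * q = q * p := by
    intro p hp hp' q hq hq'
    have h1 := F.comm p hp q hq
    have h2 := zpowers_comm _ h1 _ (mem_centralizer_singleton_iff.2 (F.le _ (mul_mem hq hp)))
    have h3 : τ v * (p * q * p⁻¹ * q⁻¹) * (τ v)⁻¹ = (p * q * p⁻¹ * q⁻¹)⁻¹ := by
      obtain ⟨i, hi⟩ := h1
      rw [← show τ u ^ i = _ from hi, ← conj_zpow, hsx, inv_zpow]
    have h4 : p * q * p⁻¹ * q⁻¹ = 1 := eq_one_of_inv F.pg (zpowers_le.2 F.xm h1) (by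
      calc (p * q * p⁻¹ * q⁻¹)⁻¹ = τ v * p * (τ v)⁻¹ * (τ v * q * (τ v)⁻¹) * (τ v * p * (τ v)⁻¹)⁻¹ *
          (τ v * q * (τ v)⁻¹)⁻¹ := by rw [← h3]; group
        _ = (q * p)⁻¹ * (p * q * p⁻¹ * q⁻¹ * (q * p)) := by rw [hp', hq']; group
        _ = _ := by rw [← h2, inv_mul_cancel_left])
    calc p * q = p * q * p⁻¹ * q⁻¹ * (q * p) := by group
      _ = _ := by rw [h4, one_mul]
  let A : Subgroup L :=
    { carrier := {q | q ∈ Q ∧ τ v * q * (τ v)⁻¹ = q⁻¹}
      one_mem' := ⟨one_mem _, by simp⟩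
      mul_mem' := fun {p q} hp hq => ⟨mul_mem hp.1 hq.1, by
        calc τ v * (p * q) * (τ v)⁻¹ = τ v * p * (τ v)⁻¹ * (τ v * q * (τ v)⁻¹) := by group
          _ = _ := by rw [hp.2, hq.2, hc p hp.1 hp.2 q hq.1 hq.2, mul_inv_rev]⟩
      inv_mem' := fun {p} hp => ⟨inv_mem hp.1, by rw [← conj_inv, hp.2]⟩ }
  have hAQ : A ≤ Q := fun q hq => hq.1
  have hAc : ∀ p ∈ A, ∀ q ∈ A, p * q = q * p := fun p hp q hq => hc p hp.1 hp.2 q hq.1 hq.2
  have hRA : ∀ ρ ∈ R, ∀ w ∈ A, ρ * w * ρ⁻¹ ∈ A := fun ρ hρ w hw => ⟨F.nrm ρ (c.pair.comm u ρ hρ).symm w hw.1, by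
    calc τ v * (ρ * w * ρ⁻¹) * (τ v)⁻¹ = τ v * ρ * w * (τ v * ρ)⁻¹ := by group
      _ = ρ * (τ v * w * (τ v)⁻¹) * ρ⁻¹ := by rw [c.pair.comm v ρ hρ]; group
      _ = _ := by rw [hw.2, conj_inv]⟩
  have hyA : α u ∈ A := ⟨hy, by rw [c.conj_alpha, d.hvu, map_inv]⟩
  have hRC : ∀ ρ ∈ R, ∀ k ∈ centralizer (A : Set L), ρ * k * ρ⁻¹ ∈ centralizer (A : Set L) := fun ρ hρ k hk =>
    mem_centralizer_iff.2 fun w hw => by
      have h1 := mem_centralizer_iff.1 hk _ (hRA _ (inv_mem hρ) w hw)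
      calc w * (ρ * k * ρ⁻¹) = ρ * (ρ⁻¹ * w * ρ⁻¹⁻¹ * k) * ρ⁻¹ := by group
        _ = _ := by rw [h1]; group
  have hne : ∀ {w : U}, orderOf w = 2 → w ≠ 1 := fun hw h => by
    rw [h, orderOf_one] at hw
    omega
  have hsq : ∀ {w : U}, orderOf w = 2 → φ w * φ w = 1 := fun hw => by
    rw [← map_mul, ← pow_two, ← hw, pow_orderOf_eq_one, map_one]
  by_cases h : ∃ w ∈ A, φ a * w * (φ a)⁻¹ ≠ w
  · obtain ⟨w, hw, hw'⟩ := h
    have h1 := card_ge_of_four (F.pg.to_le hAQ) hAc (hRA _ (hφR a)) (hRA _ (hφR b)) (hRA _ (hφR r)) (hsq d.ha)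
      (hsq d.hb) (by rw [← map_mul, d.hab, map_mul]) (by rw [← map_inv, ← map_mul, ← map_mul, d.ra])
      (by rw [← map_inv, ← map_mul, ← map_mul, d.rb, map_mul]) (x := τ u) ⟨F.xm, hsx⟩
      (fun h => hu1 (c.pair.inj (h.trans (map_one τ).symm))) (c.pair.comm u _ (hφR a)) (c.pair.comm u _ (hφR b)) hw hw'
    refine false_of_abelian hx F.pg hAQ hAc F.le F.comm F.cen h1 ?_
    have h2 : φ u ∉ Q := fun hq => by
      have h3 : (Q.comap φ).Normal := ⟨fun w hw g => by
        rw [mem_comap, map_mul, map_mul, map_inv]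
        exact F.nrm _ (c.pair.comm u _ (hφR g)).symm _ hw⟩
      rcases c.simple.eq_bot_or_eq_top_of_normal _ h3 with h4 | h4
      · exact hu1 (mem_bot.1 (h4 ▸ (hq : u ∈ Q.comap φ)))
      · refine hne d.ha (hφ ((eq_one_of_inv F.pg (h4.ge (mem_top a)) ?_).trans (map_one φ).symm))
        exact inv_eq_of_mul_eq_one_left (hsq d.ha)
    have h3 : IsPGroup 5 (Q ⊔ zpowers (φ u) : Subgroup L) := F.pg.to_sup_of_normal_left'
      (IsPGroup.of_card (n := 1) (by rw [Nat.card_zpowers, orderOf_injective φ hφ, d.hu, pow_one]))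
      (zpowers_le.2 (mem_normalizer_of (F.nrm _ (c.pair.comm u _ (hφR u)).symm)))
    have h4 := five_mul_le h3 (SetLike.lt_iff_le_and_exists.2 ⟨le_sup_left, _, mem_sup_right (mem_zpowers _), h2⟩)
    obtain ⟨n, hn⟩ := IsPGroup.iff_card.1 h3
    have h5 : n ≤ 6 := by
      by_contra h6
      exact hL ((pow_dvd_pow 5 (by omega)).trans (hn ▸ card_subgroup_dvd_card _))
    have h6 := Nat.pow_le_pow_right (by norm_num : 0 < 5) h5
    omega
  have h1 : φ a ∈ centralizer (A : Set L) := mem_centralizer_iff.2 fun w hw =>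
    (mul_inv_eq_iff_eq_mul.1 (by_contra fun h' => h ⟨w, hw, h'⟩)).symm
  have h2 : ((centralizer (A : Set L)).comap φ).Normal := ⟨fun w hw g => by
    rw [mem_comap, map_mul, map_mul, map_inv]
    exact hRC _ (hφR g) _ hw⟩
  have h3 := (c.simple.eq_bot_or_eq_top_of_normal _ h2).resolve_left fun h4 =>
    hne d.ha (mem_bot.1 (h4 ▸ (h1 : a ∈ (centralizer (A : Set L)).comap φ)))
  have h4 : R ≤ centralizer (A : Set L) := le_of_cover c.pair.perfect hRC hM fun ρ hρ => by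
    obtain ⟨w, hw⟩ := hcov ρ hρ
    exact ⟨φ w, hφR w, h3.ge (mem_top w), hw⟩
  refine hu1 (c.anorm' (mem_normalizer_of fun ρ hρ => ?_))
  rwa [mem_centralizer_iff.1 (h4 hρ) _ hyA, mul_inv_cancel_right]

end Cfsg.Agent.Cam.Spor
end

-- part: Cam/Spor/BFa
section
prune_inst 0x4e0107e345122100000000010c0003e42d2000192006b8801c1000b420e88af40c00207208ca01310100aaa8400300048119800c04010000000000000411c0080102b22828058a80000000000b087180c00000000000000000000000000000000000000000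
set_option linter.all false
open scoped Cfsg.Agent.FastGrp

/-!
# S3689, S3690: the class `5A` of the Baby Monster, the local argument (helper66)
-/

set_option autoImplicit false

namespace Cfsg.Agent.Cam.Spor

open Cfsg Subgroup Cfsg.Agent.TwoFusion.PerfCore

variable {L U : Type} [Group L] [Group U] {τ α β : U →* L} {R R' : Subgroup L}

theorem card_aut_360 [Finite U] (hs : IsSimpleGroup U) (h : Nat.card U = 360) : Nat.card (MulAut U) = 1440 := by
  obtain ⟨e⟩ := S0497.result h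
  rw [Nat.card_congr (MulAut.congr e).toEquiv, H895.SLT.card_aut_a6]

/-- the automorphisms of `A₆` fixing an element of order five -/
theorem card_stab_360 [Finite U] (hs : IsSimpleGroup U) (h : Nat.card U = 360) {u : U} (hu : orderOf u = 5)
    {D : Type} [Group D] {a : D →* MulAut U} (ha : Function.Injective a) (hD : ∀ d, a d u = u) : Nat.card D ≤ 10 := by
  obtain ⟨e⟩ := S0497.result h
  let b : D →* MulAut (alternatingGroup (Fin 6)) := (MulAut.congr e).toMonoidHom.comp a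
  have hb : Function.Injective b := (MulAut.congr e).injective.comp ha
  have hpc : Function.Injective StdAlt.Six.pc := fun _ _ h => StdAlt.Six.pc_inj h
  have h1 : StdAlt.Six.pc.range.index = 2 := by
    have h2 := StdAlt.Six.pc.range.card_mul_index
    rw [← Nat.card_congr (MonoidHom.ofInjective hpc).toEquiv, Nat.card_perm, Nat.card_eq_fintype_card (α := Fin 6),
      Fintype.card_fin, H895.SLT.card_aut_a6, show Nat.factorial 6 = 720 from rfl] at h2
    omega
  have hn := normal_of_index_eq_two h1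
  have ho : orderOf ((e u : alternatingGroup (Fin 6)) : Equiv.Perm (Fin 6)) = 5 := by
    rw [Subgroup.orderOf_coe, MulEquiv.orderOf_eq, hu]
  have hct : ((e u : alternatingGroup (Fin 6)) : Equiv.Perm (Fin 6)).cycleType = {5} := by
    have h1 := Equiv.Perm.isCycle_of_prime_order' (σ := ((e u : alternatingGroup (Fin 6)) : Equiv.Perm (Fin 6)))
      (by rw [ho]; norm_num) (by rw [ho, Fintype.card_fin]; norm_num)
    rw [h1.cycleType, ← h1.orderOf, ho]
  have h2 := H291.RowsA.card_cent_cycle hct (Or.inr rfl)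
  have h3 : b.range.comap StdAlt.Six.pc ≤
      centralizer ({((e u : alternatingGroup (Fin 6)) : Equiv.Perm (Fin 6))} : Set (Equiv.Perm (Fin 6))) := by
    rintro σ ⟨d, hd⟩
    refine mem_centralizer_singleton_iff.2 (mul_inv_eq_iff_eq_mul.1 ?_)
    rw [← StdAlt.Six.pc_apply, ← hd]
    change ((e (a d (e.symm (e u))) : alternatingGroup (Fin 6)) : Equiv.Perm (Fin 6)) = _
    rw [e.symm_apply_apply, hD]
  have h4 := card_le_of_le h3
  rw [h2, Nat.card_congr ((b.range.comap StdAlt.Six.pc).equivMapOfInjective _ hpc).toEquiv, map_comap_eq] at h4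
  have h5 := (StdAlt.Six.pc.range.subgroupOf b.range).card_mul_index
  have h6 : (StdAlt.Six.pc.range.subgroupOf b.range).index ≤ 2 :=
    Nat.le_of_dvd (by norm_num) (h1 ▸ relIndex_dvd_index_of_normal _ _)
  rw [card_subgroupOf] at h5
  rw [Nat.card_congr (MonoidHom.ofInjective hb).toEquiv, ← h5]
  exact Nat.mul_le_mul h4 h6

/-- the situation of an element of the class `5A` of `B` -/
structure F5A (x s : L) (K : Subgroup L) : Prop where
  sd : SD x s K
  card : Nat.card (centralizer ({x} : Set L)) = 443520000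
  inv : ∀ k ∈ K, orderOf k = 2 → ¬ 9 ∣ Nat.card (centralizer ({x} : Set L) ⊓ centralizer ({k} : Set L) : Subgroup L) ∨
    Nat.card (centralizer ({x} : Set L) ⊓ centralizer ({k} : Set L) : Subgroup L) = 28800 ∨
    ∀ w, w ^ 5 = 1 → k * w * k⁻¹ = w⁻¹ → w = 1

theorem Core.false_28800 [Finite L] [Finite U] (big : Big) (c : Core τ α β R R') (hU : Nat.card U = 360) {u : U}
    (hu : orderOf u = 5) {k : L} (hk : orderOf k = 2) (hkx : k * τ u = τ u * k) (hkR : ∀ r ∈ R, k * r = r * k)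
    (h : Nat.card (centralizer ({τ u} : Set L) ⊓ centralizer ({k} : Set L) : Subgroup L) = 28800) : False := by
  have hRY : R ≤ centralizer ({τ u} : Set L) ⊓ centralizer ({k} : Set L) :=
    le_inf (c.pair.le_cent u) fun r hr => mem_centralizer_singleton_iff.2 (hkR r hr).symm
  have hYx : ∀ y ∈ centralizer ({τ u} : Set L) ⊓ centralizer ({k} : Set L), y * τ u = τ u * y := fun y hy =>
    mem_centralizer_singleton_iff.1 hy.1
  have hYz : ∀ y ∈ centralizer ({τ u} : Set L) ⊓ centralizer ({k} : Set L), Commute y (τ u * k) := fun y hy =>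
    (show Commute y (τ u) from hYx y hy).mul_right (mem_centralizer_singleton_iff.1 hy.2)
  have hz : τ u * k ∈ centralizer ({τ u} : Set L) ⊓ centralizer ({k} : Set L) :=
    ⟨mem_centralizer_singleton_iff.2 (by rw [mul_assoc, hkx]),
      mem_centralizer_singleton_iff.2 (by rw [← mul_assoc, hkx])⟩
  generalize centralizer ({τ u} : Set L) ⊓ centralizer ({k} : Set L) = Y at h hRY hYx hYz hz
  have h1 : (zpowers (τ u * k)).relIndex Y = 2880 := by
    have h2 := ((zpowers (τ u * k)).subgroupOf Y).card_mul_index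
    rw [Nat.card_congr (subgroupOfEquivOfLe (zpowers_le.2 hz)).toEquiv, Nat.card_zpowers, h,
      (show Commute (τ u) k from hkx.symm).orderOf_mul_eq_mul_orderOf_of_coprime
        (by rw [c.pair.orderOf_eq, hu, hk]; norm_num), c.pair.orderOf_eq, hu, hk] at h2
    exact Nat.eq_of_mul_eq_mul_left (by norm_num : 0 < 5 * 2) h2
  obtain ⟨φ, hφ, hφR⟩ := c.pair.copy
  have hRP : R ≤ perf Y := le_perf hRY c.pair.perfect
  obtain ⟨X, _, _, f, hf, hX⟩ := exists_qs_of big c.simple c.noncomm (C := Y) (Z := zpowers (τ u * k))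
    (by rintro _ ⟨i, rfl⟩ y hy; exact ((hYz y hy).zpow_right i).eq) (l := [(2, 6), (3, 2), (5, 1)]) (N := 2880)
    (by decide +kernel) (by rw [h1]) (by decide +kernel) hφ (fun w => hRP (hφR w)) (m := 360)
    (by rw [hU]; decide +kernel) (by decide +kernel)
  have hφ' : φ.range ≤ R := by rintro _ ⟨w, rfl⟩; exact hφR w
  have h2 : perf Y ≤ φ.range := hf.le_of_card (perf_perfect Y) c.simple c.noncomm hφ (fun w => ⟨w, rfl⟩)
    (hφ'.trans hRP) (by rw [hX, hU])
  have h3 : perf Y = R := le_antisymm (h2.trans hφ') hRP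
  have h4 : φ.range = R := le_antisymm hφ' (hRP.trans h2)
  have hYN : Y ≤ normalizer (R : Set L) := h3 ▸ le_normalizer.trans (normalizer_le_normalizer_perf Y)
  let b : Y →* MulAut R := R.normalizerMonoidHom.comp (inclusion hYN)
  have h5 : Nat.card (MulAut R) = 1440 := by
    rw [← h4, ← Nat.card_congr (MulAut.congr (MonoidHom.ofInjective hφ)).toEquiv, card_aut_360 c.simple hU]
  have h6 := b.ker.card_mul_index
  have h7 : b.ker.index ≤ 1440 := by
    rw [index_ker, ← h5]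
    exact card_le_card_group _
  obtain ⟨a, ha, ha'⟩ := c.pair.exists_act
  have hm : ∀ d : b.ker, ((d : Y) : L) ∈ centralizer (R : Set L) := fun d => mem_centralizer_iff.2 fun r hr => by
    have h8 : ((d : Y) : L) * r * ((d : Y) : L)⁻¹ = r :=
      congrArg (fun θ : MulAut R => ((θ ⟨r, hr⟩ : R) : L)) (show b d = 1 from d.2)
    exact (mul_inv_eq_iff_eq_mul.1 h8).symm
  have h8 := card_stab_360 c.simple hU hu (a := a.comp ((Y.subtype.comp b.ker.subtype).codRestrict _ hm))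
    (ha.comp fun p q h => Subtype.ext (Subtype.ext (congrArg (fun z : centralizer (R : Set L) => (z : L)) h)))
    fun d => c.pair.inj (by
      refine (ha' _ u).trans ?_
      change ((d : Y) : L) * τ u * ((d : Y) : L)⁻¹ = τ u
      rw [hYx _ (d : Y).2, mul_inv_cancel_right])
  have h9 := Nat.mul_le_mul h8 h7
  rw [h6, h] at h9
  norm_num at h9

/-- **the class `5A`** -/
theorem Core.false_5A [Finite L] [Finite U] (big : Big) (c : Core τ α β R R') {u : U} (hu : orderOf u = 5) {s : L}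
    {K : Subgroup L} (F : F5A (τ u) s K) (hU : Nat.card U = 60 ∨ Nat.card U = 25920 ∨
      (Nat.card U = 360 ∧ ∃ v, v * v = 1 ∧ v * u * v⁻¹ = u⁻¹)) : False := by
  rcases hU with h | h | ⟨h, v, hv, hvu⟩
  · exact c.false_of_sixty h hu F.sd.mem_cent F.sd.inv
  · have h1 := c.pair.order_mul_dvd' c.simple c.noncomm u
    rw [hu, h, F.card] at h1
    norm_num at h1
  obtain ⟨hR, k, hkK, hk, hkR, i, hi⟩ := c.exists_k F.sd hv hvu (not_comm_of_inv hu hvu)
  have hkx : k * τ u = τ u * k := mem_centralizer_singleton_iff.1 (F.sd.le hkK)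
  rcases F.inv k hkK hk with h1 | h1 | h1
  · refine h1 (Dvd.dvd.trans ?_ (c.pair.card_dvd_R.trans (card_dvd_of_le (le_inf (c.pair.le_cent u)
      fun r hr => mem_centralizer_singleton_iff.2 (hkR r hr).symm))))
    rw [h]
    norm_num
  · exact c.false_28800 big h hu hk hkx hkR h1
  obtain ⟨j, w, hw, e⟩ := F.sd.split (α u) (mem_centralizer_singleton_iff.1 (c.alpha_mem_cent (rfl : u * u = u * u)))
  have hwx : Commute w (τ u) := mem_centralizer_singleton_iff.1 (F.sd.le hw)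
  have hu5 : u ^ 5 = 1 := by rw [← hu, pow_orderOf_eq_one]
  have h2 : w = 1 := by
    refine h1 w ?_ ?_
    · have h3 : α u ^ 5 = 1 := by rw [← map_pow, hu5, map_one]
      rwa [e, (hwx.zpow_right j).symm.mul_pow, ← zpow_natCast, ← zpow_mul, mul_comm j, zpow_mul, zpow_natCast,
        ← map_pow, hu5, map_one, one_zpow, one_mul] at h3
    · have h3 := c.conj_alpha u v
      rw [hvu, map_inv α, hi, e] at h3
      have h4 : s * τ u ^ j * s⁻¹ = (τ u ^ j)⁻¹ := by rw [← conj_zpow, F.sd.inv, inv_zpow]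
      have h5 : k * w * k⁻¹ ∈ K := mul_mem (mul_mem hkK hw) (inv_mem hkK)
      have h6 : Commute (k * w * k⁻¹) (τ u ^ i) :=
        (show Commute _ (τ u) from mem_centralizer_singleton_iff.1 (F.sd.le h5)).zpow_right i
      have h7 : Commute k (τ u ^ j) := (show Commute k (τ u) from hkx).zpow_right j
      refine mul_left_cancel (a := (τ u ^ j)⁻¹) ?_
      calc (τ u ^ j)⁻¹ * (k * w * k⁻¹) = s * τ u ^ j * (s⁻¹ * (k * w * k⁻¹ * s)) * s⁻¹ := by rw [← h4]; group
        _ = s * τ u ^ j * (k * w * k⁻¹ * τ u ^ i) * (τ u ^ i)⁻¹ * s⁻¹ := by rw [F.sd.cent _ h5]; group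
        _ = s * τ u ^ i * (τ u ^ j * k) * w * (s * τ u ^ i * k)⁻¹ := by rw [h6.eq]; group
        _ = (τ u ^ j * w)⁻¹ := by rw [← h7.eq, ← h3]; group
        _ = _ := by rw [← (hwx.zpow_right j).eq, mul_inv_rev]
  rw [h2, mul_one] at e
  exact c.alpha_not_mem (fun h => by rw [h, orderOf_one] at hu; omega)
    (mem_sup_left (zpow_mem (⟨u, rfl⟩ : τ u ∈ τ.range) j)) e

end Cfsg.Agent.Cam.Spor
end

-- part: Cam/Spor/BDel
section
prune_inst 0x4f0103f344520100000180010e0003e62f2000092002b8801c1000b4206c8af4060070720ace013101002ae542030004811980000421000000a000800411c0080102202028048a00001000000b086180c00000000000000000000000000000000000000000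
set_option linter.all false
open scoped Cfsg.Agent.FastGrp

/-!
# S3689, S3690: an involution of the Monster inverting a `5A`-element and centralizing `HN` (helper66)
-/

set_option autoImplicit false

namespace Cfsg.Agent.Cam.Spor

open Cfsg Subgroup Cfsg.Agent.BpSpor.MBigModel Cfsg.Agent.TAB.M5
open Cfsg.Agent.H136.M23.BWords (xu xu_rat)

theorem xu_pow : (xu : MG) ^ 5 = 1 := by rw [← orderOf_xu', pow_orderOf_eq_one]

theorem xu_split {c : MG} (hc : c * xu = xu * c) : ∃ (i : ℤ) (h : Spor.HN), c = (xu : MG) ^ i * emb h := by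
  obtain ⟨i, t, ht, rfl⟩ := dp.split c (mem_centralizer_singleton_iff.2 hc)
  obtain ⟨h, rfl⟩ := exists_emb ht
  exact ⟨i, h, by rw [zpow_natCast]⟩

theorem xu_disj {i : ℤ} {h : Spor.HN} (e : (xu : MG) ^ i = emb h) : h = 1 :=
  emb_inj ((disjoint_def.1 dp.disj (e ▸ (⟨i, rfl⟩ : (xu : MG) ^ i ∈ zpowers (xu : MG))) (emb_mem h)).trans
    (map_one emb).symm)

theorem hn_center {h : Spor.HN} (e : ∀ k, h * k = k * h) : h = 1 := by
  refine eq_one_of_comm S1701.result.1 (fun hc => ?_) e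
  have : IsSimpleGroup Spor.HN := S1701.result.1
  have h1 := (Group.is_simple_iff_prime_card (α := Spor.HN)).1 this
  rw [S1701.result.2] at h1
  norm_num at h1

/-- `C(xu) = ⟨xu⟩ × HN`, with an involution inverting `xu` and centralizing `HN` -/
theorem exists_delta : ∃ δ : MG, SD (xu : MG) δ TH := by
  have := finite
  obtain ⟨g, hg⟩ := xu_rat 2 (by norm_num)
  have hgC : g ∈ normalizer ((centralizer ({(xu : MG)} : Set MG) : Subgroup MG) : Set MG) := by
    refine mem_normalizer_of fun y hy => mem_centralizer_singleton_iff.2 ?_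
    have h1 : (xu : MG) = g * (xu : MG) ^ 3 * g⁻¹ := by
      rw [← conj_pow, hg, ← pow_mul, show 2 * 3 = 5 + 1 from rfl, pow_succ, xu_pow, one_mul]
    have h2 : Commute y ((xu : MG) ^ 3) := (show Commute y xu from mem_centralizer_singleton_iff.1 hy).pow_right 3
    rw [h1]
    calc g * y * g⁻¹ * (g * (xu : MG) ^ 3 * g⁻¹) = g * (y * (xu : MG) ^ 3) * g⁻¹ := by group
      _ = _ := by rw [h2.eq]; group
  have hgT : g ∈ normalizer (TH : Set MG) := by
    refine mem_normalizer_of fun y hy => ?_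
    have h1 : (centralizer ({(xu : MG)} : Set MG)).map (MulAut.conj g).toMonoidHom ≤ centralizer ({(xu : MG)} : Set MG) := by
      rintro _ ⟨y, hy, rfl⟩
      exact conj_mem_of_norm hgC hy
    have h2 : TH.map (MulAut.conj g).toMonoidHom ≤ TH := by
      rw [dp.comm, map_commutator]
      exact commutator_mono h1 h1
    exact h2 ⟨y, hy, rfl⟩
  let θ : MulAut Spor.HN := MulAut.congr eH.symm (TH.normalizerMonoidHom ⟨g, hgT⟩)
  have hθ : ∀ k, emb (θ k) = g * emb k * g⁻¹ := fun k => by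
    rw [emb_apply]
    change ((eH (eH.symm _) : TH) : MG) = _
    rw [eH.apply_symm_apply]
    rfl
  obtain ⟨h, hh⟩ := mul_self_mem_of_index_two (H := Inn Spor.HN) S2082.result θ
  have h1 : ∀ k, g * g * (emb h)⁻¹ * emb k = emb k * (g * g * (emb h)⁻¹) := fun k => by
    have h2 : emb (θ (θ (h⁻¹ * k * h))) = emb k := by
      change emb ((θ * θ) _) = _
      rw [← hh, MulAut.conj_apply]
      congr 1
      group
    rw [hθ, hθ, map_mul, map_mul, map_inv] at h2
    nth_rewrite 2 [← h2]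
    group
  have h2 : g * g * (emb h)⁻¹ * xu * (g * g * (emb h)⁻¹)⁻¹ = (xu : MG)⁻¹ := by
    calc g * g * (emb h)⁻¹ * xu * (g * g * (emb h)⁻¹)⁻¹ = g * (g * ((emb h)⁻¹ * (xu * emb h)) * g⁻¹) * g⁻¹ := by group
      _ = _ := by
        rw [(comm_emb h).eq, inv_mul_cancel_left, hg, ← conj_pow, hg, ← pow_mul]
        exact eq_inv_of_mul_eq_one_left (by rw [← pow_succ, xu_pow])
  generalize g * g * (emb h)⁻¹ = δ at h1 h2
  refine ⟨δ, fun c hc => ?_, dp.le, ?_, h2, fun k hk => ?_⟩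
  · obtain ⟨i, k, rfl⟩ := xu_split hc
    exact ⟨i, _, emb_mem k, rfl⟩
  · obtain ⟨i, k, hk⟩ := xu_split (c := δ * δ) (by
      calc δ * δ * xu = δ * (δ * xu * δ⁻¹) * δ⁻¹ * (δ * δ) := by group
        _ = (δ * xu * δ⁻¹)⁻¹ * (δ * δ) := by nth_rewrite 1 [h2]; group
        _ = _ := by rw [h2, inv_inv])
    have h3 : k = 1 := hn_center fun m => emb_inj (by
      have h4 : Commute ((xu : MG) ^ i) (emb m) := (comm_emb m).zpow_left i
      have h5 : Commute (δ * δ) (emb m) := (show Commute δ (emb m) from h1 m).mul_left (h1 m)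
      rw [map_mul, map_mul, show emb k = ((xu : MG) ^ i)⁻¹ * (δ * δ) by rw [hk, inv_mul_cancel_left]]
      exact (h4.inv_left.mul_left h5).eq)
    rw [h3, map_one, mul_one] at hk
    have h4 : (xu : MG) ^ i = ((xu : MG) ^ i)⁻¹ := by
      calc (xu : MG) ^ i = δ * (δ * δ) * δ⁻¹ := by rw [← hk]; group
        _ = _ := by rw [hk, ← conj_zpow, h2, inv_zpow]
    have h5 : ((xu : MG) ^ i) ^ 5 = 1 := by
      rw [← zpow_natCast, ← zpow_mul, mul_comm, zpow_mul, zpow_natCast, xu_pow, one_zpow]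
    have h6 : ((xu : MG) ^ i) ^ 2 = 1 := by
      rw [pow_two]
      exact mul_eq_one_iff_eq_inv.2 h4
    rw [hk, ← pow_one ((xu : MG) ^ i), ← show Nat.gcd 2 5 = 1 from rfl, pow_gcd_eq_one]
    exact ⟨h6, h5⟩
  · obtain ⟨m, rfl⟩ := exists_emb hk
    exact (h1 m).symm

end Cfsg.Agent.Cam.Spor
end

-- part: Cam/Alt/Box
section
prune_inst 0xc00032340000000000000000c00022005000019000208801c1400a400b00a3004000010004801100100a2a0000000008111000c0021000000000000000000000002a0000903c0000000000003087180c00000000000000000000000000000000000000000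
set_option linter.all false
open scoped Cfsg.Agent.FastGrp

-- part: Cam/Alt/Tools
section
/-!
# S3689, S3690: the alternating row, tools (helper53)

`G` acts faithfully on `Ω` through `ρ`, and `S` is mapped onto the alternating group.
-/

set_option autoImplicit false
set_option linter.unusedSectionVars false

namespace Cfsg.Agent.Cam.Alt

open Subgroup Equiv Cfsg.Agent.Cam Cfsg.Agent.Cam.Spor Cfsg.Agent.Cam.Rd

theorem pick {Ω : Type*} {B : Set Ω} (l : List Ω) (h : l.length < B.ncard) : ∃ x ∈ B, x ∉ l := by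
  classical
  obtain ⟨x, h1, h2⟩ := Set.exists_mem_notMem_of_ncard_lt_ncard (s := (l.toFinset : Set Ω)) (t := B)
    (by rw [Set.ncard_coe_finset]; exact (List.toFinset_card_le l).trans_lt h)
  exact ⟨x, h1, fun h3 => h2 (by simpa using h3)⟩

/-- a permutation of prime order `r` moving a point of an invariant set -/
theorem prime_le_ncard {Ω : Type*} [Finite Ω] {σ : Perm Ω} {r : ℕ} (hr : r.Prime) (hσ : orderOf σ = r) {B : Set Ω}
    (hB : ∀ x ∈ B, σ x ∈ B) {b : Ω} (hb : b ∈ B) (hσb : σ b ≠ b) : r ≤ B.ncard := by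
  have h1 : ∀ i : ℕ, (σ ^ i) b ∈ B := by
    intro i
    induction i with
    | zero => exact hb
    | succ i ih =>
      rw [pow_succ', Perm.mul_apply]
      exact hB _ ih
  have h2 : ∀ i j : ℕ, i < j → j < r → (σ ^ i) b ≠ (σ ^ j) b := by
    intro i j hij hj h
    obtain ⟨k, rfl⟩ := Nat.exists_eq_add_of_lt hij
    rw [add_assoc, pow_add, Perm.mul_apply] at h
    have h3 : (σ ^ (k + 1)) b = b := ((σ ^ i).injective h).symm
    obtain ⟨m, hm⟩ := exists_pow_eq_self_of_coprime (x := σ) (n := k + 1) (by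
      rw [hσ]
      exact (Nat.coprime_of_lt_prime (by omega) (by omega) hr).symm)
    exact hσb (by rw [← hm]; exact Perm.pow_apply_eq_self_of_apply_eq_self h3 m)
  have h4 := Set.ncard_le_ncard_of_injOn (s := (Set.univ : Set (Fin r))) (t := B) (fun i => (σ ^ (i : ℕ)) b)
    (fun i _ => h1 i) (fun i _ j _ h => by
      rcases lt_trichotomy (i : ℕ) j with h' | h' | h'
      · exact absurd h (h2 _ _ h' j.2)
      · exact Fin.ext h'
      · exact absurd h.symm (h2 _ _ h' i.2))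
  rwa [Set.ncard_univ, Nat.card_eq_fintype_card, Fintype.card_fin] at h4

theorem seven_le {U : Type*} [Group U] [Finite U] (hs : IsSimpleGroup U) (hn : ¬ IsMulCommutative U) :
    7 ≤ Nat.card U := by
  obtain ⟨r, hr, h5, k, hk⟩ := H786.KW.exists_prime_ge_five hn
  have h0 : k ≠ 0 := by
    rintro rfl
    exact Nat.card_pos.ne' hk
  have h1 : k ≠ 1 := by
    rintro rfl
    have : Fact r.Prime := ⟨hr⟩
    have : IsCyclic U := isCyclic_of_prime_card (p := r) (by simpa using hk)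
    exact hn IsCyclic.isMulCommutative
  have : 5 * 2 ≤ r * k := Nat.mul_le_mul h5 (by omega)
  omega

section emb
variable {G : Type} [Group G] {Ω : Type} [Fintype Ω] [DecidableEq Ω] {S H : Subgroup G} {ρ : G →* Perm Ω}

/-- `ρ` is faithful and maps `S` onto the alternating group of `Ω` -/
structure Em (S : Subgroup G) (ρ : G →* Perm Ω) : Prop where
  inj : Function.Injective ρ
  map : S.map ρ = alternatingGroup Ω
  five : 5 ≤ Nat.card Ω

theorem ap_mul (ρ : G →* Perm Ω) (a b : G) (x : Ω) : ρ (a * b) x = ρ a (ρ b x) := by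
  rw [map_mul, Perm.mul_apply]

theorem ap_inv_ap (ρ : G →* Perm Ω) (a : G) (x : Ω) : ρ a⁻¹ (ρ a x) = x := by
  rw [← ap_mul, inv_mul_cancel, map_one, Perm.one_apply]

theorem ap_ap_inv (ρ : G →* Perm Ω) (a : G) (x : Ω) : ρ a (ρ a⁻¹ x) = x := by
  rw [← ap_mul, mul_inv_cancel, map_one, Perm.one_apply]

theorem ap_inv_eq (ρ : G →* Perm Ω) {a : G} {x y : Ω} (h : ρ a x = y) : ρ a⁻¹ y = x := by
  rw [← h, ap_inv_ap]

theorem Em.lift (h : Em S ρ) {σ : Perm Ω} (hσ : Perm.sign σ = 1) : ∃ s ∈ S, ρ s = σ := by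
  have : σ ∈ S.map ρ := by
    rw [h.map]
    exact Perm.mem_alternatingGroup.2 hσ
  exact this

theorem Em.eq_one (h : Em S ρ) {a : G} (ha : ∀ x, ρ a x = x) : a = 1 :=
  h.inj (by rw [map_one]; exact Perm.ext ha)

theorem Em.moves (h : Em S ρ) {a : G} (ha : a ≠ 1) : ∃ x, ρ a x ≠ x := by
  by_contra h'
  push Not at h'
  exact ha (h.eq_one h')

/-- three-cycles -/
theorem Em.cyc (h : Em S ρ) {b c d : Ω} (hbc : b ≠ c) (hbd : b ≠ d) (hcd : c ≠ d) :
    ∃ s ∈ S, ρ s b = c ∧ ρ s c = d ∧ ρ s d = b ∧ ∀ x, x ≠ b → x ≠ c → x ≠ d → ρ s x = x := by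
  obtain ⟨s, hs, e⟩ := h.lift (σ := swap d b * swap b c) (by
    rw [map_mul, Perm.sign_swap hbd.symm, Perm.sign_swap hbc]
    rfl)
  refine ⟨s, hs, ?_, ?_, ?_, fun x h1 h2 h3 => ?_⟩
  · rw [e, Perm.mul_apply, swap_apply_left, swap_apply_of_ne_of_ne hcd hbc.symm]
  · rw [e, Perm.mul_apply, swap_apply_right, swap_apply_right]
  · rw [e, Perm.mul_apply, swap_apply_of_ne_of_ne hbd.symm hcd.symm, swap_apply_left]
  · rw [e, Perm.mul_apply, swap_apply_of_ne_of_ne h1 h2, swap_apply_of_ne_of_ne h3 h1]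

/-- the stabilizer of a non-trivial `H`-invariant relation is `H` -/
theorem Em.rel_stab (h : Em S ρ) (c : Setup S H) (r : Ω → Ω → Prop)
    (hr : ∀ w ∈ H, ∀ a b, r a b → r (ρ w a) (ρ w b)) {a b d : Ω} (hab : a ≠ b) (had : a ≠ d) (h1 : r a b)
    (h2 : ¬ r a d) {w : G} (hw : ∀ a b, r a b ↔ r (ρ w a) (ρ w b)) : w ∈ H := by
  let W : Subgroup G :=
    { carrier := {w | ∀ a b, r a b ↔ r (ρ w a) (ρ w b)}
      one_mem' := fun a b => by simp
      mul_mem' := fun {u v} hu hv a b => by rw [ap_mul, ap_mul, ← hu, ← hv]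
      inv_mem' := fun {u} hu a b => by rw [hu (ρ u⁻¹ a), ap_ap_inv, ap_ap_inv] }
  have hHW : H ≤ W := fun u hu a b => ⟨hr u hu a b, fun h' => by
    have := hr _ (inv_mem hu) _ _ h'
    rwa [ap_inv_ap, ap_inv_ap] at this⟩
  rcases c.coatom.le_iff.1 hHW with h3 | h3
  · exfalso
    have hbd : b ≠ d := fun e => h2 (e ▸ h1)
    obtain ⟨x, -, hx⟩ := pick (B := Set.univ) [a, b, d] (by
      have := h.five
      rw [Set.ncard_univ]
      simp only [List.length_cons, List.length_nil]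
      omega)
    simp only [List.mem_cons, List.not_mem_nil, or_false, not_or] at hx
    obtain ⟨s, -, e1, -, -, e4⟩ := h.cyc hbd (Ne.symm hx.2.1) (Ne.symm hx.2.2)
    have h4 : s ∈ W := h3 ▸ mem_top s
    have h5 := (h4 a b).1 h1
    rw [e1, e4 a hab had (Ne.symm hx.1)] at h5
    exact h2 h5
  · exact h3 ▸ (hw : w ∈ W)

/-- the orbit of `a` under `Y` -/
def orb (ρ : G →* Perm Ω) (Y : Subgroup G) (a : Ω) : Set Ω := {b | ∃ y ∈ Y, ρ y a = b}

theorem mem_orb_self (Y : Subgroup G) (a : Ω) : a ∈ orb ρ Y a := ⟨1, one_mem _, by simp⟩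

theorem orb_inv {Y : Subgroup G} {a b : Ω} (hb : b ∈ orb ρ Y a) {y : G} (hy : y ∈ Y) : ρ y b ∈ orb ρ Y a := by
  obtain ⟨z, hz, rfl⟩ := hb
  exact ⟨y * z, mul_mem hy hz, ap_mul _ _ _ _⟩

theorem orb_symm {Y : Subgroup G} {a b : Ω} (hb : b ∈ orb ρ Y a) : a ∈ orb ρ Y b := by
  obtain ⟨z, hz, rfl⟩ := hb
  exact ⟨z⁻¹, inv_mem hz, ap_inv_ap _ _ _⟩

theorem orb_trans {Y : Subgroup G} {a b d : Ω} (hb : b ∈ orb ρ Y a) (hd : d ∈ orb ρ Y b) : d ∈ orb ρ Y a := by
  obtain ⟨z, hz, rfl⟩ := hd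
  exact orb_inv hb hz

/-- if `Y` is normalized by `H`, and `a` has a non-trivial proper orbit, the elements supported on the orbit lie in `H` -/
theorem Em.orb_stab (h : Em S ρ) (c : Setup S H) {Y : Subgroup G} (hY : H ≤ normalizer (Y : Set G)) {a b d : Ω}
    (hab : a ≠ b) (hb : b ∈ orb ρ Y a) (hd : d ∉ orb ρ Y a) {w : G} (hw : ∀ x, x ∉ orb ρ Y a → ρ w x = x) :
    w ∈ H := by
  have key : ∀ x, ρ w x ∈ orb ρ Y x := by
    intro x
    by_cases hx : x ∈ orb ρ Y a
    · by_cases hx' : ρ w x ∈ orb ρ Y a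
      · exact orb_trans (orb_symm hx) hx'
      · exact absurd ((ρ w).injective (hw _ hx') ▸ hx') (not_not.2 hx)
    · rw [hw x hx]
      exact mem_orb_self _ _
  refine h.rel_stab c (fun x y => y ∈ orb ρ Y x) ?_ hab (fun e => hd (e ▸ mem_orb_self _ _)) hb hd fun x y => ?_
  · rintro u hu x _ ⟨y, hy, rfl⟩
    exact ⟨u * y * u⁻¹, conj_mem_of_norm (hY hu) hy, by rw [ap_mul, ap_mul, ap_inv_ap]⟩
  · exact ⟨fun h' => orb_trans (orb_trans (orb_symm (key x)) h') (key y),
      fun h' => orb_trans (orb_trans (key x) h') (orb_symm (key y))⟩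

/-- `Z` is normalized by the three-cycles in `B` and semiregular on `B` -/
structure Semi (ρ : G →* Perm Ω) (Z : Subgroup G) (B : Set Ω) : Prop where
  nrm : ∀ w : G, (∀ x, x ∉ B → ρ w x = x) → w ∈ normalizer (Z : Set G)
  semi : ∀ z ∈ Z, ∀ a ∈ B, ρ z a = a → ∀ b ∈ B, ρ z b = b

theorem Em.semi_core (h : Em S ρ) {Z : Subgroup G} {B : Set Ω} (hs : Semi ρ Z B) {c : G} (hc : c ∈ Z) {a e f x : Ω}
    (ha : a ∈ B) (he : e ∈ B) (hf : f ∈ B) (hx : x ∈ B) (hae : a ≠ e) (haf : a ≠ f) (hef : e ≠ f)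
    (h1 : ρ c⁻¹ a ≠ a) (h2 : ρ c⁻¹ a ≠ e) (h3 : ρ c⁻¹ a ≠ f) (h4 : x ≠ a) (h5 : x ≠ e) (h6 : x ≠ f)
    (h7 : ρ c⁻¹ x ≠ a) (h8 : ρ c⁻¹ x ≠ e) (h9 : ρ c⁻¹ x ≠ f) : False := by
  obtain ⟨d, -, e1, -, -, e4⟩ := h.cyc hae haf hef
  have hd := hs.nrm d fun y hy => e4 y (fun e => hy (e ▸ ha)) (fun e => hy (e ▸ he)) (fun e => hy (e ▸ hf))
  have hz : c * (d * c⁻¹ * d⁻¹) ∈ Z := mul_mem hc (conj_mem_of_norm hd (inv_mem hc))
  have h10 := hs.semi _ hz x hx (by
    rw [ap_mul, ap_mul, ap_mul, ap_inv_eq ρ (e4 x h4 h5 h6), e4 _ h7 h8 h9, ap_ap_inv]) e he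
  rw [ap_mul, ap_mul, ap_mul, ap_inv_eq ρ e1, e4 _ h1 h2 h3, ap_ap_inv] at h10
  exact hae h10

theorem Em.semi_fix (h : Em S ρ) {Z : Subgroup G} {B : Set Ω} (hs : Semi ρ Z B) (h7 : 7 ≤ B.ncard) {c : G}
    (hc : c ∈ Z) {a : Ω} (ha : a ∈ B) : ρ c a = a := by
  by_contra hca
  obtain ⟨e, he, he'⟩ := pick (B := B) [a, ρ c⁻¹ a] (by simp only [List.length_cons, List.length_nil]; omega)
  obtain ⟨f, hf, hf'⟩ := pick (B := B) [a, ρ c⁻¹ a, e] (by simp only [List.length_cons, List.length_nil]; omega)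
  obtain ⟨x, hx, hx'⟩ := pick (B := B) [a, e, f, ρ c a, ρ c e, ρ c f]
    (by simp only [List.length_cons, List.length_nil]; omega)
  simp only [List.mem_cons, List.not_mem_nil, or_false, not_or] at he' hf' hx'
  have k : ∀ y z, x ≠ ρ c y → z = y → ρ c⁻¹ x ≠ z := fun y z h1 h2 h3 => h1 (by rw [← h2, ← h3, ap_ap_inv])
  exact h.semi_core hs hc ha he hf hx (Ne.symm he'.1) (Ne.symm hf'.1) (Ne.symm hf'.2.2)
    (fun e => hca (by conv_lhs => rw [← e, ap_ap_inv])) (Ne.symm he'.2) (Ne.symm hf'.2.1) hx'.1 hx'.2.1 hx'.2.2.1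
    (k _ _ hx'.2.2.2.1 rfl) (k _ _ hx'.2.2.2.2.1 rfl) (k _ _ hx'.2.2.2.2.2 rfl)

theorem Em.semi_meet (h : Em S ρ) {Z : Subgroup G} {B : Set Ω} (hs : Semi ρ Z B) (h4 : 4 ≤ B.ncard) {c : G}
    (hc : c ∈ Z) : ∃ a ∈ B, ρ c a ∈ B := by
  by_contra hca
  push Not at hca
  obtain ⟨a, ha, -⟩ := pick (B := B) [] (by simp only [List.length_nil]; omega)
  obtain ⟨e, he, he'⟩ := pick (B := B) [a] (by simp only [List.length_cons, List.length_nil]; omega)
  obtain ⟨f, hf, hf'⟩ := pick (B := B) [a, e] (by simp only [List.length_cons, List.length_nil]; omega)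
  obtain ⟨x, hx, hx'⟩ := pick (B := B) [a, e, f] (by simp only [List.length_cons, List.length_nil]; omega)
  simp only [List.mem_cons, List.not_mem_nil, or_false, not_or] at he' hf' hx'
  have k : ∀ y ∈ B, ∀ z ∈ B, ρ c⁻¹ y ≠ z := fun y hy z hz e => hca z hz (by rw [← e, ap_ap_inv]; exact hy)
  exact h.semi_core hs hc ha he hf hx (Ne.symm he') (Ne.symm hf'.1) (Ne.symm hf'.2) (k _ ha _ ha) (k _ ha _ he)
    (k _ ha _ hf) hx'.1 hx'.2.1 hx'.2.2 (k _ hx _ ha) (k _ hx _ he) (k _ hx _ hf)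

/-- a simple group preserving `B` acts trivially or faithfully on `B` -/
theorem faithful_on {U : Type*} [Group U] (hs : IsSimpleGroup U) (φ : U →* G) {B : Set Ω}
    (hB : ∀ u, ∀ x ∈ B, ρ (φ u) x ∈ B) {u₀ : U} {a : Ω} (ha : a ∈ B) (h₀ : ρ (φ u₀) a ≠ a) {u : U}
    (hu : ∀ x ∈ B, ρ (φ u) x = x) : u = 1 := by
  let K : Subgroup U :=
    { carrier := {u | ∀ x ∈ B, ρ (φ u) x = x}
      one_mem' := fun x _ => by simp
      mul_mem' := fun {u v} hu hv x hx => by rw [map_mul, ap_mul, hv x hx, hu x hx]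
      inv_mem' := fun {u} hu x hx => by rw [map_inv]; exact ap_inv_eq ρ (hu x hx) }
  have hK : K.Normal := ⟨fun u hu v x hx => by
    rw [map_mul φ, map_mul φ, ap_mul, ap_mul, hu _ (hB _ x hx), map_inv φ, ap_ap_inv]⟩
  rcases hs.eq_bot_or_eq_top_of_normal K hK with h | h
  · exact mem_bot.1 (h ▸ (hu : u ∈ K))
  · exact absurd ((h ▸ mem_top u₀ : u₀ ∈ K) a ha) h₀

/-- a group acting freely at `a` -/
theorem card_le_of_free {U : Type*} [Group U] (φ : U →* G) {B : Set Ω} {a : Ω} (hB : ∀ u, ρ (φ u) a ∈ B)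
    (hf : ∀ u, ρ (φ u) a = a → u = 1) : Nat.card U ≤ B.ncard := by
  rw [← Set.ncard_univ]
  refine Set.ncard_le_ncard_of_injOn (fun u => ρ (φ u) a) (fun u _ => hB u) fun u _ v _ e => ?_
  have e' : ρ (φ u) a = ρ (φ v) a := e
  refine (inv_mul_eq_one.1 (hf (v⁻¹ * u) ?_)).symm
  rw [map_mul, ap_mul, e', map_inv, ap_inv_ap]

end emb

end Cfsg.Agent.Cam.Alt
end

-- part: Cam/Alt/Main
section
/-!
# S3689, S3690: the alternating row (helper53)

`boxAlt_of ft fpf : BoxAlt`, from the odd order theorem and the solvability of groups with a fixed point free automorphism.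
-/

set_option autoImplicit false
set_option linter.unusedSectionVars false

namespace Cfsg.Agent.Cam.Alt

open Subgroup Equiv Cfsg.Agent.Cam Cfsg.Agent.Cam.Spor Cfsg.Agent.Cam.Rd

/-- the odd order theorem -/
def FT : Prop := ∀ (T : Type) [Group T] [Finite T], Odd (Nat.card T) → Group.IsSolvable T

/-- a group with a fixed point free automorphism is solvable -/
def Fpf : Prop := ∀ (T : Type) [Group T] [Finite T] (α : MulAut T), (∀ t, α t = t → t = 1) → Group.IsSolvable T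

theorem not_solvable {U : Type*} [Group U] (hs : IsSimpleGroup U) (hn : ¬ IsMulCommutative U) :
    ¬ Group.IsSolvable U := fun h => hn ⟨⟨IsSimpleGroup.comm_iff_isSolvable.2 h⟩⟩

variable {G : Type} [Group G] [Finite G] {Ω : Type} [Fintype Ω] [DecidableEq Ω] {S H : Subgroup G} {g : G}
  {𝒯 : Set (Subgroup G)} {ρ : G →* Perm Ω}

theorem exists_ne_one (c : Cls S H g 𝒯) {T : Subgroup G} (hT : T ∈ 𝒯) : ∃ t ∈ T, t ≠ 1 := by
  have := c.tsimple T hT
  obtain ⟨t, ht⟩ := exists_ne (1 : T)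
  exact ⟨t, t.2, fun h => ht (Subtype.ext h)⟩

/-- a non-trivial orbit of `X` has at least five points -/
theorem five_le_orb (c : Cls S H g 𝒯) {a : Ω} {x : G} (hx : x ∈ sSup 𝒯) (ha : ρ x a ≠ a) :
    5 ≤ (orb ρ (sSup 𝒯) a).ncard := by
  have h1 : ∃ T ∈ 𝒯, ∃ t ∈ T, ρ t a ≠ a := by
    by_contra h
    push Not at h
    have : sSup 𝒯 ≤ (MulAction.stabilizer (Perm Ω) a).comap ρ := sSup_le fun T hT t ht => h T hT t ht
    exact ha (this hx)
  obtain ⟨T, hT, t, ht, hta⟩ := h1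
  have hs := c.tsimple T hT
  obtain ⟨r, hr, h5, hd⟩ := H786.KW.exists_prime_ge_five (c.tnoncomm T hT)
  have : Fact r.Prime := ⟨hr⟩
  obtain ⟨u, hu⟩ := exists_prime_orderOf_dvd_card' r hd
  have hB : ∀ u : T, ∀ y ∈ orb ρ (sSup 𝒯) a, ρ (T.subtype u) y ∈ orb ρ (sSup 𝒯) a :=
    fun u y hy => orb_inv hy (le_sSup hT u.2)
  have h2 : ∃ b ∈ orb ρ (sSup 𝒯) a, ρ u b ≠ b := by
    by_contra h
    push Not at h
    have := faithful_on hs T.subtype hB (u₀ := ⟨t, ht⟩) (mem_orb_self _ a) hta h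
    rw [this, orderOf_one] at hu
    exact hr.one_lt.ne hu
  obtain ⟨b, hb, hub⟩ := h2
  refine h5.trans (prime_le_ncard hr (orderOf_eq_prime ?_ fun e => hub (by rw [show ρ (u : G) = 1 from e]; rfl)) (hB u) hb hub)
  change ρ (u : G) ^ r = 1
  rw [← map_pow, ← coe_pow, ← hu, pow_orderOf_eq_one, coe_one, map_one]

theorem cent_apply {Y : Subgroup G} {z y : G} (hz : z ∈ centralizer (Y : Set G)) (hy : y ∈ Y) (a : Ω) :
    ρ z (ρ y a) = ρ y (ρ z a) := by
  rw [← ap_mul, ← ap_mul, mem_centralizer_iff.1 hz y hy]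

theorem H_norm_C (c : Cls S H g 𝒯) :
    H ≤ normalizer ((centralizer ((sSup 𝒯 : Subgroup G) : Set G) : Subgroup G) : Set G) :=
  (H_norm_X' c).trans (normalizer_le_normalizer_cent _)

theorem C_le_H' (c : Cls S H g 𝒯) : centralizer ((sSup 𝒯 : Subgroup G) : Set G) ≤ H :=
  (centralizer_le_normalizer _).trans (norm_X' c).le

/-- Case I: `X` has a fixed point -/
theorem case_fix (h : Em S ρ) (c : Cls S H g 𝒯) {f : Ω} (hf : ∀ x ∈ sSup 𝒯, ρ x f = f) : False := by
  let Δ : Set Ω := {a | ∃ x ∈ sSup 𝒯, ρ x a ≠ a}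
  have hΔ : ∀ w ∈ H, ∀ a ∈ Δ, ρ w a ∈ Δ := by
    rintro w hw a ⟨x, hx, ha⟩
    refine ⟨w * x * w⁻¹, conj_mem_of_norm (H_norm_X' c hw) hx, fun e => ha ?_⟩
    rw [ap_mul, ap_mul, ap_inv_ap] at e
    exact (ρ w).injective e
  have hΔ' : ∀ w ∈ H, ∀ a, a ∈ Δ ↔ ρ w a ∈ Δ := fun w hw a => ⟨hΔ w hw a, fun h' => by
    have := hΔ _ (inv_mem hw) _ h'
    rwa [ap_inv_ap] at this⟩
  have hfΔ : f ∉ Δ := fun ⟨x, hx, e⟩ => e (hf x hx)
  obtain ⟨T, hT⟩ := c.nonempty
  obtain ⟨t, ht, ht1⟩ := exists_ne_one c hT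
  obtain ⟨a₀, ha₀⟩ := h.moves ht1
  have htX : t ∈ sSup 𝒯 := le_sSup hT ht
  have ha₀Δ : a₀ ∈ Δ := ⟨t, htX, ha₀⟩
  have stab : ∀ w : G, (∀ a, a ∈ Δ ↔ ρ w a ∈ Δ) → w ∈ H := fun w hw =>
    h.rel_stab c.toSetup (fun a b => a ∈ Δ ↔ b ∈ Δ) (fun u hu a b e => by rw [← hΔ' u hu, ← hΔ' u hu, e])
      (a := a₀) (b := ρ t a₀) (d := f) ha₀.symm (fun e => hfΔ (e ▸ ha₀Δ))
      (hΔ' t (X_le_H' c htX) a₀) (fun e => hfΔ (e.1 ha₀Δ)) fun a b => by rw [← hw, ← hw]
  have horb : ∀ a ∈ Δ, orb ρ (sSup 𝒯) a ⊆ Δ := by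
    rintro a ha _ ⟨x, hx, rfl⟩
    exact hΔ x (X_le_H' c hx) a ha
  have trans : ∀ a ∈ Δ, ∀ b ∈ Δ, b ∈ orb ρ (sSup 𝒯) a := by
    rintro a ⟨x, hx, ha⟩ b hb
    by_cases h1 : b = a
    · exact h1 ▸ mem_orb_self _ _
    by_cases h2 : b = ρ x a
    · exact ⟨x, hx, h2.symm⟩
    obtain ⟨d, hd, hd'⟩ := pick (B := orb ρ (sSup 𝒯) a) [a, b, ρ x a] (by
      have := five_le_orb c hx ha
      simp only [List.length_cons, List.length_nil]
      omega)
    simp only [List.mem_cons, List.not_mem_nil, or_false, not_or] at hd'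
    obtain ⟨s, -, e1, -, -, e4⟩ := h.cyc (Ne.symm h2) (Ne.symm hd'.2.2) (Ne.symm hd'.2.1)
    have hxa : ρ x a ∈ Δ := hΔ x (X_le_H' c hx) a ⟨x, hx, ha⟩
    have hdΔ : d ∈ Δ := horb a ⟨x, hx, ha⟩ hd
    have hfix : ∀ y, y ∉ Δ → ρ s y = y := fun y hy =>
      e4 y (fun e => hy (e ▸ hxa)) (fun e => hy (e ▸ hb)) (fun e => hy (e ▸ hdΔ))
    have hsH : s ∈ H := stab s fun y => by
      by_cases hy : y ∈ Δ
      · refine ⟨fun _ => by_contra fun h' => h' ?_, fun _ => hy⟩
        rwa [(ρ s).injective (hfix _ h')]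
      · rw [hfix y hy]
    refine ⟨s * x * s⁻¹, conj_mem_of_norm (H_norm_X' c hsH) hx, ?_⟩
    rw [ap_mul, ap_mul, ap_inv_eq ρ (e4 a ha.symm (Ne.symm h1) (Ne.symm hd'.1)), e1]
  have hX'H : cj g (sSup 𝒯) ≤ H := cj_sSup_le fun A hA => T'_le_H c hA
  by_cases hm : ∃ a ∈ Δ, ρ g a ∈ Δ
  · obtain ⟨a, ha, hga⟩ := hm
    have h1 : ∀ b ∈ Δ, ρ g⁻¹ b ∈ Δ := by
      intro b hb
      obtain ⟨x, hx, rfl⟩ := trans _ hga b hb
      have := hΔ _ (hX'H (conj_mem_cj' (a := g) hx)) a ha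
      rwa [ap_mul, ap_mul] at this
    have h2 := ((Set.toFinite Δ).injOn_iff_bijOn_of_mapsTo (f := ρ g⁻¹) h1).1 (ρ g⁻¹).injective.injOn
    refine c.not_mem (inv_mem_iff.1 (stab g⁻¹ fun b => ⟨h1 b, fun hb => ?_⟩))
    obtain ⟨b', hb', e⟩ := h2.surjOn hb
    rwa [← (ρ g⁻¹).injective e]
  · push Not at hm
    refine not_cent c hT fun u hu => mem_centralizer_iff.2 fun y hy => h.inj ?_
    rw [map_mul, map_mul]
    refine Perm.Disjoint.commute fun a => ?_
    by_cases ha : a ∈ Δ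
    · left
      by_contra h1
      refine hm a ha ⟨_, mem_cj.1 hy, fun e => h1 ?_⟩
      rw [ap_mul, ap_mul, ap_inv_ap] at e
      exact (ρ g).injective e
    · right
      by_contra h1
      exact ha ⟨u, le_sSup hT hu, h1⟩

/-- Case II: `X` has no fixed point and is intransitive -/
theorem case_intr (big : Big) (h : Em S ρ) (c : Cls S H g 𝒯) (hnf : ∀ a, ∃ x ∈ sSup 𝒯, ρ x a ≠ a)
    (hin : ∀ a, ∃ d, d ∉ orb ρ (sSup 𝒯) a) : False := by
  obtain ⟨T, hT⟩ := c.nonempty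
  have hs := c.tsimple T hT
  obtain ⟨φ, hφ, hφ'⟩ := redCopy big G S H g 𝒯 c T hT
  obtain ⟨t₀, ht₀⟩ := exists_ne (1 : T)
  obtain ⟨a, ha⟩ := h.moves (a := φ t₀) fun e => ht₀ (hφ (e.trans (map_one φ).symm))
  obtain ⟨x, hx, hxa⟩ := hnf a
  obtain ⟨d, hd⟩ := hin a
  have hsemi : Semi ρ (centralizer ((sSup 𝒯 : Subgroup G) : Set G)) (orb ρ (sSup 𝒯) a) :=
    ⟨fun w hw => H_norm_C c (h.orb_stab c.toSetup (H_norm_X' c) hxa.symm ⟨x, hx, rfl⟩ hd hw),
      fun z hz a' ha' e b hb => by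
        obtain ⟨y, hy, rfl⟩ := orb_trans (orb_symm ha') hb
        rw [cent_apply hz hy, e]⟩
  have h5 := five_le_orb c hx hxa
  have hB : ∀ u, ∀ b ∈ orb ρ (sSup 𝒯) a, ρ (φ u) b ∈ orb ρ (sSup 𝒯) a := by
    intro u b hb
    obtain ⟨a', ha', ha''⟩ := h.semi_meet hsemi (by omega) (hφ' u).2
    obtain ⟨y, hy, rfl⟩ := orb_trans (orb_symm ha') hb
    rw [cent_apply (hφ' u).2 hy]
    exact orb_inv ha'' hy
  have h7 := (seven_le hs (c.tnoncomm T hT)).trans (card_le_of_free φ (fun u => hB u a (mem_orb_self _ _))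
    fun u hu => faithful_on hs φ hB (mem_orb_self _ a) ha (hsemi.semi _ (hφ' u).2 a (mem_orb_self _ _) hu))
  exact ha (h.semi_fix hsemi h7 (hφ' t₀).2 (mem_orb_self _ _))

/-- the centralizer of a transitive group is semiregular -/
theorem free_of_trans (h : Em S ρ) {Y : Subgroup G} (htr : ∀ a b, b ∈ orb ρ Y a) {z : G}
    (hz : z ∈ centralizer (Y : Set G)) {a : Ω} (ha : ρ z a = a) : z = 1 :=
  h.eq_one fun b => by
    obtain ⟨y, hy, rfl⟩ := htr a b
    rw [cent_apply hz hy, ha]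

/-- Case III: if `X` is transitive, so is its centralizer -/
theorem cent_trans (big : Big) (h : Em S ρ) (c : Cls S H g 𝒯) (htr : ∀ a b, b ∈ orb ρ (sSup 𝒯) a) (a b : Ω) :
    b ∈ orb ρ (centralizer ((sSup 𝒯 : Subgroup G) : Set G)) a := by
  by_contra hb
  obtain ⟨T, hT⟩ := c.nonempty
  have hs := c.tsimple T hT
  obtain ⟨φ, hφ, hφ'⟩ := redCopy big G S H g 𝒯 c T hT
  obtain ⟨t₀, ht₀⟩ := exists_ne (1 : T)
  have hfree : ∀ u, ρ (φ u) a = a → u = 1 := fun u hu =>
    hφ ((free_of_trans h htr (hφ' u).2 hu).trans (map_one φ).symm)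
  have ha : ρ (φ t₀) a ≠ a := fun e => ht₀ (hfree _ e)
  have hsemi : Semi ρ (centralizer ((sSup 𝒯 : Subgroup G) : Set G))
      (orb ρ (centralizer ((sSup 𝒯 : Subgroup G) : Set G)) a) :=
    ⟨fun w hw => H_norm_C c (h.orb_stab c.toSetup (H_norm_C c) ha.symm ⟨_, (hφ' t₀).2, rfl⟩ hb hw),
      fun z hz a' _ e b _ => by rw [free_of_trans h htr hz e, map_one, Perm.one_apply]⟩
  have h7 := (seven_le hs (c.tnoncomm T hT)).trans
    (card_le_of_free (B := orb ρ (centralizer ((sSup 𝒯 : Subgroup G) : Set G)) a) φ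
      (fun u => ⟨_, (hφ' u).2, rfl⟩) hfree)
  exact ha (h.semi_fix hsemi h7 (hφ' t₀).2 (mem_orb_self _ _))

theorem X_free (big : Big) (h : Em S ρ) (c : Cls S H g 𝒯) (htr : ∀ a b, b ∈ orb ρ (sSup 𝒯) a) {x : G}
    (hx : x ∈ sSup 𝒯) {a : Ω} (ha : ρ x a = a) : x = 1 :=
  free_of_trans h (cent_trans big h c htr) (le_centralizer_iff.1 le_rfl hx) ha

/-- Case III, one component -/
theorem case_one (big : Big) (fpf : Fpf) (h : Em S ρ) (c : Cls S H g 𝒯) (htr : ∀ a b, b ∈ orb ρ (sSup 𝒯) a)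
    {T : Subgroup G} (h1 : 𝒯 = {T}) : False := by
  have hT : T ∈ 𝒯 := by rw [h1]; rfl
  have hX : sSup 𝒯 = T := by rw [h1, sSup_singleton]
  have hs := c.tsimple T hT
  obtain ⟨-, -, T₁, h₁, T₂, h₂, ψ, hψ, -⟩ := redDiag big G S H g 𝒯 c fun A hA B hB => by
    rw [h1] at hA
    rw [Set.mem_singleton_iff.1 hA, ← hX, norm_X' c]
    exact T'_le_H c hB
  rw [h1, Set.mem_singleton_iff] at h₁ h₂
  subst h₁
  subst h₂
  have hC : ∀ t, ψ t ∈ centralizer ((sSup 𝒯 : Subgroup G) : Set G) := fun t => by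
    rw [hX]
    exact mem_centralizer_iff.2 fun a ha => hψ.comm a ha t
  have : Nonempty Ω := by
    have := h.five
    exact (Nat.card_pos_iff.1 (by omega)).1
  obtain ⟨α⟩ := this
  have hex : ∀ t : T₂, ∃ u : T₂, ρ u (ρ (ψ t) α) = α := fun t => by
    obtain ⟨y, hy, e⟩ := htr (ρ (ψ t) α) α
    exact ⟨⟨y, hX ▸ hy⟩, e⟩
  choose β hβ using hex
  have huniq : ∀ (u v : T₂) (a : Ω), ρ u a = ρ v a → u = v := fun u v a e => by
    have h2 := X_free big h c htr (x := (v : G)⁻¹ * u) (hX.ge (mul_mem (inv_mem v.2) u.2)) (a := a)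
      (by rw [ap_mul, e, ap_inv_ap])
    exact Subtype.ext (inv_mul_eq_one.1 h2).symm
  let β' : T₂ →* T₂ := MonoidHom.mk' β fun a b => huniq _ _ (ρ (ψ (a * b)) α) (by
    rw [hβ, map_mul, ap_mul, coe_mul, ap_mul, ← cent_apply (hC a) (hX ▸ (β b).2), hβ, hβ])
  have hinj : Function.Injective β' := by
    rw [injective_iff_map_eq_one]
    intro t ht
    have h2 := hβ t
    rw [show β t = 1 from ht, coe_one, map_one, Perm.one_apply] at h2
    exact hψ.inj ((free_of_trans h htr (hC t) h2).trans (map_one ψ).symm)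
  refine not_solvable hs (c.tnoncomm _ hT) (fpf T₂ (MulEquiv.ofBijective β' (Finite.injective_iff_bijective.1 hinj))
    fun t ht => ?_)
  have h2 := hβ t
  rw [show β t = t from ht, ← ap_mul] at h2
  have h3 : g * (t * ψ t) * g⁻¹ ∈ sSup 𝒯 := hX.ge (mem_cj.1 ((hψ.mem _).2 ⟨t, rfl⟩))
  have h4 := X_free big h c htr h3 (a := ρ g α) (by rw [ap_mul, ap_mul, ap_inv_ap, h2])
  have h5 : (t : G) = (ψ t)⁻¹ := eq_inv_of_mul_eq_one_left (by simpa using h4)
  refine Subtype.ext (eq_one_of_mem_cent hs (c.tnoncomm _ hT) t.2 ?_)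
  rw [h5]
  exact inv_mem (mem_centralizer_iff.2 fun a ha => hψ.comm a ha t)

/-- Case III, several components -/
theorem case_two (big : Big) (ft : FT) (h : Em S ρ) (c : Cls S H g 𝒯) (htr : ∀ a b, b ∈ orb ρ (sSup 𝒯) a)
    {T T₂ : Subgroup G} (hT : T ∈ 𝒯) (h₂ : T₂ ∈ 𝒯) (hne : T₂ ≠ T) : False := by
  classical
  have hs := c.tsimple T hT
  set Y : Subgroup G := sSup (𝒯 \ {T}) with hY
  have hYC : Y ≤ centralizer (T : Set G) := sSup_le fun A hA a ha =>
    mem_centralizer_iff.2 fun t ht => (c.comm A hA.1 T hT hA.2 a ha t ht).symm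
  have hcomm : ∀ t ∈ T, ∀ y ∈ Y, t * y = y * t := fun t ht y hy => mem_centralizer_iff.1 (hYC hy) t ht
  have hTX : T ≤ sSup 𝒯 := le_sSup hT
  have hYX : Y ≤ sSup 𝒯 := sSup_le_sSup Set.sdiff_subset
  have hdec : ∀ x ∈ sSup 𝒯, ∃ (a : T) (b : Y), x = a * b := by
    intro x hx
    have : sSup 𝒯 ≤ T ⊔ Y := sSup_le fun A hA => by
      by_cases e : A = T
      · exact e ▸ le_sup_left
      · exact (le_sSup (show A ∈ 𝒯 \ {T} from ⟨hA, e⟩)).trans le_sup_right
    obtain ⟨a, ha, b, hb, e⟩ := mem_sup_of_comm hcomm (this hx)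
    exact ⟨⟨a, ha⟩, ⟨b, hb⟩, e⟩
  have : Nonempty Ω := by
    have := h.five
    exact (Nat.card_pos_iff.1 (by omega)).1
  obtain ⟨α⟩ := this
  let e₀ : T × Y → Ω := fun p => ρ ((p.1 : G) * p.2) α
  have hbij : Function.Bijective e₀ := by
    constructor
    · rintro ⟨a, b⟩ ⟨a', b'⟩ e
      have e' : ρ ((a : G) * b) α = ρ ((a' : G) * b') α := e
      have h1 := X_free big h c htr (x := ((a' : G) * b')⁻¹ * (a * b))
        (mul_mem (inv_mem (mul_mem (hTX a'.2) (hYX b'.2))) (mul_mem (hTX a.2) (hYX b.2))) (a := α)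
        (by rw [ap_mul, e', ap_inv_ap])
      have h2 : (a' : G) * b' = a * b := inv_mul_eq_one.1 h1
      have h3 : (a : G)⁻¹ * a' = b * (b' : G)⁻¹ := by
        calc (a : G)⁻¹ * a' = (a : G)⁻¹ * (a' * b') * (b' : G)⁻¹ := by group
          _ = _ := by rw [h2]; group
      have h4 : (a : G) = a' := inv_mul_eq_one.1 (eq_one_of_mem_cent hs (c.tnoncomm T hT) (mul_mem (inv_mem a.2) a'.2)
        (h3 ▸ hYC (mul_mem b.2 (inv_mem b'.2))))
      rw [← h4] at h2
      exact Prod.ext (Subtype.ext h4) (Subtype.ext (mul_left_cancel h2).symm)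
    · intro b
      obtain ⟨x, hx, rfl⟩ := htr α b
      obtain ⟨a, b, rfl⟩ := hdec x hx
      exact ⟨(a, b), rfl⟩
  let e : T × Y ≃ Ω := Equiv.ofBijective e₀ hbij
  have he : ∀ (a : T) (b : Y), e (a, b) = ρ ((a : G) * b) α := fun _ _ => rfl
  have : Fintype T := Fintype.ofFinite _
  have : Fintype Y := Fintype.ofFinite _
  have heven : Even (Fintype.card Y) := by
    rw [← Nat.card_eq_fintype_card, even_iff_two_dvd]
    refine dvd_trans ?_ (card_dvd_of_le (le_sSup (show T₂ ∈ 𝒯 \ {T} from ⟨h₂, hne⟩) : T₂ ≤ Y))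
    rw [← even_iff_two_dvd, ← Nat.not_odd_iff_even]
    exact fun ho => not_solvable (c.tsimple T₂ h₂) (c.tnoncomm T₂ h₂) (ft T₂ ho)
  obtain ⟨s, -, hs'⟩ := h.lift (σ := e.permCongr (Equiv.prodCongrLeft fun _ : Y => Equiv.inv T)) (by
    rw [Perm.sign_permCongr, Perm.sign_prodCongrLeft, Finset.prod_const, Finset.card_univ]
    obtain ⟨m, hm⟩ := heven
    rw [hm, ← two_mul, pow_mul, Int.units_sq, one_pow])
  have hι : ∀ (a : T) (b : Y), ρ s (e (a, b)) = e (a⁻¹, b) := fun a b => by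
    rw [hs', Equiv.permCongr_apply, Equiv.symm_apply_apply]
    rfl
  have hL : ∀ (a₁ a : T) (b₁ b : Y), ρ ((a₁ : G) * b₁) (e (a, b)) = e (a₁ * a, b₁ * b) := fun a₁ a b₁ b => by
    rw [he, he, ← ap_mul, coe_mul, coe_mul]
    congr 2
    calc (a₁ : G) * b₁ * (a * b) = a₁ * (b₁ * a) * b := by group
      _ = _ := by rw [← hcomm a a.2 b₁ b₁.2]; group
  have hR : ∀ z ∈ centralizer ((sSup 𝒯 : Subgroup G) : Set G), ∀ (a₂ : T) (b₂ : Y), ρ z α = e (a₂, b₂) →
      ∀ (a : T) (b : Y), ρ z (e (a, b)) = e (a * a₂, b * b₂) := fun z hz a₂ b₂ hα a b => by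
    rw [he, cent_apply hz (mul_mem (hTX a.2) (hYX b.2)), hα, hL]
  have key : ∀ (a₁ : T) (b₁ : Y), ∀ z ∈ centralizer ((sSup 𝒯 : Subgroup G) : Set G), ∀ (a₂ : T) (b₂ : Y),
      ρ z α = e (a₂, b₂) → ∀ z' ∈ centralizer ((sSup 𝒯 : Subgroup G) : Set G), ρ z' α = e (a₁⁻¹, b₂) →
      s * ((a₁ : G) * b₁ * z) * s⁻¹ = ((a₂⁻¹ : T) : G) * b₁ * z' := by
    intro a₁ b₁ z hz a₂ b₂ h1 z' hz' h2
    rw [mul_inv_eq_iff_eq_mul]
    refine h.inj (Perm.ext fun p => ?_)
    obtain ⟨⟨a, b⟩, rfl⟩ := e.surjective p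
    rw [ap_mul, ap_mul ρ _ z, hR z hz _ _ h1, hL, hι, ap_mul, ap_mul ρ _ z', hι, hR z' hz' _ _ h2, hL]
    congr 2
    group
  have hW : normalizer ((sSup 𝒯 ⊔ centralizer ((sSup 𝒯 : Subgroup G) : Set G) : Subgroup G) : Set G) = H :=
    norm_eq c.toConf (fun e => X_ne_bot c (eq_bot_iff.2 (e ▸ le_sup_left))) (sup_le (X_le_H' c) (C_le_H' c))
      fun w hw => norm_sup (H_norm_X' c hw) (H_norm_C c hw)
  have hsH : s ∈ H := by
    rw [← hW]
    refine mem_normalizer_of fun w hw => ?_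
    obtain ⟨x, hx, z, hz, rfl⟩ := mem_sup_of_comm (fun x hx z hz => mem_centralizer_iff.1 hz x hx) hw
    obtain ⟨a₁, b₁, rfl⟩ := hdec x hx
    obtain ⟨⟨a₂, b₂⟩, h1⟩ := e.surjective (ρ z α)
    obtain ⟨z', hz', h2⟩ := cent_trans big h c htr α (e (a₁⁻¹, b₂))
    rw [key a₁ b₁ z hz a₂ b₂ h1.symm z' hz' h2]
    exact mul_mem (mem_sup_left (mul_mem (hTX (a₂⁻¹).2) (hYX b₁.2))) (mem_sup_right hz')
  obtain ⟨t, ht⟩ := exists_ne (1 : T)
  obtain ⟨z', hz', h2⟩ := cent_trans big h c htr α (e (t⁻¹, 1))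
  have h3 := key t 1 1 (one_mem _) 1 1 (by rw [he]; simp) z' hz' h2
  simp only [coe_one, mul_one, inv_one, one_mul] at h3
  have h4 : z' ∈ sSup 𝒯 := h3 ▸ conj_mem_of_norm (H_norm_X' c hsH) (hTX t.2)
  rw [he, coe_one, mul_one, coe_inv] at h2
  have h5 := X_free big h c htr (x := t * z') (mul_mem (hTX t.2) h4) (a := α) (by rw [ap_mul, h2, ap_ap_inv])
  refine ht (Subtype.ext (eq_one_of_mem_cent hs (c.tnoncomm T hT) t.2 ?_))
  rw [eq_inv_of_mul_eq_one_left h5]
  exact inv_mem (centralizer_le hTX hz')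

theorem false_of_em (big : Big) (ft : FT) (fpf : Fpf) (h : Em S ρ) (c : Cls S H g 𝒯) : False := by
  by_cases h1 : ∃ f, ∀ x ∈ sSup 𝒯, ρ x f = f
  · obtain ⟨f, hf⟩ := h1
    exact case_fix h c hf
  push Not at h1
  by_cases h2 : ∀ a, ∃ d, d ∉ orb ρ (sSup 𝒯) a
  · exact case_intr big h c h1 h2
  push Not at h2
  obtain ⟨a₀, h2⟩ := h2
  have htr : ∀ a b, b ∈ orb ρ (sSup 𝒯) a := fun a b => orb_trans (orb_symm (h2 a)) (h2 b)
  obtain ⟨T, hT⟩ := c.nonempty
  by_cases h3 : ∃ T₂ ∈ 𝒯, T₂ ≠ T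
  · obtain ⟨T₂, h₂, hne⟩ := h3
    exact case_two big ft h c htr hT h₂ hne
  · push Not at h3
    exact case_one big fpf h c htr (T := T) (Set.eq_singleton_iff_unique_mem.2 ⟨hT, h3⟩)

/-- the square of a prime `r ≥ 5` divides the order of the socle -/
theorem sq_dvd (big : Big) (c : Cls S H g 𝒯) : ∃ r : ℕ, r.Prime ∧ 5 ≤ r ∧ r ^ 2 ∣ Nat.card S := by
  obtain ⟨T, hT⟩ := c.nonempty
  have hs := c.tsimple T hT
  obtain ⟨φ, hφ, hφ'⟩ := redCopy big G S H g 𝒯 c T hT
  obtain ⟨r, hr, h5, hd⟩ := H786.KW.exists_prime_ge_five (c.tnoncomm T hT)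
  let f : Fin 2 → (T →* S) := ![inclusion (c.le_S T hT), φ.codRestrict S fun t => (hφ' t).1]
  have hc : ∀ x y : T, Commute (f 0 x) (f 1 y) := fun x y =>
    Subtype.ext (mem_centralizer_iff.1 (hφ' y).2 x (le_sSup hT x.2 : (x : G) ∈ sSup 𝒯))
  have h1 := pi_inj hs (c.tnoncomm T hT) f (by
      intro i
      fin_cases i
      · exact inclusion_injective (c.le_S T hT)
      · exact fun x y e => hφ (congrArg Subtype.val e)) (by
      intro i j hij x y
      fin_cases i <;> fin_cases j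
      · exact absurd rfl hij
      · exact hc x y
      · exact (hc y x).symm
      · exact absurd rfl hij)
  refine ⟨r, hr, h5, dvd_trans ?_ (card_dvd_of_injective _ h1)⟩
  rw [Nat.card_fun, Nat.card_eq_fintype_card (α := Fin 2), Fintype.card_fin]
  exact pow_dvd_pow_of_dvd hd 2

/-- **The alternating row.** -/
theorem boxAlt_of (ft : FT) (fpf : Fpf) : BoxAlt := by
  rintro big - G _ _ S H g c ⟨n, hn, ⟨e⟩⟩
  obtain ⟨𝒯, c⟩ := redCls big G S H g c
  have h6 : n ≠ 6 := by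
    rintro rfl
    obtain ⟨r, hr, h5, hd⟩ := sq_dvd big c
    rw [Nat.card_congr e.toEquiv, nat_card_alternatingGroup, Nat.card_eq_fintype_card, Fintype.card_fin] at hd
    have h1 : r ^ 2 ∣ 360 := hd
    have h2 : r ≤ 18 := by
      by_contra h
      have := Nat.le_of_dvd (by norm_num) h1
      nlinarith
    interval_cases r <;> first | omega | exact absurd hr (by norm_num)
  have := c.normal
  obtain ⟨ψ, hψ⟩ := H202.TwoTransAlt.exists_emb c.cent hn h6 e
  exact false_of_em big ft fpf ⟨hψ.inj, hψ.map, by simpa using hn⟩ c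

end Cfsg.Agent.Cam.Alt
end

-- part: Cam/Alt/Box
section
/-!
# S3689, S3690: the alternating row, unconditionally (helper53)
-/

set_option autoImplicit false

namespace Cfsg.Agent.Cam.Alt

theorem ft : FT := fun _ _ _ h => S0205.result h

theorem fpf : Fpf := by
  intro T _ _ α hα
  have hinj : Function.Injective fun g : T => g⁻¹ * α g := by
    intro a b e
    have e' : a⁻¹ * α a = b⁻¹ * α b := e
    have h1 : α (b * a⁻¹) = b * a⁻¹ := by
      rw [map_mul, map_inv]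
      calc α b * (α a)⁻¹ = b * (b⁻¹ * α b) * (α a)⁻¹ := by group
        _ = _ := by rw [← e']; group
    exact (mul_inv_eq_one.1 (hα _ h1)).symm
  have hs := Finite.injective_iff_surjective.1 hinj
  refine S4114.result α (fun x => ?_) ?_
  · obtain ⟨g, hg⟩ := hs x
    exact ⟨1, g, map_one α, by rw [one_mul]; exact hg.symm⟩
  · rw [eq_top_iff]
    intro x _
    obtain ⟨g, hg⟩ := hs x
    exact Subgroup.subset_closure ⟨g, hg.symm⟩

/-- **The alternating row.** -/
theorem boxAlt : BoxAlt := boxAlt_of ft fpf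

end Cfsg.Agent.Cam.Alt
end
end

-- part: Cam/Spor/RowCo1_mg
section
prune_inst 0x4f0100310010010000000001040001e0282000000000388008100090206808c0140020620bc0000001000000400380048118800000000000020000200411c0080002200020000a000000000005800100c00000000000000000000000000000000000000000
set_option linter.all false
open scoped Cfsg.Agent.FastGrp

-- part: Cam/Spor/RowCo1
section
/-!
# S3689, S3690: the row Co1 (helper67)
-/

set_option autoImplicit false

namespace Cfsg.Agent.Cam.Spor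

open Cfsg Subgroup Cfsg.Agent.TwoFusion.PerfCore

section gen
variable {G : Type} [Group G]

theorem card_mul_dvd_sup {A B : Subgroup G} (hc : ∀ a ∈ A, ∀ b ∈ B, a * b = b * a) (h : ∀ a ∈ A, a ∈ B → a = 1) :
    Nat.card A * Nat.card B ∣ Nat.card (A ⊔ B : Subgroup G) := by
  rw [← Nat.card_prod]
  refine card_dvd_of_injective (MonoidHom.noncommCoprod (inclusion (le_sup_left : A ≤ A ⊔ B))
    (inclusion (le_sup_right : B ≤ A ⊔ B)) fun a b => Subtype.ext (hc a a.2 b b.2)) ?_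
  rw [injective_iff_map_eq_one]
  rintro ⟨a, b⟩ h1
  have h2 : (a : G) * b = 1 := congrArg Subtype.val h1
  have h3 : (a : G) = 1 := h a a.2 (by rw [eq_inv_of_mul_eq_one_left h2]; exact inv_mem b.2)
  rw [h3, one_mul] at h2
  exact Prod.ext (Subtype.ext h3) (Subtype.ext h2)

theorem card_dvd_of_prod {U A B : Type} [Group U] [Group A] [Group B] (hs : IsSimpleGroup U) {f : U →* A × B}
    (hf : Function.Injective f) : Nat.card U ∣ Nat.card A ∨ Nat.card U ∣ Nat.card B := by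
  rcases hs.eq_bot_or_eq_top_of_normal ((MonoidHom.fst A B).comp f).ker inferInstance with h | h
  · exact Or.inl (card_dvd_of_injective _ ((MonoidHom.ker_eq_bot_iff _).1 h))
  · refine Or.inr (card_dvd_of_injective ((MonoidHom.snd A B).comp f) ?_)
    rw [injective_iff_map_eq_one]
    intro u hu
    exact hf (by rw [map_one]; exact Prod.ext (MonoidHom.mem_ker.1 (h ▸ mem_top u)) hu)

theorem eq_one_of_coprime {g : G} {a b : ℕ} (h : a.Coprime b) (ha : g ^ a = 1) (hb : g ^ b = 1) : g = 1 := by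
  rw [← pow_one g, ← show Nat.gcd a b = 1 from h, pow_gcd_eq_one]
  exact ⟨ha, hb⟩

end gen

section fiveA
open Cfsg.Agent.H812 Cfsg.Agent.H812.CoFiveData Cfsg.Agent.H812.CoFiveJ Cfsg.Agent.H812.CoFiveA
open Cfsg.Agent.H812.CoFiveMain

theorem co1_sdA : ∃ s, SD p1 s J := by
  have := finite_co1
  obtain ⟨e⟩ := A_equiv
  have hs : IsSimpleGroup A := by
    have : IsSimpleGroup (alternatingGroup (Fin 5)) :=
      alternatingGroup.isSimpleGroup (by rw [Nat.card_eq_fintype_card, Fintype.card_fin])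
    exact e.isSimpleGroup
  have hn : ¬ IsMulCommutative A := fun h => by
    let _ : CommGroup A := { (inferInstance : Group A) with mul_comm := h.is_comm.comm }
    have h3 : (Nat.card A).Prime := IsSimpleGroup.prime_card
    rw [card_A] at h3
    norm_num at h3
  obtain ⟨v, k, hk, hv⟩ := exists_inv hs hn (u := ⟨p1, p1_A⟩) (by rw [← Subgroup.orderOf_coe]; exact order_p1)
    (by rw [card_A]; norm_num)
  have h1 : (v : Spor.Co1) * p1 * (v : Spor.Co1)⁻¹ = p1⁻¹ := congrArg Subtype.val hv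
  refine ⟨v, fun c hc => split (mem_centralizer_singleton_iff.2 hc), J_le_C1, ?_, h1, fun k hk => mem_A.1 v.2 k hk⟩
  obtain ⟨i, j, hj, h2⟩ := split (c := v * v) (mem_centralizer_singleton_iff.2 (by
    calc (v : Spor.Co1) * v * p1 = v * (v * p1 * (v : Spor.Co1)⁻¹) * v := by group
      _ = v * p1⁻¹ * v := by rw [h1]
      _ = (v * p1 * (v : Spor.Co1)⁻¹)⁻¹ * (v * v) := by group
      _ = _ := by rw [h1, inv_inv]))
  have h3 : j = 1 := inf_eq hj (by
    have := mul_mem (inv_mem (A.zpow_mem p1_A i)) (mul_mem v.2 v.2)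
    rwa [h2, inv_mul_cancel_left] at this)
  rw [h3, mul_one] at h2
  refine eq_one_of_coprime (a := 2 ^ k) (b := 5) (Nat.Coprime.pow_left _ (by norm_num)) ?_ ?_
  · have h4 : (v : Spor.Co1) ^ 2 ^ k = 1 := congrArg Subtype.val hk
    rw [← pow_two, ← pow_mul, mul_comm, pow_mul, h4, one_pow]
  · rw [h2, ← zpow_natCast, ← zpow_mul, mul_comm, zpow_mul, zpow_natCast, pow_five.1, one_zpow]

theorem co1_fiveA {U : Type} [Group U] [Finite U] {τ α β : U →* Spor.Co1} {R R' : Subgroup Spor.Co1}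
    (c : Core τ α β R R') (hU : Nat.card U = 60 ∨ Nat.card U = 360 ∨ Nat.card U = 25920) {u : U} (hu : orderOf u = 5)
    (hv : Nat.card U = 360 → ∃ v, v * v = 1 ∧ v * u * v⁻¹ = u⁻¹) (hx : τ u = p1) : False := by
  have := finite_co1
  obtain ⟨s, d⟩ := co1_sdA
  rw [← hx] at d
  rcases hU with hU | hU | hU
  · exact c.false_of_sixty hU hu d.mem_cent d.inv
  · obtain ⟨v, hv, hvu⟩ := hv hU
    obtain ⟨hR, k, hk, hk2, hkR, -⟩ := c.exists_k d hv hvu (not_comm_of_inv hu hvu)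
    obtain ⟨φ, hφ, hm⟩ := c.pair.copy
    have h1 : Nat.card U ∣ Nat.card (centralizer ({⟨k, hk⟩} : Set J)) :=
      card_dvd_of_injective ((φ.codRestrict J fun a => hR (hm a)).codRestrict _ fun a =>
        mem_centralizer_singleton_iff.2 (Subtype.ext (hkR _ (hm a)).symm))
        fun a b h => hφ (congrArg Subtype.val (congrArg Subtype.val h))
    rw [hU] at h1
    rcases H393.Iso.j2_card isoJ2_J (s := ⟨k, hk⟩) (by rw [← Subgroup.orderOf_coe]; exact hk2) with h | h <;>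
      rw [h] at h1 <;> norm_num at h1
  · have h1 := c.pair.card_dvd_R.trans (card_dvd_of_le (d.perfect_le c.pair.perfect (c.pair.le_cent u)))
    rw [hU, NotCT.Orders.j2 isoJ2_J] at h1
    norm_num at h1

end fiveA

section fiveB
open Cfsg.Agent.SporadicStructure.Co0Matrix Cfsg.Agent.CoOneType.CoEval
open Cfsg.Agent.MFiveHN Cfsg.Agent.MFiveHN.Cent

/-- an involution of `M24` inverting `pi5` -/
def co1S : List (List ℤ) := (List.range 24).map fun i => (List.range 24).map fun j =>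
  if [0, 13, 3, 2, 11, 8, 6, 7, 5, 19, 15, 4, 23, 1, 14, 10, 16, 22, 18, 9, 20, 21, 17, 12].getD i 0 = j then 8 else 0

theorem co1S_ok : Ok co1S co1S := Ok.of_bool (by exact Cfsg.Agent.CoOneType.CoQ.ok2_of (by decide +kernel))

/-- the letters -/
def co1M (i : ℕ) : List (List ℤ) := if i = 8 then co1S else Mat.M i

/-- the letters -/
def co1e (i : ℕ) : Co0 := if i = 8 then _root_.Cfsg.Agent.SporadicStructure.Co0Matrix.mk co1S_ok else Mat.e i

theorem co1_rep (i : ℕ) : _root_.Cfsg.Agent.CoOneType.CoEval.Rep (co1e i) (co1M i) := by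
  unfold co1e co1M
  split
  · exact rep_mk co1S_ok
  · exact Mat.rep i

/-- the involution -/
def co1s : Spor.Co1 := pr (co1e 8)

theorem co1s_sq : co1s * co1s = 1 := by
  have h := eq_one_of_relB co1_rep (w := [8, 8]) (by (delta Cfsg.Agent.CoOneType.CoEval.relB; rewrite [Cfsg.Agent.CoOneType.CoW.fold_eq]; decide +kernel))
  simp only [List.map_cons, List.map_nil, List.prod_cons, List.prod_nil, mul_one] at h
  exact h

theorem co1s_comm {i j : ℕ} {g : Spor.Co1} (hi : pr (co1e i) = g) (hj : pr (co1e j) = g⁻¹)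
    (h : relB co1M [i, 8, j, 8] = true) : g * co1s = co1s * g := by
  have h1 := eq_one_of_relB co1_rep h
  simp only [List.map_cons, List.map_nil, List.prod_cons, List.prod_nil, mul_one, hi, hj] at h1
  refine _root_.Cfsg.Agent.MFiveHN.Cent.comm_of ?_
  rw [inv_eq_of_mul_eq_one_left co1s_sq]
  exact h1

theorem co1s_inv : co1s * xx * co1s⁻¹ = xx⁻¹ := by
  have h1 := eq_one_of_relB co1_rep (w := [8, 3, 8, 3]) (by (delta Cfsg.Agent.CoOneType.CoEval.relB; rewrite [Cfsg.Agent.CoOneType.CoW.fold_eq]; decide +kernel))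
  simp only [List.map_cons, List.map_nil, List.prod_cons, List.prod_nil, mul_one] at h1
  have h2 : pr (co1e 3) = xx := e3
  rw [h2] at h1
  rw [inv_eq_of_mul_eq_one_left co1s_sq, eq_inv_iff_mul_eq_one, mul_assoc, mul_assoc]
  exact h1

theorem co1s_AA : AA ≤ centralizer ({co1s} : Set Spor.Co1) := by
  rw [AA, Lib.AltCarmichael.gen_def, closure_le]
  rintro _ ⟨i, -, rfl⟩
  have h1 : gg ∈ centralizer ({co1s} : Set Spor.Co1) :=
    mem_centralizer_singleton_iff.2 (co1s_comm (i := 1) (j := 5) rfl e5 (by (delta Cfsg.Agent.CoOneType.CoEval.relB; rewrite [Cfsg.Agent.CoOneType.CoW.fold_eq]; decide +kernel)))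
  have h2 : tt ∈ centralizer ({co1s} : Set Spor.Co1) :=
    mem_centralizer_singleton_iff.2 (co1s_comm (i := 0) (j := 4) rfl e4 (by (delta Cfsg.Agent.CoOneType.CoEval.relB; rewrite [Cfsg.Agent.CoOneType.CoW.fold_eq]; decide +kernel)))
  exact mul_mem (mul_mem (pow_mem h1 i) h2) (inv_mem (pow_mem h1 i))

theorem co1_key {a b : Spor.Co1} (ha : a ∈ AA) (hb : b ∈ AA)
    (h : ∀ c ∈ centralizer ({xx} : Set Spor.Co1), c * (a * (ww * b * ww⁻¹)) = a * (ww * b * ww⁻¹) * c) :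
    a = 1 ∧ b = 1 := by
  have h1 : a = 1 := KStr.center_trivial simple_AA card_AA ha fun c hc => by
    have h2 := h c (AA_le hc)
    rw [mul_assoc a, ← comm_AA c hc b hb, ← mul_assoc, ← mul_assoc a] at h2
    exact (mul_right_cancel h2).symm
  refine ⟨h1, KStr.center_trivial simple_AA card_AA hb fun c hc => ?_⟩
  have hw : ww ∈ centralizer ({xx} : Set Spor.Co1) := mem_centralizer_singleton_iff.2 w_x
  have h2 := h _ (mul_mem (mul_mem hw (AA_le hc)) (inv_mem hw))
  rw [h1, one_mul] at h2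
  calc b * c = ww⁻¹ * (ww * b * ww⁻¹ * (ww * c * ww⁻¹)) * ww := by group
    _ = _ := by rw [← h2]; group

theorem co1_prod_inj : Function.Injective (KStr.prod comm_AA) := by
  rw [injective_iff_map_eq_one]
  rintro ⟨a, b⟩ h
  have h1 : (a : Spor.Co1) * (ww * b * ww⁻¹) = 1 := h
  obtain ⟨h2, h3⟩ := co1_key a.2 b.2 fun c _ => by rw [h1, one_mul, mul_one]
  exact Prod.ext (Subtype.ext h2) (Subtype.ext h3)

theorem co1_perfect_le {P : Subgroup Spor.Co1} (hP : ⁅P, P⁆ = P) (h : P ≤ centralizer ({xx} : Set Spor.Co1)) :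
    P ≤ (KStr.prod comm_AA).range := by
  have hw : ww ∈ centralizer ({xx} : Set Spor.Co1) := mem_centralizer_singleton_iff.2 w_x
  have hD : (KStr.prod comm_AA).range ≤ centralizer ({xx} : Set Spor.Co1) := by
    rintro _ ⟨⟨a, b⟩, rfl⟩
    exact mul_mem (AA_le a.2) (mul_mem (mul_mem hw (AA_le b.2)) (inv_mem hw))
  refine le_of_le_sup_zpowers hD hP (le_of_card_lt hP h
    (sup_le hD ((zpowers_le).2 (mem_centralizer_singleton_iff.2 rfl))) ?_)
  have h1 := card_mul_dvd_sup (A := (KStr.prod comm_AA).range) (B := zpowers xx)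
    (fun a ha b hb => zpowers_comm b hb a (hD ha)) (by
      rintro _ ⟨⟨a, b⟩, rfl⟩ hy
      obtain ⟨h2, h3⟩ := co1_key a.2 b.2 (zpowers_comm _ hy)
      change (a : Spor.Co1) * (ww * b * ww⁻¹) = 1
      rw [h2, h3]
      group)
  rw [← Nat.card_congr (MonoidHom.ofInjective co1_prod_inj).toEquiv, Nat.card_prod, card_AA, Nat.card_zpowers,
    order_x] at h1
  have h2 := Nat.le_of_dvd Nat.card_pos h1
  have h3 := card_cent
  omega

theorem co1_fiveB {U : Type} [Group U] [Finite U] {τ α β : U →* Spor.Co1} {R R' : Subgroup Spor.Co1}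
    (c : Core τ α β R R') (hU : Nat.card U = 60 ∨ Nat.card U = 360 ∨ Nat.card U = 25920) {u : U} (hu : orderOf u = 5)
    (hx : τ u = xx) : False := by
  by_cases h60 : Nat.card U = 60
  · refine c.false_of_sixty h60 hu (s := co1s) (mem_centralizer_iff.2 fun y hy => ?_) (by rw [hx, co1s_inv])
    rw [hx] at hy
    obtain ⟨⟨a, b⟩, rfl⟩ := co1_perfect_le (perf_perfect _) (perf_le _) hy
    have hw : ww ∈ centralizer ({co1s} : Set Spor.Co1) :=
      mem_centralizer_singleton_iff.2 (co1s_comm (i := 2) (j := 6) rfl e6 (by (delta Cfsg.Agent.CoOneType.CoEval.relB; rewrite [Cfsg.Agent.CoOneType.CoW.fold_eq]; decide +kernel)))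
    exact mem_centralizer_singleton_iff.1 (mul_mem (co1s_AA a.2) (mul_mem (mul_mem hw (co1s_AA b.2)) (inv_mem hw)))
  · obtain ⟨φ, hφ, hm⟩ := c.pair.copy
    have hR := co1_perfect_le c.pair.perfect (hx ▸ c.pair.le_cent u)
    have h1 := card_dvd_of_prod c.simple
      (f := (MonoidHom.ofInjective co1_prod_inj).symm.toMonoidHom.comp (φ.codRestrict _ fun a => hR (hm a)))
      fun a b h => hφ (congrArg Subtype.val ((MonoidHom.ofInjective co1_prod_inj).symm.injective h))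
    rw [or_self, card_AA] at h1
    have h2 := Nat.le_of_dvd (by norm_num) h1
    omega

end fiveB

section fiveC
open Module
open Cfsg.Agent.SigZeroCo2.Rank (fix mem_fix)
open Cfsg.Agent.SigZeroCo2.Lin (rep Sp)
open Cfsg.Agent.SporadicA.Co0Mono Cfsg.Agent.SporadicA.Co1Simple
open Cfsg.Agent.CoOneType.ClosingFacts (mk mk_mul mk_inv exists_mk mk_eq_one mk_eq)
open Cfsg.Agent.CpAutCoFive (mv mv_inv eq_zero_of_fix finrank_add finrank_Sp rep_pow_one fix_of_coprime dvd_finrank_sub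
  nr nr_mem_fix sub_mem_mv)

/-- a lift of an involution commuting with an element of class 5C is an involution -/
theorem co1_no_four {a k : Co0} (ha : orderOf a = 5) (h4 : finrank ℚ (fix (rep a)) = 4) (hak : a * k = k * a)
    (hk : k * k = signCo0 allOne) : False := by
  have ha5 : a ^ 5 = 1 := by rw [← ha, pow_orderOf_eq_one]
  have h20 := finrank_add (u := rep a) (r := 5) (by norm_num) (rep_pow_one ha)
  rw [h4, finrank_Sp] at h20
  have hcomm : Commute k a := hak.symm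
  have hk4 : k ^ 4 = 1 := by
    have h1 : k ^ 4 = (k * k) * (k * k) := by simp only [pow_succ, pow_zero, one_mul, mul_assoc]
    rw [h1, hk, signCo0_mul_self]
  have h10 : (k * a) ^ 10 = signCo0 allOne := by
    rw [hcomm.mul_pow, show (10 : ℕ) = 5 * 2 by norm_num, pow_mul a, ha5, one_pow, mul_one,
      show (5 * 2 : ℕ) = 4 * 2 + 2 by norm_num, pow_add, pow_mul, hk4, one_pow, one_mul, pow_two, hk]
  have hf4 : (k * a) ^ 4 = a ^ 4 := by rw [hcomm.mul_pow, hk4, one_mul]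
  have h8 : Nat.totient 20 ∣ finrank ℚ (mv (rep a) 5) := by
    refine dvd_finrank_sub (n := 20) (by norm_num) (f := rep (k * a)) ?_ (fun v hv => mv_inv ?_ hv) ?_
    · rw [← map_pow, show (20 : ℕ) = 10 * 2 by norm_num, pow_mul, h10, pow_two, signCo0_mul_self, map_one]
    · exact (hcomm.mul_left (Commute.refl a)).map rep
    · intro p hp hpn v hv hv'
      have h25 : p = 2 ∨ p = 5 := by
        have h1 : p ∣ 2 ^ 2 * 5 := by simpa using hpn
        rcases (hp.dvd_mul).1 h1 with h2 | h2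
        · exact Or.inl ((Nat.prime_dvd_prime_iff_eq hp Nat.prime_two).1 (hp.dvd_of_dvd_pow h2))
        · exact Or.inr ((Nat.prime_dvd_prime_iff_eq hp (by norm_num)).1 h2)
      rcases h25 with rfl | rfl
      · rw [← map_pow, show 20 / 2 = 10 by norm_num, h10, LThreeMBTr.rep_neg] at hv'
        have h1 : -v = v := hv'
        have h2 : (2 : ℚ) • v = 0 := by
          rw [two_smul]
          nth_rewrite 1 [← h1]
          exact neg_add_cancel v
        exact (smul_eq_zero.1 h2).resolve_left (by norm_num)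
      · rw [← map_pow, show 20 / 5 = 4 by norm_num, hf4, map_pow] at hv'
        exact eq_zero_of_fix (by norm_num)
          (fix_of_coprime (x := rep a) (a := 4) (b := 5) (by norm_num) (by norm_num) hv' (by rw [rep_pow_one ha]; rfl)) hv
  have h9 : finrank ℚ (mv (rep a) 5) = 20 := by omega
  rw [h9, show Nat.totient 20 = 8 by decide] at h8
  norm_num at h8

theorem four_dvd_inf {V : Type} [AddCommGroup V] [Module ℚ V] [FiniteDimensional ℚ V] {x : Module.End ℚ V}
    (hx : x ^ 5 = 1) {W : Submodule ℚ V} (hW : ∀ w ∈ W, x w ∈ W) (h : 4 ∣ finrank ℚ W) :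
    4 ∣ finrank ℚ (W ⊓ fix x : Submodule ℚ V) := by
  have h1 : Nat.totient 5 ∣ finrank ℚ (W ⊓ mv x 5 : Submodule ℚ V) := by
    refine dvd_finrank_sub (by norm_num) hx (fun w hw => ⟨hW w hw.1, mv_inv (Commute.refl x) hw.2⟩) ?_
    intro p hp hp5 v hv hv'
    obtain rfl := (Nat.prime_dvd_prime_iff_eq hp Nat.prime_five).1 hp5
    exact eq_zero_of_fix (by norm_num) (by simpa using hv') hv.2
  rw [show Nat.totient 5 = 4 by decide] at h1
  have h2 := Submodule.finrank_sup_add_finrank_inf_eq (W ⊓ fix x) (W ⊓ mv x 5)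
  have h3 : (W ⊓ fix x) ⊓ (W ⊓ mv x 5) = ⊥ := by
    rw [eq_bot_iff]
    intro v hv
    exact eq_zero_of_fix (by norm_num) (mem_fix.1 hv.1.2) hv.2.2
  have h4 : (W ⊓ fix x) ⊔ (W ⊓ mv x 5) = W := by
    refine le_antisymm (sup_le inf_le_left inf_le_left) fun w hw => ?_
    have hpow : ∀ i, (x ^ i) w ∈ W := fun i => by
      induction i with
      | zero => exact hw
      | succ i ih => rw [pow_succ', Module.End.mul_apply]; exact hW _ ih
    have hn : (1 / (5 : ℕ) : ℚ) • nr x 5 w ∈ W := by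
      refine W.smul_mem _ ?_
      unfold nr
      rw [LinearMap.sum_apply]
      exact Submodule.sum_mem _ fun i _ => hpow i
    exact Submodule.mem_sup.2 ⟨_, ⟨hn, Submodule.smul_mem _ _ (nr_mem_fix hx w)⟩, _,
      ⟨W.sub_mem hw hn, sub_mem_mv (by norm_num) hx w⟩, add_sub_cancel _ _⟩
  rw [h3, h4, finrank_bot, add_zero] at h2
  omega

/-- an involution commuting with an element of class 5C has a lift that is trivial on its fixed space -/
theorem co1_lift {a : Co0} (ha : orderOf a = 5) (h4 : finrank ℚ (fix (rep a)) = 4) {t : Spor.Co1} (ht : t * t = 1)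
    (hc : _root_.Cfsg.Agent.CoOneType.ClosingFacts.mk a * t = t * _root_.Cfsg.Agent.CoOneType.ClosingFacts.mk a) : ∃ k : Co0, _root_.Cfsg.Agent.CoOneType.ClosingFacts.mk k = t ∧ k * a = a * k ∧ fix (rep a) ≤ fix (rep k) := by
  have ha5 : a ^ 5 = 1 := by rw [← ha, pow_orderOf_eq_one]
  obtain ⟨k, rfl⟩ := exists_mk t
  have hak : a * k = k * a := LThreeBX.NoSeven.comm_of_mk (by decide : Odd 5) ha5 hc
  rw [← mk_mul] at ht
  rcases (mk_eq_one _).1 ht with hk | hk
  swap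
  · exact (co1_no_four ha h4 hak hk).elim
  have hc' : ∀ v, rep a (rep k v) = rep k (rep a v) := fun v => by
    rw [← Module.End.mul_apply, ← map_mul, hak, map_mul, Module.End.mul_apply]
  have h1 : 4 ∣ finrank ℚ (fix (rep k)) := by
    by_cases h : k = 1
    · rw [h, show fix (rep (1 : Co0)) = ⊤ from eq_top_iff.2 fun v _ => mem_fix.2 (by rw [map_one]; rfl), finrank_top,
        finrank_Sp]
      norm_num
    · rcases BpSpor.Co2.Five.dims_two hk h with h | h | h | h <;> rw [h] <;> norm_num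
  have h2 := four_dvd_inf (rep_pow_one ha) (fun w hw => mem_fix.2 (by rw [← hc', mem_fix.1 hw])) h1
  have h3 := Submodule.finrank_mono (inf_le_right : fix (rep k) ⊓ fix (rep a) ≤ fix (rep a))
  by_cases h0 : finrank ℚ (fix (rep k) ⊓ fix (rep a) : Submodule ℚ Sp) = 0
  · refine ⟨k * signCo0 allOne, (mk_eq _ _).2 (Or.inr rfl), ?_, fun v hv => mem_fix.2 ?_⟩
    · rw [mul_assoc, ← MFiveHN.Cent.neg_comm a, ← mul_assoc, ← hak, mul_assoc]
    · have h5 : v + rep k v ∈ fix (rep k) ⊓ fix (rep a) := ⟨mem_fix.2 (by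
        rw [map_add, ← Module.End.mul_apply, ← map_mul, hk, map_one, add_comm]; rfl),
        mem_fix.2 (by rw [map_add, hc', mem_fix.1 hv])⟩
      rw [Submodule.finrank_eq_zero.1 h0, Submodule.mem_bot] at h5
      rw [map_mul, LThreeMBTr.rep_neg]
      change rep k (-v) = v
      rw [map_neg]
      exact (eq_neg_of_add_eq_zero_left h5).symm
  · refine ⟨k, rfl, hak.symm, ?_⟩
    rw [← Submodule.eq_of_le_of_finrank_eq (inf_le_right : fix (rep k) ⊓ fix (rep a) ≤ fix (rep a)) (by omega)]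
    exact inf_le_left

theorem co1_fiveC {U : Type} [Group U] [Finite U] (hs : IsSimpleGroup U) (h6 : 6 ∣ Nat.card U) {φ : U →* Spor.Co1}
    (hφ : Function.Injective φ) {x : Spor.Co1} (hx : orderOf x = 5) (hf : LThreeMB.fr x = 2 ^ 4)
    (hc : ∀ w, x * φ w = φ w * x) : False := by
  obtain ⟨a, rfl, ha5, ha⟩ := H55.CoOneBd.exists_lift (by norm_num) (by norm_num) hx
  have h4 := CoFiveC.Main.finrank_of_fr ha hf
  let C := centralizer ({a} : Set Co0)
  let π : C →* Spor.Co1 := (QuotientGroup.mk' (center Co0)).comp C.subtype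
  let N : Subgroup U := ((CoFiveC.Main.NN a).map π).comap φ
  have hN : N.Normal := ⟨by
    rintro n ⟨g, hg, hgn⟩ w
    obtain ⟨k, hk⟩ := exists_mk (φ w)
    have hak : a * k = k * a := LThreeBX.NoSeven.comm_of_mk (by decide : Odd 5) ha5 (by rw [hk]; exact hc w)
    refine ⟨_, (CoFiveC.Main.NN_normal a).conj_mem g hg ⟨k, mem_centralizer_singleton_iff.2 hak.symm⟩, ?_⟩
    simp only [map_mul, map_mul, map_inv, hgn, map_mul, map_mul, map_inv, ← hk]
    rfl⟩
  obtain ⟨t, ht, ht1⟩ := Core.exists_orderOf (U := U) (r := 2) (by norm_num) (Dvd.dvd.trans (by norm_num) h6)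
  obtain ⟨r, hr, hr1⟩ := Core.exists_orderOf (U := U) (r := 3) (by norm_num) (Dvd.dvd.trans (by norm_num) h6)
  have htN : t ∈ N := by
    obtain ⟨k, hk, h1, h2⟩ := co1_lift ha h4 (t := φ t) (by rw [← map_mul, ← pow_two, ← ht, pow_orderOf_eq_one, map_one])
      (hc t)
    exact ⟨⟨k, mem_centralizer_singleton_iff.2 h1⟩, h2, hk⟩
  have hT : N = ⊤ := (hs.eq_bot_or_eq_top_of_normal N hN).resolve_left fun h => ht1 (by rwa [h, mem_bot] at htN)
  obtain ⟨g, hg, hgr⟩ : r ∈ N := hT ▸ mem_top r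
  have hr3 : r ^ 3 = 1 := by rw [← hr, pow_orderOf_eq_one]
  have h1 : ((g : Co0) ^ 3) ^ 2 = 1 := CoFive.Ranks.sq_of_center ((QuotientGroup.eq_one_iff _).1 (by
    change π (g ^ 3) = 1
    rw [map_pow, hgr, ← map_pow, hr3, map_one]))
  have : Fact (Nat.Prime 3) := ⟨Nat.prime_three⟩
  refine CoFiveFour.Ker.not_odd PreUniqCo.Facts.facts ha5 h4 (CoFiveC.Main.reg_of ha h4) (y := ((g ^ 2 : C) : Co0))
    (mem_centralizer_singleton_iff.1 (g ^ 2).2).symm Nat.prime_three (by norm_num) (by norm_num)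
    (orderOf_eq_prime (by rw [coe_pow, ← pow_mul, mul_comm, pow_mul, h1]) fun h => hr1 ?_) (pow_mem hg 2)
  refine eq_one_of_coprime (a := 2) (b := 3) (by norm_num) (hφ ?_) hr3
  rw [map_pow, ← hgr, ← map_pow, show g ^ 2 = 1 from Subtype.ext h, map_one, map_one]

end fiveC

theorem noCore_co1 {L : Type} [Group L] [Finite L] (big : Big) (h : Spor.IsoCo1 L) : NoCore L := by
  obtain ⟨e⟩ := h
  have := H812.CoFiveData.finite_co1
  refine NoCore.of_equiv (fun U _ _ τ α β R R' c => ?_) e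
  rcases cand_co1 big ⟨MulEquiv.refl _⟩ c with h7 | hU
  · obtain ⟨u, hu, -⟩ := Core.exists_orderOf (U := U) (r := 7) (by norm_num) h7
    refine c.false_of_seven big hu (fun h => ?_) ?_
    · have h1 := (pow_dvd_pow_of_dvd h 2).trans (c.pair.card_sq_dvd c.simple c.noncomm)
      rw [NotCT.Orders.co1 ⟨MulEquiv.refl _⟩] at h1
      norm_num at h1
    · rcases H898.WkCo1.seven_cases ((c.pair.orderOf_eq u).trans hu) with ⟨-, h⟩ | ⟨-, h⟩
      · exact h
      · rw [h]; norm_num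
  · obtain ⟨u, hu, hv⟩ : ∃ u : U, orderOf u = 5 ∧ (Nat.card U = 360 → ∃ v, v * v = 1 ∧ v * u * v⁻¹ = u⁻¹) := by
      by_cases h : Nat.card U = 360
      · obtain ⟨u, v, a, b, r, d⟩ := exists_a5Dat c.simple (Or.inr h)
        exact ⟨u, d.hu, fun _ => ⟨v, d.hv, d.hvu⟩⟩
      · obtain ⟨u, hu, -⟩ := Core.exists_orderOf (U := U) (r := 5) (by norm_num) (five_of hU).1
        exact ⟨u, hu, fun h1 => absurd h1 h⟩
    have hx : orderOf (τ u) = 5 := (c.pair.orderOf_eq u).trans hu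
    rcases CoFive.Ranks.ranks _ hx with h1 | h1 | h1
    · obtain ⟨τ, α, β, R, R', c, h2⟩ := c.exists_conj
        (CoFive.Ranks.isConj_of_fr H812.CoFiveData.order_p1 hx (H812.CoFiveData.fr_p1.trans h1.symm))
      exact co1_fiveA c hU hu hv h2
    · obtain ⟨φ, hφ, hm⟩ := c.pair.copy
      exact co1_fiveC c.simple (by rcases hU with h | h | h <;> rw [h] <;> norm_num) hφ hx h1
        fun w => c.pair.comm u _ (hm w)
    · obtain ⟨τ, α, β, R, R', c, h2⟩ := c.exists_conj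
        (CoFive.Ranks.isConj_of_fr MFiveHN.Cent.order_x hx (MFiveHN.Inst.fr_xx.trans h1.symm))
      exact co1_fiveB c hU hu h2

end Cfsg.Agent.Cam.Spor
end

-- part: Cam/Spor/MGen
section
/-!
# S3689, S3690: tools for the row M (helper95)
-/

set_option autoImplicit false

namespace Cfsg.Agent.Cam.Spor

open Cfsg Subgroup Cfsg.Agent.TwoFusion.PerfCore
open Cfsg.Agent.LThreeMB (XX Zx)

section gen
variable {G : Type} [Group G]

/-- the perfect core of `C(x)` when `C(x) / ⟨x⟩` is simple -/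
theorem qs_of_XX [Finite G] {x : G} {K : Type} [Group K] (e : XX x ≃* K) (hs : IsSimpleGroup K)
    (hn : ¬ IsMulCommutative K) : ∃ f : perf (centralizer ({x} : Set G)) →* K, QS _ f ∧
      ∀ p, f p = 1 → (p : G) ∈ zpowers x := by
  let π : centralizer ({x} : Set G) →* K := e.toMonoidHom.comp (QuotientGroup.mk' (Zx x))
  have hπ : Function.Surjective π := e.surjective.comp (QuotientGroup.mk'_surjective _)
  have hk : ∀ p : perf (centralizer ({x} : Set G)), π.comp (inclusion (perf_le _)) p = 1 → (p : G) ∈ zpowers x := by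
    intro p hp
    have h1 : QuotientGroup.mk' (Zx x) (inclusion (perf_le _) p) = 1 := e.injective (hp.trans (map_one e).symm)
    obtain ⟨i, hi⟩ := (QuotientGroup.eq_one_iff _).1 h1
    exact ⟨i, congrArg Subtype.val hi⟩
  refine ⟨π.comp (inclusion (perf_le _)), ⟨hs, hn, fun y => ?_, fun p hp => ?_⟩, hk⟩
  · have h1 := map_perf π ⊤
    rw [map_top_of_surjective _ hπ, perf_eq_self (commutator_top hs hn)] at h1
    obtain ⟨c, hc, rfl⟩ : y ∈ (perf ⊤).map π := h1 ▸ mem_top y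
    have h2 := map_perf (centralizer ({x} : Set G)).subtype ⊤
    rw [← MonoidHom.range_eq_map, range_subtype] at h2
    exact ⟨⟨c, h2 ▸ ⟨c, hc, rfl⟩⟩, rfl⟩
  · exact mem_center_iff.2 fun c => Subtype.ext (zpowers_comm _ (hk p hp) c (perf_le _ c.2))

/-- an element of prime power order outside a subgroup -/
theorem exists_qelt [Finite G] {C N : Subgroup G} (hle : C ≤ N) {e q : ℕ} (hq : q.Prime)
    (h : Nat.card N = Nat.card C * e) (hd : q ∣ e) : ∃ v ∈ N, v ∉ C ∧ ∃ j : ℕ, v ^ q ^ j = 1 := by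
  have : Fact q.Prime := ⟨hq⟩
  obtain ⟨P⟩ : Nonempty (Sylow q N) := inferInstance
  by_contra h1
  have h2 : (P : Subgroup N) ≤ C.subgroupOf N := fun v hv => by
    by_contra h3
    obtain ⟨j, hj⟩ := P.isPGroup' ⟨v, hv⟩
    exact h1 ⟨v, v.2, h3, j, congrArg Subtype.val (congrArg Subtype.val hj)⟩
  have h3 := card_mul_index (C.subgroupOf N)
  rw [Nat.card_congr (subgroupOfEquivOfLe hle).toEquiv, h] at h3
  have h4 : (C.subgroupOf N).index = e := Nat.eq_of_mul_eq_mul_left Nat.card_pos h3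
  exact P.not_dvd_index (hd.trans (h4 ▸ index_dvd_of_le h2))

theorem cent_le_norm (x : G) : centralizer ({x} : Set G) ≤ normalizer ((zpowers x : Subgroup G) : Set G) :=
  cent_zpowers x ▸ centralizer_le_normalizer _

/-- an isolated involution is the only involution of the Sylow subgroups -/
theorem eq_of_isolated [Finite G] {z a b : G} (hz : orderOf z = 2) (h : ∀ s, s * s = 1 → s * z = z * s → s = 1 ∨ s = z)
    (ha : orderOf a = 2) (hb : orderOf b = 2) (hab : a * b = b * a) : a = b := by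
  have : Fact (Nat.Prime 2) := ⟨Nat.prime_two⟩
  have hp : ∀ y : G, orderOf y = 2 → IsPGroup 2 (zpowers y) := fun y hy =>
    IsPGroup.of_card (n := 1) (by rw [Nat.card_zpowers, hy, pow_one])
  have hsq : ∀ y : G, orderOf y = 2 → y * y = 1 ∧ y ≠ 1 := fun y hy =>
    ⟨by rw [← pow_two, ← hy, pow_orderOf_eq_one], fun h1 => by rw [h1, orderOf_one] at hy; omega⟩
  obtain ⟨P, hP⟩ := (hp z hz).exists_le_sylow
  obtain ⟨Q, hQ⟩ := (hp a ha).exists_le_sylow
  obtain ⟨g, hg⟩ := MulAction.exists_smul_eq G Q P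
  have hzP : z ∈ P := hP (mem_zpowers z)
  have hnt : Nontrivial P := ⟨⟨⟨z, hzP⟩, 1, fun h1 => (hsq z hz).2 (congrArg Subtype.val h1)⟩⟩
  have := P.isPGroup'.center_nontrivial
  obtain ⟨t, ht⟩ := exists_prime_orderOf_dvd_card' (G := center P) 2
    (((P.isPGroup'.to_subgroup (center P)).nontrivial_iff_card.1 this).elim fun n hn => by
      rw [hn.2]; exact dvd_pow_self 2 hn.1.ne')
  have ht2 : orderOf ((t : P) : G) = 2 := by rw [Subgroup.orderOf_coe, Subgroup.orderOf_coe, ht]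
  have htz : ((t : P) : G) = z :=
    (h _ (hsq _ ht2).1 (congrArg Subtype.val (mem_center_iff.1 t.2 ⟨z, hzP⟩)).symm).resolve_left (hsq _ ht2).2
  have hc : ∀ y : G, orderOf y = 2 → orderOf (g * y * g⁻¹) = 2 := fun y hy => by
    rw [← hy]
    exact (MulAut.conj g).orderOf_eq y
  have haP : g * a * g⁻¹ ∈ P := by
    rw [← hg]
    exact ⟨a, hQ (mem_zpowers a), rfl⟩
  have h1 : g * a * g⁻¹ = z := (h _ (hsq _ (hc a ha)).1 (by
    rw [← htz]
    exact congrArg Subtype.val (mem_center_iff.1 t.2 ⟨_, haP⟩))).resolve_left (hsq _ (hc a ha)).2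
  have h2 : g * b * g⁻¹ = z := (h _ (hsq _ (hc b hb)).1 (by
    rw [← h1]
    calc g * b * g⁻¹ * (g * a * g⁻¹) = g * (b * a) * g⁻¹ := by group
      _ = _ := by rw [← hab]; group)).resolve_left (hsq _ (hc b hb)).2
  exact (MulAut.conj g).injective (h1.trans h2.symm)

/-- an automorphism fixing an element of prime order `r` and a subgroup of index `r + 1` -/
theorem aut_eq_one' [Finite G] (hs : IsSimpleGroup G) {σ : MulAut G} {m r : ℕ} (hr : r.Prime) (hσ : σ ^ m = 1)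
    (hm : m.Coprime r) {D : Subgroup G} (hD : ∀ y, σ y ∈ D ↔ y ∈ D) (hi : D.index = r + 1) {y : G} (hy : σ y = y)
    (ho : orderOf y = r) : σ = 1 := by
  classical
  have := Fintype.ofFinite (G ⧸ D)
  have hc : Fintype.card (G ⧸ D) = r + 1 := by rw [← Nat.card_eq_fintype_card]; exact hi
  let ρ := MulAction.toPermHom G (G ⧸ D)
  have hρ : Function.Injective ρ := by
    rw [← MonoidHom.ker_eq_bot_iff, ← normalCore_eq_ker]
    refine (hs.eq_bot_or_eq_top_of_normal _ inferInstance).resolve_right fun h => ?_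
    have h1 : D = ⊤ := top_le_iff.1 (h ▸ normalCore_le D)
    rw [h1, index_top] at hi
    have := hr.pos
    omega
  let t : Equiv.Perm (G ⧸ D) := Quotient.congr σ.toEquiv fun a b => by
    rw [QuotientGroup.leftRel_apply, QuotientGroup.leftRel_apply]
    change _ ↔ (σ a)⁻¹ * σ b ∈ D
    rw [← map_inv, ← map_mul, hD]
  have ht : ∀ g : G, t (QuotientGroup.mk g) = QuotientGroup.mk (σ g) := fun g => rfl
  have htn : ∀ (n : ℕ) (g : G), (t ^ n) (QuotientGroup.mk g) = QuotientGroup.mk ((σ ^ n) g) := fun n => by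
    induction n with
    | zero => exact fun g => rfl
    | succ n ih => intro g; rw [pow_succ', pow_succ', Equiv.Perm.mul_apply, ih, ht]; rfl
  have h1 : t ^ m = 1 := by
    ext v
    induction v using QuotientGroup.induction_on with
    | H g => rw [htn, hσ]; rfl
  have hoy : orderOf (ρ y) = r := by rw [orderOf_injective ρ hρ, ho]
  have hct : (ρ y).cycleType = {r} := by
    have h2 := Equiv.Perm.isCycle_of_prime_order' (σ := ρ y) (by rw [hoy]; exact hr)
      (by rw [hoy, hc]; have := hr.two_le; omega)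
    rw [h2.cycleType, ← h2.orderOf, hoy]
  have hcard : Nat.card (centralizer ({ρ y} : Set (Equiv.Perm (G ⧸ D)))) = r := by
    rw [Equiv.Perm.nat_card_centralizer, hct, hc]
    simp
  have h2 : t ∈ centralizer ({ρ y} : Set (Equiv.Perm (G ⧸ D))) := by
    refine mem_centralizer_singleton_iff.2 ?_
    ext v
    induction v using QuotientGroup.induction_on with
    | H g =>
      change t (QuotientGroup.mk (y * g)) = QuotientGroup.mk (y * σ g)
      rw [ht, map_mul, hy]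
  have h3 : t ^ r = 1 := by
    have := congrArg Subtype.val (pow_card_eq_one' (x := (⟨t, h2⟩ : centralizer ({ρ y} : Set (Equiv.Perm (G ⧸ D))))))
    rwa [hcard] at this
  have h4 : t = 1 := by
    rw [← pow_one t, ← show Nat.gcd m r = 1 from hm, pow_gcd_eq_one]
    exact ⟨h1, h3⟩
  ext g
  refine hρ ?_
  ext v
  induction v using QuotientGroup.induction_on with
  | H z =>
    have h5 : (QuotientGroup.mk (σ z) : G ⧸ D) = QuotientGroup.mk z := by rw [← ht, h4]; rfl
    have h6 : (QuotientGroup.mk (σ (g * z)) : G ⧸ D) = QuotientGroup.mk (g * z) := by rw [← ht, h4]; rfl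
    change σ g • (QuotientGroup.mk z : G ⧸ D) = QuotientGroup.mk (g * z)
    rw [← h5, ← h6, map_mul]
    rfl

/-- the automorphisms of the simple group of order 168 fixing an element of order seven -/
theorem aut_168m [Finite G] (hs : IsSimpleGroup G) (hG : Nat.card G = 168) {σ : MulAut G} {m : ℕ}
    (hσ : σ ^ m = 1) (hm : m.Coprime 7) {y : G} (hy : orderOf y = 7) (h : σ y = y) : σ = 1 := by
  obtain ⟨e, -, -, h1, -, h2⟩ := H58.Cop.arith (by norm_num) hy (by rw [hG]; norm_num) (by rw [hG]; norm_num)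
  let D := normalizer ((zpowers y : Subgroup G) : Set G)
  have key : ∀ θ : MulAut G, θ y = y → ∀ g ∈ D, θ g ∈ D := fun θ hθ g hg => mem_normalizer_of (by
    rintro _ ⟨i, rfl⟩
    obtain ⟨j, hj⟩ := conj_mem_of_norm hg (⟨i, rfl⟩ : y ^ i ∈ zpowers y)
    refine ⟨j, ?_⟩
    have h3 := congrArg θ hj
    simpa only [map_zpow, map_mul, map_inv, hθ] using h3)
  refine aut_eq_one' hs (r := 7) (by norm_num) hσ hm (D := D) (fun g => ⟨fun hg => ?_, key σ h g⟩) ?_ h hy
  · have h3 := key σ⁻¹ (by rw [MulAut.inv_apply, MulEquiv.symm_apply_eq, h]) _ hg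
    rwa [MulAut.inv_apply, MulEquiv.symm_apply_apply] at h3
  have h3 := card_mul_index D
  rw [← h1, ← h3, Nat.mul_div_cancel_left _ Nat.card_pos] at h2
  have h4 : 7 ∣ Nat.card D := by
    rw [← hy, ← Nat.card_zpowers]
    exact card_dvd_of_le le_normalizer
  obtain ⟨d, hd⟩ := h4
  have h5 : D.index ∣ 24 := Dvd.intro_left d (by rw [hd, hG, mul_assoc] at h3; omega)
  have h6 : D.index ≠ 1 := fun h6 => by
    have h7 : (zpowers y).Normal := normalizer_eq_top_iff.1 (index_eq_one.1 h6)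
    have h8 := Nat.card_zpowers y
    rcases hs.eq_bot_or_eq_top_of_normal _ h7 with h9 | h9
    · rw [h9, card_bot, hy] at h8
      omega
    · rw [h9, card_top, hy, hG] at h8
      omega
  have h7 := Nat.le_of_dvd (by norm_num) h5
  generalize D.index = n at h2 h5 h6 h7
  interval_cases n <;> (clear * - h2 h6 h5; omega)

end gen

variable {L U X : Type} [Group L] [Group U] [Group X] {τ α β : U →* L} {R R' : Subgroup L}

theorem Core.exists_rho [Finite L] (c : Core τ α β R R') {u : U} {f : perf (centralizer ({τ u} : Set L)) →* X}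
    (h : QS _ f) : ∃ ρ : U →* X, Function.Injective ρ := by
  obtain ⟨φ, hφ, hm⟩ := c.pair.copy
  exact ⟨_, h.inj c.simple c.noncomm hφ fun b => c.pair.le_perf_cent u (hm b)⟩

/-- the inner automorphism of the simple quotient induced by `τ v` -/
theorem Core.exists_inner [Finite L] (c : Core τ α β R R') {u v : U}
    (hv : v ∈ normalizer ((zpowers u : Subgroup U) : Set U)) (hne : v ∉ centralizer ({u} : Set U))
    {f : perf (centralizer ({τ u} : Set L)) →* X} (h : QS _ f) {n : ℕ} (hn : v ^ n = 1)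
    (ho : n.Coprime (Nat.card (Out X))) : ∃ (k : perf (centralizer ({τ u} : Set L))) (ρ : U →* X),
      Function.Injective ρ ∧ f k ≠ 1 ∧ f k ^ n = 1 ∧ (∀ a, ρ a * f k = f k * ρ a) ∧ (k : L) ∈ centralizer (R : Set L) := by
  obtain ⟨φ, hφ, hm⟩ := c.pair.copy
  obtain ⟨a, ha⟩ := h.exists_act
  have hN : τ v ∈ normalizer ((perf (centralizer ({τ u} : Set L)) : Subgroup L) : Set L) := by
    refine normalizer_le_normalizer_perf _ (mem_normalizer_of fun y hy => mem_centralizer_singleton_iff.2 ?_)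
    obtain ⟨i, hi⟩ := conj_mem_of_norm (inv_mem hv) (mem_zpowers u)
    have h2 : (τ v)⁻¹ * τ u * τ v = τ u ^ i := by
      rw [← map_zpow, show u ^ i = v⁻¹ * u * v⁻¹⁻¹ from hi, inv_inv, map_mul, map_mul, map_inv]
    have h3 : Commute y (τ u ^ i) := (show Commute y (τ u) from mem_centralizer_singleton_iff.1 hy).zpow_right i
    calc τ v * y * (τ v)⁻¹ * τ u = τ v * (y * ((τ v)⁻¹ * τ u * τ v)) * (τ v)⁻¹ := by group
      _ = τ v * (((τ v)⁻¹ * τ u * τ v) * y) * (τ v)⁻¹ := by rw [h2, h3.eq]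
      _ = _ := by group
  have h1 : a ⟨τ v, hN⟩ ^ n = 1 := by
    rw [← map_pow, show (⟨τ v, hN⟩ : normalizer _) ^ n = 1 from Subtype.ext (by
      change τ v ^ n = 1
      rw [← map_pow, hn, map_one]), map_one]
  have h2 : a ⟨τ v, hN⟩ ∈ Inn X := by
    rw [← QuotientGroup.eq_one_iff, ← pow_one (QuotientGroup.mk (a ⟨τ v, hN⟩) : Out X),
      ← show Nat.gcd n (Nat.card (Out X)) = 1 from ho, pow_gcd_eq_one]
    exact ⟨by rw [← QuotientGroup.mk_pow, h1, QuotientGroup.mk_one], pow_card_eq_one'⟩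
  obtain ⟨y, hy⟩ := h2
  obtain ⟨k, rfl⟩ := h.surj y
  have hkN : (k : L) ∈ normalizer ((perf (centralizer ({τ u} : Set L)) : Subgroup L) : Set L) := le_normalizer k.2
  have h3 : (k : L)⁻¹ * τ v ∈ centralizer (perf (centralizer ({τ u} : Set L)) : Set L) := by
    refine h.mem_cent (perf_perfect _) (⟨k, hkN⟩⁻¹ * ⟨τ v, hN⟩) fun p => ?_
    have h4 : a ⟨k, hkN⟩ = MulAut.conj (f k) := by
      ext z
      obtain ⟨q, rfl⟩ := h.surj z
      rw [ha, MulAut.conj_apply, ← map_inv, ← map_mul, ← map_mul]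
      rfl
    rw [← ha, map_mul, map_inv, h4, hy, inv_mul_cancel, MulAut.one_apply]
  have h4 : (k : L) ∈ centralizer (R : Set L) := by
    have h5 := mul_mem (c.pair.tau_mem_cent v) (inv_mem (centralizer_le (c.pair.le_perf_cent u) h3))
    rwa [mul_inv_rev, inv_inv, mul_inv_cancel_left] at h5
  refine ⟨k, _, h.inj c.simple c.noncomm hφ fun b => c.pair.le_perf_cent u (hm b), fun h5 => hne ?_, ?_, fun b => ?_, h4⟩
  · refine mem_centralizer_singleton_iff.2 (c.comm_of_cent_perf (h.mem_cent (perf_perfect _) ⟨τ v, hN⟩ fun p => ?_))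
    rw [← ha, ← hy, h5, map_one, MulAut.one_apply]
  · refine eq_one_of_comm h.simple h.noncomm fun z => ?_
    have h5 : MulAut.conj (f k ^ n) z = z := by rw [map_pow, hy, h1, MulAut.one_apply]
    rw [MulAut.conj_apply] at h5
    calc f k ^ n * z = f k ^ n * z * (f k ^ n)⁻¹ * f k ^ n := by group
      _ = _ := by rw [h5]
  · rw [MonoidHom.comp_apply, ← map_mul, ← map_mul]
    exact congrArg f (Subtype.ext (mem_centralizer_iff.1 h4 _ (hm b)))

end Cfsg.Agent.Cam.Spor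
end

-- part: Cam/Spor/MHe
section
/-!
# S3689, S3690: facts on the Held group for the row M (helper95)
-/

set_option autoImplicit false

namespace Cfsg.Agent.Cam.Spor

open Cfsg Subgroup Cfsg.Agent.H235.Ore.He

/-- the centralizer orders -/
def heC : List ℕ := [17, 17, 4030387200, 21, 21, 161280, 21504, 7560, 504, 672, 384, 128, 72, 24, 12, 12, 300, 16, 20,
  15, 56, 56, 14, 14, 28, 28, 1176, 1176, 1029, 98, 98, 21, 21]

theorem he_cls : ∃ a b : Spor.He, ∀ g : Spor.He, ∃ i : Fin 33, IsConj ((L a b).getD i (1, 0)).1 g ∧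
    orderOf g = (V.getD i (0, 0, 0)).1 ∧ Nat.card (centralizer ({g} : Set Spor.He)) = heC.getD i 0 := by
  obtain ⟨hfin, -⟩ := Cfsg.Agent.SporadicB.HeUpper.card_he_le
  obtain ⟨a, b, ha, hb, ha1, hb1, hab⟩ := H235.Ore.He.exists_pair
  have hc := L_cent (cent_mem ha ha1) (cent_mem hb hb1)
  have hd := L_nodup (ord_mem ha ha1) (ord_mem hb hb1) hab
  have hi := L_inv (ord_mem ha ha1) (ord_mem hb hb1) hab
  have hlt : ∀ i : Fin 33, (i : ℕ) < (L a b).length := fun i => i.2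
  have hn : ∀ i j : Fin 33, IsConj ((L a b)[(i : ℕ)]'(hlt i)).1 ((L a b)[(j : ℕ)]'(hlt j)).1 → i = j := by
    intro i j h
    have h1 : (i : ℕ) < ((L a b).map fun p => ConjClasses.mk p.1).length := by
      rw [List.length_map]
      exact hlt i
    have h2 : (j : ℕ) < ((L a b).map fun p => ConjClasses.mk p.1).length := by
      rw [List.length_map]
      exact hlt j
    have h3 := (hd.getElem_inj_iff (hi := h1) (hj := h2)).1 (by
      rw [List.getElem_map, List.getElem_map]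
      exact ConjClasses.mk_eq_mk_iff_isConj.2 h)
    exact Fin.ext h3
  have hcc : ∀ i : Fin 33, ((L a b)[(i : ℕ)]'(hlt i)).2 = heC.getD i 0 := by
    intro i
    have h1 : (i : ℕ) < ((L a b).map Prod.snd).length := by
      rw [List.length_map]
      exact hlt i
    rw [← show (L a b).map Prod.snd = heC from rfl, List.getD_eq_getElem _ _ h1, List.getElem_map]
  have hoo : ∀ i : Fin 33, orderOf ((L a b)[(i : ℕ)]'(hlt i)).1 = (V.getD i (0, 0, 0)).1 := by
    intro i
    have h1 : (i : ℕ) < ((L a b).map fun p => _root_.Cfsg.Agent.H235.Ore.He.inv a p.1).length := by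
      rw [List.length_map]
      exact hlt i
    rw [← hi, List.getD_eq_getElem _ _ h1, List.getElem_map]
    rfl
  obtain ⟨h1, h2⟩ := Cfsg.Agent.H300.Cls.complete (fun i : Fin 33 => ((L a b)[(i : ℕ)]'(hlt i)).1)
    (fun i => heC.getD i 0) (fun i => by
      rw [← hcc i]
      exact hc _ (List.getElem_mem (hlt i))) hn (by
      rw [Cfsg.Agent.KFacts.He.Classes.card_he]
      decide +kernel)
  refine ⟨a, b, fun g => ?_⟩
  obtain ⟨i, hgi⟩ := h1 g
  refine ⟨i, by rwa [List.getD_eq_getElem _ _ (hlt i)], by rw [← hoo i, ord_conj hgi], ?_⟩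
  obtain ⟨k, hk⟩ := isConj_iff.1 hgi
  rw [BpSpor.card_cent_of_conj hk]
  refine H300.Cls.card_cent ?_ (h2 i)
  rw [Cfsg.Agent.KFacts.He.Classes.card_he]
  exact (by decide +kernel : ∀ i : Fin 33, heC.getD i 0 ∣ 4030387200) i

theorem he_not_nine (g : Spor.He) : orderOf g ≠ 9 ∧ orderOf g ≠ 25 := by
  obtain ⟨a, b, h⟩ := he_cls
  obtain ⟨i, -, h1, -⟩ := h g
  rw [h1]
  exact (by decide +kernel : ∀ i : Fin 33, (V.getD i (0, 0, 0)).1 ≠ 9 ∧ (V.getD i (0, 0, 0)).1 ≠ 25) i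

theorem he_three {g : Spor.He} (hg : g ≠ 1) {j : ℕ} (hj : g ^ 3 ^ j = 1) :
    Nat.card (centralizer ({g} : Set Spor.He)) ∣ 7560 := by
  obtain ⟨a, b, h⟩ := he_cls
  obtain ⟨i, -, h1, h2⟩ := h g
  obtain ⟨k, -, hk⟩ := (Nat.dvd_prime_pow Nat.prime_three).1 (orderOf_dvd_of_pow_eq_one hj)
  rw [h2]
  refine (by decide +kernel : ∀ i : Fin 33, (V.getD i (0, 0, 0)).1 ≠ 1 → ¬ 2 ∣ (V.getD i (0, 0, 0)).1 →
    ¬ 5 ∣ (V.getD i (0, 0, 0)).1 → ¬ 7 ∣ (V.getD i (0, 0, 0)).1 → ¬ 17 ∣ (V.getD i (0, 0, 0)).1 →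
    heC.getD i 0 ∣ 7560) i (by rw [← h1, Ne, orderOf_eq_one_iff]; exact hg) ?_ ?_ ?_ ?_
  all_goals
    rw [← h1, hk]
    exact fun h3 => absurd (Nat.Prime.dvd_of_dvd_pow (by norm_num) h3) (by norm_num)

/-- the real elements of order seven -/
theorem he_real {g : Spor.He} (hg : orderOf g = 7) (hr : IsConj g g⁻¹) :
    Nat.card (centralizer ({g} : Set Spor.He)) = 1029 := by
  obtain ⟨a, b, h⟩ := he_cls
  obtain ⟨i, h0, h1, h2⟩ := h g
  have h3 : ∀ y : Spor.He, IsConj y g → J 7 y = J 7 y⁻¹ := fun y hy => by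
    obtain ⟨k, rfl⟩ := isConj_iff.1 hy
    refine J_conj 7 (hy.trans (hr.trans (isConj_iff.2 ⟨k⁻¹, by group⟩)))
  have h4 := h3 _ h0
  rcases (by decide +kernel : ∀ i : Fin 33, 7 = (V.getD i (0, 0, 0)).1 → i = 26 ∨ i = 27 ∨ i = 28 ∨ i = 29 ∨ i = 30) i
    (hg.symm.trans h1) with rfl | rfl | rfl | rfl | rfl
  · exact absurd (j7A.symm.trans (h4.trans j7A')) (by norm_num)
  · exact absurd (j7A'.symm.trans (h4.trans ((congrArg (J 7) (inv_inv _)).trans j7A))) (by norm_num)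
  · exact h2
  · exact absurd (j7D.symm.trans (h4.trans j7D')) (by norm_num)
  · exact absurd (j7D'.symm.trans (h4.trans ((congrArg (J 7) (inv_inv _)).trans j7D))) (by norm_num)

end Cfsg.Agent.Cam.Spor
end

-- part: Cam/Spor/RowC
section
/-!
# S3689, S3690: the rows HS, Co2, O'N (helper67)
-/

set_option autoImplicit false

namespace Cfsg.Agent.Cam.Spor

open Cfsg Subgroup

variable {L : Type} [Group L]

theorem card_cent_dvd {G K : Type*} [Group G] [Group K] {f : G →* K} (hf : Function.Injective f) (x : G) :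
    Nat.card (centralizer ({x} : Set G)) ∣ Nat.card (centralizer ({f x} : Set K)) := by
  refine card_dvd_of_injective ((f.comp (centralizer ({x} : Set G)).subtype).codRestrict _ fun c => ?_)
    fun a b h => Subtype.ext (hf (congrArg Subtype.val h))
  refine mem_centralizer_singleton_iff.2 ?_
  change f c * f x = f x * f c
  rw [← map_mul, ← map_mul, mem_centralizer_singleton_iff.1 c.2]

theorem noCore_hs [Finite L] (big : Big) (h : Spor.IsoHS L) : NoCore L := by
  obtain ⟨e⟩ := h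
  have : Finite Spor.HS := Finite.of_equiv _ e.toEquiv
  refine NoCore.of_equiv (fun U _ _ τ α β R R' c => ?_) e
  have hU := cand_hs big ⟨MulEquiv.refl _⟩ c
  obtain ⟨u, hu, -⟩ := Core.exists_orderOf (U := U) (r := 5) (by norm_num) (by rw [hU]; norm_num)
  have hx : orderOf (τ u) = 5 := (c.pair.orderOf_eq u).trans hu
  have hi := Subgroup.inclusion_injective (inf_le_left : Spor.HS ≤ Spor.Co3)
  exact c.false_of_num big (by norm_num) hu (l := [(2, 5), (3, 1), (5, 2)]) (N := 2400) (by decide +kernel)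
    ((card_cent_dvd hi _).trans (BpSpor.CoThreeFive.card_dvd ((orderOf_injective _ hi _).trans hx)))
    (m := 60) (by decide +kernel) (by decide +kernel) (ex := []) (by decide +kernel) (by simp)

theorem co2_dvd {x : Spor.Co2} (hx : orderOf x = 5) :
    Nat.card (centralizer ({x} : Set Spor.Co2)) ∣ 2 ^ 18 * 3 * 5 ^ 3 := by
  have := Schreier.CoTwoStab.finite
  let φ : Spor.Co2 →* Co0 := Subgroup.inclusion (inf_le_left : Spor.Co2 ≤ Co0)
  have hφ : Function.Injective φ := Subgroup.inclusion_injective _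
  have hmem : x ∈ centralizer ({x} : Set Spor.Co2) := mem_centralizer_singleton_iff.2 rfl
  have hoy : orderOf (⟨x, hmem⟩ : centralizer ({x} : Set Spor.Co2)) = 5 := by rw [← Subgroup.orderOf_coe, hx]
  refine CpAutCoFive.card_dvd PreUniqCo.Facts.facts (φ := φ.comp (centralizer ({x} : Set Spor.Co2)).subtype)
    (hφ.comp Subtype.val_injective) PreUniqCo.Rows.leechU_ne (fun h => h.1.2.2) hoy
    (fun g => Subtype.ext (mem_centralizer_singleton_iff.1 g.2)) (b := 6) ((card_subgroup_dvd_card _).trans ?_)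
  rw [Schreier.CoTwoStab.card]
  exact dvd_of_eq (by norm_num)

theorem noCore_co2 [Finite L] (big : Big) (h : Spor.IsoCo2 L) : NoCore L := by
  obtain ⟨e⟩ := h
  have : Finite Spor.Co2 := Finite.of_equiv _ e.toEquiv
  refine NoCore.of_equiv (fun U _ _ τ α β R R' c => ?_) e
  have hU : 5 ∣ Nat.card U := by rcases cand_co2 big ⟨MulEquiv.refl _⟩ c with h1 | h1 <;> rw [h1] <;> norm_num
  obtain ⟨u, hu, -⟩ := Core.exists_orderOf (U := U) (r := 5) (by norm_num) hU
  have hx : orderOf (τ u) = 5 := (c.pair.orderOf_eq u).trans hu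
  refine c.false_of_num big (by norm_num) hu (l := [(2, 18), (3, 1), (5, 2)]) (N := 19660800) (by decide +kernel)
    (co2_dvd hx) (m := 60) (by decide +kernel) (by decide +kernel) (ex := [2]) (by decide +kernel) fun q hq => ?_
  rw [List.mem_singleton.1 hq]
  exact H763.Wk.CoTwo.core_five hx

theorem noCore_on [Finite L] (big : Big) (h : Spor.IsoON L) : NoCore L := by
  obtain ⟨e⟩ := h
  have : Finite Spor.ON := Finite.of_equiv _ e.toEquiv
  refine NoCore.of_equiv (fun U _ _ τ α β R R' c => ?_) e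
  have hU : 21 ∣ Nat.card U := by rcases cand_on big ⟨MulEquiv.refl _⟩ c with h1 | h1 <;> rw [h1] <;> norm_num
  obtain ⟨u, hu, -⟩ := Core.exists_orderOf (U := U) (r := 3) (by norm_num) (Dvd.dvd.trans (by norm_num) hU)
  have hx : orderOf (τ u) = 3 := (c.pair.orderOf_eq u).trans hu
  have h1 := c.pair.order_mul_dvd' c.simple c.noncomm u
  rw [H210.On7.card_cent_three hx] at h1
  have h2 := (hU.mul_left _).trans h1
  norm_num at h2

end Cfsg.Agent.Cam.Spor
end

-- part: Cam/Spor/MBig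
section
/-!
# S3689, S3690: the row M, the primes 13, 11, 7 and `Rank7` (helper95)
-/

set_option autoImplicit false

namespace Cfsg.Agent.Cam.Spor

open Cfsg Subgroup Cfsg.Agent.TwoFusion.PerfCore
open Cfsg.Agent.BpSpor.MBigModel (MG zz pi card_M orderOf_zz)
open Cfsg.Agent.LThreeMB (XX fr)

variable {U : Type} [Group U] [Finite U] {τ α β : U →* MG} {R R' : Subgroup MG}

theorem m_thirteen (big : Big) (c : Core τ α β R R') (h : 13 ∣ Nat.card U) : False := by
  have := BpSpor.MBigModel.finite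
  obtain ⟨u, hu, -⟩ := Core.exists_orderOf (U := U) (r := 13) (by norm_num) h
  have h1 := SP.Mon.NL.cent_exact big.cf (p := 13) (by norm_num) (by norm_num) ((c.pair.orderOf_eq u).trans hu)
  simp only [List.mem_cons, Prod.mk.injEq, List.not_mem_nil, or_false] at h1
  have h2 : Nat.card (centralizer ({τ u} : Set MG)) = 13 * 5616 ∨ Nat.card (centralizer ({τ u} : Set MG)) = 13 * 4056 := by
    omega
  rcases h2 with h2 | h2
  · exact c.false_of_num big (by norm_num) hu (l := [(2, 4), (3, 3), (13, 1)]) (N := 5616) (by decide +kernel) h2.dvd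
      (m := 5616) (by decide +kernel) (by decide +kernel) (ex := []) (by decide +kernel) (by simp)
  · have h3 := card_mem big c.simple c.noncomm (l := [(2, 3), (3, 1), (13, 2)]) (N := 4056) (by decide +kernel)
      (c.card_dvd_of (by norm_num) hu h2.dvd)
    rw [show ords [(2, 3), (3, 1), (13, 2)] 4056 = [] by decide +kernel] at h3
    exact List.not_mem_nil h3

theorem not_comm_of_card {X : Type} [Group X] (hs : IsSimpleGroup X) (h : ¬ (Nat.card X).Prime) :
    ¬ IsMulCommutative X := fun h1 => by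
  let _ : CommGroup X := { (inferInstance : Group X) with mul_comm := h1.is_comm.comm }
  exact h IsSimpleGroup.prime_card

theorem m_eleven (big : Big) (c : Core τ α β R R') (h : 11 ∣ Nat.card U) : False := by
  have := BpSpor.MBigModel.finite
  have := c.simple
  obtain ⟨u, hu, hu1⟩ := Core.exists_orderOf (U := U) (r := 11) (by norm_num) h
  have hx : orderOf (τ u) = 11 := (c.pair.orderOf_eq u).trans hu
  obtain ⟨x, -, -, hx0, -, -, -, -, ⟨e⟩⟩ := H609.Inv.Eleven.exists_data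
  obtain ⟨w, -, -, hall⟩ := H461.RM.Mon.exists_class
  obtain ⟨g, hg⟩ := isConj_iff.1 ((hall _ hx).symm.trans (hall _ hx0))
  obtain ⟨-, ⟨e'⟩⟩ := LThreeMB.exists_XX_equiv hg
  have hs : IsSimpleGroup Spor.M12 := Schreier.MTwelve.isSimpleGroup
  have hc : Nat.card Spor.M12 = 95040 := NotCT.Orders.m12 ⟨MulEquiv.refl _⟩
  have : Finite Spor.M12 := Nat.finite_of_card_ne_zero (by rw [hc]; norm_num)
  obtain ⟨f, hf, -⟩ := qs_of_XX (e'.trans e) hs (not_comm_of_card hs (by rw [hc]; norm_num))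
  obtain ⟨ρ₀, hρ₀⟩ := c.exists_rho hf
  have hU := card_mem big c.simple c.noncomm (l := [(2, 6), (3, 3), (5, 1), (11, 1)]) (N := 95040) (by decide +kernel)
    (hc ▸ card_dvd_of_injective ρ₀ hρ₀)
  have hcent : ∀ ρ : U →* Spor.M12, Function.Injective ρ → Nat.card (centralizer ({ρ u} : Set Spor.M12)) = 11 :=
    fun ρ hρ => H435.S8.MTwelve.card_cent ⟨hs, hc⟩ (by rw [orderOf_injective ρ hρ, hu])
  rcases (by decide +kernel : ∀ o ∈ ords [(2, 6), (3, 3), (5, 1), (11, 1)] 95040, 11 ∣ o →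
    o = 95040 ∨ (o = 660 ∨ o = 7920)) _ hU h with h1 | h1
  · exact c.false_of_qs hu1 hf (by omega)
  obtain ⟨n, hn, hn1, h2, -, h3⟩ := H58.Cop.arith (by norm_num) hu (by rcases h1 with h1 | h1 <;> rw [h1] <;> norm_num)
    (by omega)
  have h4 := card_cent_dvd hρ₀ u
  rw [hcent ρ₀ hρ₀] at h4
  have h5 : 5 ∣ n := (by decide +kernel : ∀ o ∈ [660, 7920], ∀ a ∈ Nat.divisors 11, ∀ n ∈ Nat.divisors (11 - 1),
    n ≠ 1 → o / (a * n) % 11 = 1 % 11 → 5 ∣ n) _ (by simpa only [_root_.List.mem_cons, _root_.List.not_mem_nil, _root_.or_false] using h1) _ (Nat.mem_divisors.2 ⟨h4, by norm_num⟩) _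
    (Nat.mem_divisors.2 ⟨hn, by norm_num⟩) hn1 h3
  obtain ⟨v, hv, hne, j, hj⟩ := exists_qelt (cent_le_norm u) Nat.prime_five h2 h5
  obtain ⟨k, ρ, hρ, hk1, hk, hkρ, -⟩ := c.exists_inner hv hne hf hj
    (by rw [S2061.result]; exact Nat.Coprime.pow_left _ (by norm_num))
  have h6 := congrArg Subtype.val (pow_card_eq_one'
    (x := (⟨f k, mem_centralizer_singleton_iff.2 (hkρ u).symm⟩ : centralizer ({ρ u} : Set Spor.M12))))
  rw [hcent ρ hρ] at h6
  apply hk1
  rw [← pow_one (f k), ← show Nat.gcd (5 ^ j) 11 = 1 from Nat.Coprime.pow_left _ (by norm_num), pow_gcd_eq_one]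
  exact ⟨hk, h6⟩

/-- the class 7B -/
theorem m_sevenB (big : Big) (c : Core τ α β R R') {u : U} (hu : orderOf u = 7) {x : centralizer ({zz} : Set MG)}
    (hx : τ u = x) (hfr : fr (_root_.Cfsg.Agent.BpSpor.MBigModel.pi x) = 1) (hd : Nat.card (centralizer ({τ u} : Set MG)) ∣ 7 ^ 5 * 5040) : False := by
  have := BpSpor.MBigModel.finite
  have := c.simple
  have hU := card_mem big c.simple c.noncomm (l := [(2, 4), (3, 2), (5, 1), (7, 5)]) (N := 7 * (7 ^ 4 * 720))
    (by decide +kernel) (c.card_dvd_of (by norm_num) hu (hd.trans (by norm_num)))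
  have h1 := (by decide +kernel : ∀ o ∈ ords [(2, 4), (3, 2), (5, 1), (7, 5)] (7 * (7 ^ 4 * 720)), 4 ∣ o ∧ ¬ 16 ∣ o) _ hU
  obtain ⟨a, b, ha, hb, hne, hab⟩ := H362.IsoGroup.exists_four c.noncomm h1.1 h1.2
  obtain ⟨φ, hφ, hm⟩ := c.pair.copy
  have hx7 : x ^ 7 = 1 := Subtype.ext (by
    rw [coe_pow, ← hx, ← map_pow, ← hu, pow_orderOf_eq_one, map_one]; rfl)
  let ψ : U →* centralizer ({(x : MG)} : Set MG) := φ.codRestrict _ fun w => hx ▸ c.pair.le_cent u (hm w)
  have hψ : Function.Injective ψ := fun a b h => hφ (congrArg Subtype.val h)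
  refine hne (hψ (eq_of_isolated (z := LThreeMB.zD x) ?_
    (BpRankZero.Seven.only_zD MonsterX.KDone.lft LThreeB.Row.cent hx7 hfr) (by rw [orderOf_injective ψ hψ, ha])
    (by rw [orderOf_injective ψ hψ, hb]) (by rw [← map_mul, ← map_mul, hab.eq])))
  rw [← Subgroup.orderOf_coe]
  exact orderOf_zz

/-- the class 7A -/
theorem m_sevenA (big : Big) (c : Core τ α β R R') {u : U} (hu : orderOf u = 7) (e : XX (τ u) ≃* Spor.He) : False := by
  have := BpSpor.MBigModel.finite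
  have := c.simple
  have hu1 : u ≠ 1 := by
    rintro rfl
    rw [orderOf_one] at hu
    omega
  have h7 : 7 ∣ Nat.card U := hu ▸ _root_.orderOf_dvd_natCard u
  have hs : IsSimpleGroup Spor.He := S1695.result.1
  have hc : Nat.card Spor.He = 4030387200 := S1695.result.2
  have : Finite Spor.He := Nat.finite_of_card_ne_zero (by rw [hc]; norm_num)
  obtain ⟨f, hf, hfk⟩ := qs_of_XX e hs (not_comm_of_card hs (by rw [hc]; norm_num))
  obtain ⟨ρ₀, hρ₀⟩ := c.exists_rho hf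
  obtain ⟨g, hg, hreal, hU⟩ := OrdDiv.exists_good OrdDiv.table (big.cf U) (fun h => c.noncomm ⟨⟨h⟩⟩)
    (l := [(2, 10), (3, 3), (5, 2), (7, 3), (17, 1)]) (N := 4030387200) (by decide +kernel)
    (hc ▸ card_dvd_of_injective ρ₀ hρ₀)
  have hpsl : ∀ q, g = .psl 2 q → (q + 1) / Nat.gcd 2 (q - 1) ≠ 9 ∧ (q + 1) / Nat.gcd 2 (q - 1) ≠ 25 := by
    rintro q rfl
    obtain ⟨F, _, _, hF, ⟨e1⟩⟩ := hreal
    obtain ⟨y, hy⟩ := H363.PSL2Spec.exists_nonsplit hF
    rw [← hy, ← e1.symm.orderOf_eq, ← orderOf_injective ρ₀ hρ₀]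
    exact he_not_nine _
  rcases (by decide +kernel : ∀ g ∈ OrdDiv.cands [(2, 10), (3, 3), (5, 2), (7, 3), (17, 1)] 4030387200,
    7 ∣ OrdDiv.ordN g → g = .psl 2 8 ∨ g = .psl 2 49 ∨ OrdDiv.ordN g = 4030387200 ∨
      (OrdDiv.ordN g ∈ [168, 2520, 6048, 20160, 604800] ∧ (OrdDiv.ordN g = 604800 → g = .j2))) g hg (hU ▸ h7)
    with h1 | h1 | h1 | ⟨h1, hJ⟩
  · exact (hpsl 8 h1).1 (by norm_num)
  · exact (hpsl 49 h1).2 (by norm_num)
  · exact c.false_of_qs hu1 hf (by omega)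
  rw [← hU] at h1 hJ
  have h49 : ¬ 7 ^ 2 ∣ Nat.card U := (by decide +kernel : ∀ o ∈ [168, 2520, 6048, 20160, 604800], ¬ 7 ^ 2 ∣ o) _ h1
  obtain ⟨n, hn, hn1, h2, -, h3⟩ := H58.Cop.arith (by norm_num) hu h49 (by
    intro h4
    rw [h4] at h1
    norm_num at h1)
  by_cases h4 : 3 ∣ n
  · obtain ⟨v, hv, hne, j, hj⟩ := exists_qelt (cent_le_norm u) Nat.prime_three h2 h4
    have hco : (3 ^ j).Coprime 7 := Nat.Coprime.pow_left _ (by norm_num)
    obtain ⟨k, ρ, hρ, hk1, hk, hkρ, hkR⟩ := c.exists_inner hv hne hf hj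
      (by rw [S2075.result]; exact Nat.Coprime.pow_left _ (by norm_num))
    have h5 : Nat.card U ∣ 7560 := (card_dvd_of_injective (ρ.codRestrict _ fun a =>
      mem_centralizer_singleton_iff.2 (hkρ a)) fun a b h => hρ (congrArg Subtype.val h)).trans (he_three hk1 hk)
    obtain ⟨a, ha, ha'⟩ := c.pair.exists_act
    have h6 : ((k : MG) ^ 7) ^ 3 ^ j = 1 := by
      obtain ⟨i, hi⟩ := hfk (k ^ 3 ^ j) (by rw [map_pow, hk])
      have hi' : τ u ^ i = (k : MG) ^ 3 ^ j := hi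
      rw [← pow_mul, mul_comm, pow_mul, ← hi', ← zpow_natCast, ← zpow_mul, mul_comm, zpow_mul, zpow_natCast, ← map_pow,
        ← hu, pow_orderOf_eq_one, map_one, one_zpow]
    have h8 : a ⟨k ^ 7, pow_mem hkR 7⟩ ^ 3 ^ j = 1 := by
      rw [← map_pow, show (⟨k ^ 7, pow_mem hkR 7⟩ : centralizer (R : Set MG)) ^ 3 ^ j = 1 from Subtype.ext h6, map_one]
    have h9 : a ⟨k ^ 7, pow_mem hkR 7⟩ u = u := c.pair.inj (by
      rw [ha']
      have : Commute (k : MG) (τ u) := mem_centralizer_singleton_iff.1 (perf_le _ k.2)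
      change (k : MG) ^ 7 * τ u * ((k : MG) ^ 7)⁻¹ = τ u
      rw [(this.pow_left 7).eq, mul_inv_cancel_right])
    have h10 : a ⟨k ^ 7, pow_mem hkR 7⟩ = 1 := by
      rcases (by decide +kernel : ∀ o ∈ [168, 2520, 6048, 20160, 604800], o ∣ 7560 → o = 168 ∨ o = 2520) _ h1 h5
        with h11 | h11
      · exact aut_168m c.simple h11 h8 hco hu h9
      · exact aut_seven c.simple h11 h8 hco hu h9
    have h12 : (k : MG) ^ 7 = 1 := congrArg Subtype.val (ha (h10.trans (map_one a).symm))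
    have h11 : k ^ 7 = 1 := Subtype.ext h12
    apply hk1
    rw [← pow_one (f k), ← show Nat.gcd (3 ^ j) 7 = 1 from hco, pow_gcd_eq_one]
    exact ⟨hk, by rw [← map_pow, h11, map_one]⟩
  · obtain rfl : n = 2 := (by decide +kernel : ∀ n ∈ Nat.divisors (7 - 1), n ≠ 1 → ¬ 3 ∣ n → n = 2) n
      (Nat.mem_divisors.2 ⟨hn, by norm_num⟩) hn1 h4
    obtain ⟨v, hv, hne, -⟩ := exists_qelt (cent_le_norm u) Nat.prime_two h2 dvd_rfl
    have h5 : ((centralizer ({u} : Set U)).subgroupOf (normalizer ((zpowers u : Subgroup U) : Set U))).index = 2 := by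
      have h6 := card_mul_index ((centralizer ({u} : Set U)).subgroupOf (normalizer ((zpowers u : Subgroup U) : Set U)))
      rw [Nat.card_congr (subgroupOfEquivOfLe (cent_le_norm u)).toEquiv, h2] at h6
      exact Nat.eq_of_mul_eq_mul_left Nat.card_pos h6
    have h6 : v * v * u = u * (v * v) :=
      mem_centralizer_singleton_iff.1 (mem_subgroupOf.1 (mul_self_mem_of_index_two h5 ⟨v, hv⟩))
    obtain ⟨i, hi⟩ := (mem_powers_iff_mem_zpowers).2 (conj_mem_of_norm hv (mem_zpowers u))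
    have hi' : v * u * v⁻¹ = u ^ (i % 7) := by rw [← hu, pow_mod_orderOf]; exact hi.symm
    have h8 : u ^ (i % 7 * (i % 7)) = u ^ 1 := by
      rw [pow_mul, ← hi', conj_pow, ← hi', pow_one]
      calc v * (v * u * v⁻¹) * v⁻¹ = v * v * u * (v * v)⁻¹ := by group
        _ = u := by rw [h6, mul_inv_cancel_right]
    rw [pow_eq_pow_iff_modEq, hu] at h8
    have h9 : v * u * v⁻¹ = u⁻¹ := by
      rcases (by decide : ∀ m < 7, m * m ≡ 1 [MOD 7] → m = 1 ∨ m = 6) _ (Nat.mod_lt _ (by norm_num)) h8 with h9 | h9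
      · refine absurd (mem_centralizer_singleton_iff.2 ?_) hne
        calc v * u = v * u * v⁻¹ * v := by group
          _ = _ := by rw [hi', h9, pow_one]
      · rw [hi', h9]
        exact eq_inv_of_mul_eq_one_left (by rw [← pow_succ]; exact orderOf_dvd_iff_pow_eq_one.1 hu.dvd)
    have h10 := card_cent_dvd hρ₀ u
    rw [he_real (by rw [orderOf_injective ρ₀ hρ₀, hu])
      (isConj_iff.2 ⟨ρ₀ v, by rw [← map_inv, ← map_inv, ← map_mul, ← map_mul, h9]⟩)] at h10
    have h11 := (by decide +kernel : ∀ o ∈ [168, 2520, 6048, 20160, 604800], ∀ a ∈ Nat.divisors 1029, a ∣ o →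
      o / (a * 2) % 7 = 1 % 7 → o = 604800 ∧ a = 21) _ h1 _ (Nat.mem_divisors.2 ⟨h10, by norm_num⟩)
      (card_subgroup_dvd_card _) h3
    obtain rfl := hJ h11.1
    obtain ⟨e1⟩ := hreal
    have h12 := card_cent_dvd (f := e1.toMonoidHom) e1.injective u
    rw [H71.Tor.card_cent_j2_seven (by rw [orderOf_injective e1.toMonoidHom e1.injective, hu]), h11.2] at h12
    norm_num at h12

theorem two_dvd_card (c : Core τ α β R R') : 2 ∣ Nat.card U :=
  even_iff_two_dvd.1 (Nat.not_odd_iff_even.1 fun h => not_solvable c.simple c.noncomm (S0205.result h))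

theorem m_seven (big : Big) (c : Core τ α β R R') (h : 7 ∣ Nat.card U) : False := by
  have := BpSpor.MBigModel.finite
  obtain ⟨u, hu, -⟩ := Core.exists_orderOf (U := U) (r := 7) (by norm_num) h
  have hx : orderOf (τ u) = 7 := (c.pair.orderOf_eq u).trans hu
  have he := MSevenT.hex7 _ hx (((two_dvd_card c).mul_left _).trans (c.pair.order_mul_dvd' c.simple c.noncomm u))
  obtain ⟨g, hg⟩ := he
  have h1 : (g⁻¹ * τ u * g) * zz = zz * (g⁻¹ * τ u * g) := by
    calc (g⁻¹ * τ u * g) * zz = g⁻¹ * (τ u * (g * zz * g⁻¹)) * g := by group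
      _ = g⁻¹ * ((g * zz * g⁻¹) * τ u) * g := by rw [hg]
      _ = zz * (g⁻¹ * τ u * g) := by group
  obtain ⟨τ, α, β, R, R', c, h2⟩ := c.exists_conj (u := u) (x := g⁻¹ * τ u * g) (isConj_iff.2 ⟨g, by group⟩)
  obtain ⟨x, hx'⟩ : ∃ x : centralizer ({zz} : Set MG), τ u = x := ⟨⟨_, mem_centralizer_singleton_iff.2 h1⟩, h2⟩
  have hx : orderOf (τ u) = 7 := (c.pair.orderOf_eq u).trans hu
  have hxo : orderOf x = 7 := by rw [← Subgroup.orderOf_coe, ← hx', hx]
  rcases H537.TC.cases7 hx ⟨1, by rw [hx', one_mul, inv_one, mul_one]; exact (mem_centralizer_singleton_iff.1 x.2).symm⟩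
    with ⟨y, -, ⟨k, hk⟩, ⟨e⟩, -⟩ | h3
  · obtain ⟨-, ⟨e'⟩⟩ := LThreeMB.exists_XX_equiv hk
    exact m_sevenA big c hu (e'.trans e)
  rcases CpAutMSeven.Ranks.hranks (_root_.Cfsg.Agent.BpSpor.MBigModel.pi x) (MFive.orderOf_pi BpSpor.MBigModel.chart (by norm_num) (by decide) hxo)
    with h4 | h4
  · exact m_sevenB big c hu hx' h4 h3.dvd
  · obtain ⟨e⟩ := CpAutMSeven.ZeroComps.heSix x hxo h4
    exact m_sevenA big c hu (hx' ▸ e)

theorem rank7_m {L : Type} [Group L] (big : Big) (h : Spor.IsoM L) : Rank7 L := by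
  intro U _ _ hs hn f hf
  have := BpSpor.MBigModel.finite
  obtain ⟨e1⟩ := h
  obtain ⟨e2⟩ := MonsterP.Equiv.equiv
  obtain ⟨F, hF⟩ : ∃ F : (Fin 8 → U) →* MG, Function.Injective F :=
    ⟨(e1.trans e2).toMonoidHom.comp f, (e1.trans e2).injective.comp hf⟩
  have h1 := card_dvd_of_injective F hF
  rw [Nat.card_fun, Nat.card_fin, card_M] at h1
  have h2 := card_mem big hs hn (l := root [(2, 46), (3, 20), (5, 9), (7, 6), (11, 2), (13, 3), (17, 1), (19, 1), (23, 1),
    (29, 1), (31, 1), (41, 1), (47, 1), (59, 1), (71, 1)] 8) (N := 1440) (by decide +kernel)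
    ((dvd_root (l := [(2, 46), (3, 20), (5, 9), (7, 6), (11, 2), (13, 3), (17, 1), (19, 1), (23, 1),
      (29, 1), (31, 1), (41, 1), (47, 1), (59, 1), (71, 1)]) (by decide +kernel) (by norm_num) h1).trans
      (dvd_of_eq (by decide +kernel)))
  have h3 : 30 ∣ Nat.card U := (by decide +kernel : ∀ o ∈ ords (root [(2, 46), (3, 20), (5, 9), (7, 6), (11, 2), (13, 3),
    (17, 1), (19, 1), (23, 1), (29, 1), (31, 1), (41, 1), (47, 1), (59, 1), (71, 1)] 8) 1440, 30 ∣ o) _ h2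
  obtain ⟨u, hu, -⟩ := Core.exists_orderOf (U := U) (r := 5) (by norm_num) (Dvd.dvd.trans (by norm_num) h3)
  let i : (Fin 7 → U) →* (Fin 8 → U) :=
    { toFun := fun g => Fin.cons 1 g
      map_one' := by ext j; refine Fin.cases rfl (fun j => rfl) j
      map_mul' := fun a b => by ext j; refine Fin.cases (one_mul 1).symm (fun j => rfl) j }
  have hi : Function.Injective i := fun a b h => funext fun j => congrFun h j.succ
  have hx : orderOf (F (Pi.mulSingle 0 u)) = 5 := by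
    rw [orderOf_injective F hF, ← hu]
    exact orderOf_injective (MonoidHom.mulSingle (fun _ : Fin 8 => U) 0) (fun a b h => by
      simpa using congrFun h 0) u
  have h4 : Nat.card (Fin 7 → U) ∣ Nat.card (centralizer ({F (Pi.mulSingle 0 u)} : Set MG)) := by
    refine card_dvd_of_injective ((F.comp i).codRestrict _ fun a => mem_centralizer_singleton_iff.2 ?_)
      ((MonoidHom.injective_codRestrict _ _ _).2 (hF.comp hi))
    rw [MonoidHom.comp_apply, ← map_mul, ← map_mul]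
    refine congrArg F (funext fun j => ?_)
    refine Fin.cases ((one_mul _).trans (mul_one _).symm) (fun j => ?_) j
    rw [Pi.mul_apply, Pi.mul_apply, Pi.mulSingle_eq_of_ne (Fin.succ_ne_zero j), one_mul, mul_one]
  rw [Nat.card_fun, Nat.card_fin] at h4
  have h5 := (pow_dvd_pow_of_dvd h3 7).trans h4
  obtain ⟨n, hn1, hn2⟩ := SP.Mon.NL.cent_E big.cf Nat.prime_five (by norm_num) hx
    (Or.inr (Dvd.dvd.trans (by norm_num) h5))
  exact (by decide +kernel : ∀ p ∈ SP.Mon.NL.tabE, p.1 = 5 → ¬ 30 ^ 7 ∣ p.2) _ hn1 rfl (h5.trans hn2)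

end Cfsg.Agent.Cam.Spor
end
end

-- part: Cam/Spor/RowM
section
prune_inst 0x420103824010010000000001080000000400000900000880000000a4002002200000200000c8001000002800000000000008800000000000000000000000400001020020000400000000000003082100000000000000000000000000000000000000000000
set_option linter.all false
open scoped Cfsg.Agent.FastGrp

-- part: Cam/Spor/MRefl
section
/-!
# S3689, S3690: the `2A`-involutions of the Monster inverting an element of order five (helper95)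
-/

set_option autoImplicit false

namespace Cfsg.Agent.Cam.Spor

open Cfsg Subgroup
open Cfsg.Agent.H816.MSch Cfsg.Agent.H816.IMEig
open Cfsg.Agent.H816.M23.Tx Cfsg.Agent.H816.M23.Inst Cfsg.Agent.H816.M23.Main
open Cfsg.Agent.BpSpor.MBigModel (MG)
open Cfsg.Agent.LThreeB.Row (TA)
open Cfsg.Agent.H136.M23.BWords (xu)

/-- the `2A`-involution `s` inverts the element `p` of order five -/
structure Rf (s p : MG) : Prop where
  ta : TA s
  ord : orderOf p = 5
  inv : s * p * s⁻¹ = p⁻¹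

variable {s s' p : MG}

theorem Rf.sq (h : Rf s p) : s * s = 1 := SP.Mon.NL.ta_sq h.ta

theorem Rf.inv_eq (h : Rf s p) : s⁻¹ = s := (inv_eq_of_mul_eq_one_left h.sq :)

theorem Rf.five (h : Rf s p) (i : ℤ) : (p ^ i) ^ 5 = 1 := by
  rw [← zpow_natCast, ← zpow_mul, mul_comm, zpow_mul, zpow_natCast, ← h.ord, pow_orderOf_eq_one, one_zpow]

theorem Rf.inv_zpow (h : Rf s p) (i : ℤ) : s * p ^ i * s⁻¹ = (p ^ i)⁻¹ := by rw [← conj_zpow, h.inv, _root_.inv_zpow]

theorem Rf.conj (h : Rf s p) (g : MG) : Rf (g * s * g⁻¹) (g * p * g⁻¹) where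
  ta := SP.Mon.NL.ta_conj h.ta g
  ord := h.ord ▸ (MulAut.conj g).orderOf_eq p
  inv := by
    calc g * s * g⁻¹ * (g * p * g⁻¹) * (g * s * g⁻¹)⁻¹ = g * (s * p * s⁻¹) * g⁻¹ := by group
      _ = _ := by rw [h.inv]; group

theorem Rf.conj_eq (h : Rf s p) (i : ℤ) : p ^ i * s * (p ^ i)⁻¹ = s * p ^ (-(2 * i)) := by
  calc p ^ i * s * (p ^ i)⁻¹ = (p ^ i * s * p ^ i * s⁻¹) * s * (p ^ i)⁻¹ * (p ^ i)⁻¹ := by group
    _ = _ := by rw [mul_assoc (p ^ i), mul_assoc (p ^ i), h.inv_zpow]; group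

theorem Rf.mul (h : Rf s p) (i : ℤ) : Rf (s * p ^ i) p where
  ta := by
    have h1 := SP.Mon.NL.ta_conj h.ta (p ^ (2 * i))
    rw [h.conj_eq] at h1
    have h2 : p ^ (-(2 * (2 * i))) = p ^ i := by
      calc p ^ (-(2 * (2 * i))) = p ^ i * ((p ^ i) ^ 5)⁻¹ := by group
        _ = _ := by rw [h.five, inv_one, mul_one]
    rwa [h2] at h1
  ord := h.ord
  inv := by
    calc s * p ^ i * p * (s * p ^ i)⁻¹ = s * p * s⁻¹ := by group
      _ = _ := h.inv

theorem Rf.of_zpow (h : Rf s p) {q : MG} (hq : orderOf q = 5) {i : ℤ} (e : q = p ^ i) : Rf s q :=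
  ⟨h.ta, hq, by rw [e, h.inv_zpow]⟩

theorem Rf.eq_one (h : Rf s p) {i : ℤ} (e : p ^ i * s = s * p ^ i) : p ^ i = 1 := by
  have h1 := h.inv_zpow i
  rw [← e, mul_inv_cancel_right] at h1
  refine eq_one_of_coprime (a := 2) (b := 5) (by norm_num) ?_ (h.five i)
  rw [pow_two]
  nth_rewrite 1 [h1]
  exact inv_mul_cancel _

theorem Rf.not_comm (h : Rf s p) : p * s ≠ s * p := fun e => by
  have h1 := h.eq_one (i := 1) (by rwa [zpow_one])
  have h2 := h.ord
  rw [zpow_one] at h1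
  rw [h1, orderOf_one] at h2
  omega

theorem Rf.col (h : Rf s p) : ∃ y y' : XT, s = tX y ∧ s * p = tX y' ∧ tX y * tX y' = p ∧ c y y' = 7 := by
  obtain ⟨y, hy⟩ := (ta_iff _).1 h.ta
  obtain ⟨y', hy'⟩ := (ta_iff _).1 (h.mul 1).ta
  rw [zpow_one] at hy'
  have h1 : tX y * tX y' = p := by rw [← hy, ← hy', ← mul_assoc, h.sq, one_mul]
  refine ⟨y, y', hy, hy', h1, five_col ax (by rw [h1, ← h.ord, pow_orderOf_eq_one]) fun h2 => ?_⟩
  have h3 := h.ord
  rw [← h1, h2, orderOf_one] at h3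
  omega

theorem Rf.card (h : Rf s p) : Nat.card (centralizer ({p} : Set MG)) = 5 * 273030912000000 := by
  obtain ⟨y, y', -, -, h1, h2⟩ := h.col
  rw [← h1, cent_seven h2]

theorem Rf.sd (h : Rf s p) : SD p s (centralizer ({s} : Set MG) ⊓ centralizer ({p} : Set MG)) := by
  have := BpSpor.MBigModel.finite
  obtain ⟨y, y', hy, hy', -, h2⟩ := h.col
  have h3 := card_st y y'
  have h4 : MulAction.stabilizer MG ((y, y') : XT × XT) = centralizer ({s} : Set MG) ⊓ centralizer ({p} : Set MG) := by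
    ext g
    rw [MulAction.mem_stabilizer_iff, Prod.smul_mk, Prod.mk.injEq, fix_iff, fix_iff, mem_inf,
      mem_centralizer_singleton_iff, mem_centralizer_singleton_iff, ← hy, ← hy']
    refine and_congr_right fun h5 => ?_
    rw [← mul_assoc, h5, mul_assoc, mul_assoc, mul_right_inj]
  rw [h2, h4] at h3
  have h5 : Nat.card (centralizer ({s} : Set MG) ⊓ centralizer ({p} : Set MG) : Subgroup MG) *
    (97239461142009186000 * 30434513446055706624) = 808017424794512875886459904961710757005754368000000000 := h3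
  have hc : ∀ a ∈ zpowers p, ∀ b ∈ centralizer ({s} : Set MG) ⊓ centralizer ({p} : Set MG), a * b = b * a :=
    fun a ha b hb => (zpowers_comm a ha b hb.2).symm
  have h6 := card_mul_dvd_sup hc (by
    rintro _ ⟨i, rfl⟩ hi
    exact h.eq_one (mem_centralizer_singleton_iff.1 hi.1))
  have h7 : zpowers p ⊔ centralizer ({s} : Set MG) ⊓ centralizer ({p} : Set MG) = centralizer ({p} : Set MG) := by
    refine eq_of_le_of_card_ge (sup_le ((zpowers_le).2 (mem_centralizer_singleton_iff.2 rfl)) inf_le_right) ?_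
    have h8 := Nat.le_of_dvd Nat.card_pos h6
    rw [Nat.card_zpowers, h.ord] at h8
    rw [h.card]
    omega
  refine ⟨fun g hg => ?_, inf_le_right, h.sq, h.inv, fun k hk => mem_centralizer_singleton_iff.1 hk.1⟩
  obtain ⟨_, ⟨i, rfl⟩, k, hk, rfl⟩ := mem_sup_of_comm hc (h7 ▸ mem_centralizer_singleton_iff.2 hg)
  exact ⟨i, k, hk, rfl⟩

theorem Rf.split (h : Rf s p) {g : MG} (hg : g * p = p * g) :
    ∃ (i : ℤ) (k : MG), k * s = s * k ∧ k * p = p * k ∧ g = p ^ i * k := by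
  obtain ⟨i, k, hk, e⟩ := h.sd.split g hg
  exact ⟨i, k, mem_centralizer_singleton_iff.1 hk.1, mem_centralizer_singleton_iff.1 hk.2, e⟩

theorem Rf.uniq (h : Rf s p) (h' : Rf s' p) : ∃ i : ℤ, s' = s * p ^ i := by
  obtain ⟨y, y', hy, hy', h1, h2⟩ := h.col
  obtain ⟨z, z', hz, hz', h3, h4⟩ := h'.col
  obtain ⟨g, g1, g2⟩ := c_tr y y' z z' (h2.trans h4.symm)
  have h5 : g * p = p * g := by
    rw [← g1, ← g2, tX_smul, tX_smul] at h3
    calc g * p = g * tX y * g⁻¹ * (g * tX y' * g⁻¹) * g := by rw [← h1]; group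
      _ = _ := by rw [h3]
  obtain ⟨i, k, k1, -, rfl⟩ := h.split h5
  refine ⟨-(2 * i), ?_⟩
  rw [hz, ← g1, tX_smul, ← hy, ← h.conj_eq]
  calc p ^ i * k * s * (p ^ i * k)⁻¹ = p ^ i * (k * s) * k⁻¹ * (p ^ i)⁻¹ := by group
    _ = _ := by rw [k1]; group

theorem Rf.comm_of_sq (h : Rf s p) {g : MG} (hg : g * p = p * g) (h2 : g * g = 1) : g * s = s * g := by
  obtain ⟨i, k, k1, k2, rfl⟩ := h.split hg
  have h3 : Commute k (p ^ i) := (show Commute k p from k2).zpow_right i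
  have h4 : p ^ (2 * i) = (k * k)⁻¹ := by
    refine eq_inv_of_mul_eq_one_left ?_
    calc p ^ (2 * i) * (k * k) = p ^ i * (p ^ i * k) * k := by group
      _ = 1 := by rw [← h3.eq, ← h2]; group
  have h5 : p ^ (2 * i) = 1 := h.eq_one (by
    rw [h4]
    exact (((show Commute k s from k1).mul_left k1).inv_left).eq)
  have h6 : p ^ i = 1 := eq_one_of_coprime (a := 2) (b := 5) (by norm_num)
    (by rw [← h5, ← zpow_natCast, ← zpow_mul, mul_comm]; rfl) (h.five i)
  rw [h6, one_mul, k1]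

theorem Rf.comm (h : Rf s p) (h' : Rf s' p) {g : MG} (hg : g * p = p * g) (hs : g * s = s * g) : g * s' = s' * g := by
  obtain ⟨i, rfl⟩ := h.uniq h'
  exact ((show Commute g s from hs).mul_right ((show Commute g p from hg).zpow_right i)).eq

/-- the class `5A` by the order of the centralizer -/
theorem isConj_xu {x : MG} (hx : orderOf x = 5) (h : 38 ∣ Nat.card (centralizer ({x} : Set MG))) : IsConj (xu : MG) x := by
  obtain ⟨x₀, h1, h2⟩ := TAB.M5.exists_zero
  obtain ⟨t, ht, htx⟩ := SP.Mon.NL.exists_inv (Dvd.dvd.trans (by norm_num) h)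
  refine (TAB.M5.five_cases h1 h2 hx (H58.MonThirteen.ev_five hx ht htx.symm)).resolve_right fun h3 => ?_
  rw [TAB.M5.card_cent_conj h3] at h
  exact absurd (h.trans (H58.MonFiveB.card_dvd h1 h2)) (by norm_num)

theorem exists_rf {x : MG} (hx : IsConj (xu : MG) x) : ∃ s, Rf s x := by
  have h1 : Nat.card {y // c b0 y = 7} = 30434513446055706624 := kk b0 7
  obtain ⟨y, hy⟩ := (Nat.card_pos_iff.1 (by rw [h1]; norm_num : 0 < Nat.card {y // c b0 y = 7})).1
  have ho : orderOf (tX b0 * tX y) = 5 := ord_eq (by rw [hy]; decide) Nat.prime_five (ax.seven _ _ hy)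
  have h2 : Rf (tX b0) (tX b0 * tX y) := ⟨ta_b0, ho, by
    rw [mul_inv_rev, ← mul_assoc, tX_sq, one_mul, inv_eq_of_mul_eq_one_left ((tX_sq y :))]⟩
  obtain ⟨g, hg⟩ := isConj_iff.1 ((isConj_xu ho (by rw [h2.card]; norm_num)).symm.trans hx)
  exact ⟨_, hg ▸ h2.conj g⟩

end Cfsg.Agent.Cam.Spor
end

-- part: Cam/Spor/MSix
section
/-!
# S3689, S3690: data in `A₆` for the row M (helper95)
-/

set_option autoImplicit false

namespace Cfsg.Agent.Cam.Spor

open Cfsg Subgroup Equiv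

/-- the elements of `A₆` that are used -/
structure A6Dat {U : Type} [Group U] (u v c : U) : Prop where
  hu : orderOf u = 5
  hv : v * v = 1
  hvu : v * u * v⁻¹ = u⁻¹
  cc : c * c = v
  root : ∀ g, g * g = v → g = c ∨ g = c⁻¹
  gen : ∀ D : Subgroup U, u ∈ D → c ∈ D → D = ⊤
  cls : ∀ g, g * g = 1 → g ≠ 1 → IsConj v g

theorem A6Dat.map {U V : Type} [Group U] [Group V] {u v c : U} (d : A6Dat u v c) (e : U ≃* V) :
    A6Dat (e u) (e v) (e c) where
  hu := by rw [e.orderOf_eq, d.hu]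
  hv := by rw [← map_mul, d.hv, map_one]
  hvu := by rw [← map_inv, ← map_inv, ← map_mul, ← map_mul, d.hvu]
  cc := by rw [← map_mul, d.cc]
  root g hg := by
    obtain ⟨g, rfl⟩ := e.surjective g
    rcases d.root g (e.injective (by rw [map_mul, hg])) with h | h
    · exact Or.inl (by rw [h])
    · exact Or.inr (by rw [h, map_inv])
  gen D hu hc := by
    have h := d.gen (D.comap e.toMonoidHom) hu hc
    refine eq_top_iff.2 fun g _ => ?_
    obtain ⟨g, rfl⟩ := e.surjective g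
    exact (h ▸ mem_top g : g ∈ D.comap e.toMonoidHom)
  cls g hg hg1 := by
    obtain ⟨g, rfl⟩ := e.surjective g
    exact e.toMonoidHom.map_isConj (d.cls g (e.injective (by rw [map_mul, hg, map_one])) fun h => hg1 (by
      rw [h, map_one]))

theorem a6_root : ∀ g : Perm (Fin 6), g * g = c[(1 : Fin 6), 4] * c[(2 : Fin 6), 3] → g = c[(1 : Fin 6), 2, 4, 3] * c[(0 : Fin 6), 5] ∨
    g = (c[(1 : Fin 6), 2, 4, 3] * c[(0 : Fin 6), 5])⁻¹ ∨ g = c[(1 : Fin 6), 2, 4, 3] ∨ g = c[(1 : Fin 6), 3, 4, 2] := by (set_option synthInstance.maxSize 9000 in open scoped Cfsg.Agent.Lib.FastPerm in decide +kernel)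

theorem a6Dat_alt : ∃ u v c : alternatingGroup (Fin 6), A6Dat u v c := by
  have : Fact (Nat.Prime 5) := ⟨by norm_num⟩
  have : Fact (Nat.Prime 3) := ⟨by norm_num⟩
  let u : alternatingGroup (Fin 6) := ⟨c[(0 : Fin 6), 1, 2, 3, 4], Perm.mem_alternatingGroup.2 (by decide +kernel)⟩
  let v : alternatingGroup (Fin 6) := ⟨c[(1 : Fin 6), 4] * c[(2 : Fin 6), 3], Perm.mem_alternatingGroup.2 (by decide +kernel)⟩
  let c : alternatingGroup (Fin 6) := ⟨c[(1 : Fin 6), 2, 4, 3] * c[(0 : Fin 6), 5], Perm.mem_alternatingGroup.2 (by decide +kernel)⟩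
  have hu : orderOf u = 5 := orderOf_eq_prime (by decide +kernel) (by decide +kernel)
  have hvv : v * v = 1 := by decide +kernel
  refine ⟨u, v, c, hu, hvv, by decide +kernel, by decide +kernel, fun g hg => ?_, fun D hD hc => ?_, fun g hg hg1 =>
    (H154.ASix.isConj_t0 v (by decide +kernel) hvv).symm.trans (H154.ASix.isConj_t0 g hg1 hg)⟩
  · have h1 := Perm.mem_alternatingGroup.1 g.2
    rcases a6_root g (congrArg Subtype.val hg) with h | h | h | h
    · exact Or.inl (Subtype.ext h)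
    · exact Or.inr (Subtype.ext h)
    · rw [h] at h1
      exact absurd h1 (by decide +kernel)
    · rw [h] at h1
      exact absurd h1 (by decide +kernel)
  · have hs : IsSimpleGroup (alternatingGroup (Fin 6)) :=
      alternatingGroup.isSimpleGroup (by rw [Nat.card_eq_fintype_card, Fintype.card_fin]; norm_num)
    have hcard : Nat.card (alternatingGroup (Fin 6)) = 360 := by
      rw [nat_card_alternatingGroup, Nat.card_eq_fintype_card, Fintype.card_fin]
      rfl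
    have hp : orderOf (c * c * u * c * u * u * c) = 3 := orderOf_eq_prime (by decide +kernel) (by decide +kernel)
    have hq : orderOf (u * c * c * c * u * c * u * u) = 3 := orderOf_eq_prime (by decide +kernel) (by decide +kernel)
    have hpq : Commute (c * c * u * c * u * u * c) (u * c * c * c * u * c * u * u) := by
      unfold Commute SemiconjBy
      decide +kernel
    have h1 := card_mul_dvd_sup (A := zpowers (c * c * u * c * u * u * c)) (B := zpowers (u * c * c * c * u * c * u * u))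
      (by
        rintro _ ⟨i, rfl⟩ _ ⟨j, rfl⟩
        exact (hpq.zpow_zpow i j).eq) (by
        rintro _ ⟨i, rfl⟩ ⟨j, hj⟩
        have h2 := congrArg (fun g : alternatingGroup (Fin 6) => (g : Perm (Fin 6)) 1) hj
        have h3 : ∀ k : ℤ, ((c * c * u * c * u * u * c) ^ k : alternatingGroup (Fin 6)).1 1 = 1 := fun k =>
          Perm.zpow_apply_eq_self_of_apply_eq_self (by decide +kernel) k
        have h4 : ∀ k < 3, ((u * c * c * c * u * c * u * u) ^ k : alternatingGroup (Fin 6)).1 1 = 1 → k = 0 := by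
          decide +kernel
        obtain ⟨k, hk⟩ := (mem_powers_iff_mem_zpowers).2 (⟨j, rfl⟩ : _ ∈ zpowers (u * c * c * c * u * c * u * u))
        have hk' : (u * c * c * c * u * c * u * u) ^ (k % 3) = (u * c * c * c * u * c * u * u) ^ j := by
          rw [← hq, pow_mod_orderOf]; exact hk
        have h5 := h4 _ (Nat.mod_lt k (by norm_num)) (by rw [hk']; exact h2.trans (h3 i))
        rw [h5, pow_zero] at hk'
        exact hj.symm.trans hk'.symm)
    rw [Nat.card_zpowers, Nat.card_zpowers, hp, hq] at h1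
    have h2 : 3 * 3 ∣ Nat.card D := h1.trans (card_dvd_of_le (sup_le ((zpowers_le).2
      (D.mul_mem (D.mul_mem (D.mul_mem (D.mul_mem (D.mul_mem (D.mul_mem hc hc) hD) hc) hD) hD) hc)) ((zpowers_le).2
      (D.mul_mem (D.mul_mem (D.mul_mem (D.mul_mem (D.mul_mem (D.mul_mem (D.mul_mem hD hc) hc) hc) hD) hc) hD) hD))))
    have h3 : 5 ∣ Nat.card D := hu ▸ Subgroup.orderOf_dvd_natCard D hD
    have h4 : 2 ∣ Nat.card D := by
      have : Fact (Nat.Prime 2) := ⟨by norm_num⟩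
      rw [← show orderOf (c * c) = 2 from orderOf_eq_prime (by decide +kernel) (by decide +kernel)]
      exact Subgroup.orderOf_dvd_natCard D (mul_mem hc hc)
    have h5 : 0 < Nat.card D := Nat.card_pos
    refine top_le_iff.1 (le_of_card_lt (C := ⊤) (commutator_top hs fun h => ?_) le_rfl le_top ?_)
    · exact absurd (h.is_comm.comm u c) (by decide +kernel)
    · rw [card_top, hcard]
      (clear * - h2 h3 h4 h5; omega)

theorem exists_a6Dat {U : Type} [Group U] [Finite U] (hs : IsSimpleGroup U) (h : Nat.card U = 360) :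
    ∃ u v c : U, A6Dat u v c := by
  obtain ⟨e⟩ := S0497.result h
  obtain ⟨u, v, c, d⟩ := a6Dat_alt
  exact ⟨_, _, _, d.map e.symm⟩

end Cfsg.Agent.Cam.Spor
end

-- part: Cam/Spor/MFiveA
section
/-!
# S3689, S3690: the row M, the class `5A` (helper95)
-/

set_option autoImplicit false

namespace Cfsg.Agent.Cam.Spor

open Cfsg Subgroup Cfsg.Agent.TwoFusion.PerfCore
open Cfsg.Agent.BpSpor.MBigModel (MG)
open Cfsg.Agent.LThreeB.Row (TA)
open Cfsg.Agent.H136.M23.BWords (xu)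

theorem Rf.of_mem {s p q : MG} (h : Rf s p) (hq : orderOf q = 5) {i : ℤ} (e : p = q ^ i) : Rf s q := by
  have := BpSpor.MBigModel.finite
  have h1 : zpowers p = zpowers q := eq_of_le_of_card_ge ((zpowers_le).2 ⟨i, e.symm⟩)
    (by rw [Nat.card_zpowers, Nat.card_zpowers, hq, h.ord])
  obtain ⟨j, hj⟩ : q ∈ zpowers p := h1 ▸ mem_zpowers q
  exact h.of_zpow hq hj.symm

theorem zpow_congr_five {G : Type} [Group G] {y : G} (hy : y ^ 5 = 1) {a b : ℤ} (h : a % 5 = b % 5) : y ^ a = y ^ b := by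
  rw [zpow_eq_zpow_emod' a hy, zpow_eq_zpow_emod' b hy]
  exact congrArg _ h

/-- the reflections of the elementary abelian group `⟨x, w⟩` -/
theorem exists_refl {σ k σ' x w a b : MG} {j : ℤ} (hσ : Rf σ x) (hk : Rf k w) (hσ' : Rf σ' a) (hb : orderOf b = 5)
    (hxw : Commute x w) (hσw : Commute σ w) (hkx : Commute k x) (hσk : Commute σ k) (hσb : Commute σ' b)
    (ha : a = x ^ j * w) (hab : x = a * b) (hj : j = 2 ∨ j = 3 ∨ j = 4) :
    ∃ r₁ r₂ e, Rf r₁ a ∧ Rf r₂ b ∧ (∃ m n : ℤ, e = x ^ m * w ^ n) ∧ (r₁ * r₂ = σ * k * e ∨ r₂ * r₁ = σ * k * e) := by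
  have x5 : x ^ 5 = 1 := by rw [← hσ.ord, pow_orderOf_eq_one]
  have w5 : w ^ 5 = 1 := by rw [← hk.ord, pow_orderOf_eq_one]
  have mul : ∀ m n m' n' : ℤ, x ^ m * w ^ n * (x ^ m' * w ^ n') = x ^ (m + m') * w ^ (n + n') := fun m n m' n' => by
    rw [zpow_add, zpow_add, mul_assoc, ← mul_assoc (w ^ n), ← (hxw.zpow_zpow m' n).eq]
    group
  have pw : ∀ m n i : ℤ, (x ^ m * w ^ n) ^ i = x ^ (m * i) * w ^ (n * i) := fun m n i => by
    rw [(hxw.zpow_zpow m n).mul_zpow, zpow_mul, zpow_mul]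
  have ha' : a = x ^ j * w ^ (1 : ℤ) := by rw [ha, zpow_one]
  have hb' : b = x ^ (1 - j) * w ^ (-1 : ℤ) := by
    have h1 : b = a ^ (-1 : ℤ) * (x ^ (1 : ℤ) * w ^ (0 : ℤ)) := by rw [hab]; group
    rw [h1, ha', pw, mul]
    congr 2 <;> ring
  have cσ : ∀ m n : ℤ, σ * (x ^ m * w ^ n) * σ⁻¹ = x ^ (-m) * w ^ n := fun m n => by
    calc σ * (x ^ m * w ^ n) * σ⁻¹ = σ * x ^ m * σ⁻¹ * (σ * w ^ n) * σ⁻¹ := by group
      _ = _ := by rw [hσ.inv_zpow, (hσw.zpow_right n).eq]; group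
  have ck : ∀ m n : ℤ, k * (x ^ m * w ^ n) * k⁻¹ = x ^ m * w ^ (-n) := fun m n => by
    calc k * (x ^ m * w ^ n) * k⁻¹ = (k * x ^ m) * k⁻¹ * (k * w ^ n * k⁻¹) := by group
      _ = _ := by rw [hk.inv_zpow, (hkx.zpow_right m).eq]; group
  have cx : σ' * x * σ'⁻¹ = x ^ (1 - 2 * j) * w ^ (-2 : ℤ) := by
    calc σ' * x * σ'⁻¹ = σ' * a * σ'⁻¹ * (σ' * b) * σ'⁻¹ := by rw [hab]; group
      _ = a ^ (-1 : ℤ) * b := by rw [hσ'.inv, hσb.eq]; group
      _ = _ := by
        rw [hb', ha', pw, mul]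
        congr 2 <;> ring
  have cw : σ' * w * σ'⁻¹ = x ^ (2 * j * j - 2 * j) * w ^ (2 * j - 1) := by
    calc σ' * w * σ'⁻¹ = (σ' * x * σ'⁻¹) ^ (-j) * (σ' * a * σ'⁻¹) := by rw [conj_zpow, ha]; group
      _ = _ := by
        rw [cx, hσ'.inv, ← zpow_neg_one, ha', pw, pw, mul]
        congr 2 <;> ring
  have cg : ∀ m n m' n' : ℤ, m % 5 = m' % 5 → n % 5 = n' % 5 → x ^ m * w ^ n = x ^ m' * w ^ n' :=
    fun m n m' n' h1 h2 => by rw [zpow_congr_five x5 h1, zpow_congr_five w5 h2]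
  -- the conjugate of `σ k` by `σ σ'`
  have hg : ∃ m n : ℤ, σ * σ' * σ * (σ * σ')⁻¹ * (σ * σ' * k * (σ * σ')⁻¹) = σ * k * (x ^ m * w ^ n) := by
    have h2 : σ * k * a * (σ * k)⁻¹ = a ^ (-1 : ℤ) := by
      calc σ * k * a * (σ * k)⁻¹ = σ * (k * a * k⁻¹) * σ⁻¹ := by group
        _ = _ := by
          rw [ha', ck, cσ, pw]
          congr 2
          ring
    have h3 : (σ * k)⁻¹ * a * (σ * k)⁻¹⁻¹ = a ^ (-1 : ℤ) := by
      calc (σ * k)⁻¹ * a * (σ * k)⁻¹⁻¹ = (σ * k)⁻¹ * (a ^ (-1 : ℤ))⁻¹ * (σ * k) := by group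
        _ = _ := by nth_rewrite 1 [← h2]; group
    obtain ⟨l, hl⟩ := hσ'.uniq ((hσ'.conj (σ * k)⁻¹).of_mem hσ'.ord h3)
    refine ⟨-(j * -l), 1 * -l, ?_⟩
    rw [← cσ, ← pw, ← ha']
    calc σ * σ' * σ * (σ * σ')⁻¹ * (σ * σ' * k * (σ * σ')⁻¹)
        = σ * (σ * k) * ((σ * k)⁻¹ * σ' * (σ * k)⁻¹⁻¹ * σ'⁻¹) * σ⁻¹ := by group
      _ = σ * (k * σ) * a ^ (-l) * σ⁻¹ := by rw [hl, hσ'.inv_zpow, hσk.eq, zpow_neg]
      _ = _ := by group
  have gx : σ * σ' * x * (σ * σ')⁻¹ = x ^ (-(1 - 2 * j)) * w ^ (-2 : ℤ) := by rw [← cσ, ← cx]; group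
  have gw : σ * σ' * w * (σ * σ')⁻¹ = x ^ (-(2 * j * j - 2 * j)) * w ^ (2 * j - 1) := by rw [← cσ, ← cw]; group
  rcases hj with rfl | rfl | rfl
  · obtain ⟨m, n, h⟩ := hg
    refine ⟨_, _, _, (hk.conj (σ * σ')).of_mem hσ'.ord (i := 3) ?_, (hσ.conj (σ * σ')).of_mem hb (i := 2) ?_,
      ⟨m, n, rfl⟩, Or.inr h⟩
    · rw [gw, ha', pw]
      exact cg _ _ _ _ (by norm_num) (by norm_num)
    · rw [gx, hb', pw]
      exact cg _ _ _ _ (by norm_num) (by norm_num)
  · obtain ⟨i, hi⟩ := hk.uniq ((hσ.conj σ').of_mem hk.ord (i := -2) (by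
      rw [cx, zpow_congr_five x5 (b := 0) (by norm_num), zpow_zero, one_mul]))
    refine ⟨σ', _, _, hσ', (hσ'.conj σ).of_mem hb (i := -1) ?_, ⟨0, i, rfl⟩, Or.inl ?_⟩
    · rw [ha', cσ, hb', pw]
      exact cg _ _ _ _ (by norm_num) (by norm_num)
    · calc σ' * (σ * σ' * σ⁻¹) = σ' * σ * σ'⁻¹ * σ := by rw [hσ'.inv_eq, hσ.inv_eq]; group
        _ = k * (w ^ i * σ) := by rw [hi, mul_assoc]
        _ = _ := by rw [← (hσw.zpow_right i).eq, ← mul_assoc, hσk.eq, zpow_zero, one_mul]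
  · obtain ⟨m, n, h⟩ := hg
    refine ⟨_, _, _, (hσ.conj (σ * σ')).of_mem hσ'.ord (i := 3) ?_, (hk.conj (σ * σ')).of_mem hb (i := 3) ?_,
      ⟨m, n, rfl⟩, Or.inl h⟩
    · rw [gx, ha', pw]
      exact cg _ _ _ _ (by norm_num) (by norm_num)
    · rw [gw, hb', pw]
      exact cg _ _ _ _ (by norm_num) (by norm_num)

/-- the decomposition of an involution inverting `p` -/
theorem Rf.exists_dec {s p t : MG} (h : Rf s p) (ht : t * p * t⁻¹ = p⁻¹) :
    ∃ (i : ℤ) (k : MG), Commute k (s * p ^ i) ∧ Commute k p ∧ t = s * p ^ i * k ∧ k * k = t * t := by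
  obtain ⟨i, k, k1, k2, e⟩ := h.split (g := s⁻¹ * t) (by
    calc s⁻¹ * t * p = s⁻¹ * (t * p * t⁻¹) * t := by group
      _ = _ := by rw [ht, ← h.inv]; group)
  have h1 : Commute k (s * p ^ i) := (show Commute k s from k1).mul_right ((show Commute k p from k2).zpow_right i)
  have h2 : t = s * p ^ i * k := by rw [mul_assoc, ← e, mul_inv_cancel_left]
  refine ⟨i, k, h1, k2, h2, ?_⟩
  rw [h2, mul_assoc, ← mul_assoc k, h1.eq, ← mul_assoc, ← mul_assoc, (h.mul i).sq, one_mul]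

variable {U : Type} [Group U] [Finite U] {τ α β : U →* MG} {R R' : Subgroup MG}

theorem m_sixA (c : Core τ α β R R') (hU : Nat.card U = 360) {u v r : U} (d : A6Dat u v r) (hx : IsConj (xu : MG) (τ u)) :
    False := by
  have := BpSpor.MBigModel.finite
  have : Fact (Nat.Prime 5) := ⟨Nat.prime_five⟩
  have hne := not_comm_of_inv d.hu d.hvu
  have hu1 : u ≠ 1 := fun h => hne (by rw [h, one_mul, mul_one])
  have hinv : ∀ f : U →* MG, f v * f u * (f v)⁻¹ = (f u)⁻¹ := fun f => by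
    rw [← map_inv, ← map_inv, ← map_mul, ← map_mul, d.hvu]
  have hsq : ∀ f : U →* MG, f v * f v = 1 := fun f => by rw [← map_mul, d.hv, map_one]
  obtain ⟨s, hs⟩ := exists_rf hx
  obtain ⟨-, k, hk, hk2, hkR, i, hi⟩ := c.exists_k hs.sd d.hv d.hvu hne
  have hσ := hs.mul i
  have hkx : Commute k (τ u) := mem_centralizer_singleton_iff.1 hk.2
  have hσk : Commute (s * τ u ^ i) k :=
    ((show Commute k s from mem_centralizer_singleton_iff.1 hk.1).mul_right (hkx.zpow_right i)).symm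
  generalize s * τ u ^ i = σ at hi hσ hσk
  have hkk : k * k = 1 := by rw [← pow_two, ← hk2, pow_orderOf_eq_one]
  -- `k` lies in `2A`
  have hkT : TA k := by
    have hkC : k ∈ centralizer (R : Set MG) := mem_centralizer_iff.2 fun y hy => (hkR y hy).symm
    obtain ⟨a, -, ha⟩ := c.pair.exists_act
    have h1 : ∀ g, k * τ g = τ g * k → a ⟨k, hkC⟩ g = g := fun g hg => c.pair.inj (by
      rw [ha]
      change k * τ g * k⁻¹ = τ g
      rw [hg, mul_inv_cancel_right])
    have h2 := h1 v (by rw [hi, ← mul_assoc, ← hσk.eq])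
    rcases d.root (a ⟨k, hkC⟩ r) (by rw [← map_mul, d.cc, h2]) with h3 | h3
    · have h4 := d.gen ((a ⟨k, hkC⟩).toMonoidHom.eqLocus (MonoidHom.id U)) (h1 u hkx) h3
      rw [c.pair.cfaith k hkC fun g => ?_, orderOf_one] at hk2
      · omega
      have h5 : a ⟨k, hkC⟩ g = g := (h4 ▸ mem_top g : g ∈ (a ⟨k, hkC⟩).toMonoidHom.eqLocus (MonoidHom.id U))
      have h6 := ha ⟨k, hkC⟩ g
      rw [h5] at h6
      calc k * τ g = k * τ g * k⁻¹ * k := by group
        _ = _ := by rw [← show τ g = k * τ g * k⁻¹ from h6]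
    · have h4 : (τ r)⁻¹ = k * τ r * k⁻¹ := by rw [← map_inv, ← h3]; exact ha _ _
      have h5 : τ r * τ r = σ * k := by rw [← map_mul, d.cc, hi]
      have h6 : k = τ r * σ * (τ r)⁻¹ := by
        calc k = τ r * ((τ r)⁻¹ * k * τ r) * (τ r)⁻¹ := by group
          _ = τ r * (k * (τ r * τ r)) * (τ r)⁻¹ := by nth_rewrite 1 [h4]; group
          _ = _ := by rw [h5, hσk.eq, ← mul_assoc k, hkk, one_mul]
      exact h6 ▸ SP.Mon.NL.ta_conj hσ.ta _
  -- the element `w`
  have hao : orderOf (α u) = 5 := (c.pair'.orderOf_eq u).trans d.hu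
  have hbo : orderOf (β u) = 5 := (orderOf_injective β c.binj u).trans d.hu
  obtain ⟨j, w, hwσ, hwx, hw⟩ := hσ.split (mem_centralizer_singleton_iff.1 (c.alpha_mem_cent (u := u) rfl))
  have hxw : Commute (τ u) w := hwx.symm
  have hσw : Commute σ w := hwσ.symm
  have hw1 : w ≠ 1 := fun h => c.alpha_not_mem hu1 (mem_sup_left ⟨u ^ j, rfl⟩) (by rw [hw, h, mul_one, map_zpow])
  have hw5 : w ^ 5 = 1 := by
    have h1 : α u ^ 5 = 1 := by rw [← hao, pow_orderOf_eq_one]
    rwa [hw, (hxw.zpow_left j).mul_pow, hσ.five, one_mul] at h1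
  have hkw : Rf k w := ⟨hkT, orderOf_eq_prime hw5 hw1, by
    have h1 := c.conj_alpha u v
    rw [d.hvu, map_inv, hi, hw] at h1
    have h2 : Commute σ (k * w * k⁻¹) := (hσk.mul_right hσw).mul_right hσk.inv_right
    calc k * w * k⁻¹ = τ u ^ j * ((σ * τ u ^ j * σ⁻¹) * (σ * (k * w * k⁻¹)) * σ⁻¹) := by
          rw [hσ.inv_zpow, h2.eq]; group
      _ = τ u ^ j * (σ * (τ u ^ j * k) * w * k⁻¹ * σ⁻¹) := by group
      _ = τ u ^ j * (σ * k * (τ u ^ j * w) * (σ * k)⁻¹) := by rw [← (hkx.zpow_right j).eq]; group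
      _ = _ := by rw [h1, (hxw.zpow_left j).eq]; group⟩
  -- `α u` lies in `5A`
  obtain ⟨θ, hθ⟩ := c.aconj
  have hα : ∀ g, ∃ g', α g = θ (τ g') ∧ orderOf g' = orderOf g := fun g => by
    obtain ⟨_, ⟨g', rfl⟩, h1⟩ : α g ∈ τ.range.map θ.toMonoidHom := hθ ▸ ⟨g, rfl⟩
    refine ⟨g', h1.symm, ?_⟩
    rw [← c.pair'.orderOf_eq g, ← h1, ← c.pair.orderOf_eq g']
    exact (θ.orderOf_eq _).symm
  obtain ⟨s₁, hs₁⟩ : ∃ s₁, Rf s₁ (α u) := by
    obtain ⟨u', h1, h2⟩ := hα u
    obtain ⟨g, l, hl⟩ := CpAutON.Gen.conj_into (p := 5) (by rw [hU]; norm_num) (h2.trans d.hu) d.hu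
    have h3 : τ g * τ u' * (τ g)⁻¹ = τ u ^ l := by
      rw [← map_inv, ← map_mul, ← map_mul, ← map_zpow]; exact congrArg τ hl.symm
    refine exists_rf (isConj_xu hao ?_)
    rw [h1]
    refine Dvd.dvd.trans ?_ (card_cent_dvd (f := θ.toMonoidHom) θ.injective (τ u'))
    rw [← BpSpor.card_cent_of_conj h3]
    refine Dvd.dvd.trans (by rw [hσ.card]; norm_num) (card_dvd_of_le (H := centralizer ({τ u} : Set MG)) fun y hy => ?_)
    exact mem_centralizer_singleton_iff.2
      ((show Commute y (τ u) from mem_centralizer_singleton_iff.1 hy).zpow_right l).eq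
  obtain ⟨i₁, k₁, hk₁, hk₁a, hd₁, hk₁s⟩ := hs₁.exists_dec (hinv α)
  have hσ' := hs₁.mul i₁
  generalize s₁ * α u ^ i₁ = σ' at hk₁ hd₁ hσ'
  rw [hsq] at hk₁s
  have hR' : ∀ y ∈ R', Commute σ' y := fun y hy => (mem_centralizer_singleton_iff.1
    (hσ'.sd.perfect_le c.pair'.perfect (c.pair'.le_cent u) hy).1).symm
  have hA : ∀ {s₂ : MG}, Rf s₂ (β u) → ∀ g, Commute s₂ (α g) := fun h g => (mem_centralizer_singleton_iff.1
    (h.sd.perfect_le (range_perfect c.simple c.noncomm α) (by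
      rintro _ ⟨g, rfl⟩
      exact mem_centralizer_singleton_iff.2 (c.ab g u)) ⟨g, rfl⟩).1).symm
  have hk₁R : ∀ y ∈ R', Commute k₁ y := fun y hy => by
    rw [show k₁ = σ'⁻¹ * α v by rw [hd₁]; group]
    exact (hR' y hy).inv_left.mul_left (c.pair'.comm v y hy)
  have hσb := hR' _ (c.bmem u)
  have x5 : τ u ^ 5 = 1 := by rw [← hσ.ord, pow_orderOf_eq_one]
  rw [zpow_congr_five x5 (Int.emod_emod_of_dvd j dvd_rfl).symm] at hw
  have hj : j % 5 = 0 ∨ j % 5 = 1 ∨ (j % 5 = 2 ∨ j % 5 = 3 ∨ j % 5 = 4) := by omega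
  generalize j % 5 = j at hw hj
  rcases hj with rfl | rfl | hj
  · rw [zpow_zero, one_mul] at hw
    have h1 : Commute (τ u) σ' := hkw.comm (hw ▸ hσ') hxw hkx.symm
    refine hσ'.not_comm ?_
    rw [show α u = τ u * (β u)⁻¹ by rw [c.eq]; group]
    exact (h1.mul_left hσb.symm.inv_left).eq
  · rw [zpow_one] at hw
    have h1 : β u = w ^ (-1 : ℤ) := by
      calc β u = (α u)⁻¹ * τ u := by rw [c.eq]; group
        _ = _ := by rw [hw]; group
    have h2 := hA (hkw.of_zpow hbo h1) u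
    refine hkw.not_comm ?_
    rw [show w = (τ u)⁻¹ * α u by rw [hw]; group]
    exact (hkx.inv_right.mul_right h2).symm.eq
  obtain ⟨r₁, r₂, _, h1, h2, ⟨m, n, rfl⟩, h3⟩ := exists_refl hσ hkw hσ' hbo hxw hσw hkx hσk hσb hw (c.eq u) hj
  have h4 : r₁ * r₂ = τ v * (τ u ^ m * w ^ n) := by
    rcases h3 with h3 | h3
    · rw [h3, hi]
    · rw [← h1.comm_of_sq (hA h2 u).eq h2.sq, h3, hi]
  obtain ⟨l₁, rfl⟩ := hσ'.uniq h1
  obtain ⟨l₂, k₂, hk₂, hk₂b, hd₂, hk₂s⟩ := h2.exists_dec (hinv β)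
  rw [hsq] at hk₂s
  have hk₁b := hk₁R _ (c.bmem u)
  have hk₁r : Commute k₁ r₂ := h2.comm_of_sq hk₁b hk₁s
  have h5 : k₁ * k₂ = (β u ^ l₂)⁻¹ * α u ^ l₁ * (τ u ^ m * w ^ n)⁻¹ := by
    rw [c.eq v, hd₁, hd₂, mul_assoc σ', ← ((hA h2 u).zpow_right l₁).eq] at h4
    calc k₁ * k₂ = (β u ^ l₂)⁻¹ * r₂⁻¹ * σ'⁻¹ * (σ' * (r₂ * β u ^ l₂ * k₁) * k₂ * (τ u ^ m * w ^ n)) *
          (τ u ^ m * w ^ n)⁻¹ := by group
      _ = (β u ^ l₂)⁻¹ * r₂⁻¹ * σ'⁻¹ * (σ' * k₁ * (r₂ * β u ^ l₂ * k₂) * (τ u ^ m * w ^ n)) *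
          (τ u ^ m * w ^ n)⁻¹ := by rw [← (hk₁r.mul_right (hk₁b.zpow_right l₂)).eq]; group
      _ = _ := by rw [← h4]; group
  have hE : ∀ g, Commute g (α u) → Commute g (β u) → Commute g (τ u) ∧ Commute g w := fun g ga gb => by
    have g1 : Commute g (τ u) := by rw [c.eq]; exact ga.mul_right gb
    refine ⟨g1, ?_⟩
    rw [show w = (τ u ^ j)⁻¹ * α u by rw [hw]; group]
    exact (g1.zpow_right j).inv_right.mul_right ga
  have hE' : ∀ g, Commute g (α u) → Commute g (β u) → Commute g (τ u ^ m * w ^ n)⁻¹ := fun g ga gb =>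
    (((hE g ga gb).1.zpow_right m).mul_right ((hE g ga gb).2.zpow_right n)).inv_right
  have hab : Commute (α u) (β u) := c.ab u u
  have h6 : Commute k₁ (k₁ * k₂) := by
    rw [h5]
    exact ((hk₁b.zpow_right l₂).inv_right.mul_right (hk₁a.zpow_right l₁)).mul_right (hE' _ hk₁a hk₁b)
  have h7 : k₁ * k₂ = 1 := by
    refine eq_one_of_coprime (a := 2) (b := 5) (by norm_num) ?_ ?_
    · rw [pow_two, ← mul_assoc, ← h6.eq, ← mul_assoc, hk₁s, one_mul, hk₂s]
    · rw [h5, (((hE' _ hab.symm (Commute.refl _)).zpow_left l₂).inv_left.mul_left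
        ((hE' _ (Commute.refl _) hab).zpow_left l₁)).mul_pow, (hab.symm.zpow_zpow l₂ l₁).inv_left.mul_pow, inv_pow,
        inv_pow, (hxw.zpow_zpow m n).mul_pow, h2.five, hσ'.five, hσ.five, hkw.five]
      group
  have h8 : k₁ = 1 := c.pair'.cfaith k₁ (mem_centralizer_iff.2 fun y hy => (hk₁R y hy).eq.symm) fun g => by
    rw [eq_inv_of_mul_eq_one_left h7, show k₂ = (r₂ * β u ^ l₂)⁻¹ * β v by rw [hd₂]; group]
    exact ((hA (h2.mul l₂) g).inv_left.mul_left (c.ab g v).symm).inv_left.eq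
  rw [h8, mul_one] at hd₁
  -- `α v` lies in `2A`, `τ v` does not
  have hv1 : v ≠ 1 := fun h => hne (by rw [h, one_mul, mul_one])
  have hvo : orderOf v = 2 := orderOf_eq_prime (by rw [pow_two, d.hv]) hv1
  obtain ⟨v', h9, h10⟩ := hα v
  obtain ⟨g, hg⟩ := isConj_iff.1 (d.cls v' (by rw [← pow_two, ← hvo, ← h10, pow_orderOf_eq_one]) fun h => by
    rw [h, orderOf_one, hvo] at h10
    omega)
  have h11 := card_cent_dvd (f := θ.symm.toMonoidHom) θ.symm.injective (α v)
  rw [BpSpor.MBigModel.card_cent_t (hd₁ ▸ hσ'.ta), show θ.symm.toMonoidHom (α v) = τ v' by rw [h9]; simp,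
    BpSpor.card_cent_of_conj (show τ g * τ v * (τ g)⁻¹ = τ v' by rw [← hg, map_mul, map_mul, map_inv]),
    SP.Mon.NL.card_cent_b ((c.pair.orderOf_eq v).trans hvo) fun h =>
      hne (c.comm_of_cent_perf (Rf.sd ⟨h, hσ.ord, hinv τ⟩).mem_cent)] at h11
  exact absurd h11 (by norm_num)

/-- the class `5A`, `U` of order 60 or 25920 -/
theorem m_fiveA (c : Core τ α β R R') (hU : Nat.card U = 60 ∨ Nat.card U = 25920) {u : U} (hu : orderOf u = 5)
    (hx : IsConj (xu : MG) (τ u)) : False := by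
  have := BpSpor.MBigModel.finite
  have : Fact (Nat.Prime 2) := ⟨Nat.prime_two⟩
  obtain ⟨s, hs⟩ := exists_rf hx
  rcases hU with hU | hU
  · exact c.false_of_sixty hU hu hs.sd.mem_cent hs.inv
  obtain ⟨v, n, hn, hv⟩ := exists_inv c.simple c.noncomm hu (by rw [hU]; norm_num)
  obtain ⟨i, k, -, hk, hd, hkk⟩ := hs.exists_dec (t := τ v) (by rw [← map_inv, ← map_inv, ← map_mul, ← map_mul, hv])
  have hσ := (hs.mul i).sd.mem_cent
  have hk1 : k ≠ 1 := fun h => not_comm_of_inv hu hv (c.comm_of_cent_perf (by rwa [hd, h, mul_one]))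
  have hkR : k ∈ centralizer (R : Set MG) := by
    rw [show k = (s * τ u ^ i)⁻¹ * τ v by rw [hd]; group]
    exact mul_mem (inv_mem (centralizer_le (c.pair.le_perf_cent u) hσ)) (c.pair.tau_mem_cent v)
  have h1 : k ^ 2 ^ (n + 1) = 1 := by
    rw [pow_succ', pow_mul, pow_two, hkk, ← map_mul, ← map_pow, ← pow_two, ← pow_mul, mul_comm, pow_mul, hn, one_pow,
      map_one]
  obtain ⟨m, -, hm⟩ := (Nat.dvd_prime_pow Nat.prime_two).1 (orderOf_dvd_of_pow_eq_one h1)
  have hm0 : m ≠ 0 := fun h => hk1 (orderOf_eq_one_iff.1 (by rw [hm, h, pow_zero]))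
  have h2 : orderOf (k ^ (orderOf k / 2)) = 2 := orderOf_pow_orderOf_div ((orderOf_pos k).ne' :) (hm ▸ dvd_pow_self 2 hm0)
  obtain ⟨t, -, h3, -, h4⟩ := TAB.M5.secA hx (hk.symm.pow_right (orderOf k / 2)) (by rw [h2]; norm_num)
  have h5 : Nat.card U ∣ 5 * t.cen := by
    rw [← h4]
    refine c.pair.card_dvd_R.trans (card_dvd_of_le fun y hy => mem_centralizer_singleton_iff.2 ?_)
    exact ((show Commute y (τ u) from (c.pair.comm u y hy).symm).mul_right
      (mem_centralizer_iff.1 (pow_mem hkR _) y hy)).eq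
  rw [hU] at h5
  exact (by decide +kernel : ∀ t : H651.HNF.Ty, 2 = t.ord → ¬ 25920 ∣ 5 * t.cen) t (h2.symm.trans h3) h5

end Cfsg.Agent.Cam.Spor
end

-- part: Cam/Spor/MTh
section
/-!
# S3689, S3690: no `2 × A₅` in the Thompson group; fixed points of `A₄` and `S₃` (helper67)
-/

set_option autoImplicit false

namespace Cfsg.Agent.Cam.Spor

open Cfsg Subgroup Equiv

section perm

/-- the 5-cycle -/
def f5 (p : Fin 9) : Fin 9 := if p = 4 then 0 else if p < 4 then p + 1 else p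

/-- the condition for a pair of fixed points -/
def ok5 (p a q b : Fin 9) : Bool := (a != b) && (f5 a != b || b == p) && (f5 b != a || a == q) && (a != p || b != q)

theorem nine_aux : ∀ a5 a6 a7 a8 : Fin 9, (((f5 a5 != a5 || a5 == 5) && (f5 a6 != a6 || a6 == 6) && ok5 5 a5 6 a6) &&
    ((f5 a7 != a7 || a7 == 7) && ok5 5 a5 7 a7 && ok5 6 a6 7 a7) &&
    ((f5 a8 != a8 || a8 == 8) && ok5 5 a5 8 a8 && ok5 6 a6 8 a8 && ok5 7 a7 8 a8)) = false := by
  decide +kernel

theorem f5_eq : ∀ p, (c[(0 : Fin 9), 1, 2, 3, 4] : Perm (Fin 9)) p = f5 p := by decide +kernel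

/-- in a `(2, 3, 5)`-triple of `S₉` the involution has two fixed points -/
theorem nine_no {t x : Perm (Fin 9)} (ht : t * t = 1) (hx : orderOf x = 5) (h3 : (t * x) ^ 3 = 1)
    (h8 : t.support.card = 8) : False := by
  have h5 : x.IsCycle := Perm.isCycle_of_prime_order' (by rw [hx]; norm_num) (by rw [hx]; simp)
  have h6 : (c[(0 : Fin 9), 1, 2, 3, 4] : Perm (Fin 9)).IsCycle := by
    refine Perm.isCycle_of_prime_order' ?_ ?_ <;>
      rw [show orderOf (c[(0 : Fin 9), 1, 2, 3, 4] : Perm (Fin 9)) = 5 from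
        haveI : Fact (Nat.Prime 5) := ⟨by norm_num⟩; orderOf_eq_prime (by (set_option synthInstance.maxSize 9000 in open scoped Cfsg.Agent.Lib.FastPerm in decide +kernel)) (by decide +kernel)]
    · norm_num
    · simp
  obtain ⟨g, hg⟩ := isConj_iff.1 (h5.isConj h6 (by rw [← h5.orderOf, hx]; decide +kernel))
  have e1 : (g * t * g⁻¹) * (g * t * g⁻¹) = 1 := by rw [conj_mul, ht]; group
  have e3 : ((g * t * g⁻¹) * c[(0 : Fin 9), 1, 2, 3, 4]) ^ 3 = 1 := by rw [← hg, conj_mul, conj_pow, h3]; group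
  have e8 : (g * t * g⁻¹).support.card = 8 := by rw [Perm.card_support_conj, h8]
  generalize g * t * g⁻¹ = f at e1 e3 e8
  have i1 : ∀ p, f (f p) = p := fun p => by rw [← Perm.mul_apply, e1, Perm.one_apply]
  have k1 : ∀ p q : Fin 9, f5 p = p → f5 q = q → (f5 (f p) != f q || f q == p) = true := by
    intro p q hp hq
    by_cases h : f5 (f p) = f q
    · have h1 := congrArg (fun σ : Perm (Fin 9) => σ p) e3
      simp only [pow_succ, pow_zero, one_mul, Perm.mul_apply, Perm.one_apply, f5_eq] at h1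
      rw [hp, h, i1, hq] at h1
      simp [h1]
    · simp [h]
  have k2 : ∀ p q : Fin 9, f5 p = p → f5 q = q → p ≠ q → ok5 p (f p) q (f q) = true := by
    intro p q hp hq hne
    have h1 : (f p != p || f q != q) = true := by
      by_contra h
      simp only [Bool.or_eq_true, bne_iff_ne, ne_eq, not_or, not_not] at h
      have h4 : f.support ⊆ (Finset.univ.erase p).erase q := fun a ha => by
        rw [Perm.mem_support] at ha
        simp only [Finset.mem_erase, Finset.mem_univ, and_true]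
        exact ⟨fun h1 => ha (h1 ▸ h.2), fun h1 => ha (h1 ▸ h.1)⟩
      have h7 := Finset.card_le_card h4
      rw [e8, Finset.card_erase_of_mem (by simp [Ne.symm hne]), Finset.card_erase_of_mem (by simp)] at h7
      simp at h7
    rw [ok5, k1 p q hp hq, k1 q p hq hp, h1]
    simp [hne]
  have h := nine_aux (f 5) (f 6) (f 7) (f 8)
  rw [k1 5 5 rfl rfl, k1 6 6 rfl rfl, k1 7 7 rfl rfl, k1 8 8 rfl rfl, k2 5 6 rfl rfl (by decide),
    k2 5 7 rfl rfl (by decide), k2 6 7 rfl rfl (by decide), k2 5 8 rfl rfl (by decide), k2 6 8 rfl rfl (by decide),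
    k2 7 8 rfl rfl (by decide)] at h
  exact absurd h (by decide)

end perm

section th
open Cfsg.Agent.ThType.SpinData Cfsg.Agent.ThType.Squares

theorem spin_no {G : Type} [Group G] {z : G} (S : SpinAt G z) (R : ThType.SqRules.SqRules S) {v u : G}
    (hvz : v * z = z * v) (huz : u * z = z * u) (hv : v * v = 1) (hu : orderOf u = 5) (h3 : (v * u) ^ 3 = 1) : False := by
  have : Fact (Nat.Prime 5) := ⟨by norm_num⟩
  have h1 : S.φ v * S.φ v = 1 := by rw [← S.φ_mul _ _ hvz hvz, hv, φ_one S]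
  have h2 : S.φ u ^ 5 = 1 := by rw [← H757.ThF.phi_pow S huz, ← hu, pow_orderOf_eq_one, φ_one S]
  have h4 : (S.φ v * S.φ u) ^ 3 = 1 := by
    rw [← S.φ_mul _ _ hvz huz, ← H757.ThF.phi_pow S (cz_mul hvz huz), h3, φ_one S]
  have h5 : S.φ u ≠ 1 := fun h => by
    have h6 := S.sq u ((S.φ_eq_one u huz).1 h)
    have h7 : u ^ 4 = 1 := by
      rw [show u ^ 4 = (u * u) * (u * u) by rw [← pow_two, ← pow_two, ← pow_mul], h6]
      split_ifs
      · rw [one_mul]
      · exact S.z_sq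
    have h8 := orderOf_dvd_of_pow_eq_one h7
    rw [hu] at h8
    norm_num at h8
  have h6 : S.φ v ≠ 1 := fun h => by
    rw [h, one_mul] at h4
    exact h5 (eq_one_of_coprime (by norm_num) h4 h2)
  have h7 := (S.φ v : Perm (Fin 9)).sum_cycleType
  rcases type_of_invol (S.φ v) h1 h6 with h8 | h8 <;> rw [h8] at h7
  · have h9 := R.sq2 v hvz h1 h7.symm (Or.inl hv)
    rw [hv] at h9
    exact S.z_ne h9.symm
  · exact nine_no (t := (S.φ v : Perm (Fin 9))) (x := (S.φ u : Perm (Fin 9))) (congrArg Subtype.val h1)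
      (by rw [Subgroup.orderOf_coe]; exact orderOf_eq_prime h2 h5) (congrArg Subtype.val h4) h7.symm

/-- no `2 × A₅` in the Thompson group -/
theorem th_no {k v u : Spor.Th} (hk : orderOf k = 2) (hvk : v * k = k * v) (huk : u * k = k * u) (hv : v * v = 1)
    (hu : orderOf u = 5) (h3 : (v * u) ^ 3 = 1) : False := by
  have hs : IsSimpleGroup Spor.Th := Th.Main1700.isTh.1
  have hf : Finite Spor.Th := Th.Main1700.final.1
  obtain ⟨S⟩ := Sigma.ThRow.exists_spin
  obtain ⟨g, hg⟩ := isConj_iff.1 (MonsterX.ThOneClass.oneClass k _ hk MonsterX.ThOneClass.orderOf_a)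
  refine spin_no S (H757.ThF.sqRules S) (v := g * v * g⁻¹) (u := g * u * g⁻¹) ?_ ?_ ?_ ?_ ?_
  · rw [← hg, conj_mul, conj_mul, hvk]
  · rw [← hg, conj_mul, conj_mul, huk]
  · rw [conj_mul, hv]; group
  · rw [← hu]; exact MulEquiv.orderOf_eq (MulAut.conj g) u
  · rw [conj_mul, conj_pow, h3]; group

end th

section add
variable {W : Type} [AddCommGroup W]

/-- `A₄` acting without fixed points of the element of order three -/
theorem a4_fix (h2 : ∀ w : W, w + w = 0 → w = 0) {A B Y : W →+ W} (hA : ∀ w, A (A w) = w) (hB : ∀ w, B (B w) = w)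
    (hAB : ∀ w, A (B w) = B (A w)) (hYA : ∀ w, Y (A w) = B (Y w)) (hYB : ∀ w, Y (B w) = A (B (Y w)))
    (hY : ∀ w, Y (Y (Y w)) = w) (hf : ∀ w, Y w = w → w = 0) (w : W) : A w = w := by
  have N : ∀ q, q + Y q + Y (Y q) = 0 := fun q => hf _ (by rw [map_add, map_add, hY]; abel)
  have k1 : ∀ q, A q = -q → B q = q → q = 0 := fun q ha hb => by
    have b1 : B (Y q) = -Y q := by rw [← hYA, ha, map_neg]
    have a1 : A (Y q) = -Y q := by
      have h := hYB q
      rw [hb, b1, map_neg] at h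
      rw [← neg_neg (A (Y q)), ← h]
    have b2 : B (Y (Y q)) = -Y (Y q) := by rw [← hYA, a1, map_neg]
    have h := congrArg B (N q)
    rw [map_add, map_add, hb, b1, b2, map_zero] at h
    exact h2 q (by linear_combination (norm := abel1) h + N q)
  have k2 : ∀ q, A q = -q → B q = -q → q = 0 := fun q ha hb => by
    have b1 : B (Y q) = -Y q := by rw [← hYA, ha, map_neg]
    have a1 : A (Y q) = Y q := by
      have h := hYB q
      rw [hb, b1, map_neg, map_neg] at h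
      exact (neg_injective h).symm
    have b2 : B (Y (Y q)) = Y (Y q) := by rw [← hYA, a1]
    have a2 : A (Y (Y q)) = -Y (Y q) := by
      have h := hYB (Y q)
      rw [b1, b2, map_neg] at h
      exact h.symm
    have h := congrArg (fun w => A (B w)) (N q)
    simp only [map_add, hb, b1, b2, map_neg, ha, a1, a2, map_zero, neg_neg] at h
    exact h2 q (by linear_combination (norm := abel1) h + N q)
  have hp : A (w - A w) = -(w - A w) := by rw [map_sub, hA, neg_sub]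
  generalize hq : w - A w = p at hp
  have e1 := k1 (p + B p) (by rw [map_add, hAB, hp, map_neg]; abel) (by rw [map_add, hB]; abel)
  have e2 := k2 (p - B p) (by rw [map_sub, hAB, hp, map_neg]; abel) (by rw [map_sub, hB]; abel)
  have e3 : p = 0 := h2 p (by linear_combination (norm := abel1) e1 + e2)
  rw [e3] at hq
  exact (sub_eq_zero.1 hq).symm

/-- `S₃` acting such that the involution fixes the fixed points of the element of order three -/
theorem s3_card [Finite W] (h2 : ∀ w : W, w + w = 0 → w = 0) (h3 : ∀ w : W, w + w + w = 0 → w = 0) {T Y : W →+ W}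
    (hT : ∀ w, T (T w) = w) (hTY : ∀ w, T (Y w) = Y (Y (T w))) (hY : ∀ w, Y (Y (Y w)) = w)
    (hf : ∀ w, Y w = w → T w = w) :
    (T - AddMonoidHom.id W).ker.index ^ 2 * Nat.card (Y - AddMonoidHom.id W).ker ≤ Nat.card W := by
  rw [AddSubgroup.index_ker, pow_two, ← Nat.card_prod, ← Nat.card_prod]
  have hI : ∀ p : (T - AddMonoidHom.id W).range, T p = -p := by
    rintro ⟨_, w, rfl⟩
    change T (T w - w) = -(T w - w)
    rw [map_sub, hT, neg_sub]
  have hC : ∀ r : (Y - AddMonoidHom.id W).ker, Y r = r := fun r => sub_eq_zero.1 r.2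
  have N : ∀ p : W, T p = -p → p + Y p + Y (Y p) = 0 := fun p hp => by
    have h := hf (p + Y p + Y (Y p)) (by rw [map_add, map_add, hY]; abel)
    rw [map_add, map_add, hTY, hTY, hTY, hp, hY] at h
    simp only [map_neg] at h
    exact h2 _ (by linear_combination (norm := abel1) -h)
  refine Nat.card_le_card_of_injective
    ((((T - AddMonoidHom.id W).range.subtype).coprod (Y.comp (T - AddMonoidHom.id W).range.subtype)).coprod
      (Y - AddMonoidHom.id W).ker.subtype) ((injective_iff_map_eq_zero _).2 ?_)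
  rintro ⟨⟨p, q⟩, r⟩ h
  change (p : W) + Y q + r = 0 at h
  have h4 := congrArg Y h
  have h5 := congrArg Y h4
  simp only [map_add, map_zero, hC, hY] at h4 h5
  have e3 : (r : W) = 0 := h3 _ (by linear_combination (norm := abel1) h + h4 + h5 - N p (hI p) - N q (hI q))
  rw [e3, add_zero] at h
  have h6 := congrArg T h
  rw [map_add, hTY, hI, hI, map_zero, map_neg, map_neg] at h6
  have h7 : Y (q : W) = q := by
    have h8 : Y (q : W) = Y (Y q) := by linear_combination (norm := abel1) h + h6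
    have h9 := congrArg (fun w => Y (Y w)) h8
    simp only [hY] at h9
    exact h9.symm
  have e2 : (q : W) = 0 := h2 _ (by
    have h8 := hf _ h7
    rw [hI] at h8
    linear_combination (norm := abel1) -h8)
  rw [e2, map_zero, add_zero] at h
  exact Prod.ext (Prod.ext (Subtype.ext h) (Subtype.ext e2)) (Subtype.ext e3)

end add

section sd
variable {G : Type} [Group G]

theorem SD.of_card [Finite G] {x s : G} {K : Subgroup G} {r : ℕ} (hr : r.Prime) (h2 : r ≠ 2) (hx : orderOf x = r)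
    (hs : s * s = 1) (hi : s * x * s⁻¹ = x⁻¹) (hK : K ≤ centralizer ({x} : Set G)) (hc : ∀ k ∈ K, k * s = s * k)
    (h : Nat.card (centralizer ({x} : Set G)) = r * Nat.card K) : SD x s K := by
  refine ⟨fun c hc' => ?_, hK, hs, hi, hc⟩
  have h1 : ∀ a ∈ zpowers x, ∀ k ∈ K, a * k = k * a := fun a ha k hk => (zpowers_comm a ha k (hK hk)).symm
  have h3 : ∀ a ∈ zpowers x, a ∈ K → a = 1 := by
    rintro _ ⟨i, rfl⟩ ha
    have h4 : s * x ^ i * s⁻¹ = (x ^ i)⁻¹ := by rw [← conj_zpow, hi, inv_zpow]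
    rw [← hc _ ha, mul_inv_cancel_right] at h4
    refine eq_one_of_coprime ((Nat.coprime_primes Nat.prime_two hr).2 h2.symm) ?_ ?_
    · rw [pow_two]; exact mul_eq_one_iff_eq_inv.2 h4
    · rw [← hx]; exact orderOf_dvd_iff_pow_eq_one.1 (orderOf_dvd_of_mem_zpowers ⟨i, rfl⟩)
  have h4 := card_mul_dvd_sup h1 h3
  rw [Nat.card_zpowers, hx, ← h] at h4
  have h5 : zpowers x ⊔ K = centralizer ({x} : Set G) :=
    eq_of_le_of_card_ge (sup_le (zpowers_le.2 (mem_centralizer_singleton_iff.2 rfl)) hK) (Nat.le_of_dvd Nat.card_pos h4)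
  obtain ⟨_, ⟨i, rfl⟩, k, hk, h6⟩ := mem_sup_of_comm h1 (h5 ▸ mem_centralizer_singleton_iff.2 hc' : c ∈ zpowers x ⊔ K)
  exact ⟨i, k, hk, h6⟩

end sd

end Cfsg.Agent.Cam.Spor
end

-- part: Cam/Spor/MLoc
section
/-!
# S3689, S3690: the action on `5 ^ (1 + 6)` (helper67)
-/

set_option autoImplicit false

namespace Cfsg.Agent.Cam.Spor

open Cfsg Subgroup Cfsg.Agent.TAB.M5

section
variable {D : Type} [Group D] {z x : D} {S : Subgroup D} {A : Type} [Group A] {ρ : D →* A}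

/-- the module `S / ⟨x⟩` -/
theorem loc_mod [Finite D] (h : Loc z x S ρ) : ∃ (W : Type) (_ : AddCommGroup W) (_ : Finite W) (act : D → W →+ W)
    (pr : S →* Multiplicative W), Nat.card W = 5 ^ 6 ∧ (∀ g g' w, act (g * g') w = act g (act g' w)) ∧
      (∀ w, act 1 w = w) ∧ Function.Surjective pr ∧ (∀ s : S, pr s = 1 ↔ (s : D) ∈ zpowers x) ∧
      ∀ g (s : S), act g (pr s).toAdd = (pr ⟨g * s * g⁻¹, h.Sn.conj_mem _ s.2 g⟩).toAdd := by
  have hS := h.Sn
  have hZ : (zpowers x).Normal := ⟨by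
    rintro _ ⟨i, rfl⟩ g
    rw [(h.xpow i g).eq, mul_inv_cancel_right]
    exact ⟨i, rfl⟩⟩
  let π := QuotientGroup.mk' (zpowers x)
  have hW : (S.map π).Normal := hS.map π (QuotientGroup.mk'_surjective _)
  have hi : ∀ p ∈ S.map π, π z * p * (π z)⁻¹ = p⁻¹ := by
    rintro _ ⟨n, hn, rfl⟩
    obtain ⟨i, hi⟩ := h.inv n hn
    rw [← map_inv, ← map_mul, ← map_mul, hi, map_mul, map_inv,
      show π (x ^ i) = 1 from (QuotientGroup.eq_one_iff _).2 ⟨i, rfl⟩, mul_one]
  let _ : CommGroup (S.map π) := { (inferInstance : Group (S.map π)) with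
    mul_comm := fun p q => Subtype.ext (inv_injective (by
      change ((p : D ⧸ zpowers x) * q)⁻¹ = ((q : D ⧸ zpowers x) * p)⁻¹
      rw [← hi _ (mul_mem p.2 q.2), mul_inv_rev, ← hi _ p.2, ← hi _ q.2]
      group)) }
  have hk : ∀ s : S, π.subgroupMap S s = 1 ↔ (s : D) ∈ zpowers x := fun s =>
    Subtype.ext_iff.trans (QuotientGroup.eq_one_iff _)
  refine ⟨Additive (S.map π), inferInstance, inferInstance,
    fun g => MonoidHom.toAdditive (MulAut.conjNormal (π g) : MulAut (S.map π)).toMonoidHom,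
    (MulEquiv.multiplicativeAdditive _).symm.toMonoidHom.comp (π.subgroupMap S), ?_, fun g g' w => ?_, fun w => ?_,
    (MulEquiv.multiplicativeAdditive _).symm.surjective.comp (π.subgroupMap_surjective S), fun s => ?_, fun g s => rfl⟩
  · have h1 := card_mul_index (π.subgroupMap S).ker
    have h2 : (π.subgroupMap S).ker = (zpowers x).subgroupOf S := by
      ext s
      exact hk s
    rw [index_ker, MonoidHom.range_eq_top.2 (π.subgroupMap_surjective S), card_top, h2,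
      Nat.card_congr (subgroupOfEquivOfLe (zpowers_le.2 h.xS)).toEquiv, Nat.card_zpowers, h.ox, h.cS] at h1
    change Nat.card (S.map π) = _
    omega
  · simp only [map_mul]; rfl
  · simp only [map_one]; rfl
  · exact (MulEquiv.map_eq_one_iff (MulEquiv.multiplicativeAdditive (S.map π)).symm).trans (hk s)

theorem loc_comm (h : Loc z x S ρ) {g s : D} {m : ℕ} (hm : m.Coprime 5) (hg : g ^ m = 1)
    (hs : g * s * g⁻¹ * s⁻¹ ∈ zpowers x) : g * s = s * g := by
  obtain ⟨i, hi⟩ := hs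
  change x ^ i = _ at hi
  have h1 : s * g⁻¹ * s⁻¹ = g⁻¹ * x ^ i := by rw [hi]; group
  have h2 : (x ^ i) ^ m = 1 := by
    have h3 := congrArg (· ^ m) h1
    simp only [conj_pow, (h.xpow i g⁻¹).mul_pow, inv_pow, hg, inv_one, mul_one, mul_inv_cancel, one_mul] at h3
    exact h3.symm
  have h3 : x ^ i = 1 := eq_one_of_coprime hm h2 (by
    rw [← zpow_natCast, ← zpow_mul, mul_comm, zpow_mul, zpow_natCast, ← h.ox, pow_orderOf_eq_one, one_zpow])
  rw [h3] at hi
  calc g * s = g * s * g⁻¹ * s⁻¹ * (s * g) := by group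
    _ = _ := by rw [← hi, one_mul]

theorem nsmul_card {W : Type} [AddCommGroup W] (hW : Nat.card W = 5 ^ 6) {w : W} {m : ℕ} (hm : m.Coprime 5)
    (h : m • w = 0) : w = 0 := by
  have h1 := addOrderOf_dvd_natCard w
  rw [hW] at h1
  exact AddMonoid.addOrderOf_eq_one_iff.1
    (Nat.eq_one_of_dvd_coprimes (Nat.Coprime.pow_right 6 hm) (addOrderOf_dvd_of_nsmul_eq_zero h) h1)

/-- an element of order three of an `A₄` has many fixed points -/
theorem loc_a4 [Finite D] (h : Loc z x S ρ) {U : Type} [Group U] (hs : IsSimpleGroup U) (φ : U →* D) {a b r : U}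
    (ha : a * a = 1) (hb : b * b = 1) (hab : a * b = b * a) (ha1 : a ≠ 1) (ra : r * a * r⁻¹ = b)
    (rb : r * b * r⁻¹ = a * b) (hr : orderOf (φ r) = 3) :
    125 ∣ Nat.card (centralizer ({φ r} : Set D) ⊓ S : Subgroup D) := by
  refine (h.fix_three hr).resolve_left fun h5 => ?_
  obtain ⟨W, _, _, act, pr, hW, hm, h1, hp, hk, he⟩ := loc_mod h
  have hr3 : φ r ^ 3 = 1 := by rw [← hr, pow_orderOf_eq_one]
  have hS := h.Sn
  have key : ∀ g (s : S), act g (pr s).toAdd = (pr s).toAdd → g * s * g⁻¹ * (s : D)⁻¹ ∈ zpowers x := fun g s h2 => by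
    rw [he] at h2
    exact (hk (⟨g * s * g⁻¹, h.Sn.conj_mem _ s.2 g⟩ * s⁻¹)).1 (by
      rw [map_mul, map_inv, Multiplicative.toAdd.injective h2, mul_inv_cancel])
  have h2 := a4_fix (fun w hw => nsmul_card hW (m := 2) (by norm_num) (by rw [two_nsmul, hw]))
    (A := act (φ a)) (B := act (φ b)) (Y := act (φ r)) (fun w => by rw [← hm, ← map_mul, ha, map_one, h1])
    (fun w => by rw [← hm, ← map_mul, hb, map_one, h1]) (fun w => by rw [← hm, ← hm, ← map_mul, ← map_mul, hab])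
    (fun w => by rw [← hm, ← hm, ← map_mul, ← map_mul, ← ra, inv_mul_cancel_right])
    (fun w => by rw [← hm, ← hm, ← hm, ← map_mul, ← map_mul, ← map_mul, ← rb, inv_mul_cancel_right])
    (fun w => by rw [← hm, ← hm, ← pow_two, ← pow_succ, hr3, h1])
    (fun w hw => by
      obtain ⟨s, hs⟩ := hp (Multiplicative.ofAdd w)
      have h3 : (pr s).toAdd = w := by rw [hs]; rfl
      have h4 := loc_comm h (m := 3) (by norm_num) hr3 (key _ s (by rw [h3, hw]))
      have h6 : (s : D) ∈ zpowers x := by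
        rw [h.eq_zpowers h5]
        exact ⟨mem_centralizer_singleton_iff.2 h4.symm, s.2⟩
      rw [← h3, (hk s).2 h6]; rfl)
  have h3 : a ∈ (centralizer (S : Set D)).comap φ := mem_centralizer_iff.2 fun s hs =>
    (loc_comm h (m := 2) (by norm_num) (by rw [pow_two, ← map_mul, ha, map_one]) (key _ ⟨s, hs⟩ (h2 _))).symm
  have h4 : (centralizer (S : Set D)).comap φ = ⊤ :=
    (hs.eq_bot_or_eq_top_of_normal _ inferInstance).resolve_left fun h4 => ha1 (by rwa [h4, mem_bot] at h3)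
  have h6 : r ∈ (centralizer (S : Set D)).comap φ := h4 ▸ mem_top r
  rw [inf_eq_right.2 fun s hs => mem_centralizer_singleton_iff.2 (mem_centralizer_iff.1 h6 s hs), h.cS] at h5
  norm_num at h5

theorem relIndex_mul_card (C S : Subgroup D) : Nat.card (C ⊓ S : Subgroup D) * C.relIndex S = Nat.card S := by
  rw [← card_mul_index (C.subgroupOf S), ← inf_subgroupOf_right,
    Nat.card_congr (subgroupOfEquivOfLe (inf_le_right : C ⊓ S ≤ S)).toEquiv, inf_subgroupOf_right]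
  rfl

/-- an involution of an `S₃` fixing the fixed points of the element of order three -/
theorem loc_s3 [Finite D] (h : Loc z x S ρ) {t y : D} (ht : t * t = 1) (hy : y ^ 3 = 1) (hty : t * y * t⁻¹ = y⁻¹)
    (h125 : 125 ∣ Nat.card (centralizer ({y} : Set D) ⊓ S : Subgroup D))
    (hc : ∀ s ∈ S, y * s = s * y → t * s = s * t) : (centralizer ({t} : Set D)).relIndex S ≤ 25 := by
  obtain ⟨W, _, _, act, pr, hW, hm, h1, hp, hk, he⟩ := loc_mod h
  have key : ∀ (g : D) (m : ℕ), m.Coprime 5 → g ^ m = 1 → ∀ s : S, act g (pr s).toAdd = (pr s).toAdd ↔ g * s = s * g := by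
    refine fun g m hm hg s => ⟨fun h2 => loc_comm h hm hg ?_, fun h2 => ?_⟩
    · rw [he] at h2
      exact (hk (⟨g * s * g⁻¹, h.Sn.conj_mem _ s.2 g⟩ * s⁻¹)).1 (by
        rw [map_mul, map_inv, Multiplicative.toAdd.injective h2, mul_inv_cancel])
    · rw [he]
      congr 2
      exact Subtype.ext (mul_inv_eq_iff_eq_mul.2 h2)
  have hi : ∀ (g : D) (m : ℕ), m.Coprime 5 → g ^ m = 1 →
      (act g - AddMonoidHom.id W).ker.index = (centralizer ({g} : Set D)).relIndex S := fun g m hm hg => by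
    rw [← AddSubgroup.index_toSubgroup, ← index_comap_of_surjective _ hp, relIndex]
    congr 1
    ext s
    rw [mem_subgroupOf, mem_centralizer_singleton_iff, eq_comm, ← key g m hm hg]
    exact sub_eq_zero
  have ht2 : t ^ 2 = 1 := by rw [pow_two, ht]
  have h2 := s3_card (fun w hw => nsmul_card hW (m := 2) (by norm_num) (by rw [two_nsmul, hw]))
    (fun w hw => nsmul_card hW (m := 3) (by norm_num) (by rw [three_nsmul, ← add_assoc, hw])) (T := act t) (Y := act y)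
    (fun w => by rw [← hm, ht, h1])
    (fun w => by
      rw [← hm, ← hm, ← hm, mul_inv_eq_iff_eq_mul.1 hty, ← pow_two,
        inv_eq_of_mul_eq_one_right (show y * y ^ 2 = 1 by rw [← pow_succ', hy])])
    (fun w => by rw [← hm, ← hm, ← pow_two, ← pow_succ, hy, h1])
    (fun w hw => by
      obtain ⟨s, hs⟩ := hp (Multiplicative.ofAdd w)
      have h3 : (pr s).toAdd = w := by rw [hs]; rfl
      rw [← h3] at hw ⊢
      exact (key t 2 (by norm_num) ht2 s).2 (hc s s.2 ((key y 3 (by norm_num) hy s).1 hw)))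
  have h3 := AddSubgroup.card_mul_index (act y - AddMonoidHom.id W).ker
  have h4 := relIndex_mul_card (centralizer ({y} : Set D)) S
  obtain ⟨m, h5⟩ := h125
  have h6 : 0 < m := Nat.pos_of_ne_zero fun h6 => by
    rw [h6, mul_zero] at h5
    exact Nat.card_pos.ne' h5
  rw [hi t 2 (by norm_num) ht2, hW] at h2
  rw [hi y 3 (by norm_num) hy, hW] at h3
  rw [h5, h.cS] at h4
  generalize (centralizer ({y} : Set D)).relIndex S = n at h3 h4
  generalize Nat.card (act y - AddMonoidHom.id W).ker = c at h2 h3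
  have h7 : c = 25 * m := Nat.eq_of_mul_eq_mul_right (Nat.pos_of_ne_zero fun h7 : n = 0 => by
    rw [h7] at h4; norm_num at h4) (by rw [h3]; linarith only [h4])
  by_contra h8
  have h9 : 26 ^ 2 ≤ (centralizer ({t} : Set D)).relIndex S ^ 2 := Nat.pow_le_pow_left (by omega) 2
  nlinarith only [h6, h2, h7, h9]

theorem relIndex_conj [S.Normal] (t g : D) :
    (centralizer ({g * t * g⁻¹} : Set D)).relIndex S = (centralizer ({t} : Set D)).relIndex S := by
  rw [← relIndex_map_map_of_injective (f := (MulAut.conj g).toMonoidHom) (centralizer ({t} : Set D)) S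
    (MulAut.conj g).injective]
  congr 1
  · ext c
    refine ⟨fun hc => ⟨g⁻¹ * c * g, mem_centralizer_singleton_iff.2 ?_, by simp [mul_assoc]⟩, ?_⟩
    · calc g⁻¹ * c * g * t = g⁻¹ * (c * (g * t * g⁻¹)) * g := by group
        _ = _ := by rw [mem_centralizer_singleton_iff.1 hc]; group
    · rintro ⟨c, hc, rfl⟩
      refine mem_centralizer_singleton_iff.2 ?_
      change g * c * g⁻¹ * _ = _ * (g * c * g⁻¹)
      rw [conj_mul, conj_mul, mem_centralizer_singleton_iff.1 hc]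
  · exact (Normal.map_conj_eq S g).symm

/-- two involutions with large fixed groups -/
theorem loc_two [Finite D] (h : Loc z x S ρ) {C C' : Subgroup D} (h1 : C.relIndex S ≤ 25) (h2 : C'.relIndex S ≤ 25) :
    125 ∣ Nat.card (C ⊓ C' : Subgroup D) := by
  have h3 := relIndex_mul_card (C ⊓ C') S
  have h4 : (C ⊓ C').relIndex S ≤ 25 * 25 := relIndex_inf_le.trans (Nat.mul_le_mul h1 h2)
  obtain ⟨i, hi, h5⟩ := (Nat.dvd_prime_pow Nat.prime_five).1 (h.card_S (C ⊓ C'))
  refine Dvd.dvd.trans ?_ (card_dvd_of_le (inf_le_left : C ⊓ C' ⊓ S ≤ _))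
  rw [h5, h.cS] at h3
  rw [h5]
  refine pow_dvd_pow 5 (show 3 ≤ i from ?_)
  by_contra h6
  interval_cases i <;> omega

end

end Cfsg.Agent.Cam.Spor
end

-- part: Cam/Spor/M5B
section
/-!
# S3689, S3690: the Monster, the class `5B` (helper67)
-/

set_option autoImplicit false

namespace Cfsg.Agent.Cam.Spor

open Cfsg Subgroup Cfsg.Agent.TwoFusion.PerfCore

section sd
variable {G : Type} [Group G] {x s : G} {K : Subgroup G}

theorem SD.exists_k' (d : SD x s K) {t : G} (ht : t * t = 1) (hi : t * x * t⁻¹ = x⁻¹) :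
    ∃ k ∈ K, k * k = 1 ∧ ∃ i : ℤ, t = s * x ^ i * k := by
  obtain ⟨i, k, hk, h⟩ := d.split (s⁻¹ * t) (by
    calc s⁻¹ * t * x = s⁻¹ * (t * x * t⁻¹) * t := by group
      _ = _ := by rw [hi, ← d.inv]; group)
  have h1 : t = s * x ^ i * k := by rw [mul_assoc, ← h, mul_inv_cancel_left]
  have hkx : Commute k (x ^ i) := (show Commute k x from mem_centralizer_singleton_iff.1 (d.le hk)).zpow_right i
  have h3 : s * x ^ i * s⁻¹ = (x ^ i)⁻¹ := by rw [← conj_zpow, d.inv, inv_zpow]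
  refine ⟨k, hk, ?_, i, h1⟩
  rw [← ht, h1]
  calc k * k = (s * x ^ i * s⁻¹) * (s * s) * x ^ i * k * k := by rw [h3, d.sq]; group
    _ = s * x ^ i * (s * (x ^ i * k)) * k := by group
    _ = _ := by rw [← hkx.eq, ← mul_assoc s k, ← d.cent k hk]; group

theorem SD.comm (d : SD x s K) (i : ℤ) {g : G} (hg : g ∈ K) : Commute (s * x ^ i) g :=
  Commute.mul_left (d.cent g hg).symm
    ((show Commute x g from (mem_centralizer_singleton_iff.1 (d.le hg)).symm).zpow_left i)

theorem SD.comm_k (d : SD x s K) {i : ℤ} {k g : G} (hg : g ∈ K) (h : g * (s * x ^ i * k) = s * x ^ i * k * g) :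
    g * k = k * g := by
  rw [← mul_assoc, ← (d.comm i hg).eq, mul_assoc, mul_assoc _ k] at h
  exact mul_left_cancel h

theorem SD.conj_s (d : SD x s K) {m : ℕ} (hx : x ^ (2 * m + 1) = 1) (i : ℤ) : ∃ g, g * s * g⁻¹ = s * x ^ i := by
  refine ⟨(x ^ (i * (m + 1)))⁻¹, ?_⟩
  have h3 : s * x ^ (i * (m + 1)) * s⁻¹ = (x ^ (i * (m + 1)))⁻¹ := by rw [← conj_zpow, d.inv, inv_zpow]
  have h4 : x ^ (i * (m + 1)) * x ^ (i * (m + 1)) = x ^ i := by
    rw [← zpow_add, show i * (m + 1) + i * (m + 1) = ((2 * m + 1 : ℕ) : ℤ) * i + i by push_cast; ring, zpow_add,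
      zpow_mul, zpow_natCast, hx, one_zpow, one_mul]
  rw [inv_inv]
  nth_rewrite 1 [← h3]
  rw [← h4]
  group

end sd

/-- more elements of `A₅` -/
structure A5Ext {U : Type} [Group U] (u a a' b' r' : U) : Prop where
  au : (a * u) ^ 3 = 1
  ha : a' * a' = 1
  hb : b' * b' = 1
  hab : a' * b' = b' * a'
  hne : a' ≠ 1
  ra : r' * a' * r'⁻¹ = b'
  rb : r' * b' * r'⁻¹ = a' * b'
  hr : orderOf r' = 3
  ar : a * r' * a⁻¹ = r'⁻¹

theorem A5Ext.map {U V : Type} [Group U] [Group V] {u a a' b' r' : U} (d : A5Ext u a a' b' r') {f : U →* V}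
    (hf : Function.Injective f) : A5Ext (f u) (f a) (f a') (f b') (f r') :=
  ⟨by rw [← map_mul, ← map_pow, d.au, map_one], by rw [← map_mul, d.ha, map_one], by rw [← map_mul, d.hb, map_one],
    by rw [← map_mul, ← map_mul, d.hab], fun h => d.hne (hf (h.trans (map_one f).symm)),
    by rw [← map_inv, ← map_mul, ← map_mul, d.ra], by rw [← map_inv, ← map_mul, ← map_mul, ← map_mul, d.rb],
    by rw [orderOf_injective f hf, d.hr], by rw [← map_inv, ← map_inv, ← map_mul, ← map_mul, d.ar]⟩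

theorem a5Ext_five : ∃ u v a b r a' b' r' : alternatingGroup (Fin 5), A5Dat u v a b r ∧ A5Ext u a a' b' r' := by
  have : Fact (Nat.Prime 5) := ⟨by norm_num⟩
  have : Fact (Nat.Prime 3) := ⟨by norm_num⟩
  let m (g : Equiv.Perm (Fin 5)) (h : Equiv.Perm.sign g = 1) : alternatingGroup (Fin 5) := ⟨g, h⟩
  refine ⟨m c[(0 : Fin 5), 1, 2, 3, 4] (by decide +kernel), m (c[(1 : Fin 5), 4] * c[(2 : Fin 5), 3]) (by decide +kernel),
    m (c[(0 : Fin 5), 1] * c[(2 : Fin 5), 3]) (by decide +kernel), m (c[(0 : Fin 5), 2] * c[(1 : Fin 5), 3]) (by decide +kernel), m c[(1 : Fin 5), 2, 3] (by decide +kernel),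
    m (c[(0 : Fin 5), 1] * c[(3 : Fin 5), 4]) (by decide +kernel), m (c[(0 : Fin 5), 3] * c[(1 : Fin 5), 4]) (by decide +kernel), m c[(0 : Fin 5), 1, 4] (by decide +kernel),
    ⟨orderOf_eq_prime ?_ ?_, ?_, ?_, orderOf_eq_prime ?_ ?_, orderOf_eq_prime ?_ ?_, ?_, ?_, ?_, ?_⟩,
    ?_, ?_, ?_, ?_, ?_, ?_, ?_, orderOf_eq_prime ?_ ?_, ?_⟩ <;> decide +kernel

theorem exists_a5Ext {U : Type} [Group U] [Finite U] (hs : IsSimpleGroup U) (h : Nat.card U = 60 ∨ Nat.card U = 360) :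
    ∃ u v a b r a' b' r' : U, A5Dat u v a b r ∧ A5Ext u a a' b' r' := by
  obtain ⟨f, hf⟩ : ∃ f : alternatingGroup (Fin 5) →* U, Function.Injective f := by
    rcases h with h | h
    · obtain ⟨e⟩ := S0494.result h
      exact ⟨e.symm.toMonoidHom, e.symm.injective⟩
    · obtain ⟨e⟩ := S0497.result h
      let ι := (Fin.castSuccEmb : Fin 5 ↪ Fin 6).toEquivRange
      exact ⟨e.symm.toMonoidHom.comp (((Equiv.Perm.extendDomainHom ι).comp (alternatingGroup (Fin 5)).subtype).codRestrict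
        _ fun g => Equiv.Perm.mem_alternatingGroup.2 ((Equiv.Perm.sign_extendDomain g.1 ι).trans g.2)),
        e.symm.injective.comp fun g g' hg =>
          Subtype.ext (Equiv.Perm.extendDomainHom_injective ι (congrArg Subtype.val hg))⟩
  obtain ⟨u, v, a, b, r, a', b', r', d, d'⟩ := a5Ext_five
  exact ⟨_, _, _, _, _, _, _, _, d.map hf, d'.map hf⟩

section monster
open Cfsg.Agent.H816.MSch Cfsg.Agent.H816.M23.Tx Cfsg.Agent.H816.M23.Inst Cfsg.Agent.H816.M23.Main
open Cfsg.Agent.BpSpor.MBigModel (MG zz pi chart cls)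
open Cfsg.Agent.LThreeB.Row (TA)
open Cfsg.Agent.SP.Mon Cfsg.Agent.SP.Mon.C2A Cfsg.Agent.SP.Mon.NL
open Cfsg.Agent.TAB.M5 (x0 DD SS loc)
open Cfsg.Agent.H136.M23.BWords (xu)

theorem card_KK' (p q : XT) : Nat.card (C2A.KK p q) * (97239461142009186000 * k (c p q)) =
    808017424794512875886459904961710757005754368000000000 := by
  rw [← card_st p q]
  congr 3
  ext g
  rw [MulAction.mem_stabilizer_iff, Prod.smul_mk, Prod.mk.injEq, fix_iff, fix_iff, mem_inf,
    mem_centralizer_singleton_iff, mem_centralizer_singleton_iff]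

theorem sd_KK {p q : XT} {r : ℕ} (hr : r.Prime) (h2 : r ≠ 2) (ho : orderOf (tX p * tX q) = r)
    (h : Nat.card (centralizer ({tX p * tX q} : Set MG)) = r * Nat.card (C2A.KK p q)) :
    SD (tX p * tX q) (tX p) (C2A.KK p q) := by
  have := BpSpor.MBigModel.finite
  refine SD.of_card hr h2 ho (tX_sq p) ?_ (fun g hg => mem_centralizer_singleton_iff.2 (comm_KK hg).symm.eq)
    (fun g hg => mem_centralizer_singleton_iff.1 hg.1) h
  rw [← mul_assoc, tX_sq, one_mul, mul_inv_rev, inv_eq_of_mul_eq_one_left (tX_sq q)]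

theorem t3C_conj {x y : MG} (hx : T3C x) (hy : T3C y) : ∃ g : MG, g * y * g⁻¹ = x := by
  obtain ⟨x', g, h1, rfl⟩ := exists_in' hx.1 (by rw [hx.2]; norm_num)
  obtain ⟨y', g', h2, rfl⟩ := exists_in' hy.1 (by rw [hy.2]; norm_num)
  have key : ∀ (w : centralizer ({zz} : Set MG)) (g : MG), orderOf w = 3 → T3C (g * w * g⁻¹) →
      LThreeMB.fr (_root_.Cfsg.Agent.BpSpor.MBigModel.pi w) = 2 ^ 8 := fun w g h3 h4 => by
    rcases tri_in h3 with h | h | h
    · exact absurd h4 (h.1.conj g).not_C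
    · exact absurd h4 (h.1.conj g).not_C
    · exact h.2.1
  obtain ⟨k, hk⟩ := conj_of_fr LThreeCo1.Ranks.eight h1 h2 (key _ _ h1 hx) (key _ _ h2 hy)
  exact ⟨g * k * g'⁻¹, by rw [← hk]; group⟩

/-- `S₃ × Th` -/
theorem sd_3C {y : MG} (hy : T3C y) : ∃ s K, SD y s K ∧ TA s ∧ Nonempty (K ≃* Spor.Th) := by
  obtain ⟨q, hq⟩ := exists_four H816.MSch.b0
  have ho : ∀ {p q : XT}, c p q = 4 → orderOf (tX p * tX q) = 3 := fun h =>
    ord_eq (by rw [h]; decide) Nat.prime_three (ax.four _ _ h)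
  obtain ⟨g, hg⟩ := t3C_conj hy ⟨ho hq, cent_four hq⟩
  rw [← c_inv g] at hq
  rw [← conj_mul, ← tX_smul, ← tX_smul] at hg
  exact ⟨_, _, hg ▸ sd_KK Nat.prime_three (by norm_num) (ho hq) (by rw [cent_four hq, card_KK hq]),
    (ta_iff _).2 ⟨_, rfl⟩, iso_KK hq⟩

/-- a `2A`-pure four-group -/
theorem not_dvd_pure {a b : MG} (ha : TA a) (hb : TA b) (hab : TA (a * b)) :
    ¬ 125 ∣ Nat.card (centralizer ({a} : Set MG) ⊓ centralizer ({b} : Set MG) : Subgroup MG) := by
  obtain ⟨p, rfl⟩ := (ta_iff _).1 ha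
  obtain ⟨q, rfl⟩ := (ta_iff _).1 hb
  obtain ⟨w, hw⟩ := (ta_iff _).1 hab
  have h := card_KK' p q
  rw [ax.col_one hw] at h
  rintro ⟨m, hm⟩
  have h1 : 125 * m * (97239461142009186000 * 27143910000) = 808017424794512875886459904961710757005754368000000000 := by
    rw [← hm]; exact h
  omega

theorem no_5B {U : Type} [Group U] (hs : IsSimpleGroup U) (hn : ¬ IsMulCommutative U) {u v a b r a' b' r' : U}
    (d : A5Dat u v a b r) (d' : A5Ext u a a' b' r') {τ φ : U →* MG} (hτ : Function.Injective τ)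
    (hφ : Function.Injective φ) (hc : ∀ g h, τ g * φ h = φ h * τ g) (hx : τ u = x0) : False := by
  have := BpSpor.MBigModel.finite
  have hS := loc.Sn
  let ψ : U →* DD := φ.codRestrict _ fun h => mem_centralizer_singleton_iff.2 (by rw [← hx, hc])
  have hψ : Function.Injective ψ := fun g h e => hφ (congrArg Subtype.val e)
  have eφ := d'.map hφ
  have eψ := d'.map hψ
  have h125 := loc_a4 loc hs ψ d'.ha d'.hb d'.hab d'.hne d'.ra d'.rb eψ.hr
  have h1 : 125 ∣ Nat.card (centralizer ({φ r'} : Set MG)) :=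
    (h125.trans (card_dvd_of_le inf_le_left)).trans (TAB.M5.card_D_dvd (ψ r'))
  have hy : T3C (φ r') := by
    rcases tri_ev eφ.hr (two_dvd_of_inv (d.map hτ).ha (hc a r')) with h | h | h
    · rw [h.2] at h1; norm_num at h1
    · exact absurd (h1.trans h.card_dvd) (by norm_num)
    · exact h
  obtain ⟨s, K, e, hs2, ⟨f⟩⟩ := sd_3C hy
  have ha2 : φ a * φ a = 1 := by rw [← pow_two, ← (d.map hφ).ha, pow_orderOf_eq_one]
  have hy3 : φ r' ^ 3 = 1 := by rw [← eφ.hr, pow_orderOf_eq_one]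
  obtain ⟨k, hk, hk2, i, hi⟩ := e.exists_k' ha2 eφ.ar
  by_cases hk1 : k = 1
  · rw [hk1, mul_one] at hi
    obtain ⟨g, hg⟩ := e.conj_s (m := 1) hy3 i
    have ta : TA (φ a) := by rw [hi, ← hg]; exact ta_conj hs2 g
    have tb : TA (φ b) := by rw [← (d.map hφ).ra]; exact ta_conj ta _
    have tab : TA (φ a * φ b) := by rw [← (d.map hφ).rb]; exact ta_conj tb _
    have h2 : (centralizer ({ψ a} : Set DD)).relIndex SS ≤ 25 := by
      refine loc_s3 loc (Subtype.ext ha2) (Subtype.ext (by exact hy3)) eψ.ar h125 fun n hn hny => ?_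
      obtain ⟨j, κ, hκ, h3⟩ := e.split n (congrArg Subtype.val hny).symm
      have h4 : (ψ a * n * (ψ a)⁻¹ * n⁻¹) ^ 3 = 1 := Subtype.ext (by
        have h5 : φ a * φ r' ^ j * (φ a)⁻¹ = (φ r' ^ j)⁻¹ := by rw [← conj_zpow, eφ.ar, inv_zpow]
        have h6 : φ a * κ * (φ a)⁻¹ = κ := by rw [hi, (e.comm i hκ).eq, mul_inv_cancel_right]
        change (φ a * n * (φ a)⁻¹ * (n : MG)⁻¹) ^ 3 = 1
        rw [h3, ← conj_mul, h5, h6, mul_inv_rev, mul_assoc, mul_inv_cancel_left, ← pow_two, ← pow_mul, mul_comm, pow_mul,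
          inv_pow, ← zpow_natCast (φ r' ^ j), ← zpow_mul, mul_comm, zpow_mul, zpow_natCast, hy3, one_zpow, inv_one,
          one_pow])
      have h5 := eq_one_of_coprime (by norm_num) h4 (loc.pow_S (mul_mem (hS.conj_mem n hn _) (inv_mem hn)))
      calc ψ a * n = ψ a * n * (ψ a)⁻¹ * n⁻¹ * (n * ψ a) := by group
        _ = _ := by rw [h5, one_mul]
    have h3 := loc_two loc h2 (C' := centralizer ({ψ b} : Set DD)) (by rw [← (d.map hψ).ra, relIndex_conj]; exact h2)
    refine not_dvd_pure ta tb tab (h3.trans ?_)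
    rw [← card_map_of_injective (centralizer ({(x0 : MG)} : Set MG)).subtype_injective]
    refine card_dvd_of_le ?_
    rintro _ ⟨g, ⟨h4, h5⟩, rfl⟩
    exact ⟨mem_centralizer_singleton_iff.2 (congrArg Subtype.val (mem_centralizer_singleton_iff.1 h4)),
      mem_centralizer_singleton_iff.2 (congrArg Subtype.val (mem_centralizer_singleton_iff.1 h5))⟩
  · have hT : τ.range ≤ K := e.perfect_le (range_perfect hs hn τ) (by
      rintro _ ⟨g, rfl⟩
      exact mem_centralizer_singleton_iff.2 (hc g r'))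
    have hm : ∀ g, τ g ∈ K := fun g => hT ⟨g, rfl⟩
    let F : U →* Spor.Th := f.toMonoidHom.comp (τ.codRestrict K hm)
    have hF : Function.Injective F := f.injective.comp fun g h e => hτ (congrArg Subtype.val e)
    have hFk : ∀ g, F g * f ⟨k, hk⟩ = f ⟨k, hk⟩ * F g := fun g => by
      change f ⟨τ g, hm g⟩ * _ = _ * f ⟨τ g, hm g⟩
      rw [← map_mul, ← map_mul]
      exact congrArg f (Subtype.ext (e.comm_k (hm g) (by rw [← hi, hc])))
    refine th_no (k := f ⟨k, hk⟩) ?_ (hFk a) (hFk u) ?_ (d.map hF).hu (d'.map hF).au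
    · rw [MulEquiv.orderOf_eq, ← Subgroup.orderOf_coe]
      exact orderOf_eq_prime (by rw [pow_two]; exact hk2) hk1
    · rw [← pow_two, ← (d.map hF).ha, pow_orderOf_eq_one]

/-- in a product of two commuting groups `A₅` or `A₆` the elements of order five are in the class `5A` -/
theorem conj_xu {U : Type} [Group U] (hs : IsSimpleGroup U) (hn : ¬ IsMulCommutative U) {u v a b r a' b' r' : U}
    (d : A5Dat u v a b r) (d' : A5Ext u a a' b' r') {τ φ : U →* MG} (hτ : Function.Injective τ)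
    (hφ : Function.Injective φ) (hc : ∀ g h, τ g * φ h = φ h * τ g) : IsConj (xu : MG) (τ u) := by
  refine (TAB.M5.five_cases TAB.M5.x0_ord TAB.M5.x0_fr (d.map hτ).hu
    (H58.MonThirteen.ev_five (d.map hτ).hu (d.map hφ).ha (hc u a))).resolve_right fun h => ?_
  obtain ⟨g, hg⟩ := isConj_iff.1 h.symm
  exact no_5B hs hn d d' (τ := (MulAut.conj g).toMonoidHom.comp τ) (φ := (MulAut.conj g).toMonoidHom.comp φ)
    ((MulAut.conj g).injective.comp hτ) ((MulAut.conj g).injective.comp hφ)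
    (fun a b => by simp only [MonoidHom.comp_apply, ← map_mul, hc]) hg

end monster

end Cfsg.Agent.Cam.Spor
end

-- part: Cam/Spor/RowM
section
/-!
# S3689, S3690: the row M (helper95); `rank7_m` is in `MBig`
-/

set_option autoImplicit false

namespace Cfsg.Agent.Cam.Spor

open Cfsg Subgroup
open Cfsg.Agent.BpSpor.MBigModel (MG)
open Cfsg.Agent.H136.M23.BWords (xu)

theorem noCore_MG (big : Big) : NoCore MG := fun U _ _ τ α β R R' c => by
  have := BpSpor.MBigModel.finite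
  have : Fact (Nat.Prime 5) := ⟨Nat.prime_five⟩
  obtain ⟨e⟩ := MonsterP.Equiv.equiv
  obtain ⟨φ, hφ, hm⟩ := c.pair.copy
  rcases cand_m big ⟨e.symm⟩ c with h | h | h | h | h | h
  · exact m_thirteen big c h
  · exact m_eleven big c h
  · exact m_seven big c h
  · obtain ⟨u, v, a, b, r, a', b', r', d, d'⟩ := exists_a5Ext c.simple (Or.inl h)
    exact m_fiveA c (Or.inl h) d.hu (conj_xu c.simple c.noncomm d d' c.pair.inj hφ fun g k => c.pair.comm g _ (hm k))
  · obtain ⟨u₀, v, a, b, r, a', b', r', d, d'⟩ := exists_a5Ext c.simple (Or.inr h)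
    have h1 := conj_xu c.simple c.noncomm d d' c.pair.inj hφ fun g k => c.pair.comm g _ (hm k)
    obtain ⟨u, v, r, d₆⟩ := exists_a6Dat c.simple h
    refine m_sixA c h d₆ (isConj_xu ((c.pair.orderOf_eq u).trans d₆.hu) ?_)
    obtain ⟨g, l, hl⟩ := CpAutON.Gen.conj_into (p := 5) (by rw [h]; norm_num) d₆.hu d.hu
    have h3 : τ g * τ u * (τ g)⁻¹ = τ u₀ ^ l := by
      rw [← map_inv, ← map_mul, ← map_mul, ← map_zpow]; exact congrArg τ hl.symm
    rw [← BpSpor.card_cent_of_conj h3]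
    refine Dvd.dvd.trans (by rw [TAB.M5.card_cent_conj h1, TAB.M5.card_cent_xu]; norm_num)
      (card_dvd_of_le (H := centralizer ({τ u₀} : Set MG)) fun y hy => ?_)
    exact mem_centralizer_singleton_iff.2
      ((show Commute y (τ u₀) from mem_centralizer_singleton_iff.1 hy).zpow_right l).eq
  · obtain ⟨u, hu, -⟩ := Core.exists_orderOf (U := U) (r := 5) (by norm_num) (by rw [h]; norm_num)
    have hx : orderOf (τ u) = 5 := (c.pair.orderOf_eq u).trans hu
    have h1 := c.pair.order_mul_dvd' c.simple c.noncomm u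
    rw [hu, h] at h1
    obtain ⟨t, ht, htx⟩ := SP.Mon.NL.exists_inv (Dvd.dvd.trans (by norm_num) h1)
    rcases H58.MonFiveB.five hx (H58.MonThirteen.ev_five hx ht htx.symm) with h2 | h2
    · exact m_fiveA c (Or.inr h) hu (isConj_xu hx (by rw [h2]; norm_num))
    · exact absurd (h1.trans h2) (by norm_num)

theorem noCore_m {L : Type} [Group L] [Finite L] (big : Big) (h : Spor.IsoM L) : NoCore L := by
  obtain ⟨e1⟩ := h
  obtain ⟨e2⟩ := MonsterP.Equiv.equiv
  exact (noCore_MG big).of_equiv (e1.trans e2)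

end Cfsg.Agent.Cam.Spor
end

private theorem dce_7dcba60c62e2 : _root_.True := by
  try have : _root_.True := by simp only [_root_.Cfsg.Agent.Cam.Spor.ok5.eq_1]
  exact _root_.True.intro
end

-- part: Cam/Spor/BFaM
section
prune_inst 0x4e0107e344100100000000010c0003e62d2000090004b8801c1400b420f88ae40400206208ca0031010028c842030004811880000420000000a000000411c0080102302029058ac0011000000b082180c00000000000000000000000000000000000000000
set_option linter.all false
open scoped Cfsg.Agent.FastGrp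

/-!
# S3689, S3690: the class `5A` of the Baby Monster, inside the Monster (helper66)
-/

set_option autoImplicit false

namespace Cfsg.Agent.Cam.Spor

open Cfsg Subgroup

section gen
variable {M L : Type} [Group M] [Group L] {t : M} {π : centralizer ({t} : Set M) →* L}

theorem card_prod {E H : Type} [Group E] [Group H] {x : E} {j : H →* E}
    (hd : ∀ (i : ℤ) (h : H), x ^ i = j h → h = 1) {B : Subgroup H} {A : Subgroup E}
    (hA : ∀ g, g ∈ A ↔ ∃ i : ℤ, ∃ h ∈ B, g = x ^ i * j h) : Nat.card A = orderOf x * Nat.card B := by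
  rw [← Nat.card_zpowers, ← Nat.card_prod]
  refine (Nat.card_congr (Equiv.ofBijective (fun p : zpowers x × B => (⟨p.1 * j p.2, ?_⟩ : A)) ⟨?_, ?_⟩)).symm
  · obtain ⟨i, hi⟩ := p.1.2
    exact (hA _).2 ⟨i, p.2, p.2.2, by rw [← hi]⟩
  · rintro ⟨⟨_, i, rfl⟩, p⟩ ⟨⟨_, k, rfl⟩, q⟩ h
    have h1 : x ^ i * j p = x ^ k * j q := congrArg Subtype.val h
    have h2 : (q : H) * (p : H)⁻¹ = 1 := hd (-k + i) _ (by
      rw [zpow_add, zpow_neg, map_mul, map_inv, inv_mul_eq_iff_eq_mul, ← mul_assoc, ← h1, mul_inv_cancel_right])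
    have h3 : p = q := Subtype.ext (mul_inv_eq_one.1 h2).symm
    subst h3
    exact Prod.ext (Subtype.ext (mul_right_cancel h1)) rfl
  · rintro ⟨g, hg⟩
    obtain ⟨i, h, hh, rfl⟩ := (hA g).1 hg
    exact ⟨⟨⟨_, i, rfl⟩, ⟨h, hh⟩⟩, rfl⟩

theorem Cov.card_pair [Finite M] (c : Cov t π) {a k : centralizer ({t} : Set M)} {n : ℕ} (hn : Odd n)
    (ha : (a : M) ^ n = 1) :
    Nat.card (centralizer ({π a} : Set L) ⊓ centralizer ({π k} : Set L) : Subgroup L) ∣
      Nat.card (centralizer {a} ⊓ centralizer {k} : Subgroup (centralizer ({t} : Set M))) ∧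
    ((∃ g : centralizer ({t} : Set M), g * a = a * g ∧ (g : M) * k * (g : M)⁻¹ = k * t) →
      Nat.card (centralizer ({π a} : Set L) ⊓ centralizer ({π k} : Set L) : Subgroup L) =
      Nat.card (centralizer {a} ⊓ centralizer {k} : Subgroup (centralizer ({t} : Set M)))) := by
  have h1 := c.card_comap (centralizer ({π a} : Set L) ⊓ centralizer ({π k} : Set L))
  have hY : ∀ g, g ∈ (centralizer ({π a} : Set L) ⊓ centralizer ({π k} : Set L)).comap π ↔
      g * a = a * g ∧ ((g : M) * k * (g : M)⁻¹ = k ∨ (g : M) * k * (g : M)⁻¹ = k * t) := fun g => by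
    rw [mem_comap, mem_inf, mem_centralizer_singleton_iff, mem_centralizer_singleton_iff]
    refine and_congr ⟨fun h => Subtype.ext (c.comm hn ha h), fun h => by rw [← map_mul, ← map_mul, h]⟩ ?_
    rw [← mul_inv_eq_iff_eq_mul, ← map_inv, ← map_mul, ← map_mul, c.eq_iff]
    rfl
  have hA : ∀ g, g ∈ (centralizer {a} ⊓ centralizer {k} : Subgroup (centralizer ({t} : Set M))) ↔
      g * a = a * g ∧ (g : M) * k * (g : M)⁻¹ = k := fun g => by
    rw [mem_inf, mem_centralizer_singleton_iff, mem_centralizer_singleton_iff, mul_inv_eq_iff_eq_mul]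
    exact and_congr Iff.rfl Subtype.ext_iff
  generalize (centralizer ({π a} : Set L) ⊓ centralizer ({π k} : Set L)).comap π = Y at h1 hY
  generalize (centralizer {a} ⊓ centralizer {k} : Subgroup (centralizer ({t} : Set M))) = A at hA
  have hle : A ≤ Y := fun g hg => (hY g).2 ⟨((hA g).1 hg).1, Or.inl ((hA g).1 hg).2⟩
  have h2 := (A.subgroupOf Y).card_mul_index
  rw [Nat.card_congr (subgroupOfEquivOfLe hle).toEquiv, h1] at h2
  have h3 : (A.subgroupOf Y).index ∣ 2 := by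
    rw [index_dvd_two_iff]
    by_cases h : ∃ g : Y, (g : centralizer ({t} : Set M)) ∉ A
    · obtain ⟨g, hg⟩ := h
      refine ⟨g, fun b => or_iff_not_imp_right.2 fun hb => (hA _).2 ⟨((hY _).1 (b * g).2).1, ?_⟩⟩
      have h4 := ((hY _).1 g.2).2.resolve_left fun h => hg ((hA _).2 ⟨((hY _).1 g.2).1, h⟩)
      have h5 := ((hY _).1 b.2).2.resolve_left fun h => hb ((hA _).2 ⟨((hY _).1 b.2).1, h⟩)
      change ((b : centralizer ({t} : Set M)) : M) * (g : centralizer ({t} : Set M)) * k *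
        (((b : centralizer ({t} : Set M)) : M) * (g : centralizer ({t} : Set M)))⁻¹ = k
      generalize (b : centralizer ({t} : Set M)) = b' at h5
      generalize (g : centralizer ({t} : Set M)) = g' at h4
      calc (b' : M) * g' * k * ((b' : M) * g')⁻¹ = b' * (g' * k * (g' : M)⁻¹) * (b' : M)⁻¹ := by group
        _ = b' * k * (b' : M)⁻¹ * (b' * t) * (b' : M)⁻¹ := by rw [h4]; group
        _ = k * (t * t) := by rw [h5, comm_t b']; group
        _ = k := by rw [c.tt, mul_one]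
    · exact ⟨1, fun b => Or.inr (by_contra fun hb => h ⟨b, hb⟩)⟩
  rcases (Nat.dvd_prime Nat.prime_two).1 h3 with h4 | h4
  · refine ⟨⟨2, by rw [h4] at h2; omega⟩, ?_⟩
    rintro ⟨g, hg, hg'⟩
    have h5 := ((hA g).1 (subgroupOf_eq_top.1 (index_eq_one.1 h4) ((hY g).2 ⟨hg, Or.inr hg'⟩))).2
    exact absurd (mul_eq_left.1 (hg'.symm.trans h5)) c.t_ne
  · rw [h4] at h2
    exact ⟨⟨1, by omega⟩, fun _ => by omega⟩

end gen

open Cfsg.Agent.BpSpor.MBigModel Cfsg.Agent.TAB.M5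
open Cfsg.Agent.H136.M23.BWords (xu)
open Cfsg.Agent.LThreeB.Row (TA)
open Cfsg.Agent.HN.Pres Cfsg.Agent.HN.H0Basic Cfsg.Agent.HN.Syl
open Cfsg.Agent.HN.NormalH (ψ)

/-- a `2A`-involution commuting with `xu` comes from the class `2A` of `HN` -/
theorem ta_emb {t : MG} (ht : TA t) (h : (xu : MG) * t = t * xu) : ∃ g : Spor.HN, emb g * t * (emb g)⁻¹ = emb (ψ τ) := by
  have ho := SP.Mon.NL.ta_order ht
  obtain ⟨m, rfl⟩ := mem_emb h (by rw [ho]; norm_num)
  rw [orderOf_emb] at ho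
  have hs := ne_sing (h := m) (by rw [ho]; norm_num)
  have h1 := TAB.M7.ch_pow_prime ((xu : MG) * emb m) Nat.prime_five
  have h2 : ((xu : MG) * emb m) ^ 5 = emb m := by
    rw [(comm_emb m).mul_pow, xu_pow, one_mul, ← map_pow, show 5 = 2 * 2 + 1 from rfl, pow_succ, pow_mul, ← ho,
      pow_orderOf_eq_one, one_pow, one_mul]
  rw [h2, TAB.M7.ch_of_chr (a := (H651.HNF.tyH m).b + 1) (by rw [chr_emb hs]; push_cast; rfl),
    TAB.M7.ch_of_chr (a := 4372) (by rw [TAB.M4.chr_ta ht]; norm_num)] at h1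
  have h3 := H651.HNF.table.ord m hs
  have h4 := H651.HNF.table.cent m hs
  rcases SigZeroHN.card_centralizer_cases ho with ⟨h5, -⟩ | ⟨-, h5⟩
  · obtain ⟨g, hg⟩ := isConj_iff.1 h5
    exact ⟨g, by rw [← map_inv, ← map_mul, ← map_mul, hg]⟩
  · exfalso
    rw [h5] at h4
    revert h1 h4
    generalize H651.HNF.tyH m = y
    revert y
    decide +kernel

theorem comm_t0 (h : H0) : emb (ψ h) * emb (ψ τ) = emb (ψ τ) * emb (ψ h) := by
  rw [← map_mul, ← map_mul, τ_comm, map_mul, map_mul]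

/-- `2.HS.2` inside `C(t)` -/
noncomputable def jE : H0 →* centralizer ({emb (ψ τ)} : Set MG) :=
  (emb.comp ψ).codRestrict _ fun h => mem_centralizer_singleton_iff.2 (comm_t0 h)

theorem jE_coe (h : H0) : (jE h : MG) = emb (ψ h) := rfl

theorem jE_inj : Function.Injective jE := fun _ _ h =>
  KFacts.HN.emb.inj (emb_inj (congrArg (fun z : centralizer ({emb (ψ τ)} : Set MG) => (z : MG)) h))

/-- the element `xu` of `C(t)` -/
noncomputable def xE : centralizer ({emb (ψ τ)} : Set MG) := ⟨xu, mem_centralizer_singleton_iff.2 (comm_emb _)⟩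

theorem xE_comm (h : H0) : jE h * xE = xE * jE h := Subtype.ext (comm_emb _).symm

theorem xE_split {g : centralizer ({emb (ψ τ)} : Set MG)} (hg : g * xE = xE * g) :
    ∃ (i : ℤ) (h : H0), g = xE ^ i * jE h := by
  obtain ⟨i, m, hm⟩ := xu_split (c := g) (congrArg Subtype.val hg)
  obtain ⟨h, rfl⟩ := KFacts.HN.emb.cent m (emb_inj (by
    have h1 : Commute ((xu : MG) ^ i) (emb (ψ τ)) := (comm_emb _).zpow_left i
    rw [map_mul, map_mul, show emb m = ((xu : MG) ^ i)⁻¹ * g by rw [hm, inv_mul_cancel_left]]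
    exact (h1.inv_left.mul_left (comm_t g)).eq))
  exact ⟨i, h, Subtype.ext hm⟩

theorem card_xE (k : H0) : Nat.card (centralizer {xE} ⊓ centralizer {jE k} : Subgroup (centralizer ({emb (ψ τ)} : Set MG))) =
    5 * Nat.card (centralizer ({k} : Set H0)) := by
  rw [← orderOf_xu', ← show orderOf xE = orderOf (xu : MG) from (Subgroup.orderOf_coe xE).symm]
  refine card_prod (j := jE) (fun i h e => KFacts.HN.emb.inj ((xu_disj (congrArg Subtype.val e)).trans (map_one ψ).symm))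
    fun g => ?_
  rw [mem_inf, mem_centralizer_singleton_iff, mem_centralizer_singleton_iff]
  have h1 : ∀ (i : ℤ) (h : H0), Commute (xE ^ i) (jE h) := fun i h => (show Commute xE (jE h) from (xE_comm h).symm).zpow_left i
  constructor
  · rintro ⟨hg, hk⟩
    obtain ⟨i, h, rfl⟩ := xE_split hg
    refine ⟨i, h, mem_centralizer_singleton_iff.2 (jE_inj ?_), rfl⟩
    rw [mul_assoc, ← mul_assoc (jE k), ← (h1 i k).eq, mul_assoc] at hk
    rw [map_mul, map_mul, mul_left_cancel hk]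
  · rintro ⟨i, h, hh, rfl⟩
    refine ⟨(((Commute.refl xE).zpow_left i).mul_left (xE_comm h)).eq, ((h1 i k).mul_left ?_).eq⟩
    change jE h * jE k = jE k * jE h
    rw [← map_mul, ← map_mul, mem_centralizer_singleton_iff.1 hh]

theorem ta_jE (ht : TA (emb (ψ τ))) {k : H0} (h : IsConj gz k) : TA (emb (ψ k)) :=
  (show IsConj _ _ from ht).trans (emb.map_isConj (HN.InvHN.isConj_z.symm.trans (ψ.map_isConj h)))

variable {L : Type} [Group L] {π : centralizer ({emb (ψ τ)} : Set MG) →* L}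

/-- **the class `5A` of `B`** -/
theorem f5A (ht : TA (emb (ψ τ))) (c : Cov (emb (ψ τ)) π) : ∃ (s : L) (K : Subgroup L), F5A (π xE) s K := by
  have := finite
  obtain ⟨δ, d⟩ := exists_delta
  have h5 : Odd 5 := by decide
  have hx5 : (xE : MG) ^ 5 = 1 := xu_pow
  let s : centralizer ({emb (ψ τ)} : Set MG) := ⟨δ, mem_centralizer_singleton_iff.2 (d.cent _ (emb_mem _)).symm⟩
  refine ⟨π s, (π.comp jE).range, ⟨fun g hg => ?_, ?_, ?_, ?_, ?_⟩, ?_, ?_⟩
  · obtain ⟨g, rfl⟩ := c.surj g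
    obtain ⟨i, h, rfl⟩ := xE_split (Subtype.ext (c.comm h5 hx5 hg))
    exact ⟨i, _, ⟨h, rfl⟩, by rw [map_mul, map_zpow]; rfl⟩
  · rintro _ ⟨h, rfl⟩
    rw [mem_centralizer_singleton_iff, MonoidHom.comp_apply, ← map_mul, ← map_mul, xE_comm]
  · rw [← map_mul, show s * s = 1 from Subtype.ext d.sq, map_one]
  · rw [← map_inv, ← map_mul, ← map_mul, ← map_inv]
    exact congrArg π (Subtype.ext d.inv)
  · rintro _ ⟨h, rfl⟩
    rw [MonoidHom.comp_apply, ← map_mul, ← map_mul]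
    exact congrArg π (Subtype.ext (d.cent _ (emb_mem _)))
  · have h1 := c.card_comap (centralizer ({π xE} : Set L))
    have h2 := card_xE 1
    have h3 : (centralizer ({π xE} : Set L)).comap π = centralizer {xE} ⊓ centralizer {jE 1} := by
      ext g
      rw [mem_comap, mem_inf, mem_centralizer_singleton_iff, mem_centralizer_singleton_iff,
        mem_centralizer_singleton_iff, map_one, mul_one, one_mul, and_iff_left rfl]
      exact ⟨fun h => Subtype.ext (c.comm h5 hx5 h), fun h => by rw [← map_mul, ← map_mul, h]⟩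
    have h4 : centralizer ({1} : Set H0) = ⊤ :=
      eq_top_iff.2 fun g _ => mem_centralizer_singleton_iff.2 (by rw [mul_one, one_mul])
    rw [h4, card_top, HN.WordEq.card_H0] at h2
    rw [h3, h2] at h1
    omega
  rintro _ ⟨k, rfl⟩ hk
  rw [MonoidHom.comp_apply] at hk ⊢
  obtain ⟨h1, h2⟩ := c.card_pair (a := xE) (k := jE k) h5 hx5
  rw [card_xE] at h1 h2
  have h3 : k ^ 2 = 1 ∨ k ^ 2 = τ := by
    have h4 := (c.ker (jE (k ^ 2))).1 (by rw [map_pow, map_pow, ← hk, pow_orderOf_eq_one])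
    exact h4.imp (fun h => jE_inj ((Subtype.ext h).trans (map_one jE).symm)) fun h => jE_inj (Subtype.ext h)
  have hne : π (jE k) ≠ 1 := fun h => by
    rw [h, orderOf_one] at hk
    omega
  have h9 : ∀ {m : H0} {n : ℕ}, IsConj m k → Nat.card (centralizer ({m} : Set H0)) = n → ¬ 9 ∣ 5 * n →
      ¬ 9 ∣ Nat.card (centralizer ({π xE} : Set L) ⊓ centralizer ({π (jE k)} : Set L) : Subgroup L) :=
    fun h4 h5 h6 h7 => h6 (by rw [← h5, ← card_cent_conj h4]; exact h7.trans h1)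
  rcases sq_cases h3 with h | h | h | h | h | h | h
  · exact absurd (by rw [h, map_one, map_one]) hne
  · exact absurd ((c.ker _).2 (Or.inr (by rw [h]; rfl))) hne
  · exact Or.inl (h9 h HN.CentUp.card_centralizer_a (by norm_num))
  · exact Or.inl (h9 h HN.CentUp.card_centralizer_aτ (by norm_num))
  · have h4 : k ^ 2 = τ := by
      obtain ⟨g, rfl⟩ := isConj_iff.1 h
      rw [conj_pow, show gx ^ 2 = τ from rfl, τ_comm, mul_inv_cancel_right]
    have h6 : (k * τ) ^ 2 = τ := by rw [(show Commute k τ from τ_comm k).mul_pow, h4, τ_sq, mul_one]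
    obtain ⟨g, hg⟩ := isConj_iff.1 (h.symm.trans (isConj_of_sq_eq_τ h6))
    refine Or.inr (Or.inl ?_)
    rw [h2 ⟨jE g, xE_comm g, ?_⟩, H981.M23.HNTwoA.card_of_sq h4]
    rw [jE_coe, jE_coe, ← map_inv, ← map_inv, ← map_mul, ← map_mul, ← map_mul, ← map_mul, ← map_mul, ← map_mul, hg]
  · refine Or.inr (Or.inr fun w hw hkw => by_contra fun hw1 => ?_)
    have : Fact (Nat.Prime 5) := ⟨Nat.prime_five⟩
    obtain ⟨y, hy, rfl⟩ := c.lift Nat.prime_five h5 (orderOf_eq_prime hw hw1)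
    have hy5 : (y : MG) ^ 5 = 1 := by rw [← hy, pow_orderOf_eq_one]
    have h4 : emb (ψ k) * y * (emb (ψ k))⁻¹ = (y : MG)⁻¹ := c.eq_of_odd (a := jE k * y * (jE k)⁻¹) (b := y⁻¹) h5
      (by rw [Subgroup.coe_mul, Subgroup.coe_mul, Subgroup.coe_inv, conj_pow, hy5, mul_one, mul_inv_cancel])
      (by rw [Subgroup.coe_inv, inv_pow, hy5, inv_one]) (by rw [map_mul, map_mul, map_inv, map_inv, hkw])
    have h6 : IsConj gz (k * τ) := by
      obtain ⟨g, rfl⟩ := isConj_iff.1 h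
      refine HN.FusOne.isConj_z_zτ.trans (isConj_iff.2 ⟨g, ?_⟩)
      rw [mul_assoc (g * gz) g⁻¹, τ_comm g⁻¹]
      group
    have h7 := SP.Mon.NL.ta_mul_order (ta_jE ht h) (SP.Mon.NL.ta_conj (ta_jE ht h6) y)
    have hkk : emb (ψ k) * emb (ψ k) = 1 := by
      rw [← pow_two, ← SP.Mon.NL.ta_order (ta_jE ht h), pow_orderOf_eq_one]
    have h8 : emb (ψ k) * (y * emb (ψ (k * τ)) * (y : MG)⁻¹) = ((y : MG) ^ 2)⁻¹ * emb (ψ τ) := by
      rw [map_mul, map_mul]
      calc emb (ψ k) * (y * (emb (ψ k) * emb (ψ τ)) * (y : MG)⁻¹) = emb (ψ k) * y * (emb (ψ k))⁻¹ *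
          (emb (ψ k) * emb (ψ k)) * (y : MG)⁻¹ * (y * emb (ψ τ)) * (y : MG)⁻¹ := by group
        _ = _ := by rw [h4, hkk, comm_t y]; group
    have h10 : orderOf ((y : MG) ^ 2)⁻¹ = 5 := by
      rw [orderOf_inv, Nat.Coprime.orderOf_pow (by rw [hy]; norm_num), hy]
    rw [h8, (((show Commute (y : MG) _ from comm_t y).pow_left 2).inv_left).orderOf_mul_eq_mul_orderOf_of_coprime
      (by rw [h10, c.ord]; norm_num), h10, c.ord] at h7
    norm_num at h7
  · exact Or.inl (h9 h HN.FactF3.card_centralizer_d (by norm_num))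

end Cfsg.Agent.Cam.Spor
end

-- part: Cam/Spor/RowBM
section
prune_inst 0x4c0107e344122100000180010c0003e42d2000092004b8801c1400b420788ae4160060620bce0031011028874203a8048118800094018000020008a00411c0080142222c29048b00001000000f882180c00000000000000000000000000000000000000000
set_option linter.all false
open scoped Cfsg.Agent.FastGrp

/-!
# S3689, S3690: the Baby Monster (helper66)
-/

set_option autoImplicit false

namespace Cfsg.Agent.Cam.Spor

open Cfsg Subgroup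

section rad

open Cfsg.Agent.H609.T5.Five Cfsg.Agent.BpSpor.M5

variable {D A L : Type} [Group D] [Finite D] [Group A] [Finite A] [Group L] {z x t : D} {N S : Subgroup D}
  {f : centralizer ({z} : Set D) →* A} {ρ : D →* A}

omit [Finite D] [Finite A] in
theorem rs_ker (h : RS z x N f ρ S) {g : D} (hg : ρ g = 1) : ∃ n ∈ N, ∃ e ∈ zpowers z, g = n * e := by
  obtain ⟨n, hn, c, hc, rfl⟩ := h.rad.sup g
  rw [map_mul, h.ρN n hn, one_mul] at hg
  obtain ⟨i, hi | hi⟩ := h.rad.ker ⟨c, mem_centralizer_singleton_iff.2 hc⟩ ((h.ρc _).symm.trans hg)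
  · exact ⟨_, mul_mem hn (zpow_mem h.rad.xN i), 1, one_mem _, by rw [mul_one, ← hi]⟩
  · exact ⟨_, mul_mem hn (zpow_mem h.rad.xN i), z, mem_zpowers z, by rw [mul_assoc, ← hi]⟩

omit [Finite A] in
theorem rs_ne (h : RS z x N f ρ S) (htt : t * t = 1) (ht1 : t ≠ 1) (htz : ∀ d : D, d * t * d⁻¹ ≠ z) : ρ t ≠ 1 := by
  have hp : Fact (Nat.Prime 5) := ⟨Nat.prime_five⟩
  intro h1
  obtain ⟨d, hd⟩ := H844.Ore.BThree.exists_conj_mem _ (H705.OreB.FiveRad.index_odd h.rad) htt
  have h2 : d * t * d⁻¹ * (d * t * d⁻¹) = 1 := by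
    calc d * t * d⁻¹ * (d * t * d⁻¹) = d * (t * t) * d⁻¹ := by group
      _ = 1 := by rw [htt]; group
  obtain ⟨i, hi | hi⟩ := h.rad.ker ⟨_, hd⟩ ((h.ρc _).symm.trans (by
    change ρ (d * t * d⁻¹) = 1
    rw [map_mul, map_mul, h1, map_inv, mul_one, mul_inv_cancel]))
  · have h3 : d * t * d⁻¹ = x ^ i := hi
    rw [h.rad.sq_one (by norm_num) (i := i) (by rw [← h3, h2])] at h3
    exact ht1 (conj_eq_one_iff.1 h3)
  · have h3 : d * t * d⁻¹ = x ^ i * z := hi
    have h4 : x ^ i * x ^ i = 1 := by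
      calc x ^ i * x ^ i = x ^ i * (x ^ i * z) * z := by rw [mul_assoc, mul_assoc, h.rad.zz, mul_one]
        _ = (x ^ i * z) * (x ^ i * z) := by nth_rewrite 1 [← h.rad.xzc i z]; group
        _ = 1 := by rw [← h3, h2]
    rw [h.rad.sq_one (by norm_num) h4, one_mul] at h3
    exact htz d h3

theorem rad5_of (h : RS z x N f ρ S) (hna : ∃ a ∈ S, ∃ b ∈ S, a * b ≠ b * a) (htt : t * t = 1) (hρ : ρ t ≠ 1)
    (κ : centralizer ({t} : Set D) →* L) (hk : ∀ g, κ g = 1 → (g : D) = 1 ∨ (g : D) = t)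
    {x' : centralizer ({t} : Set D)} (hx : (x' : D) = x) (hr : ∀ g : L, g * κ x' = κ x' * g → ∃ y, κ y = g) :
    Rad5 (κ x') ((ρ.ker.subgroupOf _).map κ) ((S.subgroupOf _).map κ) := by
  have hp : Fact (Nat.Prime 5) := ⟨Nat.prime_five⟩
  have hxc : ∀ y, κ y * κ x' = κ x' * κ y := fun y => by
    rw [← map_mul, ← map_mul]
    exact congrArg κ (Subtype.ext (by rw [Subgroup.coe_mul, Subgroup.coe_mul, hx, h.rad.xc]))
  have hzp : ∀ {y : centralizer ({t} : Set D)}, (y : D) ∈ zpowers x → κ y ∈ zpowers (κ x') := by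
    rintro y ⟨i, hi⟩
    exact ⟨i, by rw [show y = x' ^ i from Subtype.ext (by rw [Subgroup.coe_zpow, hx]; exact hi.symm), map_zpow]⟩
  have hk' : ∀ g, κ g = 1 → ρ g = 1 → (g : D) = 1 := fun g h1 h2 => (hk g h1).resolve_right fun h3 => hρ (h3 ▸ h2)
  refine ⟨⟨?_⟩, ?_, ?_, ?_, (h.Sp.comap_subtype).map κ, ⟨x', by rw [SetLike.mem_coe, mem_subgroupOf, hx]; exact h.xS, rfl⟩,
    ?_, ?_, ?_, ?_⟩
  · rintro ⟨_, hq⟩ ⟨k, hk, rfl⟩ ⟨g, hg⟩
    obtain ⟨y, rfl⟩ := hr g (mem_centralizer_singleton_iff.1 hg)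
    exact ⟨y * k * y⁻¹, (inferInstance : ρ.ker.Normal).conj_mem _ hk y, by rw [map_mul, map_mul, map_inv]; rfl⟩
  · have h1 := h.rad.nN
    have h2 := h.rad.isNilpotent (by norm_num)
    have h3 : Group.IsSolvable ρ.ker := solvable_of_mul (N := N) (E := zpowers z) inferInstance
      (Group.isSolvable_of_comm fun a b => mul_comm' a b) fun y hy => rs_ker h hy
    have h4 : Group.IsSolvable (ρ.ker.subgroupOf (centralizer ({t} : Set D))) :=
      Group.isSolvable_of_isSolvable_injective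
        (f := ((Subgroup.subtype _).comp (Subgroup.subtype _)).codRestrict ρ.ker fun p => mem_subgroupOf.1 p.2)
        fun a b e => Subtype.ext (Subtype.ext (congrArg (fun y : ρ.ker => (y : D)) e))
    exact Group.isSolvable_of_surjective (κ.subgroupMap_surjective _)
  · let κ' := κ.codRestrict (centralizer ({κ x'} : Set L)) fun y => mem_centralizer_singleton_iff.2 (hxc y)
    have h1 : Function.Surjective κ' := fun g => by
      obtain ⟨y, hy⟩ := hr g (mem_centralizer_singleton_iff.1 g.2)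
      exact ⟨y, Subtype.ext hy⟩
    have h2 : (ρ.ker.subgroupOf _).map κ' ≤ ((ρ.ker.subgroupOf _).map κ).subgroupOf (centralizer ({κ x'} : Set L)) := by
      rintro _ ⟨k, hk, rfl⟩
      exact ⟨k, hk, rfl⟩
    refine ((index_dvd_of_le h2).trans (index_map_dvd _ h1)).trans ?_
    have h3 : (ρ.comp (centralizer ({t} : Set D)).subtype).range ≤ centralizer ({ρ t} : Set A) := by
      rintro _ ⟨y, rfl⟩
      rw [mem_centralizer_singleton_iff]
      change ρ y * ρ t = ρ t * ρ y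
      rw [← map_mul, ← map_mul, comm_t y]
    change (ρ.comp (centralizer ({t} : Set D)).subtype).ker.index ∣ _
    rw [index_ker]
    refine (card_dvd_of_le h3).trans ?_
    rcases H705.OreB.FiveRad.j2_card h.iso (ρ t) (by rw [← map_mul, htt, map_one]) hρ with h4 | h4 <;> rw [h4]
    norm_num
  · rintro _ ⟨k, hk, rfl⟩ h5
    have h1 : ρ k = 1 := hk
    have h2 := hk' (k ^ 5) (by rw [map_pow, h5]) (by rw [Subgroup.coe_pow, map_pow, h1, one_pow])
    refine ⟨k, mem_subgroupOf.2 ?_, rfl⟩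
    by_cases h3 : (k : D) = 1
    · rw [h3]
      exact one_mem _
    · exact h.mem _ (orderOf_eq_prime h2 h3) h1
  · rintro _ ⟨k, -, rfl⟩
    exact hxc k
  · rintro g hg _ ⟨k, hk, rfl⟩
    obtain ⟨y, rfl⟩ := hr g hg
    exact ⟨y * k * y⁻¹, h.Sn.conj_mem _ hk y, by rw [map_mul, map_mul, map_inv]⟩
  · rintro _ ⟨a, ha, rfl⟩ _ ⟨b, hb, rfl⟩
    obtain ⟨i, hi⟩ := h.rad.comm (by norm_num) (h.SN ha) (h.SN hb)
    rw [← map_inv, ← map_inv, ← map_mul, ← map_mul, ← map_mul]
    refine hzp ⟨i, ?_⟩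
    change x ^ i = (a : D) * b * (a : D)⁻¹ * (b : D)⁻¹
    rw [show (a : D) * b * (a : D)⁻¹ = b * x ^ i from hi, h.rad.xzc i, mul_inv_cancel_right]
  · rintro _ ⟨w, hw, rfl⟩ hc
    have hw' : (w : D) ∈ S := hw
    refine hzp (h.center_le hna hw' fun s hs => ?_)
    have h1 : t * s * t⁻¹ ∈ S := h.Sn.conj_mem _ hs t
    have ht : t⁻¹ = t := inv_eq_of_mul_eq_one_left htt
    obtain ⟨i, hi⟩ := h.rad.comm (by norm_num) (h.SN h1) (h.SN hs)
    have h2 : t * (s * (t * s * t⁻¹)) * t⁻¹ = s * (t * s * t⁻¹) * x ^ i := by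
      calc t * (s * (t * s * t⁻¹)) * t⁻¹ = t * s * t⁻¹ * (t * t * s * (t * t)⁻¹) := by group
        _ = t * s * t⁻¹ * s * (t * s * t⁻¹)⁻¹ * (t * s * t⁻¹) := by rw [htt]; group
        _ = _ := by rw [hi, mul_assoc s, ← h.rad.xzc i, ← mul_assoc]
    rw [h.rad.cent_of_mod (by norm_num) htt h2, mul_one] at h2
    let c : centralizer ({t} : Set D) := ⟨_, mem_centralizer_singleton_iff.2 (mul_inv_eq_iff_eq_mul.1 h2).symm⟩
    have hcS : (c : D) ∈ S := mul_mem hs h1
    have h3 := hk' (c * w * c⁻¹ * w⁻¹)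
      (by rw [map_mul, map_mul, map_mul, hc _ ⟨c, hcS, rfl⟩, map_inv, map_inv, mul_inv_cancel_right, mul_inv_cancel])
      (h.ρN _ (h.SN (mul_mem (mul_mem (mul_mem hcS hw') (inv_mem hcS)) (inv_mem hw'))))
    obtain ⟨j, hj⟩ := h.rad.comm (by norm_num) (h.SN hs) (h.SN hw')
    have h4 : t * s * t⁻¹ * w * (t * s * t⁻¹)⁻¹ = w * x ^ j := by
      calc t * s * t⁻¹ * w * (t * s * t⁻¹)⁻¹ = t * s * t⁻¹ * (w * t) * s⁻¹ * t⁻¹ := by group
        _ = t * (s * w * s⁻¹) * t⁻¹ := by rw [comm_t w]; group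
        _ = _ := by rw [hj, ← mul_assoc, ← comm_t w, mul_assoc (w : D), h.rad.xzc j t]; group
    have h5 : x ^ j * x ^ j = 1 := by
      refine mul_left_cancel (a := (w : D)) ?_
      calc (w : D) * (x ^ j * x ^ j) = s * w * s⁻¹ * x ^ j := by rw [hj, mul_assoc]
        _ = s * (t * s * t⁻¹ * w * (t * s * t⁻¹)⁻¹) * s⁻¹ := by rw [h4, mul_assoc, h.rad.xzc j s⁻¹]; group
        _ = s * (t * s * t⁻¹) * w * (s * (t * s * t⁻¹))⁻¹ * (w : D)⁻¹ * w := by group
        _ = _ := by rw [show s * (t * s * t⁻¹) * w * (s * (t * s * t⁻¹))⁻¹ * (w : D)⁻¹ = 1 from h3, one_mul, mul_one]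
    rw [h.rad.sq_one (by norm_num) h5, mul_one] at hj
    exact mul_inv_eq_iff_eq_mul.1 hj

end rad

open Cfsg.Agent.BpSpor.MBigModel Cfsg.Agent.TAB.M5
open Cfsg.Agent.H136.M23.BWords (xu)
open Cfsg.Agent.LThreeB.Row (TA)

variable {L U : Type} [Group L] [Group U] {τ α β : U →* L} {R R' : Subgroup L}

/-- moving the cover -/
theorem Cov.move {t : MG} {π : centralizer ({t} : Set MG) →* L} (c : Cov t π) (ht : TA t)
    (x : centralizer ({t} : Set MG)) {y : MG} (h : IsConj y (x : MG)) :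
    ∃ (t' : MG) (π' : centralizer ({t'} : Set MG) →* L) (x' : centralizer ({t'} : Set MG)),
      Cov t' π' ∧ TA t' ∧ (x' : MG) = y ∧ π' x' = π x := by
  obtain ⟨g, hg⟩ := isConj_iff.1 h.symm
  obtain ⟨π', c', h'⟩ := c.conj g
  refine ⟨_, π', ⟨y, mem_centralizer_singleton_iff.2 ?_⟩, c', SP.Mon.NL.ta_conj ht g, rfl, h' _ _ hg.symm⟩
  rw [← hg]
  calc g * x * g⁻¹ * (g * t * g⁻¹) = g * (x * t) * g⁻¹ := by group
    _ = _ := by rw [comm_t x]; group

/-- **the elements of order five of `B`** -/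
theorem b_five [Finite L] (h : Spor.IsoB L) {y : L} (hy : orderOf y = 5) (he : 2 ∣ Nat.card (centralizer ({y} : Set L))) :
    (∃ s K, F5A y s K) ∨ ∃ Q0 Q, Rad5 y Q0 Q := by
  have hfin := finite
  obtain ⟨t, ht, h2, ⟨e⟩⟩ := H979.OddB.exists_cover h
  obtain ⟨π, c⟩ := exists_cov (SP.Mon.NL.ta_order ht) h2 e
  obtain ⟨x, hx, rfl⟩ := c.lift Nat.prime_five (by decide) hy
  have h4 : 4 ∣ Nat.card (centralizer ({(x : MG)} : Set MG)) := by
    refine Dvd.dvd.trans ?_ (card_dvd_of_le (inf_le_left (b := centralizer ({t} : Set MG))))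
    rw [c.card_cent (by decide : Odd 5) (by rw [← hx, pow_orderOf_eq_one])]
    exact mul_dvd_mul_left 2 he
  obtain ⟨P, x₀, a, b, c', u, Lf⟩ := H609.T5.Five.exists_lifts inp.h
  rcases five_cases Lf.ox Lf.fx hx ((CpAutBFive.EvenRow.cases hx).resolve_right fun h => h h4) with h1 | h1
  · obtain ⟨t₁, π₁, x₁, c₁, ht₁, hx₁, e₁⟩ := c.move ht x h1
    obtain ⟨g, hg⟩ := ta_emb ht₁ (hx₁ ▸ comm_t x₁)
    obtain ⟨π₂, c₂, e₂⟩ := c₁.conj (emb g)
    have ht₂ := SP.Mon.NL.ta_conj ht₁ (emb g)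
    revert π₂
    rw [hg] at ht₂ ⊢
    intro π₂ c₂ e₂
    rw [← e₁, ← e₂ x₁ xE (by rw [hx₁, ← (comm_emb g).eq, mul_inv_cancel_right]; rfl)]
    exact Or.inl (f5A ht₂ c₂)
  · obtain ⟨t₁, π₁, x₁, c₁, ht₁, hx₁, e₁⟩ := c.move ht x h1
    obtain ⟨-, -, -, ⟨N, ρ, S, hR⟩, -⟩ := H609.T5.Five.exists_local inp Lf.ox Lf.fx
    have hA : Finite (LThreeMB.XX (pi x₀)) := by
      have := BpSpor.MBigCo.finite_co1
      infer_instance
    let t' : centralizer ({(x₀ : MG)} : Set MG) := ⟨t₁, mem_centralizer_singleton_iff.2 (hx₁ ▸ (comm_t x₁).symm)⟩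
    have htt : t' * t' = 1 := Subtype.ext c₁.tt
    let j : centralizer ({t'} : Set (centralizer ({(x₀ : MG)} : Set MG))) →* centralizer ({t₁} : Set MG) :=
      ((Subgroup.subtype _).comp (Subgroup.subtype _)).codRestrict _ fun g =>
        mem_centralizer_singleton_iff.2 (congrArg Subtype.val (comm_t g))
    let x' : centralizer ({t'} : Set (centralizer ({(x₀ : MG)} : Set MG))) :=
      ⟨LThreeMB.self (x₀ : MG), mem_centralizer_singleton_iff.2 (Subtype.ext (comm_t t').symm)⟩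
    have hj : j x' = x₁ := Subtype.ext hx₁.symm
    have F := rad5_of hR (H609.T5.Five.nonab inp Lf hR) htt
      (rs_ne hR htt (fun h => c₁.t_ne (congrArg Subtype.val h))
        fun d h => MThirteen.Row.ta_ne ht₁ d (congrArg Subtype.val h))
      (π₁.comp j) (fun g hg => ((c₁.ker _).1 hg).imp Subtype.ext Subtype.ext) (x' := x') rfl fun g hg => by
        obtain ⟨g, rfl⟩ := c₁.surj g
        rw [MonoidHom.comp_apply, hj] at hg
        have h3 := c₁.comm (by decide : Odd 5) (a := x₁)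
          (by rw [hx₁, ← Lf.ox, ← Subgroup.coe_pow, pow_orderOf_eq_one, Subgroup.coe_one]) hg
        exact ⟨⟨⟨g, mem_centralizer_singleton_iff.2 (hx₁ ▸ h3)⟩,
          mem_centralizer_singleton_iff.2 (Subtype.ext (comm_t g))⟩, rfl⟩
    rw [MonoidHom.comp_apply, hj, e₁] at F
    exact Or.inr ⟨_, _, F⟩

theorem noCore_b {L : Type} [Group L] [Finite L] (big : Big) (h : Spor.IsoB L) : NoCore L := by
  intro U _ _ τ α β R R' c
  have key : ∀ u : U, orderOf u = 5 → 2 ∣ Nat.card U → (∃ s K, F5A (τ u) s K) ∨ ∃ Q0 Q, Rad5 (τ u) Q0 Q :=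
    fun u hu h2 => b_five h ((c.pair.orderOf_eq u).trans hu)
      ((h2.mul_left _).trans (c.pair.order_mul_dvd' c.simple c.noncomm u))
  have five : Nat.card U = 60 ∨ Nat.card U = 360 → False := fun hU => by
    obtain ⟨u, v, a, b, r, d⟩ := exists_a5Dat c.simple hU
    rcases key u d.hu (by rcases hU with h1 | h1 <;> rw [h1] <;> norm_num) with ⟨s, K, F⟩ | ⟨Q0, Q, F⟩
    · exact c.false_5A big d.hu F (hU.imp_right fun h1 => Or.inr ⟨h1, v, d.hv, d.hvu⟩)
    · exact c.false_5B big (by rw [NotCT.Orders.b h]; norm_num) d F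
  rcases cand_b big h c with h1 | h1 | h1 | h1
  · exact c.false_b7 big h h1
  · exact five (Or.inl h1)
  · exact five (Or.inr h1)
  · obtain ⟨u, hu, -⟩ := Core.exists_orderOf (U := U) (r := 5) (by norm_num) (by rw [h1]; norm_num)
    rcases key u hu (by rw [h1]; norm_num) with ⟨s, K, F⟩ | ⟨Q0, Q, F⟩
    · exact c.false_5A big hu F (Or.inr (Or.inl h1))
    · have h2 := c.dvd_of_rad5 F
      rw [h1] at h2
      norm_num at h2

end Cfsg.Agent.Cam.Spor
end
end
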